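import Cfsg.Agent.Lib.Perm.ZassCore

/-!
# Zassenhaus groups with an involution in the two-point stabiliser

The map `u ↦ μ(u)` from `F∖1` to the coset of `H` of elements interchanging `a, b` has fibres of
size at most two, hence `|F| - 1 ≤ 2 |H|`.
-/

set_option autoImplicit false
set_option linter.style.haveILetI false

namespace Cfsg.Agent.Lib.Perm.ZassEven

open MulAction Cfsg Cfsg.Agent.Lib.Perm.ZassCore

variable {G Ω : Type*} [Group G] [MulAction G Ω]

/-- The elements interchanging `a` and `b` form a coset of the two-point stabiliser. -/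
theorem card_swap [Finite G] {a b : Ω} {s : G} (hsa : s • a = b) (hsb : s • b = a) :
    Nat.card {w : G // w • a = b ∧ w • b = a} =
      Nat.card ↥(stabilizer G a ⊓ stabilizer G b) := by
  classical
  let φ : ↥(stabilizer G a ⊓ stabilizer G b) → {w : G // w • a = b ∧ w • b = a} := fun h =>
    ⟨s * h, by
      have h1 : (h : G) • a = a := (Subgroup.mem_inf.mp h.2).1
      have h2 : (h : G) • b = b := (Subgroup.mem_inf.mp h.2).2
      constructor
      · rw [mul_smul, h1, hsa]
      · rw [mul_smul, h2, hsb]⟩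
  have hφ : Function.Bijective φ := by
    constructor
    · intro h₁ h₂ h
      have : s * (h₁ : G) = s * h₂ := congrArg Subtype.val h
      exact Subtype.ext (mul_left_cancel this)
    · rintro ⟨w, hwa, hwb⟩
      refine ⟨⟨s⁻¹ * w, Subgroup.mem_inf.mpr ⟨?_, ?_⟩⟩, Subtype.ext (by simp [φ])⟩
      · rw [mem_stabilizer_iff, mul_smul, hwa]
        exact inv_smul_eq_iff.mpr hsa.symm
      · rw [mem_stabilizer_iff, mul_smul, hwb]
        exact inv_smul_eq_iff.mpr hsb.symm
  exact (Nat.card_congr (Equiv.ofBijective φ hφ)).symm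

/-- The bound `|F| - 1 ≤ 2 |H|`. -/
theorem card_sub_two_le [Finite G] [Fintype Ω] (hZ : IsZassenhausGroup G Ω) {a b : Ω} (hab : a ≠ b)
    {F : Subgroup G} (hF : IsRoot F a) {z : G} (hza : z • a = a) (hzb : z • b = b) (hz1 : z ≠ 1)
    (hz2 : z * z = 1) :
    Fintype.card Ω - 2 ≤ 2 * Nat.card ↥(stabilizer G a ⊓ stabilizer G b) := by
  classical
  haveI := Fintype.ofFinite G
  obtain ⟨s, hsa, hsb⟩ := two_trans hZ hab hab.symm
  have hFb : IsRoot (F.map (MulAut.conj s).toMonoidHom) b := by
    have := hF.conj s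
    rwa [hsa] at this
  set Fb := F.map (MulAut.conj s).toMonoidHom with hFbdef
  have hzF : ∀ u ∈ F, z * u * z⁻¹ = u⁻¹ := fun u hu => inverts_root hZ hF hab.symm hza hzb hz1 hz2 hu
  have hzFb : ∀ u ∈ Fb, z * u * z⁻¹ = u⁻¹ := fun u hu => inverts_root hZ hFb hab hzb hza hz1 hz2 hu
  have hex : ∀ u : G, ∃ w : G, (u ∈ F ∧ u ≠ 1) → (w • a = b ∧ w • b = a ∧
      ∃ β₁ ∈ Fb, ∃ β₂ ∈ Fb, w = β₁ * u * β₂) := by
    intro u
    by_cases hu : u ∈ F ∧ u ≠ 1
    · obtain ⟨w, hw⟩ := mu_exists hF hFb hab hu.1 hu.2
      exact ⟨w, fun _ => hw⟩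
    · exact ⟨1, fun h => absurd h hu⟩
  choose f hf using hex
  let A : Finset G := Finset.univ.filter (fun u => u ∈ F ∧ u ≠ 1)
  let S : Finset G := Finset.univ.filter (fun w => w • a = b ∧ w • b = a)
  have hcardS : S.card = Nat.card ↥(stabilizer G a ⊓ stabilizer G b) := by
    rw [← card_swap hsa hsb, Nat.card_eq_fintype_card, Fintype.card_subtype]
  have hcardA : A.card + 2 = Fintype.card Ω := by
    have h1 : Nat.card F + 1 = Nat.card Ω := hF.card_add_one hab.symm
    rw [Nat.card_eq_fintype_card (α := Ω)] at h1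
    have h2 : Nat.card F = A.card + 1 := by
      rw [Nat.card_eq_fintype_card, Fintype.card_subtype]
      have : Finset.univ.filter (fun u => u ∈ F) = insert 1 A := by
        ext u
        simp only [Finset.mem_filter, Finset.mem_univ, true_and, Finset.mem_insert, A]
        constructor
        · intro hu
          by_cases h : u = 1
          · exact Or.inl h
          · exact Or.inr ⟨hu, h⟩
        · rintro (rfl | h)
          · exact F.one_mem
          · exact h.1
      rw [this, Finset.card_insert_of_notMem]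
      simp [A]
    omega
  have hle : A.card ≤ 2 * (A.image f).card := by
    apply Finset.card_le_mul_card_image
    intro w hw
    have hsub : (A.filter (fun u => f u = w)).card ≤ 2 := by
      by_cases hne : (A.filter (fun u => f u = w)).Nonempty
      · obtain ⟨u, hu⟩ := hne
        rw [Finset.mem_filter] at hu
        have hsub : A.filter (fun u => f u = w) ⊆ {u, u⁻¹} := by
          intro v hv
          rw [Finset.mem_filter] at hv
          have huA : u ∈ F ∧ u ≠ 1 := by simpa [A] using hu.1
          have hvA : v ∈ F ∧ v ≠ 1 := by simpa [A] using hv.1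
          obtain ⟨-, -, β₁, hβ₁, β₂, hβ₂, e1⟩ := hf u huA
          obtain ⟨-, -, β₁', hβ₁', β₂', hβ₂', e2⟩ := hf v hvA
          have e3 : β₁ * u * β₂ = β₁' * v * β₂' := by
            rw [← e1, ← e2, hu.2, hv.2]
          have := mu_fiber hF hFb hab hzF hzFb huA.1 hvA.1 hβ₁ hβ₂ hβ₁' hβ₂' e3
          simpa using this
        exact (Finset.card_le_card hsub).trans Finset.card_le_two
      · rw [Finset.not_nonempty_iff_eq_empty] at hne
        rw [hne]
        simp
    exact hsub
  have himg : (A.image f).card ≤ S.card := by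
    apply Finset.card_le_card
    intro w hw
    obtain ⟨u, hu, rfl⟩ := Finset.mem_image.mp hw
    have huA : u ∈ F ∧ u ≠ 1 := by simpa [A] using hu
    obtain ⟨h1, h2, -⟩ := hf u huA
    simp only [S, Finset.mem_filter, Finset.mem_univ, true_and]
    exact ⟨h1, h2⟩
  rw [← hcardS]
  omega

/-- An element of order two in a two-point stabiliser of even order. -/
theorem exists_involution [Finite G] {a b : Ω}
    (heven : Even (Nat.card ↥(stabilizer G a ⊓ stabilizer G b))) :
    ∃ z : G, z • a = a ∧ z • b = b ∧ z ≠ 1 ∧ z * z = 1 := by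
  haveI : Fact (Nat.Prime 2) := ⟨Nat.prime_two⟩
  obtain ⟨x, hx⟩ := exists_prime_orderOf_dvd_card' (G := ↥(stabilizer G a ⊓ stabilizer G b)) 2
    (even_iff_two_dvd.mp heven)
  refine ⟨x, (Subgroup.mem_inf.mp x.2).1, (Subgroup.mem_inf.mp x.2).2, ?_, ?_⟩
  · intro h
    have : x = 1 := Subtype.ext h
    rw [this, orderOf_one] at hx
    omega
  · have h1 : x ^ 2 = 1 := by rw [← hx]; exact pow_orderOf_eq_one x
    have h2 : x * x = 1 := by rw [← pow_two]; exact h1
    exact congrArg Subtype.val h2

end Cfsg.Agent.Lib.Perm.ZassEven
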