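import Cfsg.Agent.Lib.Perm.ZassSharp
import Cfsg.Agent.Lib.Frobenius.Basic
import Cfsg.Agent.S0741

/-!
# The two-point stabiliser when its order is even and the root group has order `2 d + 1`
-/

set_option autoImplicit false
set_option linter.style.haveILetI false
set_option linter.deprecated false

namespace Cfsg.Agent.Lib.Perm.ZassCyc

open MulAction Cfsg Cfsg.Agent.Lib.Perm.ZassCore Cfsg.Agent.Lib.Perm.ZassEven
  Cfsg.Agent.Lib.Perm.ZassTwo

variable {G Ω : Type*} [Group G] [MulAction G Ω]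

/-- `d` divides `|Ω| - 2`, and the degree is at least `3`. -/
theorem card_eq_mul [Finite G] [Fintype Ω] (hZ : IsZassenhausGroup G Ω) {a b : Ω} (hab : a ≠ b) :
    ∃ e : ℕ, 1 ≤ e ∧ Fintype.card Ω = Nat.card ↥(stabilizer G a ⊓ stabilizer G b) * e + 2 := by
  classical
  set d := Nat.card ↥(stabilizer G a ⊓ stabilizer G b) with hd
  have hdpos : 0 < d := Nat.card_pos
  haveI hfaith : FaithfulSMul G Ω := hZ.1
  obtain ⟨z, hza, hzb, hz1⟩ : ∃ z : G, z • a = a ∧ z • b = b ∧ z ≠ 1 := by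
    obtain ⟨g₀, hg₀, c, e, hce, hg₀c, hg₀e⟩ := hZ.2.2.2.1
    obtain ⟨w, hwc, hwe⟩ := two_trans hZ hce hab
    refine ⟨w * g₀ * w⁻¹, ?_, ?_, ?_⟩
    · rw [mul_smul, mul_smul, inv_smul_eq_iff.mpr hwc.symm, hg₀c, hwc]
    · rw [mul_smul, mul_smul, inv_smul_eq_iff.mpr hwe.symm, hg₀e, hwe]
    · intro h
      apply hg₀
      have : g₀ = w⁻¹ * (w * g₀ * w⁻¹) * w := by group
      rw [this, h]
      simp
  obtain ⟨x, hx⟩ : ∃ x : Ω, z • x ≠ x := by
    by_contra hno
    push Not at hno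
    exact hz1 (FaithfulSMul.eq_of_smul_eq_smul (fun y : Ω => by rw [hno y, one_smul]))
  have hxa : x ≠ a := fun h => hx (by rw [h, hza])
  have hxb : x ≠ b := fun h => hx (by rw [h, hzb])
  let S : SubMulAction ↥(stabilizer G a ⊓ stabilizer G b) Ω :=
    { carrier := {y | y ≠ a ∧ y ≠ b}
      smul_mem' := by
        intro h y hy
        have hha : (h : G) • a = a := (Subgroup.mem_inf.mp h.2).1
        have hhb : (h : G) • b = b := (Subgroup.mem_inf.mp h.2).2
        refine ⟨fun hc => hy.1 ?_, fun hc => hy.2 ?_⟩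
        · have : (h : G) • y = (h : G) • a := by rw [hha]; exact hc
          exact MulAction.injective (h : G) this
        · have : (h : G) • y = (h : G) • b := by rw [hhb]; exact hc
          exact MulAction.injective (h : G) this }
  have hSfree : ∀ (h : ↥(stabilizer G a ⊓ stabilizer G b)) (y : S), h • y = y → h = 1 := by
    intro h y he
    have he' : (h : G) • (y : Ω) = y := congrArg Subtype.val he
    have hha : (h : G) • a = a := (Subgroup.mem_inf.mp h.2).1
    have hhb : (h : G) • b = b := (Subgroup.mem_inf.mp h.2).2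
    apply Subtype.ext
    exact eq_one_of_fix3 hZ hab (Ne.symm y.2.2) (Ne.symm y.2.1) hha hhb he'
  have hdvd : d ∣ Nat.card S := Cfsg.Agent.Lib.Frobenius.Basic.card_dvd_of_free hSfree
  have hScard : Nat.card S = Fintype.card Ω - 2 := by
    have h2 : Nat.card S = Nat.card {y : Ω // y ≠ a ∧ y ≠ b} := rfl
    rw [h2, Nat.card_eq_fintype_card, Fintype.card_subtype]
    have h3 : Finset.univ.filter (fun y : Ω => y ≠ a ∧ y ≠ b) = (Finset.univ.erase a).erase b := by
      ext y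
      simp [and_comm]
    rw [h3, Finset.card_erase_of_mem (by simp [hab.symm]), Finset.card_erase_of_mem (Finset.mem_univ _),
      Finset.card_univ]
    omega
  rw [hScard] at hdvd
  have hgt : 3 ≤ Fintype.card Ω := by
    have h3 : ({a, b, x} : Finset Ω).card = 3 := by
      rw [Finset.card_eq_three]
      exact ⟨a, b, x, hab, hxa.symm, hxb.symm, rfl⟩
    rw [← h3]
    exact Finset.card_le_univ _
  obtain ⟨e, he⟩ := hdvd
  refine ⟨e, ?_, by omega⟩
  rcases Nat.eq_zero_or_pos e with h0 | h0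
  · rw [h0] at he
    omega
  · exact h0

/-- `|D|` even: either `|Ω| = d + 2` or `|Ω| = 2 d + 2`. -/
theorem card_even [Finite G] [Fintype Ω] (hZ : IsZassenhausGroup G Ω) {a b : Ω} (hab : a ≠ b)
    (heven : Even (Nat.card ↥(stabilizer G a ⊓ stabilizer G b))) :
    Fintype.card Ω = Nat.card ↥(stabilizer G a ⊓ stabilizer G b) + 2 ∨
      Fintype.card Ω = 2 * Nat.card ↥(stabilizer G a ⊓ stabilizer G b) + 2 := by
  have h1 := Cfsg.Agent.S0741.result hZ hab heven
  obtain ⟨e, he1, he⟩ := card_eq_mul hZ hab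
  set d := Nat.card ↥(stabilizer G a ⊓ stabilizer G b) with hd
  have hdpos : 0 < d := Nat.card_pos
  have he2 : e ≤ 2 := by
    by_contra hc
    have : d * 3 ≤ d * e := Nat.mul_le_mul_left d (by omega)
    omega
  interval_cases e
  · left
    omega
  · right
    omega

/-- The structure of `D` when `|Ω| = 2 d + 2`, `d` even. -/
theorem even_structure [Finite G] [Fintype Ω] (hZ : IsZassenhausGroup G Ω) {a b : Ω} (hab : a ≠ b)
    (heven : Even (Nat.card ↥(stabilizer G a ⊓ stabilizer G b)))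
    (hd : Fintype.card Ω = 2 * Nat.card ↥(stabilizer G a ⊓ stabilizer G b) + 2) :
    IsCyclic ↥(stabilizer G a ⊓ stabilizer G b) ∧ ∃ s : G, s * s = 1 ∧ s • a = b ∧ s • b = a ∧
      ∀ h ∈ stabilizer G a ⊓ stabilizer G b, s * h * s⁻¹ = h⁻¹ := by
  classical
  obtain ⟨z, hza, hzb, hz1, hz2⟩ := exists_involution heven
  obtain ⟨F, hF⟩ := exists_isRoot hZ a
  have hFcard : Nat.card F = 2 * Nat.card ↥(stabilizer G a ⊓ stabilizer G b) + 1 := by
    have := hF.card_add_one hab.symm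
    rw [Nat.card_eq_fintype_card (α := Ω), hd] at this
    omega
  have hzF : ∀ v ∈ F, z * v * z⁻¹ = v⁻¹ := fun v hv => inverts_root hZ hF hab.symm hza hzb hz1 hz2 hv
  have hFcomm : ∀ x ∈ F, ∀ y ∈ F, x * y = y * x := fun x hx y hy =>
    Cfsg.Agent.Lib.Frobenius.Even.comm_of_inverted hzF hx hy
  obtain ⟨s₀, hs₀a, hs₀b⟩ := two_trans hZ hab hab.symm
  have hFb : IsRoot (F.map (MulAut.conj s₀).toMonoidHom) b := by
    have := hF.conj s₀
    rwa [hs₀a] at this
  have hinvol : ∀ w : G, w • a = b → w • b = a → w * w = 1 := by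
    intro w hwa hwb
    obtain ⟨v, hv, hv1, γ₁, hγ₁, γ₂, hγ₂, hwe⟩ := exists_mu hZ hab hF hFb hza hzb hz1 hz2 hFcard hwa hwb
    exact (mu_involution hZ hab hF hFb hza hzb hz1 hz2 hv hv1 hγ₁ hγ₂ hwe hwa hwb).1
  have hs₀2 := hinvol s₀ hs₀a hs₀b
  have hs₀inv : s₀⁻¹ = s₀ := inv_eq_of_mul_eq_one_left hs₀2
  have hinvH : ∀ h ∈ stabilizer G a ⊓ stabilizer G b, s₀ * h * s₀⁻¹ = h⁻¹ := by
    intro h hh
    have ha : h • a = a := (Subgroup.mem_inf.mp hh).1
    have hb : h • b = b := (Subgroup.mem_inf.mp hh).2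
    have h1 := hinvol (s₀ * h) (by rw [mul_smul, ha, hs₀a]) (by rw [mul_smul, hb, hs₀b])
    rw [hs₀inv]
    apply eq_inv_of_mul_eq_one_left
    calc s₀ * h * s₀ * h = s₀ * h * (s₀ * h) := by group
      _ = 1 := h1
  have hHcomm : ∀ x ∈ stabilizer G a ⊓ stabilizer G b, ∀ y ∈ stabilizer G a ⊓ stabilizer G b,
      x * y = y * x := fun x hx y hy =>
    Cfsg.Agent.Lib.Frobenius.Even.comm_of_inverted hinvH hx hy
  refine ⟨?_, s₀, hs₀2, hs₀a, hs₀b, hinvH⟩
  obtain ⟨p, f, K, iF, iK, u, hp, hKp, hKF, hmem, hadd, hinj, hsurj, hlam⟩ :=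
    exists_coords hZ hab hF hFcomm hHcomm hFcard
  -- the character of `D`
  have hu0 : u 0 = 1 := by
    have h1 := hadd 0 0
    rw [add_zero] at h1
    exact (mul_eq_left.mp h1.symm)
  have hu1ne : u 1 ≠ 1 := by
    intro h
    rw [← hu0] at h
    exact one_ne_zero (hinj h)
  choose y hy using fun h : ↥(stabilizer G a ⊓ stabilizer G b) =>
    hlam h (Subgroup.mem_inf.mp h.2).1 (Subgroup.mem_inf.mp h.2).2
  have hymul : ∀ h h', y (h * h') = y h * y h' := by
    intro h h'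
    have h1 := hy (h * h') 1
    have h2 := hy h' 1
    have h3 := hy h (y h' * 1)
    rw [mul_one] at h1 h2
    rw [mul_one] at h3
    apply hinj
    rw [← h1, ← h3, ← h2]
    simp only [Subgroup.coe_mul, mul_inv_rev]
    group
  have hy0 : ∀ h, y h ≠ 0 := by
    intro h h0
    have h1 := hy h 1
    rw [h0, zero_mul, hu0] at h1
    apply hu1ne
    have h2 : u 1 = (h : G)⁻¹ * ((h : G) * u 1 * (h : G)⁻¹) * h := by group
    rw [h2, h1]
    simp
  have hy1 : y 1 = 1 := by
    have h1 := hymul 1 1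
    rw [mul_one] at h1
    exact (mul_eq_left₀ (hy0 1)).mp h1.symm
  let φ : ↥(stabilizer G a ⊓ stabilizer G b) →* K :=
    { toFun := y, map_one' := hy1, map_mul' := hymul }
  have hφ : Function.Injective φ := by
    intro h h' he
    have he' : y h = y h' := he
    have h1 := hy h 1
    have h2 := hy h' 1
    rw [mul_one] at h1 h2
    have h3 : (h : G) * u 1 * (h : G)⁻¹ = (h' : G) * u 1 * (h' : G)⁻¹ := by rw [h1, h2, he']
    have h4 : ((h' : G)⁻¹ * h) * u 1 = u 1 * ((h' : G)⁻¹ * h) := by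
      have : (h' : G)⁻¹ * h * u 1 * (h : G)⁻¹ * h' = u 1 := by
        calc (h' : G)⁻¹ * h * u 1 * (h : G)⁻¹ * h'
            = (h' : G)⁻¹ * ((h : G) * u 1 * (h : G)⁻¹) * h' := by group
          _ = u 1 := by rw [h3]; group
      calc ((h' : G)⁻¹ * h) * u 1
          = ((h' : G)⁻¹ * h * u 1 * (h : G)⁻¹ * h') * ((h' : G)⁻¹ * h) := by group
        _ = _ := by rw [this]
    have ha : ((h' : G)⁻¹ * h) • a = a := by
      rw [mul_smul, (Subgroup.mem_inf.mp h.2).1]
      exact inv_smul_eq_iff.mpr (Subgroup.mem_inf.mp h'.2).1.symm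
    have hb : ((h' : G)⁻¹ * h) • b = b := by
      rw [mul_smul, (Subgroup.mem_inf.mp h.2).2]
      exact inv_smul_eq_iff.mpr (Subgroup.mem_inf.mp h'.2).2.symm
    have hc : ((h' : G)⁻¹ * h) • (u 1 • b) = u 1 • b := by
      rw [← mul_smul, h4, mul_smul, hb]
    have h5 := eq_one_of_fix3 hZ (g := (h' : G)⁻¹ * h) (a := a) (b := b) (c := u 1 • b) hab
      (hF.smul_ne_self (hmem 1) hu1ne hab.symm).symm (hF.smul_ne (hmem 1) hab.symm).symm ha hb hc
    rw [inv_mul_eq_one] at h5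
    exact (Subtype.ext h5).symm
  exact isCyclic_of_subgroup_isDomain φ hφ

end Cfsg.Agent.Lib.Perm.ZassCyc
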