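import Cfsg.Agent.Lib.Perm.ZassOdd
import Cfsg.Agent.Lib.Perm.ZassCyc
import Cfsg.Agent.S0739
import Cfsg.Agent.S0339

/-!
# Zassenhaus groups with abelian root group, from Feit's inequality
-/

set_option autoImplicit false
set_option linter.style.haveILetI false
set_option linter.deprecated false

namespace Cfsg.Agent.Lib.Perm.ZassAb

open MulAction Cfsg Cfsg.Agent.Lib.Perm.ZassCore Cfsg.Agent.Lib.Perm.ZassEven
  Cfsg.Agent.Lib.Perm.ZassTwo Cfsg.Agent.Lib.Perm.ZassCyc

variable {G Ω : Type*} [Group G] [MulAction G Ω]

/-- The core: `F` abelian root group; Feit's inequality for `G` and its normal subgroups. -/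
theorem abelian_core [Finite G] [Fintype Ω] (hZ : IsZassenhausGroup G Ω) {x b : Ω} (hxb : x ≠ b)
    {F : Subgroup G} (hF : IsRoot F x) (hFcomm : ∀ u ∈ F, ∀ v ∈ F, u * v = v * u)
    (hfeitG : Odd (Nat.card ↥(stabilizer G x ⊓ stabilizer G b)) →
      Fintype.card Ω - 2 ≤ 2 * Nat.card ↥(stabilizer G x ⊓ stabilizer G b))
    (hfeitN : ∀ N : Subgroup G, N.Normal → N ≠ ⊥ →
      Odd (Nat.card ↥(stabilizer N x ⊓ stabilizer N b)) →
      Fintype.card Ω - 2 ≤ 2 * Nat.card ↥(stabilizer N x ⊓ stabilizer N b)) :
    (MulAction.IsMultiplyPretransitive G Ω 3 ∧ ∀ t : Fin 3 ↪ Ω, MulAction.stabilizer G t = ⊥) ∨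
      ∃ (K : Type) (_ : Field K) (_ : Fintype K), ringChar K ≠ 2 ∧
        Nonempty (G ≃* Matrix.ProjectiveSpecialLinearGroup (Fin 2) K) := by
  classical
  by_cases heven : Even (Nat.card ↥(stabilizer G x ⊓ stabilizer G b))
  · rcases card_even hZ hxb heven with h1 | h2
    · exact Or.inl (sharp_of_card hZ hxb h1)
    · right
      obtain ⟨p, f, K, iF, iK, hp, hp2, hKp, hΩ, hiso⟩ := even_main hZ hxb heven h2
      refine ⟨K, iF, iK, ?_, hiso⟩
      intro hc
      have h3 : Even (Fintype.card K) := Nat.even_iff.mpr (FiniteField.even_card_iff_char_two.mp hc)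
      rw [hKp] at h3
      have h4 : Fintype.card Ω = 2 * Nat.card ↥(stabilizer G x ⊓ stabilizer G b) + 2 := h2
      rw [hΩ] at h4
      have h5 : p ^ f = 2 * Nat.card ↥(stabilizer G x ⊓ stabilizer G b) + 1 := by omega
      rw [h5] at h3
      exact (Nat.not_even_iff_odd.mpr ⟨_, rfl⟩) h3
  · have hodd := Nat.not_even_iff_odd.mp heven
    have h1 := hfeitG hodd
    obtain ⟨e, he1, he⟩ := card_eq_mul hZ hxb
    set d := Nat.card ↥(stabilizer G x ⊓ stabilizer G b) with hd
    have hdpos : 0 < d := Nat.card_pos
    have he2 : e ≤ 2 := by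
      by_contra hc
      have : d * 3 ≤ d * e := Nat.mul_le_mul_left d (by omega)
      omega
    interval_cases e
    · left
      exact sharp_of_card hZ hxb (by omega)
    · right
      have hn : Fintype.card Ω = 2 * d + 2 := by omega
      have hnil : ∀ q : ℕ, q.Prime → q ∣ d →
          ¬ ∃ N : Subgroup G, N.Normal ∧ N.index = q ^ (Nat.card G).factorization q := by
        rintro q hq hqd ⟨N, hN, hidx⟩
        have hcard := card_eq_of_two_trans hZ hxb
        have hGpos : Nat.card G ≠ 0 := Nat.card_pos.ne'
        have hqG : q ∣ Nat.card G := by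
          rw [hcard]
          exact Dvd.dvd.mul_left hqd _
        have hv : 1 ≤ (Nat.card G).factorization q :=
          (hq.dvd_iff_one_le_factorization hGpos).mp hqG
        have hne : N ≠ ⊤ := by
          rintro rfl
          rw [Subgroup.index_top] at hidx
          have h3 : 1 < q ^ (Nat.card G).factorization q := Nat.one_lt_pow (by omega) hq.one_lt
          omega
        have hnebot : N ≠ ⊥ := by
          rintro rfl
          rw [Subgroup.index_bot] at hidx
          have hn3 : 3 ≤ Fintype.card Ω := by nlinarith
          rw [← Nat.card_eq_fintype_card] at hn3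
          set n := Nat.card Ω with hn'
          have h1 : n ∣ Nat.card G := by
            rw [hcard, mul_assoc]
            exact Dvd.intro _ rfl
          have h2 : n - 1 ∣ Nat.card G := by
            rw [hcard]
            exact Dvd.dvd.mul_right (Dvd.intro_left _ rfl) _
          rw [hidx] at h1 h2
          obtain ⟨i, -, hi⟩ := (Nat.dvd_prime_pow hq).mp h1
          obtain ⟨j, -, hj⟩ := (Nat.dvd_prime_pow hq).mp h2
          have hi0 : i ≠ 0 := by
            rintro rfl
            rw [pow_zero] at hi
            omega
          have hj0 : j ≠ 0 := by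
            rintro rfl
            rw [pow_zero] at hj
            omega
          have h3 : q ∣ n := by
            rw [hi]
            exact dvd_pow_self q hi0
          have h4 : q ∣ n - 1 := by
            rw [hj]
            exact dvd_pow_self q hj0
          have h5 : q ∣ 1 := by
            have h6 : n = (n - 1) + 1 := by omega
            rw [h6] at h3
            exact (Nat.dvd_add_right h4).mp h3
          exact hq.one_lt.ne' (Nat.dvd_one.mp h5)
        -- `q` does not divide `|N|`
        have hqN : ¬ q ∣ Nat.card N := by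
          intro hdvd
          have h2 := Subgroup.card_mul_index N
          rw [hidx] at h2
          have h3 : q ^ ((Nat.card G).factorization q + 1) ∣ Nat.card N * q ^ (Nat.card G).factorization q := by
            rw [pow_succ, mul_comm]
            exact Nat.mul_dvd_mul_right hdvd _
          rw [h2] at h3
          have h4 := (hq.pow_dvd_iff_le_factorization hGpos).mp h3
          omega
        -- the two-point stabiliser in `N`
        let f : ↥(stabilizer N x ⊓ stabilizer N b) → ↥(stabilizer G x ⊓ stabilizer G b) := fun h =>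
          ⟨((h : N) : G), Subgroup.mem_inf.mpr
            ⟨(Subgroup.mem_inf.mp h.2).1, (Subgroup.mem_inf.mp h.2).2⟩⟩
        have hfinj : Function.Injective f := by
          intro h h' he
          apply Subtype.ext
          apply Subtype.ext
          exact congrArg (fun y : ↥(stabilizer G x ⊓ stabilizer G b) => (y : G)) he
        have hle : Nat.card ↥(stabilizer N x ⊓ stabilizer N b) ≤ d :=
          Nat.card_le_card_of_injective f hfinj
        let φ : ↥(stabilizer N x ⊓ stabilizer N b) →* ↥(stabilizer G x ⊓ stabilizer G b) :=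
          MonoidHom.mk' f (fun _ _ => rfl)
        have hdvd' : Nat.card ↥(stabilizer N x ⊓ stabilizer N b) ∣ d :=
          Subgroup.card_dvd_of_injective φ hfinj
        have hoddN : Odd (Nat.card ↥(stabilizer N x ⊓ stabilizer N b)) := Odd.of_dvd_nat hodd hdvd'
        have h3 := hfeitN N hN hnebot hoddN
        have h4 : Nat.card ↥(stabilizer N x ⊓ stabilizer N b) = d := by omega
        apply hqN
        have h5 : Nat.card ↥(stabilizer N x ⊓ stabilizer N b) ∣ Nat.card N :=
          Subgroup.card_subgroup_dvd_card _
        rw [h4] at h5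
        exact hqd.trans h5
      obtain ⟨-, -, hinv⟩ := Cfsg.Agent.S0739.result hZ hxb hodd hnil
      obtain ⟨K, iF, iK, hch, -, hiso⟩ := odd_main hZ hxb hF hFcomm hodd hinv hn
      exact ⟨K, iF, iK, hch, hiso⟩

end Cfsg.Agent.Lib.Perm.ZassAb
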