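import Cfsg.Agent.Lib.Perm.ZassTwoB

/-!
# Zassenhaus groups with `|F| = 2 |H| + 1`, `|H|` even: the field and the isomorphism with `PSL(2, q)`
-/

set_option autoImplicit false
set_option linter.style.haveILetI false
set_option linter.deprecated false

namespace Cfsg.Agent.Lib.Perm.ZassTwo

open MulAction Cfsg Cfsg.Agent.Lib.Perm.ZassCore Cfsg.Agent.Lib.Perm.ZassEven
  Cfsg.Agent.Lib.Perm.ZassPSL Cfsg.Agent.Lib.PSL2.Basic Matrix Matrix.SpecialLinearGroup OnePoint
open scoped MatrixGroups

variable {G Ω : Type*} [Group G] [MulAction G Ω]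

/-- Additive coordinates for a root group with a commuting irreducible action of the two-point
stabiliser, over a field in `Type`. -/
theorem exists_coords [Finite G] [Finite Ω] (hZ : IsZassenhausGroup G Ω) {a b : Ω} (hab : a ≠ b)
    {F : Subgroup G} (hF : IsRoot F a) (hFcomm : ∀ x ∈ F, ∀ y ∈ F, x * y = y * x)
    (hHcomm : ∀ x ∈ stabilizer G a ⊓ stabilizer G b, ∀ y ∈ stabilizer G a ⊓ stabilizer G b,
      x * y = y * x)
    (hFcard : Nat.card F = 2 * Nat.card ↥(stabilizer G a ⊓ stabilizer G b) + 1) :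
    ∃ (p f : ℕ) (K : Type) (_ : Field K) (_ : Fintype K) (u : K → G),
      p.Prime ∧ Fintype.card K = p ^ f ∧ Fintype.card K = Nat.card F ∧
      (∀ r, u r ∈ F) ∧ (∀ r r', u (r + r') = u r * u r') ∧ Function.Injective u ∧
      (∀ v ∈ F, ∃ r, u r = v) ∧
      (∀ h : G, h • a = a → h • b = b → ∃ y : K, ∀ r, h * u r * h⁻¹ = u (y * r)) := by
  classical
  set d := Nat.card ↥(stabilizer G a ⊓ stabilizer G b) with hd
  have hdpos : 0 < d := Nat.card_pos
  letI iC : CommGroup F := { (inferInstance : Group F) with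
    mul_comm := fun x y => Subtype.ext (hFcomm x x.2 y y.2) }
  -- the endomorphisms
  let HH := ↥(stabilizer G a ⊓ stabilizer G b)
  have hHa : ∀ h : HH, (h : G) • a = a := fun h => (Subgroup.mem_inf.mp h.2).1
  have hHb : ∀ h : HH, (h : G) • b = b := fun h => (Subgroup.mem_inf.mp h.2).2
  let c : HH → AddMonoid.End (Additive F) := fun h =>
    { toFun := fun x => Additive.ofMul
        ⟨(h : G) * ((Additive.toMul x : F) : G) * (h : G)⁻¹,
          hF.conj_mem _ (hHa h) _ (Additive.toMul x : F).2⟩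
      map_zero' := by
        apply Additive.toMul.injective
        apply Subtype.ext
        simp
      map_add' := fun x y => by
        apply Additive.toMul.injective
        apply Subtype.ext
        simp only [toMul_add, toMul_ofMul, Subgroup.coe_mul]
        group }
  have hcval : ∀ (h : HH) (x : Additive F),
      ((Additive.toMul (c h x) : F) : G) = (h : G) * ((Additive.toMul x : F) : G) * (h : G)⁻¹ :=
    fun _ _ => rfl
  let T : Set (AddMonoid.End (Additive F)) := Set.range c
  have hTcomm : ∀ s ∈ T, ∀ t ∈ T, s * t = t * s := by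
    rintro _ ⟨h, rfl⟩ _ ⟨h', rfl⟩
    apply AddMonoidHom.ext
    intro x
    apply Additive.toMul.injective
    apply Subtype.ext
    change ((Additive.toMul (c h (c h' x)) : F) : G) = ((Additive.toMul (c h' (c h x)) : F) : G)
    rw [hcval, hcval, hcval, hcval]
    have e := hHcomm h h.2 h' h'.2
    calc (h : G) * ((h' : G) * ((Additive.toMul x : F) : G) * (h' : G)⁻¹) * (h : G)⁻¹
        = ((h : G) * h') * ((Additive.toMul x : F) : G) * ((h : G) * h')⁻¹ := by group
      _ = ((h' : G) * h) * ((Additive.toMul x : F) : G) * ((h' : G) * h)⁻¹ := by rw [e]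
      _ = _ := by group
  have hAcard : Nat.card (Additive F) = 2 * d + 1 := by
    rw [← hFcard]
    rfl
  -- freeness
  have hfree : ∀ (x : Additive F), x ≠ 0 → ∀ h h' : HH, c h x = c h' x → h = h' := by
    intro x hx h h' he
    have hu : ((Additive.toMul x : F) : G) ≠ 1 := by
      intro h1
      apply hx
      apply Additive.toMul.injective
      apply Subtype.ext
      simpa using h1
    have he' : (h : G) * ((Additive.toMul x : F) : G) * (h : G)⁻¹ =
        (h' : G) * ((Additive.toMul x : F) : G) * (h' : G)⁻¹ := by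
      rw [← hcval, ← hcval, he]
    set v : G := ((Additive.toMul x : F) : G) with hv
    have hvF : v ∈ F := (Additive.toMul x : F).2
    have e1 : ((h' : G)⁻¹ * h) * v = v * ((h' : G)⁻¹ * h) := by
      have : (h' : G)⁻¹ * h * v * (h : G)⁻¹ * h' = v := by
        calc (h' : G)⁻¹ * h * v * (h : G)⁻¹ * h'
            = (h' : G)⁻¹ * ((h : G) * v * (h : G)⁻¹) * h' := by group
          _ = v := by rw [he']; group
      calc ((h' : G)⁻¹ * h) * v
          = ((h' : G)⁻¹ * h * v * (h : G)⁻¹ * h') * ((h' : G)⁻¹ * h) := by group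
        _ = _ := by rw [this]
    have e2 : ((h' : G)⁻¹ * h) • (v • b) = v • b := by
      rw [← mul_smul, e1, mul_smul, mul_smul, hHb, inv_smul_eq_iff.mpr (hHb h').symm]
    have e3 := eq_one_of_fix3 hZ (g := (h' : G)⁻¹ * h) (a := a) (b := b) (c := v • b) hab
      (hF.smul_ne_self hvF hu hab.symm).symm (hF.smul_ne hvF hab.symm).symm
      (by rw [mul_smul, hHa]; exact inv_smul_eq_iff.mpr (hHa h').symm)
      (by rw [mul_smul, hHb]; exact inv_smul_eq_iff.mpr (hHb h').symm) e2
    apply Subtype.ext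
    exact (inv_mul_eq_one.mp e3).symm
  have hcne : ∀ (x : Additive F), x ≠ 0 → ∀ h : HH, c h x ≠ 0 := by
    intro x hx h he
    apply hx
    have h1 : ((Additive.toMul (c h x) : F) : G) = 1 := by rw [he]; rfl
    rw [hcval] at h1
    apply Additive.toMul.injective
    apply Subtype.ext
    have h2 : ((Additive.toMul x : F) : G) = (h : G)⁻¹ * ((h : G) * ((Additive.toMul x : F) : G) * (h : G)⁻¹) * h := by group
    rw [h2, h1]
    simp
  -- irreducibility
  have hirr : ∀ B : AddSubgroup (Additive F), (∀ t ∈ T, ∀ x ∈ B, t x ∈ B) → B = ⊥ ∨ B = ⊤ := by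
    intro B hB
    by_cases hbot : B = ⊥
    · exact Or.inl hbot
    right
    obtain ⟨x, hxB, hx⟩ := (AddSubgroup.ne_bot_iff_exists_ne_zero.mp hbot).elim
      (fun y hy => (⟨y, y.2, fun h => hy (Subtype.ext h)⟩ : ∃ x ∈ B, x ≠ 0))
    have hBcard : d + 1 ≤ Nat.card B := by
      let g : Option HH → B := fun o => match o with
        | Option.none => 0
        | Option.some h => ⟨c h x, hB _ ⟨h, rfl⟩ x hxB⟩
      have hg : Function.Injective g := by
        intro o o' hoo
        have he := congrArg Subtype.val hoo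
        cases o with
        | none =>
          cases o' with
          | none => rfl
          | some h' => exact (hcne x hx h' he.symm).elim
        | some h₁ =>
          cases o' with
          | none => exact (hcne x hx h₁ he).elim
          | some h' => exact congrArg Option.some (hfree x hx _ _ he)
      have := Nat.card_le_card_of_injective g hg
      rwa [Finite.card_option] at this
    have h3 := AddSubgroup.card_mul_index B
    have hB0 : B.index ≠ 0 := AddSubgroup.index_ne_zero_of_finite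
    have h5 : B.index = 1 := by
      by_contra hne
      have h6 : 2 ≤ B.index := by omega
      have h7 : (d + 1) * 2 ≤ Nat.card B * B.index := Nat.mul_le_mul hBcard h6
      omega
    exact AddSubgroup.index_eq_one.mp h5
  -- a non-zero element
  obtain ⟨e, he⟩ : ∃ e : Additive F, e ≠ 0 := by
    have : Nontrivial (Additive F) := by
      apply Finite.one_lt_card_iff_nontrivial.mp
      omega
    exact exists_ne 0
  obtain ⟨K₁, iF, iK, θ, ι, -, hθ⟩ := Cfsg.Agent.Lib.Perm.ZassField.exists_field T hTcomm hirr e he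
  -- `K₁` as a field in `Type`
  obtain ⟨p, hpchar⟩ := CharP.exists K₁
  obtain ⟨n, hprime, hn⟩ := FiniteField.card K₁ p
  haveI : Fact p.Prime := ⟨hprime⟩
  let K₀ : Type := GaloisField p n
  letI : Fintype K₀ := Fintype.ofFinite K₀
  have hK₀ : Fintype.card K₀ = p ^ (n : ℕ) := by
    rw [← Nat.card_eq_fintype_card]
    exact GaloisField.card p n n.ne_zero
  let e₀ : K₀ ≃+* K₁ := FiniteField.ringEquivOfCardEq (by rw [hK₀, hn])
  let u : K₀ → G := fun r => ((Additive.toMul (θ (e₀ r)) : F) : G)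
  have hK₁card : Fintype.card K₁ = Nat.card F := by
    rw [← Nat.card_eq_fintype_card]
    exact Nat.card_congr θ.toEquiv
  refine ⟨p, n, K₀, inferInstance, inferInstance, u, hprime, hK₀, ?_, ?_, ?_, ?_, ?_, ?_⟩
  · rw [← hK₁card, hK₀, hn]
  · exact fun r => (Additive.toMul (θ (e₀ r)) : F).2
  · intro r r'
    simp only [u, map_add, toMul_add, Subgroup.coe_mul]
  · intro r r' h
    have h1 : Additive.toMul (θ (e₀ r)) = Additive.toMul (θ (e₀ r')) := Subtype.ext h
    exact e₀.injective (θ.injective (Additive.toMul.injective h1))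
  · intro v hv
    refine ⟨e₀.symm (θ.symm (Additive.ofMul ⟨v, hv⟩)), ?_⟩
    simp [u]
  · intro h ha hb
    let h' : HH := ⟨h, Subgroup.mem_inf.mpr ⟨ha, hb⟩⟩
    refine ⟨e₀.symm (ι (c h')), fun r => ?_⟩
    have h1 := hθ (c h') ⟨h', rfl⟩ (e₀ r)
    have h2 := congrArg (fun x : Additive F => ((Additive.toMul x : F) : G)) h1
    simp only [hcval] at h2
    simp only [u, map_mul, RingEquiv.apply_symm_apply]
    exact h2.symm

/-- **`|H|` even, `|F| = 2 |H| + 1` gives `PSL(2, q)`.** -/
theorem even_main [Finite G] [Fintype Ω] (hZ : IsZassenhausGroup G Ω) {a b : Ω} (hab : a ≠ b)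
    (heven : Even (Nat.card ↥(stabilizer G a ⊓ stabilizer G b)))
    (hd : Fintype.card Ω = 2 * Nat.card ↥(stabilizer G a ⊓ stabilizer G b) + 2) :
    ∃ (p f : ℕ) (K : Type) (_ : Field K) (_ : Fintype K), p.Prime ∧ p ≠ 2 ∧
      Fintype.card K = p ^ f ∧ Fintype.card Ω = p ^ f + 1 ∧
      Nonempty (G ≃* Matrix.ProjectiveSpecialLinearGroup (Fin 2) K) := by
  classical
  obtain ⟨z, hza, hzb, hz1, hz2⟩ := exists_involution heven
  obtain ⟨F, hF⟩ := exists_isRoot hZ a
  have hFcard : Nat.card F = 2 * Nat.card ↥(stabilizer G a ⊓ stabilizer G b) + 1 := by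
    have := hF.card_add_one hab.symm
    rw [Nat.card_eq_fintype_card (α := Ω), hd] at this
    omega
  have hzF : ∀ v ∈ F, z * v * z⁻¹ = v⁻¹ := fun v hv => inverts_root hZ hF hab.symm hza hzb hz1 hz2 hv
  have hFcomm : ∀ x ∈ F, ∀ y ∈ F, x * y = y * x := fun x hx y hy =>
    Cfsg.Agent.Lib.Frobenius.Even.comm_of_inverted hzF hx hy
  -- `H` is inverted
  obtain ⟨s₀, hs₀a, hs₀b⟩ := two_trans hZ hab hab.symm
  have hFb : IsRoot (F.map (MulAut.conj s₀).toMonoidHom) b := by
    have := hF.conj s₀
    rwa [hs₀a] at this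
  set Fb := F.map (MulAut.conj s₀).toMonoidHom with hFbdef
  have hinvol : ∀ w : G, w • a = b → w • b = a → w * w = 1 := by
    intro w hwa hwb
    obtain ⟨v, hv, hv1, γ₁, hγ₁, γ₂, hγ₂, hwe⟩ := exists_mu hZ hab hF hFb hza hzb hz1 hz2 hFcard hwa hwb
    exact (mu_involution hZ hab hF hFb hza hzb hz1 hz2 hv hv1 hγ₁ hγ₂ hwe hwa hwb).1
  have hs₀2 := hinvol s₀ hs₀a hs₀b
  have hs₀inv : s₀⁻¹ = s₀ := inv_eq_of_mul_eq_one_left hs₀2
  have hinvH : ∀ h ∈ stabilizer G a ⊓ stabilizer G b, s₀ * h * s₀⁻¹ = h⁻¹ := by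
    intro h hh
    have ha : h • a = a := (Subgroup.mem_inf.mp hh).1
    have hb : h • b = b := (Subgroup.mem_inf.mp hh).2
    have h1 := hinvol (s₀ * h) (by rw [mul_smul, ha, hs₀a]) (by rw [mul_smul, hb, hs₀b])
    rw [hs₀inv]
    apply eq_inv_of_mul_eq_one_left
    calc s₀ * h * s₀ * h = s₀ * h * (s₀ * h) := by group
      _ = 1 := h1
  have hHcomm : ∀ x ∈ stabilizer G a ⊓ stabilizer G b, ∀ y ∈ stabilizer G a ⊓ stabilizer G b,
      x * y = y * x := fun x hx y hy =>
    Cfsg.Agent.Lib.Frobenius.Even.comm_of_inverted hinvH hx hy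
  obtain ⟨p, f, K, iF, iK, u, hp, hKp, hKF, hmem, hadd, hinj, hsurj, hlam⟩ :=
    exists_coords hZ hab hF hFcomm hHcomm hFcard
  have hKd : Fintype.card K = 2 * Nat.card ↥(stabilizer G a ⊓ stabilizer G b) + 1 := by
    rw [hKF, hFcard]
  refine ⟨p, f, K, iF, iK, hp, ?_, hKp, ?_, ?_⟩
  · rintro rfl
    have h1 : Even (2 ^ f) := by
      rw [← hKp, hKd]
      by_contra hc
      have hf : f = 0 := by
        by_contra hf0
        exact hc (by rw [← hKd, hKp]; exact (Nat.even_pow.mpr ⟨even_two, hf0⟩))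
      have h2 := Fintype.one_lt_card (α := K)
      rw [hKp, hf] at h2
      omega
    have h3 : Even (2 * Nat.card ↥(stabilizer G a ⊓ stabilizer G b) + 1) := by
      rw [← hKd, hKp]
      exact h1
    exact (Nat.not_even_iff_odd.mpr ⟨_, rfl⟩) h3
  · rw [← hKp, hKd, hd]
  · exact coords_even hZ hab hF hza hzb hz1 hz2 u hmem hadd hinj hsurj hlam hKd

end Cfsg.Agent.Lib.Perm.ZassTwo
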