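import Cfsg.Agent.Lib.Perm.ZassChar
import Cfsg.Agent.Lib.Perm.ZassTwoC

/-!
# Sharply triply transitive Zassenhaus groups of odd degree-minus-one are not simple

`G` Zassenhaus with two point stabiliser `D` of even order `d`, of degree `d + 2` (so that `D` is
regular on the non-identity elements of the root group).  Take a `τ`-stable nontrivial irreducible
character `μ` of `D` of odd degree (`τ` swaps the two points).  Its inflation to the point stabiliser
induces a character of norm two of `G`, and central character integrality for the two constituents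
gives a contradiction, unless the root group lies in the kernel of one of them.
-/

set_option autoImplicit false
set_option linter.style.haveILetI false
set_option linter.deprecated false

namespace Cfsg.Agent.Lib.Perm.ZassSharp

open MulAction Cfsg Cfsg.Agent.Lib.Perm.ZassCore Cfsg.Agent.Lib.Perm.ZassEven
  Cfsg.Agent.Lib.Perm.ZassChar Cfsg.Agent.Lib.Perm.ZassTwo
  Cfsg.Agent.Lib.Char.Induced Cfsg.Agent.Lib.Char.Mackey Cfsg.Agent.Lib.Char.Basic
open scoped ComplexConjugate

variable {G Ω : Type*} [Group G] [MulAction G Ω] {F : Subgroup G} {a b : Ω}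

/-- The retraction of a point stabiliser on a two-point stabiliser. -/
theorem exists_retr (hab : a ≠ b) (hF : IsRoot F a) :
    ∃ r : stabilizer G a →* ↥(stabilizer G a ⊓ stabilizer G b),
      (∀ g : stabilizer G a, (g : G) * ((r g : _) : G)⁻¹ ∈ F) ∧
      (∀ g : stabilizer G a, (g : G) • b = b → ((r g : _) : G) = g) ∧
      (∀ g : stabilizer G a, (g : G) ∈ F → r g = 1) := by
  have hex : ∀ g : stabilizer G a, ∃ h : ↥(stabilizer G a ⊓ stabilizer G b),
      (g : G) * (h : G)⁻¹ ∈ F := by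
    intro g
    have hg : (g : G) • a = a := g.2
    have h1 : (g : G) • b ≠ a := by
      intro hc
      apply hab
      have : (g : G) • b = (g : G) • a := by rw [hc, hg]
      exact (MulAction.injective (g : G) this).symm
    obtain ⟨v, hv, hve⟩ := hF.exists_smul hab.symm h1
    refine ⟨⟨v⁻¹ * g, Subgroup.mem_inf.mpr ⟨?_, ?_⟩⟩, ?_⟩
    · rw [mem_stabilizer_iff, mul_smul, hg]
      exact inv_smul_eq_iff.mpr (hF.le v hv).symm
    · rw [mem_stabilizer_iff, mul_smul, inv_smul_eq_iff]
      exact hve.symm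
    · simpa using hv
  have huniq : ∀ (g : G) (h h' : ↥(stabilizer G a ⊓ stabilizer G b)),
      g * (h : G)⁻¹ ∈ F → g * (h' : G)⁻¹ ∈ F → h = h' := by
    intro g h h' h1 h2
    have hb : ∀ h : ↥(stabilizer G a ⊓ stabilizer G b), (g * (h : G)⁻¹) • b = g • b := by
      intro h
      have : (h : G)⁻¹ • b = b := inv_smul_eq_iff.mpr (Subgroup.mem_inf.mp h.2).2.symm
      rw [mul_smul, this]
    have h3 := hF.eq_of_smul_eq h1 h2 hab.symm (by rw [hb, hb])
    apply Subtype.ext
    simpa using h3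
  choose r hr using hex
  refine ⟨MonoidHom.mk' r ?_, hr, ?_, ?_⟩
  · intro g g'
    refine huniq ((g * g' : stabilizer G a) : G) _ _ (hr _) ?_
    have h1 := hF.conj_mem g g.2 _ (hr g')
    have h2 := F.mul_mem h1 (hr g)
    convert h2 using 1
    simp only [Subgroup.coe_mul, mul_inv_rev]
    group
  · intro g hg
    have h1 : (g : G) ∈ stabilizer G a ⊓ stabilizer G b := Subgroup.mem_inf.mpr ⟨g.2, hg⟩
    have := huniq (g : G) (r g) ⟨g, h1⟩ (hr g) (by simp)
    simp only [MonoidHom.mk'_apply]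
    rw [this]
  · intro g hg
    exact huniq (g : G) (r g) 1 (hr g) (by simpa using hg)

/-- The centraliser of a non-trivial element of an abelian root group. -/
theorem centralizer_eq (hZ : IsZassenhausGroup G Ω) (hab : a ≠ b) (hF : IsRoot F a)
    (hFcomm : ∀ x ∈ F, ∀ y ∈ F, x * y = y * x) {u : G} (hu : u ∈ F) (hu1 : u ≠ 1) :
    Subgroup.centralizer ({u} : Set G) = F := by
  ext g
  rw [Subgroup.mem_centralizer_singleton_iff]
  constructor
  · intro hg
    have hga : g • a = a := by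
      by_contra hne
      apply hF.smul_ne_self hu hu1 hne
      rw [← mul_smul, ← hg, mul_smul, hF.le u hu]
    have h1 : g • b ≠ a := by
      intro hc
      apply hab
      have : g • b = g • a := by rw [hc, hga]
      exact (MulAction.injective g this).symm
    obtain ⟨v, hv, hve⟩ := hF.exists_smul hab.symm h1
    have ha : (v⁻¹ * g) • a = a := by
      rw [mul_smul, hga]
      exact inv_smul_eq_iff.mpr (hF.le v hv).symm
    have hb : (v⁻¹ * g) • b = b := by
      rw [mul_smul, inv_smul_eq_iff]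
      exact hve.symm
    have hc : (v⁻¹ * g) • (u • b) = u • b := by
      have h2 : v⁻¹ * g * u = u * (v⁻¹ * g) := by
        rw [mul_assoc, hg, ← mul_assoc, ← mul_assoc, hFcomm _ (F.inv_mem hv) _ hu]
      rw [← mul_smul, h2, mul_smul, hb]
    have h3 := eq_one_of_fix3 hZ (g := v⁻¹ * g) (a := a) (b := b) (c := u • b) hab
      (hF.smul_ne_self hu hu1 hab.symm).symm (hF.smul_ne hu hab.symm).symm ha hb hc
    rw [inv_mul_eq_one] at h3
    rwa [← h3]
  · intro hg
    exact hFcomm g hg u hu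

/-- The two-point stabiliser acts transitively on the non-identity elements of `F`, when
`|F| = |D| + 1`. -/
theorem exists_conj [Finite G] (hZ : IsZassenhausGroup G Ω) (hab : a ≠ b) (hF : IsRoot F a)
    (hq : Nat.card F = Nat.card ↥(stabilizer G a ⊓ stabilizer G b) + 1)
    {u₀ u : G} (hu₀ : u₀ ∈ F) (hu₀1 : u₀ ≠ 1) (hu : u ∈ F) (hu1 : u ≠ 1) :
    ∃ h : G, h • a = a ∧ h • b = b ∧ h * u₀ * h⁻¹ = u := by
  classical
  haveI : Fintype G := Fintype.ofFinite G
  haveI : Fintype F := Fintype.ofFinite _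
  haveI : Fintype ↥(stabilizer G a ⊓ stabilizer G b) := Fintype.ofFinite _
  let f : ↥(stabilizer G a ⊓ stabilizer G b) → {v : F // v ≠ 1} := fun h =>
    ⟨⟨(h : G) * u₀ * (h : G)⁻¹, hF.conj_mem _ (Subgroup.mem_inf.mp h.2).1 _ hu₀⟩, fun hc => by
      have h1 := congrArg Subtype.val hc
      simp only [OneMemClass.coe_one] at h1
      apply hu₀1
      have h2 : u₀ = (h : G)⁻¹ * ((h : G) * u₀ * (h : G)⁻¹) * h := by group
      rw [h2, h1]
      simp⟩
  have hfinj : Function.Injective f := by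
    intro h h' he
    have h1 : (h : G) * u₀ * (h : G)⁻¹ = (h' : G) * u₀ * (h' : G)⁻¹ :=
      congrArg (fun x : {v : F // v ≠ 1} => ((x.1 : F) : G)) he
    have h2 : ((h' : G)⁻¹ * h) * u₀ = u₀ * ((h' : G)⁻¹ * h) := by
      have : (h' : G)⁻¹ * h * u₀ * (h : G)⁻¹ * h' = u₀ := by
        calc (h' : G)⁻¹ * h * u₀ * (h : G)⁻¹ * h'
            = (h' : G)⁻¹ * ((h : G) * u₀ * (h : G)⁻¹) * h' := by group
          _ = u₀ := by rw [h1]; group
      calc ((h' : G)⁻¹ * h) * u₀
          = ((h' : G)⁻¹ * h * u₀ * (h : G)⁻¹ * h') * ((h' : G)⁻¹ * h) := by group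
        _ = _ := by rw [this]
    have ha : ((h' : G)⁻¹ * h) • a = a := by
      rw [mul_smul, (Subgroup.mem_inf.mp h.2).1]
      exact inv_smul_eq_iff.mpr (Subgroup.mem_inf.mp h'.2).1.symm
    have hb : ((h' : G)⁻¹ * h) • b = b := by
      rw [mul_smul, (Subgroup.mem_inf.mp h.2).2]
      exact inv_smul_eq_iff.mpr (Subgroup.mem_inf.mp h'.2).2.symm
    have hc : ((h' : G)⁻¹ * h) • (u₀ • b) = u₀ • b := by
      rw [← mul_smul, h2, mul_smul, hb]
    have h3 := eq_one_of_fix3 hZ (g := (h' : G)⁻¹ * h) (a := a) (b := b) (c := u₀ • b) hab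
      (hF.smul_ne_self hu₀ hu₀1 hab.symm).symm (hF.smul_ne hu₀ hab.symm).symm ha hb hc
    rw [inv_mul_eq_one] at h3
    exact (Subtype.ext h3).symm
  have hcard : Fintype.card ↥(stabilizer G a ⊓ stabilizer G b) = Fintype.card {v : F // v ≠ 1} := by
    rw [Fintype.card_subtype_compl, Fintype.card_subtype_eq, ← Nat.card_eq_fintype_card,
      ← Nat.card_eq_fintype_card, hq]
    simp
  have hbij := (Fintype.bijective_iff_injective_and_card f).mpr ⟨hfinj, hcard⟩
  obtain ⟨h, hh⟩ := hbij.2 ⟨⟨u, hu⟩, fun hc => hu1 (congrArg Subtype.val hc)⟩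
  refine ⟨h, (Subgroup.mem_inf.mp h.2).1, (Subgroup.mem_inf.mp h.2).2, ?_⟩
  exact congrArg (fun x : {v : F // v ≠ 1} => ((x.1 : F) : G)) hh

/-- Norm of the induced character. -/
theorem norm_ind [Fintype G] [Finite Ω] (hZ : IsZassenhausGroup G Ω) (hab : a ≠ b) (hF : IsRoot F a)
    {s : G} (hsa : s • a = b) (hsb : s • b = a)
    (r : stabilizer G a →* ↥(stabilizer G a ⊓ stabilizer G b))
    (hr : ∀ g : stabilizer G a, (g : G) • b = b → ((r g : _) : G) = g)
    {μ : ↥(stabilizer G a ⊓ stabilizer G b) → ℂ}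
    (hμ : IsIrrCharacter _ μ) (hθ : IsIrrCharacter (stabilizer G a) (fun g => μ (r g)))
    (hs : ∀ h h' : ↥(stabilizer G a ⊓ stabilizer G b), (h' : G) = s⁻¹ * h * s → μ h' = μ h) :
    classInner (indFun (stabilizer G a) (fun g => μ (r g)))
      (indFun (stabilizer G a) (fun g => μ (r g))) = 2 := by
  classical
  haveI : Fintype (stabilizer G a) := Fintype.ofFinite _
  haveI : Fintype ↥(stabilizer G a ⊓ stabilizer G b) := Fintype.ofFinite _
  set θ : stabilizer G a → ℂ := fun g => μ (r g) with hθdef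
  have hθc := isClassFunction_of_isCharacter (isCharacter_of_isIrrCharacter hθ)
  have hw : ∀ x : G, x ∉ stabilizer G a → ∃ h₁ h₂ : stabilizer G a, x = (h₁ : G) * s * h₂ := by
    intro x hx
    have hxa : x • a ≠ a := hx
    obtain ⟨v, hv, hve⟩ := hF.exists_smul hab.symm hxa
    refine ⟨⟨v, hF.le v hv⟩, ⟨(v * s)⁻¹ * x, ?_⟩, ?_⟩
    · rw [mem_stabilizer_iff, mul_smul, inv_smul_eq_iff, mul_smul, hsa, hve]
    · simp only
      group
  rw [classInner_indFun_indFun_two_double _ θ θ hθc hθc s hw]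
  have h1 : classInner θ θ = 1 := by
    rw [Cfsg.Agent.Lib.Char.OrthoBasic.classInner_irr_irr hθ hθ, if_pos rfl]
  have hinv : ∀ h : ↥(stabilizer G a ⊓ stabilizer G b), s⁻¹ * h * s ∈ stabilizer G a ⊓ stabilizer G b := by
    intro h
    have hha : (h : G) • a = a := (Subgroup.mem_inf.mp h.2).1
    have hhb : (h : G) • b = b := (Subgroup.mem_inf.mp h.2).2
    refine Subgroup.mem_inf.mpr ⟨?_, ?_⟩
    · rw [mem_stabilizer_iff, mul_smul, mul_smul, hsa, hhb, inv_smul_eq_iff, hsa]
    · rw [mem_stabilizer_iff, mul_smul, mul_smul, hsb, hha, inv_smul_eq_iff, hsb]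
  have h2 : mackeySum (stabilizer G a) θ θ s = (Nat.card ↥(stabilizer G a ⊓ stabilizer G b) : ℂ) := by
    unfold mackeySum
    let e : ↥(stabilizer G a ⊓ stabilizer G b) → stabilizer G a := fun h =>
      ⟨h, (Subgroup.mem_inf.mp h.2).1⟩
    have he : Function.Injective e := fun x y hxy =>
      Subtype.ext (congrArg (fun w : stabilizer G a => (w : G)) hxy)
    have hrhs := Cfsg.Agent.Lib.Char.OrthoBasic.classInner_irr_irr hμ hμ
    rw [if_pos rfl, Cfsg.Agent.Lib.Char.Induced.classInner_def] at hrhs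
    have hD0 : (Nat.card ↥(stabilizer G a ⊓ stabilizer G b) : ℂ) ≠ 0 := natCard_ne_zero_complex
    have hrhs' : ∑ h : ↥(stabilizer G a ⊓ stabilizer G b), μ h * conj (μ h)
        = (Nat.card ↥(stabilizer G a ⊓ stabilizer G b) : ℂ) := by
      field_simp at hrhs
      exact hrhs
    rw [← hrhs']
    symm
    refine Fintype.sum_of_injective e he _ _ ?_ ?_
    · intro h hh
      have hhb : (h : G) • b ≠ b := by
        intro hc
        exact hh ⟨⟨h, Subgroup.mem_inf.mpr ⟨h.2, hc⟩⟩, rfl⟩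
      have h3 : s⁻¹ * h * s ∉ stabilizer G a := by
        intro hc
        apply hhb
        have h4 : (s⁻¹ * h * s) • a = a := hc
        rw [mul_smul, mul_smul, hsa, inv_smul_eq_iff, hsa] at h4
        exact h4
      rw [extendByZero_of_notMem _ _ h3]
      simp
    · intro h
      have hmem := (Subgroup.mem_inf.mp (hinv h)).1
      have h3 : extendByZero (stabilizer G a) θ (s⁻¹ * (e h : G) * s) = μ h := by
        have : s⁻¹ * (e h : G) * s ∈ stabilizer G a := hmem
        rw [extendByZero_of_mem _ _ this]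
        show μ (r _) = μ h
        have h4 : ((r ⟨s⁻¹ * (e h : G) * s, this⟩ : _) : G) = s⁻¹ * (h : G) * s := by
          rw [hr]
          exact (Subgroup.mem_inf.mp (hinv h)).2
        exact hs h _ h4
      have h5 : θ (e h) = μ h := by
        show μ (r (e h)) = μ h
        congr 1
        apply Subtype.ext
        exact hr (e h) (Subgroup.mem_inf.mp h.2).2
      rw [h3, h5]
  rw [h1, h2]
  -- counting
  have hn := card_eq_of_two_trans hZ hab
  haveI : Nonempty Ω := ⟨a⟩
  haveI : IsPretransitive G Ω := ⟨fun x y => by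
    by_cases hxy : x = y
    · exact ⟨1, by rw [one_smul, hxy]⟩
    · obtain ⟨g, hg, -⟩ := two_trans hZ hxy (Ne.symm hxy)
      exact ⟨g, hg⟩⟩
  have hB := Subgroup.card_mul_index (stabilizer G a)
  rw [index_stabilizer_of_transitive] at hB
  set n := Nat.card Ω with hndef
  set d := Nat.card ↥(stabilizer G a ⊓ stabilizer G b) with hd
  have hnpos : 0 < n := Nat.card_pos
  have hBd : Nat.card (stabilizer G a) = (n - 1) * d := by
    have h3 : Nat.card (stabilizer G a) * n = n * ((n - 1) * d) := by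
      rw [hB, hn]
      ring
    rw [mul_comm] at h3
    exact Nat.eq_of_mul_eq_mul_left hnpos h3
  have hBpos : 0 < Nat.card (stabilizer G a) := Nat.card_pos
  have hX : (Nat.card (stabilizer G a) : ℂ) ≠ 0 := natCard_ne_zero_complex
  set X : ℂ := (Nat.card (stabilizer G a) : ℂ) with hXdef
  have hGc : (Nat.card G : ℂ) = X * n := by
    rw [hXdef]
    exact_mod_cast hB.symm
  have hXc : X = ((n : ℂ) - 1) * d := by
    rw [hXdef, hBd]
    have h3 : 1 ≤ n := hnpos
    push_cast [Nat.cast_sub h3]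
    ring
  rw [hGc]
  have h4 : (X * n - X) * (d : ℂ) = X * X := by
    calc (X * n - X) * (d : ℂ) = X * (((n : ℂ) - 1) * d) := by ring
      _ = X * X := by rw [← hXc]
  rw [h4]
  field_simp
  norm_num

/-- Average over a normal subgroup. -/
theorem avg_ge {B : Type*} [Group B] [Fintype B] (N : Subgroup B) [N.Normal] [Fintype N]
    {ψ θ : B → ℂ} (hψ : IsCharacter B ψ) (hθ : IsIrrCharacter B θ)
    (hθN : ∀ n ∈ N, ∀ g, θ (n * g) = θ g) (hne : classInner θ ψ ≠ 0) :
    ∃ m : ℕ, charDegree θ ≤ m ∧ (Nat.card N : ℂ) * m = ∑ n : N, ψ n := by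
  classical
  have hα := Cfsg.Agent.Lib.Char.GaloisC.isCharacter_avg hψ N
  set α : B → ℂ := fun g => (Nat.card N : ℂ)⁻¹ * ∑ n : N, ψ ((n : B) * g) with hαdef
  have hN0 : (Nat.card N : ℂ) ≠ 0 := natCard_ne_zero_complex
  have hin : classInner α θ = classInner ψ θ := by
    simp only [Cfsg.Agent.Lib.Char.Induced.classInner_def, hαdef]
    congr 1
    have h1 : ∀ n : N, ∑ g : B, ψ ((n : B) * g) * conj (θ g) = ∑ g : B, ψ g * conj (θ g) := by
      intro n
      refine Eq.trans ?_ (Equiv.sum_comp (Equiv.mulLeft (n : B)) (fun g => ψ g * conj (θ g)))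
      refine Finset.sum_congr rfl fun g _ => ?_
      simp only [Equiv.coe_mulLeft]
      rw [hθN n n.2]
    calc ∑ g : B, ((Nat.card N : ℂ)⁻¹ * ∑ n : N, ψ ((n : B) * g)) * conj (θ g)
        = (Nat.card N : ℂ)⁻¹ * ∑ n : N, ∑ g : B, ψ ((n : B) * g) * conj (θ g) := by
          simp only [Finset.mul_sum, Finset.sum_mul]
          rw [Finset.sum_comm]
          refine Finset.sum_congr rfl fun n _ => Finset.sum_congr rfl fun g _ => by ring
      _ = _ := by
          simp_rw [h1]
          rw [Finset.sum_const, Finset.card_univ, nsmul_eq_mul, ← Nat.card_eq_fintype_card]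
          field_simp
  have hne2 : classInner α θ ≠ 0 := by
    rw [hin]
    intro h0
    apply hne
    rw [← Cfsg.Agent.Lib.Char.Ortho.classInner_conj_symm, h0]
    simp
  have hdeg := degree_le hα hθ hne2
  refine ⟨charDegree α, hdeg, ?_⟩
  rw [Cfsg.Agent.Lib.Char.Values.IsCharacter.charDegree_cast hα, hαdef]
  simp only [mul_one]
  field_simp

/-- A non-trivial element in the kernel of an irreducible character of a simple group. -/
theorem forall_eq_of_simple {G : Type*} [Group G] [Finite G] [IsSimpleGroup G] {A : G → ℂ}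
    (hA : IsIrrCharacter G A) {u : G} (hu1 : u ≠ 1) (h : A u = A 1) : ∀ g, A g = A 1 := by
  obtain ⟨m, ρ, hρ, rfl⟩ := hA
  have h1 : u ∈ Cfsg.Agent.Lib.Char.Codegree.repKer ρ :=
    (Cfsg.Agent.Lib.Char.Codegree.character_eq_one_iff ρ u).mp h
  have h2 : Cfsg.Agent.Lib.Char.Codegree.repKer ρ = ⊤ := by
    refine (Subgroup.Normal.eq_bot_or_eq_top (Cfsg.Agent.Lib.Char.Codegree.repKer_normal ρ)).resolve_left ?_
    intro hbot
    rw [hbot] at h1
    exact hu1 (Subgroup.mem_bot.mp h1)
  intro g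
  exact (Cfsg.Agent.Lib.Char.Codegree.character_eq_one_iff ρ g).mpr (h2 ▸ Subgroup.mem_top g)

theorem exists_int_of_integral {a : ℂ} (h : IsIntegral ℤ a) {x y : ℤ} (hy : y ≠ 0)
    (he : (y : ℂ) * a = x) : ∃ n : ℤ, a = n := by
  have hyc : (y : ℂ) ≠ 0 := Int.cast_ne_zero.mpr hy
  have hq : a = (algebraMap ℚ ℂ) ((x : ℚ) / (y : ℚ)) := by
    simp only [eq_ratCast, Rat.cast_div, Rat.cast_intCast]
    rw [← he]
    field_simp
  rw [hq] at h
  have hint : IsIntegral ℤ ((x : ℚ) / (y : ℚ)) :=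
    (isIntegral_algebraMap_iff (algebraMap ℚ ℂ).injective).1 h
  obtain ⟨z, hz⟩ := IsIntegrallyClosed.isIntegral_iff.1 hint
  refine ⟨z, ?_⟩
  rw [hq, ← hz]
  simp

set_option maxHeartbeats 1000000 in
/-- A Zassenhaus group with two-point stabiliser of even order `d`, of degree `d + 2`, is not
simple. -/
theorem not_simple [Finite G] [Fintype Ω] (hZ : IsZassenhausGroup G Ω) [IsSimpleGroup G]
    (hab : a ≠ b) (heven : Even (Nat.card ↥(stabilizer G a ⊓ stabilizer G b)))
    (hn : Fintype.card Ω = Nat.card ↥(stabilizer G a ⊓ stabilizer G b) + 2) : False := by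
  classical
  haveI : Fintype G := Fintype.ofFinite G
  haveI : Fintype (stabilizer G a) := Fintype.ofFinite _
  haveI : Fintype ↥(stabilizer G a ⊓ stabilizer G b) := Fintype.ofFinite _
  obtain ⟨z, hza, hzb, hz1, hz2⟩ := exists_involution heven
  obtain ⟨F, hF⟩ := exists_isRoot hZ a
  set d := Nat.card ↥(stabilizer G a ⊓ stabilizer G b) with hd
  have hdpos : 0 < d := Nat.card_pos
  have hΩ : Nat.card Ω = d + 2 := by rw [Nat.card_eq_fintype_card, hn]
  have hq : Nat.card F = d + 1 := by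
    have := hF.card_add_one hab.symm
    omega
  have hzF : ∀ v ∈ F, z * v * z⁻¹ = v⁻¹ := fun v hv =>
    inverts_root hZ hF hab.symm hza hzb hz1 hz2 hv
  have hFcomm : ∀ x ∈ F, ∀ y ∈ F, x * y = y * x := fun x hx y hy =>
    Cfsg.Agent.Lib.Frobenius.Even.comm_of_inverted hzF hx hy
  obtain ⟨s, hsa, hsb⟩ := two_trans hZ hab hab.symm
  obtain ⟨u₀, hu₀, hu₀1⟩ : ∃ u₀ ∈ F, u₀ ≠ 1 := by
    have : Nontrivial F := by
      apply Finite.one_lt_card_iff_nontrivial.mp
      omega
    obtain ⟨x, hx⟩ := exists_ne (1 : F)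
    exact ⟨x, x.2, fun h => hx (Subtype.ext h)⟩
  -- conjugation by `s`
  have hsinva : s⁻¹ • a = b := inv_smul_eq_iff.mpr hsb.symm
  have hsinvb : s⁻¹ • b = a := inv_smul_eq_iff.mpr hsa.symm
  have hmem1 : ∀ h : ↥(stabilizer G a ⊓ stabilizer G b),
      s * h * s⁻¹ ∈ stabilizer G a ⊓ stabilizer G b := by
    intro h
    have hha : (h : G) • a = a := (Subgroup.mem_inf.mp h.2).1
    have hhb : (h : G) • b = b := (Subgroup.mem_inf.mp h.2).2
    refine Subgroup.mem_inf.mpr ⟨?_, ?_⟩
    · rw [mem_stabilizer_iff, mul_smul, mul_smul, hsinva, hhb, hsb]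
    · rw [mem_stabilizer_iff, mul_smul, mul_smul, hsinvb, hha, hsa]
  have hmem2 : ∀ h : ↥(stabilizer G a ⊓ stabilizer G b),
      s⁻¹ * h * s ∈ stabilizer G a ⊓ stabilizer G b := by
    intro h
    have hha : (h : G) • a = a := (Subgroup.mem_inf.mp h.2).1
    have hhb : (h : G) • b = b := (Subgroup.mem_inf.mp h.2).2
    refine Subgroup.mem_inf.mpr ⟨?_, ?_⟩
    · rw [mem_stabilizer_iff, mul_smul, mul_smul, hsa, hhb, hsinvb]
    · rw [mem_stabilizer_iff, mul_smul, mul_smul, hsb, hha, hsinva]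
  let σ : ↥(stabilizer G a ⊓ stabilizer G b) →* ↥(stabilizer G a ⊓ stabilizer G b) :=
    MonoidHom.mk' (fun h => ⟨s * h * s⁻¹, hmem1 h⟩) (fun x y => by
      apply Subtype.ext
      simp only [Subgroup.coe_mul]
      group)
  have hσapp : ∀ h : ↥(stabilizer G a ⊓ stabilizer G b), ((σ h : _) : G) = s * h * s⁻¹ :=
    fun _ => rfl
  have hσsurj : Function.Surjective σ := by
    intro h
    refine ⟨⟨s⁻¹ * h * s, hmem2 h⟩, ?_⟩
    apply Subtype.ext
    rw [hσapp]
    simp only
    group
  have hs2 : s * s ∈ stabilizer G a ⊓ stabilizer G b := by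
    refine Subgroup.mem_inf.mpr ⟨?_, ?_⟩
    · rw [mem_stabilizer_iff, mul_smul, hsa, hsb]
    · rw [mem_stabilizer_iff, mul_smul, hsb, hsa]
  have hσσ : ∀ g, ∃ y, σ (σ g) = y * g * y⁻¹ := by
    intro g
    refine ⟨⟨s * s, hs2⟩, ?_⟩
    apply Subtype.ext
    rw [hσapp, hσapp]
    simp only [Subgroup.coe_mul, Subgroup.coe_inv]
    group
  obtain ⟨μ, hμ, hμ1, hμσ, hodd⟩ := exists_stable_odd heven σ hσsurj hσσ
  have hμchar := isCharacter_of_isIrrCharacter hμ
  set d₀ := charDegree μ with hd₀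
  have hμone : μ 1 = d₀ := (Cfsg.Agent.Lib.Char.Values.IsCharacter.charDegree_cast hμchar).symm
  have hd₀pos : 0 < d₀ := Cfsg.Agent.Lib.Char.Codegree.charDegree_pos hμ
  have hs : ∀ h h' : ↥(stabilizer G a ⊓ stabilizer G b), (h' : G) = s⁻¹ * h * s → μ h' = μ h := by
    intro h h' he
    rw [← hμσ h']
    congr 1
    apply Subtype.ext
    rw [hσapp, he]
    group
  -- the bound
  have hdvd : d₀ ∣ d :=
    Dvd.dvd.trans (Dvd.intro_left _ rfl) (Cfsg.Agent.Lib.Char.Codegree.card_ker_mul_degree_dvd hμ)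
  have hbound : 2 * d₀ ^ 2 ≤ d := by
    let z' : ↥(stabilizer G a ⊓ stabilizer G b) := ⟨z, Subgroup.mem_inf.mpr ⟨hza, hzb⟩⟩
    have hz'1 : z' ≠ 1 := fun h => hz1 (congrArg Subtype.val h)
    have hzc : ∀ g, g * z' = z' * g := by
      intro g
      have hga : (g : G) • a = a := (Subgroup.mem_inf.mp g.2).1
      have hgb : (g : G) • b = b := (Subgroup.mem_inf.mp g.2).2
      have h1 : (g : G) * z * (g : G)⁻¹ = z := by
        refine involution_unique hZ hab hF hza hzb hz1 hz2 hu₀ hu₀1 ?_ ?_ ?_ ?_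
        · rw [mul_smul, mul_smul, inv_smul_eq_iff.mpr hga.symm, hza, hga]
        · rw [mul_smul, mul_smul, inv_smul_eq_iff.mpr hgb.symm, hzb, hgb]
        · intro hc
          apply hz1
          have : z = (g : G)⁻¹ * ((g : G) * z * (g : G)⁻¹) * g := by group
          rw [this, hc]
          simp
        · calc (g : G) * z * (g : G)⁻¹ * ((g : G) * z * (g : G)⁻¹) = (g : G) * (z * z) * (g : G)⁻¹ := by
                group
            _ = 1 := by rw [hz2]; simp
      apply Subtype.ext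
      show (g : G) * z = z * g
      calc (g : G) * z = ((g : G) * z * (g : G)⁻¹) * g := by group
        _ = z * g := by rw [h1]
    have h1 := Cfsg.Agent.Lib.Char.GL2Irr.norm_of_central hμ z' hzc
    have h2 := Cfsg.Agent.Lib.Char.GaloisC.sum_norm_sq_of_isIrr hμ
    have h3 : ∑ g ∈ ({1, z'} : Finset ↥(stabilizer G a ⊓ stabilizer G b)), ‖μ g‖ ^ 2
        ≤ ∑ g, ‖μ g‖ ^ 2 :=
      Finset.sum_le_sum_of_subset_of_nonneg (Finset.subset_univ _) (fun _ _ _ => by positivity)
    rw [Finset.sum_pair (Ne.symm hz'1), h1, h2, hμone, Complex.norm_natCast] at h3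
    have h4 : ((2 * d₀ ^ 2 : ℕ) : ℝ) ≤ (d : ℝ) := by
      push_cast
      linarith
    exact_mod_cast h4
  have hd₀d : d₀ < d := by nlinarith
  -- the inflation
  obtain ⟨r, hr1, hr2, hr3⟩ := exists_retr hab hF
  have hrsurj : Function.Surjective r := by
    intro h
    refine ⟨⟨h, (Subgroup.mem_inf.mp h.2).1⟩, ?_⟩
    apply Subtype.ext
    exact hr2 _ (Subgroup.mem_inf.mp h.2).2
  have hθ : IsIrrCharacter (stabilizer G a) (fun g => μ (r g)) :=
    isIrrCharacter_comp_surjective hμ r hrsurj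
  set θ : stabilizer G a → ℂ := fun g => μ (r g) with hθdef
  have hθchar := isCharacter_of_isIrrCharacter hθ
  have hθone : θ 1 = d₀ := by
    show μ (r 1) = _
    rw [map_one, hμone]
  have hθdeg : charDegree θ = d₀ :=
    Cfsg.Agent.Lib.Char.Values.IsCharacter.charDegree_eq hθchar hθone
  have hθ1 : θ ≠ fun _ => 1 := by
    intro he
    apply hμ1
    funext h
    obtain ⟨g, rfl⟩ := hrsurj h
    exact congrFun he g
  set χ : G → ℂ := indFun (stabilizer G a) θ with hχdef
  have hχ : IsCharacter G χ := Cfsg.Agent.Lib.Char.IndRep.isCharacter_indFun _ hθchar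
  have hnorm : classInner χ χ = 2 := norm_ind hZ hab hF hsa hsb r hr2 hμ hθ hs
  obtain ⟨A, A', hA, hA', hne, hχe⟩ := exists_add_of_norm_two hχ hnorm
  have hin : ∀ {A₁ A₂ : G → ℂ}, IsIrrCharacter G A₁ → IsIrrCharacter G A₂ → A₁ ≠ A₂ →
      χ = A₁ + A₂ → classInner χ A₁ ≠ 0 := by
    intro A₁ A₂ h₁ h₂ hne he
    rw [he, Cfsg.Agent.Lib.Char.Ortho.classInner_add_left,
      Cfsg.Agent.Lib.Char.OrthoBasic.classInner_irr_irr h₁ h₁,
      Cfsg.Agent.Lib.Char.OrthoBasic.classInner_irr_irr h₂ h₁, if_pos rfl, if_neg (Ne.symm hne)]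
    simp
  have hAin := hin hA hA' hne hχe
  have hA'in := hin hA' hA (Ne.symm hne) (by rw [hχe, add_comm])
  -- the subgroup `N`
  have hFle : F ≤ stabilizer G a := fun u hu => hF.le u hu
  let N : Subgroup (stabilizer G a) := F.subgroupOf (stabilizer G a)
  haveI hNnormal : N.Normal := ⟨fun n hn g => by
    rw [Subgroup.mem_subgroupOf] at hn ⊢
    exact hF.conj_mem _ g.2 _ hn⟩
  haveI : Fintype N := Fintype.ofFinite _
  have hNcard : Nat.card N = d + 1 := by
    rw [← hq]
    exact Nat.card_congr (Subgroup.subgroupOfEquivOfLe hFle).toEquiv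
  have hθN : ∀ n ∈ N, ∀ g, θ (n * g) = θ g := by
    intro n hn g
    show μ (r (n * g)) = μ (r g)
    rw [map_mul, hr3 n (Subgroup.mem_subgroupOf.mp hn), one_mul]
  have key : ∀ B : G → ℂ, IsIrrCharacter G B → classInner χ B ≠ 0 →
      ∃ m : ℕ, d₀ ≤ m ∧ ((d : ℂ) + 1) * m = B 1 + d * B u₀ := by
    intro B hB hBin
    have hBc := isClassFunction_of_isCharacter (isCharacter_of_isIrrCharacter hB)
    have hfr := frobenius_reciprocity (stabilizer G a) θ B hBc
    obtain ⟨m, hm, hme⟩ := avg_ge N (ψ := fun h => B h)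
      (isCharacter_restrict (isCharacter_of_isIrrCharacter hB) _) hθ hθN (by rw [← hfr]; exact hBin)
    refine ⟨m, by rwa [hθdeg] at hm, ?_⟩
    rw [hNcard] at hme
    push_cast at hme
    rw [hme]
    rw [← Finset.add_sum_erase _ _ (Finset.mem_univ (1 : N))]
    congr 1
    have hterm : ∀ n ∈ Finset.univ.erase (1 : N), B ((n : stabilizer G a) : G) = B u₀ := by
      intro n hn
      have hn1 : ((n : stabilizer G a) : G) ≠ 1 := by
        intro hc
        apply (Finset.mem_erase.mp hn).1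
        apply Subtype.ext
        apply Subtype.ext
        exact hc
      obtain ⟨h, -, -, he⟩ := exists_conj hZ hab hF hq hu₀ hu₀1
        (Subgroup.mem_subgroupOf.mp n.2) hn1
      rw [← he]
      exact hBc u₀ h
    rw [Finset.sum_congr rfl hterm, Finset.sum_const, Finset.card_erase_of_mem (Finset.mem_univ _),
      Finset.card_univ, ← Nat.card_eq_fintype_card, hNcard]
    simp
  -- values of `χ`
  haveI : Nonempty Ω := ⟨a⟩
  haveI : IsPretransitive G Ω := ⟨fun x y => by
    by_cases hxy : x = y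
    · exact ⟨1, by rw [one_smul, hxy]⟩
    · obtain ⟨g, hg, -⟩ := two_trans hZ hxy (Ne.symm hxy)
      exact ⟨g, hg⟩⟩
  have hχ1 : χ 1 = ((d : ℂ) + 2) * d₀ := by
    rw [hχdef, indFun_one, index_stabilizer_of_transitive, hΩ, hθone]
    push_cast
    ring
  have hχu : χ u₀ = d₀ := by
    rw [hχdef, indFun_apply]
    have hterm : ∀ x : G, extendByZero (stabilizer G a) θ (x⁻¹ * u₀ * x) =
        if x ∈ stabilizer G a then (d₀ : ℂ) else 0 := by
      intro x
      split_ifs with hx
      · have h1 : x⁻¹ * u₀ * x ∈ F := by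
          have := hF.conj_mem x⁻¹ ((stabilizer G a).inv_mem hx) u₀ hu₀
          simpa using this
        rw [extendByZero_of_mem _ _ (hFle h1)]
        show μ (r _) = _
        rw [hr3 _ h1, hμone]
      · apply extendByZero_of_notMem
        intro hc
        apply hx
        by_contra hne2
        have hne3 : x • a ≠ a := hne2
        apply hF.smul_ne_self hu₀ hu₀1 hne3
        have h4 : (x⁻¹ * u₀ * x) • a = a := hc
        rw [mul_smul, mul_smul, inv_smul_eq_iff] at h4
        exact h4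
    simp_rw [hterm]
    rw [Finset.sum_ite, Finset.sum_const, Finset.sum_const_zero, add_zero, nsmul_eq_mul]
    have hc : (Finset.univ.filter (fun x : G => x ∈ stabilizer G a)).card =
        Nat.card (stabilizer G a) := by
      rw [Nat.card_eq_fintype_card, Fintype.card_subtype]
    rw [hc]
    have hne0 : (Nat.card (stabilizer G a) : ℂ) ≠ 0 := natCard_ne_zero_complex
    field_simp
  have hsum1 : A 1 + A' 1 = ((d : ℂ) + 2) * d₀ := by
    rw [← hχ1, hχe]
    rfl
  have hsumu : A u₀ + A' u₀ = d₀ := by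
    rw [← hχu, hχe]
    rfl
  obtain ⟨m, hm, hme⟩ := key A hA hAin
  obtain ⟨m', hm', hme'⟩ := key A' hA' hA'in
  have hmm : m + m' = 2 * d₀ := by
    have h1 : ((d : ℂ) + 1) * ((m + m' : ℕ) : ℂ) = ((d : ℂ) + 1) * ((2 * d₀ : ℕ) : ℂ) := by
      push_cast
      have : ((d : ℂ) + 1) * ((m : ℂ) + m') = (A 1 + A' 1) + d * (A u₀ + A' u₀) := by
        rw [mul_add, hme, hme']
        ring
      rw [this, hsum1, hsumu]
      ring
    have h2 : ((d : ℂ) + 1) ≠ 0 := by
      exact_mod_cast Nat.succ_ne_zero d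
    exact_mod_cast mul_left_cancel₀ h2 h1
  have hm0 : m = d₀ := by omega
  have hm0' : m' = d₀ := by omega
  rw [hm0] at hme
  rw [hm0'] at hme'
  have hAchar := isCharacter_of_isIrrCharacter hA
  have hA'char := isCharacter_of_isIrrCharacter hA'
  have hA1 : A 1 = (charDegree A : ℕ) :=
    (Cfsg.Agent.Lib.Char.Values.IsCharacter.charDegree_cast hAchar).symm
  have hA'1 : A' 1 = (charDegree A' : ℕ) :=
    (Cfsg.Agent.Lib.Char.Values.IsCharacter.charDegree_cast hA'char).symm
  have hkpos : 0 < charDegree A := Cfsg.Agent.Lib.Char.Codegree.charDegree_pos hA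
  have hk'pos : 0 < charDegree A' := Cfsg.Agent.Lib.Char.Codegree.charDegree_pos hA'
  set k := charDegree A with hk
  set k' := charDegree A' with hk'
  obtain ⟨a₀, ha₀⟩ := exists_int_of_integral (a := A u₀)
    (Cfsg.Agent.Lib.Char.Values.IsCharacter.isIntegral hAchar u₀)
    (x := ((d : ℤ) + 1) * d₀ - k) (y := d) (by exact_mod_cast hdpos.ne') (by
      push_cast
      rw [hme, hA1]
      ring)
  have hA'u : A' u₀ = ((d₀ : ℤ) - a₀ : ℤ) := by
    push_cast
    rw [← ha₀, ← hsumu]
    ring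
  have heq1 : ((d : ℤ) + 1) * d₀ = k + d * a₀ := by
    have : (((((d : ℤ) + 1) * d₀ : ℤ)) : ℂ) = ((k + d * a₀ : ℤ) : ℂ) := by
      push_cast
      rw [hme, hA1, ha₀]
    exact_mod_cast this
  have heq2 : (k : ℤ) + k' = ((d : ℤ) + 2) * d₀ := by
    have : (((k : ℤ) + k' : ℤ) : ℂ) = ((((d : ℤ) + 2) * d₀ : ℤ) : ℂ) := by
      push_cast
      rw [← hA1, ← hA'1, hsum1]
    exact_mod_cast this
  have hkz : (0 : ℤ) < k := by exact_mod_cast hkpos
  have hk'z : (0 : ℤ) < k' := by exact_mod_cast hk'pos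
  have hdz : (d₀ : ℤ) < d := by exact_mod_cast hd₀d
  have hd₀z : (0 : ℤ) < d₀ := by exact_mod_cast hd₀pos
  have hle : a₀ ≤ d₀ := by
    by_contra hc
    have h1 : (d₀ : ℤ) + 1 ≤ a₀ := by omega
    nlinarith
  have hge : 0 ≤ a₀ := by
    by_contra hc
    have h1 : a₀ ≤ -1 := by omega
    nlinarith
  obtain ⟨c', rfl⟩ : ∃ c' : ℕ, a₀ = c' := Int.eq_ofNat_of_zero_le hge
  have hc'le : c' ≤ d₀ := by exact_mod_cast hle
  obtain ⟨c, hc⟩ : ∃ c, d₀ = c + c' := ⟨d₀ - c', by omega⟩
  have hkv : k = d₀ + d * c := by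
    have h1 : (k : ℤ) = ((d₀ + d * c : ℕ) : ℤ) := by
      have h2 : (d₀ : ℤ) = c + c' := by exact_mod_cast hc
      push_cast
      rw [h2] at heq1 ⊢
      linear_combination -heq1
    exact_mod_cast h1
  have hk'v : k' = d₀ + d * c' := by
    have h1 : (k' : ℤ) = ((d₀ + d * c' : ℕ) : ℤ) := by
      have h2 : (d₀ : ℤ) = c + c' := by exact_mod_cast hc
      have h3 : (k : ℤ) = d₀ + d * c := by exact_mod_cast hkv
      push_cast
      rw [h2] at heq2 h3 ⊢
      linear_combination heq2 - h3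
    exact_mod_cast h1
  have hAu : A u₀ = c' := by simpa using ha₀
  have hA'u' : A' u₀ = c := by
    rw [hA'u, hc]
    push_cast
    ring
  -- the kernel
  have hker : ∀ B : G → ℂ, IsIrrCharacter G B → classInner χ B ≠ 0 → B u₀ ≠ B 1 := by
    intro B hB hBin he
    have hall := forall_eq_of_simple hB hu₀1 he
    have hBc := isClassFunction_of_isCharacter (isCharacter_of_isIrrCharacter hB)
    have hfr := frobenius_reciprocity (stabilizer G a) θ B hBc
    apply hBin
    rw [hfr]
    have h1 : (fun h : stabilizer G a => B h) = (B 1) • (fun _ => 1) := by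
      funext h
      simp [hall]
    rw [h1, Cfsg.Agent.Lib.Char.Ortho.classInner_smul_right,
      Cfsg.Agent.Lib.Char.OrthoBasic.classInner_irr_irr hθ Cfsg.Agent.Lib.Char.Burnside2.isIrrCharacter_one,
      if_neg hθ1, mul_zero]
  have hc0 : 0 < c := by
    rcases Nat.eq_zero_or_pos c with h0 | h0
    · exfalso
      apply hker A hA hAin
      rw [hAu, hA1, hkv, h0, hc, h0]
      simp
    · exact h0
  have hc'0 : 0 < c' := by
    rcases Nat.eq_zero_or_pos c' with h0 | h0
    · exfalso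
      apply hker A' hA' hA'in
      rw [hA'u', hA'1, hk'v, h0, hc, h0]
      simp
    · exact h0
  -- integrality
  have hidx : (Subgroup.centralizer ({u₀} : Set G)).index = (d + 2) * d := by
    rw [centralizer_eq hZ hab hF hFcomm hu₀ hu₀1]
    have h1 := Subgroup.card_mul_index F
    have h2 : Nat.card G = (d + 2) * (d + 1) * d := by
      have h4 := card_eq_of_two_trans hZ hab
      rw [hΩ] at h4
      exact h4
    rw [hq, h2] at h1
    have h3 : (d + 1) * F.index = (d + 1) * ((d + 2) * d) := by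
      rw [h1]
      ring
    exact Nat.eq_of_mul_eq_mul_left (Nat.succ_pos d) h3
  have hint : ∀ (B : G → ℂ) (e f : ℕ), IsIrrCharacter G B → B u₀ = e → B 1 = f →
      f ∣ (d + 2) * d * e := by
    rintro B e f ⟨n, ρ, hρ, rfl⟩ he hf
    haveI := hρ
    have h1 := Cfsg.Agent.Lib.Char.Integrality.isIntegral_classSize_mul_character_div_finrank ρ u₀
    rw [hidx, he] at h1
    have hfn : Module.finrank ℂ (Fin n → ℂ) = f := by
      have h2 := Representation.char_one ρ
      rw [hf] at h2
      exact_mod_cast h2.symm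
    rw [hfn] at h1
    have hf0 : f ≠ 0 := by
      rw [← hfn]
      exact Cfsg.Agent.Lib.Char.Integrality.finrank_ne_zero_of_isIrreducible ρ
    refine Cfsg.Agent.Lib.Char.Integrality.natCast_dvd_of_isIntegral_div hf0 ?_
    convert h1 using 2
    push_cast
    ring
  have h1 := hint A c' k hA hAu hA1
  have h2 := hint A' c k' hA' hA'u' hA'1
  rw [hkv, hc] at h1
  rw [hk'v, hc] at h2
  rw [hc] at hodd hdvd hbound
  exact arith hodd hdvd hbound hc0 hc'0 h1 h2

end Cfsg.Agent.Lib.Perm.ZassSharp
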