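import Mathlib

/-!
# Recognising `PGL(2, K)` from its action on the projective line

If a finite group `G` acts faithfully on a set identified with `OnePoint K`, each element acting as
a Möbius map, and `|G| = |PGL(2, K)|`, then `G ≃* PGL(2, K)`.  Also: the matrices of translations,
dilations and the inversion.
-/

set_option autoImplicit false
set_option linter.style.haveILetI false

namespace Cfsg.Agent.Lib.Perm.MoebiusPGL

open Matrix OnePoint
open scoped MatrixGroups

variable {K : Type*} [Field K] [DecidableEq K]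

/-- An element of `GL(2, K)` acting trivially on the line is central. -/
theorem mem_center_of_act (n : GL (Fin 2) K) (h : ∀ x : OnePoint K, n • x = x) :
    n ∈ Subgroup.center (GL (Fin 2) K) := by
  have h10 : n.1 1 0 = 0 := by
    have := h ∞
    rw [OnePoint.smul_infty_eq_ite] at this
    by_contra hc
    simp [hc] at this
  have hdet : n.1 0 0 * n.1 1 1 ≠ 0 := by
    have h1 : (n.1).det ≠ 0 := by
      have := (Matrix.isUnit_iff_isUnit_det _).mp n.isUnit
      exact this.ne_zero
    rw [Matrix.det_fin_two, h10, mul_zero, sub_zero] at h1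
    exact h1
  have h11 : n.1 1 1 ≠ 0 := right_ne_zero_of_mul hdet
  have h00' : n.1 0 0 ≠ 0 := left_ne_zero_of_mul hdet
  have h01 : n.1 0 1 = 0 := by
    have := h ((0 : K) : OnePoint K)
    rw [OnePoint.smul_some_eq_ite] at this
    simp only [h10, zero_mul, zero_add, h11, if_false, mul_zero] at this
    have h2 := OnePoint.coe_injective this
    rw [div_eq_zero_iff] at h2
    exact h2.resolve_right h11
  have h00 : n.1 0 0 = n.1 1 1 := by
    have := h ((1 : K) : OnePoint K)
    rw [OnePoint.smul_some_eq_ite] at this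
    simp only [h10, zero_mul, zero_add, h11, if_false, mul_one, h01, add_zero] at this
    have h2 := OnePoint.coe_injective this
    rwa [div_eq_one_iff_eq h11] at h2
  rw [Matrix.GeneralLinearGroup.center_eq_range_scalar]
  refine ⟨Units.mk0 (n.1 0 0) h00', ?_⟩
  apply Units.ext
  ext i j
  fin_cases i <;> fin_cases j <;> simp [h10, h01, ← h00]

/-- Central elements act trivially on the line. -/
theorem act_of_mem_center (n : GL (Fin 2) K) (h : n ∈ Subgroup.center (GL (Fin 2) K))
    (x : OnePoint K) : n • x = x := by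
  rw [Matrix.GeneralLinearGroup.center_eq_range_scalar] at h
  obtain ⟨u, rfl⟩ := h
  have hu : (u : K) ≠ 0 := u.ne_zero
  cases x with
  | infty =>
    rw [OnePoint.smul_infty_eq_ite]
    simp
  | coe k =>
    rw [OnePoint.smul_some_eq_ite]
    simp [hu]

/-- **Recognition of `PGL(2, K)`.** -/
theorem nonempty_equiv_pgl {G Ω : Type*} [Group G] [Finite G] [MulAction G Ω] [FaithfulSMul G Ω]
    [Finite K] (π : OnePoint K ≃ Ω)
    (hg : ∀ g : G, ∃ m : GL (Fin 2) K, ∀ x, g • π x = π (m • x))
    (hcard : Nat.card G = Nat.card (Matrix.ProjGenLinGroup (Fin 2) K)) :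
    Nonempty (G ≃* Matrix.ProjGenLinGroup (Fin 2) K) := by
  classical
  choose m hm using hg
  have hmul : ∀ g g' : G, Matrix.ProjGenLinGroup.mk (m (g * g')) =
      Matrix.ProjGenLinGroup.mk (m g) * Matrix.ProjGenLinGroup.mk (m g') := by
    intro g g'
    have h1 : ∀ x : OnePoint K, m (g * g') • x = (m g * m g') • x := by
      intro x
      apply π.injective
      rw [← hm, mul_smul, hm, hm, mul_smul]
    have h2 : (m g * m g')⁻¹ * m (g * g') ∈ Subgroup.center (GL (Fin 2) K) := by
      apply mem_center_of_act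
      intro x
      rw [mul_smul, h1, ← mul_smul, inv_mul_cancel, one_smul]
    have h3 := Matrix.ProjGenLinGroup.mk_eq_one.mpr h2
    rw [map_mul, map_inv, map_mul, inv_mul_eq_one] at h3
    rw [← h3]
  let φ : G →* Matrix.ProjGenLinGroup (Fin 2) K :=
    MonoidHom.mk' (fun g => Matrix.ProjGenLinGroup.mk (m g)) hmul
  have hinj : Function.Injective φ := by
    rw [injective_iff_map_eq_one]
    intro g hg
    have h1 : Matrix.ProjGenLinGroup.mk (m g) = 1 := hg
    rw [Matrix.ProjGenLinGroup.mk_eq_one] at h1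
    apply FaithfulSMul.eq_of_smul_eq_smul (α := Ω)
    intro y
    obtain ⟨x, rfl⟩ := π.surjective y
    rw [hm, act_of_mem_center _ h1, one_smul]
  haveI : Fintype K := Fintype.ofFinite K
  haveI : Finite (Matrix.ProjGenLinGroup (Fin 2) K) :=
    Finite.of_surjective _ (Matrix.ProjGenLinGroup.mk_surjective (n := Fin 2) (R := K))
  have hbij : Function.Bijective φ := (Nat.bijective_iff_injective_and_card φ).mpr ⟨hinj, hcard⟩
  exact ⟨MulEquiv.ofBijective φ hbij⟩

/-- The translation matrix. -/
noncomputable def transM (a : K) : GL (Fin 2) K :=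
  Matrix.GeneralLinearGroup.mkOfDetNeZero !![1, a; 0, 1] (by simp [Matrix.det_fin_two])

/-- The dilation matrix. -/
noncomputable def diagM (c : K) (hc : c ≠ 0) : GL (Fin 2) K :=
  Matrix.GeneralLinearGroup.mkOfDetNeZero !![c, 0; 0, 1] (by simp [Matrix.det_fin_two, hc])

/-- The inversion matrix. -/
noncomputable def swapM : GL (Fin 2) K :=
  Matrix.GeneralLinearGroup.mkOfDetNeZero !![0, 1; 1, 0] (by simp [Matrix.det_fin_two])

theorem transM_infty (a : K) : transM a • (∞ : OnePoint K) = ∞ := by
  rw [OnePoint.smul_infty_eq_ite]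
  simp [transM, Matrix.GeneralLinearGroup.mkOfDetNeZero]

theorem transM_coe (a k : K) : transM a • (k : OnePoint K) = ((a + k : K) : OnePoint K) := by
  rw [OnePoint.smul_some_eq_ite]
  simp [transM, Matrix.GeneralLinearGroup.mkOfDetNeZero, add_comm]

theorem diagM_infty (c : K) (hc : c ≠ 0) : diagM c hc • (∞ : OnePoint K) = ∞ := by
  rw [OnePoint.smul_infty_eq_ite]
  simp [diagM, Matrix.GeneralLinearGroup.mkOfDetNeZero]

theorem diagM_coe (c : K) (hc : c ≠ 0) (k : K) :
    diagM c hc • (k : OnePoint K) = ((c * k : K) : OnePoint K) := by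
  rw [OnePoint.smul_some_eq_ite]
  simp [diagM, Matrix.GeneralLinearGroup.mkOfDetNeZero]

theorem swapM_infty : (swapM : GL (Fin 2) K) • (∞ : OnePoint K) = ((0 : K) : OnePoint K) := by
  rw [OnePoint.smul_infty_eq_ite]
  simp [swapM, Matrix.GeneralLinearGroup.mkOfDetNeZero]

theorem swapM_zero : (swapM : GL (Fin 2) K) • ((0 : K) : OnePoint K) = ∞ := by
  rw [OnePoint.smul_some_eq_ite]
  simp [swapM, Matrix.GeneralLinearGroup.mkOfDetNeZero]

theorem swapM_coe {k : K} (hk : k ≠ 0) :
    (swapM : GL (Fin 2) K) • (k : OnePoint K) = ((k⁻¹ : K) : OnePoint K) := by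
  rw [OnePoint.smul_some_eq_ite]
  simp [swapM, Matrix.GeneralLinearGroup.mkOfDetNeZero, hk]

end Cfsg.Agent.Lib.Perm.MoebiusPGL
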