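import Mathlib

/-!
# A field from an irreducible commuting set of endomorphisms

A commuting set `T` of endomorphisms of a finite abelian group `A`, with no proper non-trivial
invariant subgroup: the subring generated by `T` is a field `K`, and `A` is a one-dimensional
`K`-vector space.
-/

set_option autoImplicit false
set_option linter.style.haveILetI false

universe u

namespace Cfsg.Agent.Lib.Perm.ZassField

/-- **The field of an irreducible commuting set of endomorphisms.** -/
theorem exists_field {A : Type u} [AddCommGroup A] [Finite A] (T : Set (AddMonoid.End A))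
    (hcomm : ∀ s ∈ T, ∀ t ∈ T, s * t = t * s)
    (hirr : ∀ B : AddSubgroup A, (∀ t ∈ T, ∀ x ∈ B, t x ∈ B) → B = ⊥ ∨ B = ⊤) (e : A) (he : e ≠ 0) :
    ∃ (K : Type u) (_ : Field K) (_ : Fintype K) (θ : K ≃+ A) (ι : AddMonoid.End A → K),
      θ 1 = e ∧ ∀ t ∈ T, ∀ r : K, θ (ι t * r) = t (θ r) := by
  classical
  haveI : Finite (AddMonoid.End A) :=
    Finite.of_injective (fun f : A →+ A => (f : A → A)) DFunLike.coe_injective
  let R : Subring (AddMonoid.End A) := Subring.closure T
  letI iC : CommRing R := Subring.closureCommRingOfComm hcomm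
  haveI : Fintype R := Fintype.ofFinite R
  have htR : ∀ t ∈ T, t ∈ R := fun t ht => Subring.subset_closure ht
  have hrt : ∀ r : R, ∀ t ∈ T, (r : AddMonoid.End A) * t = t * r := by
    intro r t ht
    have := mul_comm r (⟨t, htR t ht⟩ : R)
    exact congrArg Subtype.val this
  -- invariant kernels
  have hker : ∀ r : R, r ≠ 0 → ∀ x : A, (r : AddMonoid.End A) x = 0 → x = 0 := by
    intro r hr x hx
    have hinv : ∀ t ∈ T, ∀ y ∈ (r : A →+ A).ker, t y ∈ (r : A →+ A).ker := by
      intro t ht y hy
      rw [AddMonoidHom.mem_ker] at hy ⊢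
      have h1 : ((r : AddMonoid.End A) * t) y = (t * r) y := by rw [hrt r t ht]
      have h2 : (r : A →+ A) (t y) = ((r : AddMonoid.End A) * t) y := rfl
      rw [h2, h1]
      change t ((r : A →+ A) y) = 0
      rw [hy, map_zero]
    rcases hirr _ hinv with h | h
    · have : x ∈ (r : A →+ A).ker := hx
      rw [h] at this
      simpa using this
    · exfalso
      apply hr
      apply Subtype.ext
      ext y
      have : y ∈ (r : A →+ A).ker := by rw [h]; exact AddSubgroup.mem_top y
      exact this
  haveI : IsDomain R := by
    haveI : Nontrivial R := by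
      refine ⟨⟨0, 1, fun h => he ?_⟩⟩
      have h1 : ((0 : R) : AddMonoid.End A) e = ((1 : R) : AddMonoid.End A) e := by rw [h]
      simpa using h1.symm
    have : NoZeroDivisors R := by
      refine ⟨fun {r s} hrs => ?_⟩
      by_cases hr : r = 0
      · exact Or.inl hr
      · right
        apply Subtype.ext
        ext y
        apply hker r hr
        have h1 : ((r * s : R) : AddMonoid.End A) y = 0 := by rw [hrs]; rfl
        exact h1
    exact NoZeroDivisors.to_isDomain R
  letI iF : Field R := Fintype.fieldOfDomain R
  -- evaluation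
  let ev : R →+ A :=
    { toFun := fun r => (r : AddMonoid.End A) e
      map_zero' := rfl
      map_add' := fun _ _ => rfl }
  have hevinj : Function.Injective ev := by
    rw [injective_iff_map_eq_zero]
    intro r hr
    by_contra hne
    exact he (hker r hne e hr)
  have hevsurj : Function.Surjective ev := by
    have hinv : ∀ t ∈ T, ∀ y ∈ ev.range, t y ∈ ev.range := by
      rintro t ht y ⟨r, rfl⟩
      exact ⟨⟨t, htR t ht⟩ * r, rfl⟩
    rcases hirr _ hinv with h | h
    · exfalso
      have : e ∈ ev.range := ⟨1, rfl⟩
      rw [h] at this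
      exact he (by simpa using this)
    · intro y
      have : y ∈ ev.range := by rw [h]; exact AddSubgroup.mem_top y
      exact this
  let θ : R ≃+ A := AddEquiv.ofBijective ev ⟨hevinj, hevsurj⟩
  let ι : AddMonoid.End A → R := fun t => if h : t ∈ T then ⟨t, htR t h⟩ else 0
  refine ⟨R, iF, inferInstance, θ, ι, rfl, ?_⟩
  intro t ht r
  have h1 : ι t = ⟨t, htR t ht⟩ := dif_pos ht
  rw [h1]
  rfl

end Cfsg.Agent.Lib.Perm.ZassField
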