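import Cfsg.Agent.S1224
import Mathlib

/-!
Toolkit for strongly embedded subgroups, acting on the cosets.
-/

set_option autoImplicit false
open Cfsg

namespace Cfsg.Agent.Lib.Perm.StrongEmb

open Cfsg.Agent.S1224

variable {G : Type*} [Group G]

theorem smul_mk_one {H : Subgroup G} (g : G) : g • ((1 : G) : G ⧸ H) = (g : G ⧸ H) := by
  rw [MulAction.Quotient.smul_coe]; simp

theorem mk_eq_one_iff {H : Subgroup G} (g : G) : ((g : G) : G ⧸ H) = ((1 : G) : G ⧸ H) ↔ g ∈ H := by
  rw [QuotientGroup.eq]; simp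

theorem smul_mk_one_eq_iff {H : Subgroup G} (g : G) : g • ((1 : G) : G ⧸ H) = ((1 : G) : G ⧸ H) ↔ g ∈ H := by
  rw [smul_mk_one, mk_eq_one_iff]

variable [Finite G]

/-- An involution on a set of odd size has a fixed point. -/
theorem exists_fixed_of_odd (H : Subgroup G) (hodd : Odd H.index) (a : G) (ha : orderOf a = 2) :
    ∃ w : G ⧸ H, a • w = w := by
  have hP : IsPGroup 2 (Subgroup.zpowers a) := by
    rw [IsPGroup.iff_card]
    refine ⟨1, ?_⟩
    rw [Nat.card_zpowers, ha, pow_one]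
  have h := hP.card_modEq_card_fixedPoints (G ⧸ H)
  by_contra hne
  push Not at hne
  have hemp : IsEmpty (MulAction.fixedPoints (Subgroup.zpowers a) (G ⧸ H)) := by
    refine ⟨fun w => hne w.1 ?_⟩
    exact w.2 ⟨a, Subgroup.mem_zpowers a⟩
  have h0 : Nat.card (MulAction.fixedPoints (Subgroup.zpowers a) (G ⧸ H)) = 0 := Nat.card_of_isEmpty
  rw [h0] at h
  have h2 : Nat.card (G ⧸ H) % 2 = 0 := h
  have h3 : H.index % 2 = 1 := Nat.odd_iff.mp hodd
  rw [Subgroup.index] at h3
  omega

/-- The index of a strongly embedded subgroup is odd. -/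
theorem index_odd (H : Subgroup G) (hH : Cfsg.IsStronglyEmbedded H) : Odd H.index := by
  classical
  have h2 : 2 ∣ Nat.card H := even_iff_two_dvd.mp hH.2.1
  obtain ⟨t, ht⟩ := exists_prime_orderOf_dvd_card' (G := H) 2 h2
  have ht' : orderOf (t : G) = 2 := by rw [Subgroup.orderOf_coe]; exact ht
  have hP : IsPGroup 2 (Subgroup.zpowers (t : G)) := by
    rw [IsPGroup.iff_card]
    refine ⟨1, ?_⟩
    rw [Nat.card_zpowers, ht', pow_one]
  have h := hP.card_modEq_card_fixedPoints (G ⧸ H)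
  have hone : Nat.card (MulAction.fixedPoints (Subgroup.zpowers (t : G)) (G ⧸ H)) = 1 := by
    rw [Nat.card_eq_one_iff_unique]
    refine ⟨⟨?_⟩, ⟨⟨((1 : G) : G ⧸ H), ?_⟩⟩⟩
    · rintro ⟨a, ha⟩ ⟨b, hb⟩
      apply Subtype.ext
      exact fix_unique H hH (t : G) ht' a b (ha ⟨t, Subgroup.mem_zpowers _⟩) (hb ⟨t, Subgroup.mem_zpowers _⟩)
    · rintro ⟨y, hy⟩
      obtain ⟨n, rfl⟩ := Subgroup.mem_zpowers_iff.mp hy
      change ((t : G) ^ n) • ((1 : G) : G ⧸ H) = _
      rw [smul_mk_one_eq_iff]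
      exact H.zpow_mem t.2 n
  rw [hone] at h
  have h2' : Nat.card (G ⧸ H) % 2 = 1 % 2 := h
  rw [Nat.odd_iff, Subgroup.index]
  omega

/-- Main Latin square fact: the swap exists. -/
theorem exists_swap (H : Subgroup G) (hH : Cfsg.IsStronglyEmbedded H) (x y : G ⧸ H) (hxy : x ≠ y)
    (i j : G) (hi : orderOf i = 2) (hix : i • x = x) (hj : orderOf j = 2) (hjy : j • y = y) :
    ∃ k : G, orderOf k = 2 ∧ k • x = y ∧ k * i * k⁻¹ = j := by
  classical
  have hfix : ∀ (z : G), orderOf z = 2 → ∀ u v : G ⧸ H, z • u = u → z • v = v → u = v :=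
    fun z hz u v hu hv => fix_unique H hH z hz u v hu hv
  have hodd2 : ¬ Even (orderOf (i * j)) := by
    intro hev
    obtain ⟨z, hz, hzi, hzk⟩ := exists_central_invol i j (mul_self_of_order hi)
      (mul_self_of_order hj) hev
    have h1 : z • x = x := by
      apply hfix i hi _ _ _ hix
      rw [smul_smul, ← hzi.eq, mul_smul, hix]
    have h2 : z • y = y := by
      apply hfix j hj _ _ _ hjy
      rw [smul_smul, ← hzk.eq, mul_smul, hjy]
    exact hxy (hfix z hz x y h1 h2)
  obtain ⟨m, hm1⟩ := Nat.not_even_iff_odd.mp hodd2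
  set a := i * j with ha
  set b := a ^ (m + 1) with hb
  have hb2 : b * b = a := by
    rw [hb, ← pow_add]
    have : m + 1 + (m + 1) = 2 * m + 1 + 1 := by omega
    rw [this, ← hm1, pow_succ, pow_orderOf_eq_one, one_mul]
  have hi2 : i * i = 1 := mul_self_of_order hi
  have hj2 : j * j = 1 := mul_self_of_order hj
  have hai : a⁻¹ = j * i := by
    rw [inv_eq_iff_mul_eq_one, ha]
    calc i * j * (j * i) = i * (j * j) * i := by group
      _ = 1 := by rw [hj2, mul_one, hi2]
  have hs1 : SemiconjBy i a a⁻¹ := by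
    unfold SemiconjBy
    rw [hai, ha]
    calc i * (i * j) = (i * i) * j := by group
      _ = j := by rw [hi2, one_mul]
      _ = j * (i * i) := by rw [hi2, mul_one]
      _ = j * i * i := by group
  have hs2 : i * b = b⁻¹ * i := by
    have := (hs1.pow_right (m + 1)).eq
    rw [inv_pow] at this
    exact this
  have hkk : (i * b) * (i * b) = 1 := by
    calc (i * b) * (i * b) = (i * b) * i * b := by group
      _ = (b⁻¹ * i) * i * b := by rw [hs2]
      _ = b⁻¹ * (i * i) * b := by group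
      _ = 1 := by rw [hi2]; group
  have hk1 : i * b ≠ 1 := by
    intro h1
    have hbi : b = i := by
      have h3 : i⁻¹ = b := inv_eq_of_mul_eq_one_right h1
      rw [← h3, inv_of_order hi]
    have ha1 : a = 1 := by rw [← hb2, hbi, hi2]
    have hji : j = i := by
      have h4 : i * j = 1 := ha1
      have h5 : i⁻¹ = j := inv_eq_of_mul_eq_one_right h4
      rw [← h5, inv_of_order hi]
    rw [hji] at hjy
    exact hxy (hfix i hi x y hix hjy)
  have hk2 : orderOf (i * b) = 2 := orderOf_eq_prime (by rw [pow_two]; exact hkk) hk1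
  have hkik : (i * b) * i * (i * b)⁻¹ = j := by
    rw [inv_of_order hk2]
    calc (i * b) * i * (i * b) = i * b * (i * i) * b := by group
      _ = i * (b * b) := by rw [hi2]; group
      _ = i * a := by rw [hb2]
      _ = (i * i) * j := by rw [ha]; group
      _ = j := by rw [hi2, one_mul]
  have hkx : (i * b) • x = y := by
    apply hfix j hj _ _ _ hjy
    rw [← hkik, smul_smul]
    have : (i * b) * i * (i * b)⁻¹ * (i * b) = (i * b) * i := by group
    rw [this, mul_smul, hix]
  exact ⟨i * b, hk2, hkx, hkik⟩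

/-- Membership in `H ⊓ uHu⁻¹` by fixed points. -/
theorem mem_inter_iff (H : Subgroup G) (u d : G) :
    d ∈ H ⊓ H.map (MulAut.conj u).toMonoidHom ↔
      d • ((1 : G) : G ⧸ H) = ((1 : G) : G ⧸ H) ∧ d • ((u : G) : G ⧸ H) = ((u : G) : G ⧸ H) := by
  rw [Subgroup.mem_inf, smul_mk_one_eq_iff]
  refine and_congr_right fun _ => ?_
  rw [MulAction.Quotient.smul_coe, QuotientGroup.eq]
  constructor
  · rintro ⟨c, hc, rfl⟩
    have : (((MulAut.conj u).toMonoidHom c) • u)⁻¹ * u = c⁻¹ := by
      simp [MulAut.conj_apply, smul_eq_mul, mul_assoc]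
    rw [this]
    exact H.inv_mem hc
  · intro h
    refine ⟨u⁻¹ * d * u, ?_, ?_⟩
    · have h3 := H.inv_mem h
      have h4 : ((d • u)⁻¹ * u)⁻¹ = u⁻¹ * d * u := by
        simp [smul_eq_mul, mul_assoc]
      rwa [h4] at h3
    · simp [MulAut.conj_apply, mul_assoc]

end Cfsg.Agent.Lib.Perm.StrongEmb
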