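import Mathlib
import Cfsg.Agent.Lib.Perm.Basic

/-!
# Transitive groups of degree `p + 1` and order `(p + 1) p d`, `d < p`

The first part of the classical analysis: a subgroup of order `p` fixing a unique point, which is
normal in the point stabilizer; the group is doubly transitive, and no nontrivial element fixes
three points.
-/

set_option autoImplicit false
set_option linter.unusedSectionVars false
set_option linter.style.haveILetI false

namespace Cfsg.Agent.Lib.Perm.PrimeDeg

open MulAction Cfsg.Agent.Lib.Perm.Basic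

variable {G α : Type*} [Group G] [MulAction G α]

/-- The orbit-stabilizer theorem with `Nat.card`. -/
theorem natCard_orbit_mul (H : Type*) [Group H] {β : Type*} [MulAction H β] (b : β) :
    Nat.card (orbit H b) * Nat.card (stabilizer H b) = Nat.card H := by
  rw [← Nat.card_prod]
  exact Nat.card_congr (orbitProdStabilizerEquivGroup H b)

/-- A subgroup of order `p` in a group of order `p d`, `d < p`, is normal. -/
theorem normal_of_card_prime_mul {H : Type*} [Group H] [Finite H] {p d : ℕ} (hp : p.Prime)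
    (hH : Nat.card H = p * d) (hd : d < p) (Z : Subgroup H) (hZ : Nat.card Z = p) : Z.Normal := by
  haveI : Fact p.Prime := ⟨hp⟩
  have hd0 : 0 < d := by
    rcases Nat.eq_zero_or_pos d with h | h
    · subst h
      rw [mul_zero] at hH
      exact absurd hH Nat.card_pos.ne'
    · exact h
  have hnd : ¬ p ∣ d := fun h => absurd (Nat.le_of_dvd hd0 h) (by omega)
  have hfac : (Nat.card H).factorization p = 1 := by
    rw [hH, Nat.factorization_mul hp.ne_zero hd0.ne', Finsupp.add_apply, hp.factorization_self,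
      Nat.factorization_eq_zero_of_not_dvd hnd]
  let P : Sylow p H := Sylow.ofCard Z (by rw [hZ, hfac, pow_one])
  have hPZ : (P : Subgroup H) = Z := rfl
  have hidx : (P : Subgroup H).index = d := by
    have h1 := Subgroup.card_mul_index (P : Subgroup H)
    rw [hPZ, hZ, hH] at h1
    rw [hPZ]
    exact Nat.eq_of_mul_eq_mul_left hp.pos h1
  have h1 : Nat.card (Sylow p H) ∣ d := hidx ▸ Sylow.card_dvd_index P
  have h2 : Nat.card (Sylow p H) ≡ 1 [MOD p] := card_sylow_modEq_one p H
  have h3 : Nat.card (Sylow p H) ≤ d := Nat.le_of_dvd hd0 h1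
  have h4 : Nat.card (Sylow p H) = 1 := by
    have h5 : Nat.card (Sylow p H) % p = 1 % p := h2
    rw [Nat.mod_eq_of_lt (by omega : Nat.card (Sylow p H) < p),
      Nat.mod_eq_of_lt hp.one_lt] at h5
    exact h5
  haveI : Subsingleton (Sylow p H) := (Nat.card_eq_one_iff_unique.mp h4).1
  have := Sylow.normal_of_subsingleton P
  rwa [hPZ] at this

/-- A subgroup of order `p` of a group acting faithfully on `p + 1` points has a unique fixed point,
and is regular on the remaining points. -/
theorem exists_base [Finite G] [Finite α] [FaithfulSMul G α] {p : ℕ} (hp : p.Prime)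
    (hα : Nat.card α = p + 1) (x : G) (hx : orderOf x = p) :
    ∃ a : α, x • a = a ∧ ∀ y z : α, y ≠ a → z ≠ a → ∃! u : Subgroup.zpowers x, (u : G) • y = z := by
  classical
  haveI : Fact p.Prime := ⟨hp⟩
  let Z := Subgroup.zpowers x
  have hZcard : Nat.card Z = p := by
    rw [Nat.card_zpowers, hx]
  have hZp : IsPGroup p Z := IsPGroup.of_card (n := 1) (by rw [hZcard, pow_one])
  have hmod := hZp.card_modEq_card_fixedPoints α
  rw [hα] at hmod
  have hfix : Nat.card (fixedPoints Z α) ≠ 0 := by
    intro h0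
    rw [h0] at hmod
    have h1 : p ∣ p + 1 := (Nat.modEq_zero_iff_dvd).mp hmod
    have h2 : p ∣ 1 := (Nat.dvd_add_right (dvd_refl p)).mp h1
    exact hp.one_lt.ne' (Nat.dvd_one.mp h2)
  haveI : Finite (fixedPoints Z α) := inferInstance
  have hne : Nonempty (fixedPoints Z α) := by
    rcases isEmpty_or_nonempty (fixedPoints Z α) with h | h
    · rw [Nat.card_of_isEmpty] at hfix
      exact absurd rfl hfix
    · exact h
  obtain ⟨⟨a, haf⟩⟩ := hne
  have hxa : x • a = a := haf ⟨x, Subgroup.mem_zpowers x⟩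
  have hx1 : x ≠ 1 := by
    intro h
    rw [h, orderOf_one] at hx
    exact hp.one_lt.ne hx
  -- a moved point
  obtain ⟨b, hb⟩ : ∃ b : α, x • b ≠ b := by
    by_contra hcon
    push Not at hcon
    apply hx1
    apply FaithfulSMul.eq_of_smul_eq_smul (α := α)
    intro c
    rw [hcon c, one_smul]
  have hba : b ≠ a := by
    rintro rfl
    exact hb hxa
  have horbb : orbit Z b = ({a} : Set α)ᶜ := by
    have h1 := natCard_orbit_mul Z b
    have h2 : Nat.card (stabilizer Z b) = 1 := by
      have h3 : Nat.card (stabilizer Z b) ∣ p := hZcard ▸ Subgroup.card_subgroup_dvd_card _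
      rcases (Nat.dvd_prime hp).mp h3 with h4 | h4
      · exact h4
      · exfalso
        have h5 : stabilizer Z b = ⊤ := by
          apply Subgroup.eq_top_of_card_eq
          rw [h4, hZcard]
        have h6 : (⟨x, Subgroup.mem_zpowers x⟩ : Z) ∈ stabilizer Z b := by
          rw [h5]; trivial
        exact hb h6
    rw [h2, mul_one, hZcard] at h1
    have hsub : orbit Z b ⊆ ({a} : Set α)ᶜ := by
      rintro _ ⟨u, rfl⟩ hu
      have hu' : u • b = a := hu
      have hfix' : u⁻¹ • a = a := haf u⁻¹
      apply hba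
      have h7 : b = u⁻¹ • a := by rw [← hu', inv_smul_smul]
      exact h7.trans hfix'
    haveI : Fintype α := Fintype.ofFinite α
    refine Set.eq_of_subset_of_ncard_le hsub ?_ (Set.toFinite _)
    rw [← Nat.card_coe_set_eq (orbit Z b), h1, Set.ncard_compl, Set.ncard_singleton, hα]
    omega
  have hmem : ∀ y : α, y ≠ a → y ∈ orbit Z b := by
    intro y hy
    rw [horbb]
    exact hy
  have horby : ∀ y : α, y ≠ a → orbit Z y = orbit Z b := fun y hy =>
    orbit_eq_iff.mpr (hmem y hy)
  refine ⟨a, hxa, fun y z hy hz => ?_⟩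
  have hz' : z ∈ orbit Z y := by
    rw [horby y hy]
    exact hmem z hz
  obtain ⟨u, hu⟩ := hz'
  refine ⟨u, hu, fun w hw => ?_⟩
  -- uniqueness from the orbit-stabilizer theorem
  have h1 := natCard_orbit_mul Z y
  have h2 : Nat.card (orbit Z y) = p := by
    rw [horby y hy, horbb, Nat.card_coe_set_eq, Set.ncard_compl, Set.ncard_singleton, hα]
    omega
  rw [h2, hZcard] at h1
  have h3 : Nat.card (stabilizer Z y) = 1 := Nat.eq_of_mul_eq_mul_left hp.pos (by rw [h1, mul_one])
  have h4 : Subsingleton (stabilizer Z y) := (Nat.card_eq_one_iff_unique.mp h3).1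
  have h5 : u⁻¹ * w ∈ stabilizer Z y := by
    rw [mem_stabilizer_iff, mul_smul]
    have hw' : w • y = z := hw
    have hu' : u • y = z := hu
    rw [hw', ← hu', inv_smul_smul]
  have h6 : (⟨u⁻¹ * w, h5⟩ : stabilizer Z y) = 1 := Subsingleton.elim _ _
  have h7 : u⁻¹ * w = 1 := congrArg Subtype.val h6
  exact (inv_mul_eq_one.mp h7).symm

/-- The data of the analysis. -/
structure Setup (G α : Type*) [Group G] [MulAction G α] (p d : ℕ) (x : G) (a : α) : Prop where
  hp : p.Prime
  hα : Nat.card α = p + 1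
  hG : Nat.card G = (p + 1) * p * d
  hd : d < p
  hx : orderOf x = p
  hxa : x • a = a
  hreg : ∀ y z : α, y ≠ a → z ≠ a → ∃! u : Subgroup.zpowers x, (u : G) • y = z

/-- Existence of the setup. -/
theorem exists_setup [Finite G] [Finite α] [FaithfulSMul G α] {p d : ℕ} (hp : p.Prime)
    (hα : Nat.card α = p + 1) (hG : Nat.card G = (p + 1) * p * d) (hd : d < p) :
    ∃ (x : G) (a : α), Setup G α p d x a := by
  have hpG : p ∣ Nat.card G := by
    rw [hG]
    exact Dvd.dvd.mul_right (Dvd.intro_left _ rfl) _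
  haveI : Fact p.Prime := ⟨hp⟩
  obtain ⟨x, hx⟩ := exists_prime_orderOf_dvd_card' p hpG
  obtain ⟨a, hxa, hreg⟩ := exists_base hp hα x hx
  exact ⟨x, a, hp, hα, hG, hd, hx, hxa, hreg⟩

namespace Setup

variable {p d : ℕ} {x : G} {a : α}

theorem d_pos [Finite G] (S : Setup G α p d x a) : 0 < d := by
  rcases Nat.eq_zero_or_pos d with h | h
  · have := S.hG
    rw [h, mul_zero] at this
    exact absurd this Nat.card_pos.ne'
  · exact h

theorem z_fix (S : Setup G α p d x a) (u : Subgroup.zpowers x) : (u : G) • a = a := by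
  obtain ⟨k, hk⟩ := Subgroup.mem_zpowers_iff.mp u.2
  rw [← hk]
  exact (mem_stabilizer_iff (G := G)).mp
    (Subgroup.zpow_mem _ (mem_stabilizer_iff.mpr S.hxa) k)

theorem exists_stab (S : Setup G α p d x a) {y z : α} (hy : y ≠ a) (hz : z ≠ a) :
    ∃ g ∈ stabilizer G a, g • y = z := by
  obtain ⟨u, hu, -⟩ := S.hreg y z hy hz
  exact ⟨u, mem_stabilizer_iff.mpr (S.z_fix u), hu⟩

theorem twoTrans [IsPretransitive G α] (S : Setup G α p d x a) :
    IsMultiplyPretransitive G α 2 :=
  isTwoPretransitive_of_stabilizer a fun _ _ hb hc => S.exists_stab hb hc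

theorem card_stab [Finite G] [IsPretransitive G α] (S : Setup G α p d x a) :
    Nat.card (stabilizer G a) = p * d := by
  have h1 := natCard_orbit_mul G a
  have h2 : orbit G a = Set.univ := orbit_eq_univ G a
  have h3 : Nat.card (orbit G a) = p + 1 := by
    rw [h2, Nat.card_coe_set_eq, Set.ncard_univ, S.hα]
  rw [h3, S.hG, mul_assoc] at h1
  exact Nat.eq_of_mul_eq_mul_left (Nat.succ_pos p) h1

/-- `Z` has order `p`. -/
theorem card_Z (S : Setup G α p d x a) : Nat.card (Subgroup.zpowers x) = p := by
  rw [Nat.card_zpowers, S.hx]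

theorem Z_le (S : Setup G α p d x a) : Subgroup.zpowers x ≤ stabilizer G a := by
  intro u hu
  exact mem_stabilizer_iff.mpr (S.z_fix ⟨u, hu⟩)

/-- `Z` is normal in the point stabilizer. -/
theorem normal [Finite G] [IsPretransitive G α] (S : Setup G α p d x a) :
    ((Subgroup.zpowers x).subgroupOf (stabilizer G a)).Normal := by
  apply normal_of_card_prime_mul S.hp S.card_stab S.hd
  have h := Subgroup.subgroupOfEquivOfLe S.Z_le
  rw [Nat.card_congr h.toEquiv, S.card_Z]

/-- Conjugation by the stabilizer preserves `Z`. -/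
theorem conj_mem [Finite G] [IsPretransitive G α] (S : Setup G α p d x a) {m u : G}
    (hm : m • a = a) (hu : u ∈ Subgroup.zpowers x) : m * u * m⁻¹ ∈ Subgroup.zpowers x := by
  have hn := S.normal
  have hm' : m ∈ stabilizer G a := mem_stabilizer_iff.mpr hm
  have hu' : (⟨u, S.Z_le hu⟩ : stabilizer G a) ∈ (Subgroup.zpowers x).subgroupOf (stabilizer G a) :=
    Subgroup.mem_subgroupOf.mpr hu
  have := hn.conj_mem _ hu' ⟨m, hm'⟩
  exact Subgroup.mem_subgroupOf.mp this

/-- An element of the point stabilizer fixing two further points is trivial. -/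
theorem eq_one_of_fix_aux [Finite G] [IsPretransitive G α] [FaithfulSMul G α]
    (S : Setup G α p d x a) {g : G} (hg : g • a = a) {y z : α} (hy : y ≠ a) (hz : z ≠ a)
    (hyz : y ≠ z) (hgy : g • y = y) (hgz : g • z = z) : g = 1 := by
  obtain ⟨u, hu, huu⟩ := S.hreg y z hy hz
  -- the conjugate of `u` also takes `y` to `z`
  have hc : g * (u : G) * g⁻¹ ∈ Subgroup.zpowers x := S.conj_mem hg u.2
  have hc2 : (⟨g * (u : G) * g⁻¹, hc⟩ : Subgroup.zpowers x) = u := by
    apply huu
    have hgy' : g⁻¹ • y = y := by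
      conv_lhs => rw [← hgy]
      rw [inv_smul_smul]
    change (g * (u : G) * g⁻¹) • y = z
    rw [mul_smul, mul_smul, hgy', hu, hgz]
  have hcomm : g * (u : G) * g⁻¹ = u := congrArg Subtype.val hc2
  have hu1 : (u : G) ≠ 1 := by
    intro h
    rw [h, one_smul] at hu
    exact hyz hu
  -- `g` commutes with `Z` and fixes `y`
  have hgen : Subgroup.zpowers (u : G) = Subgroup.zpowers x := by
    apply Subgroup.eq_of_le_of_card_ge
    · exact Subgroup.zpowers_le.mpr u.2
    · rw [S.card_Z]
      have h1 : Nat.card (Subgroup.zpowers (u : G)) ∣ p := by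
        rw [← S.card_Z]
        exact Subgroup.card_dvd_of_le (Subgroup.zpowers_le.mpr u.2)
      rcases (Nat.dvd_prime S.hp).mp h1 with h2 | h2
      · exfalso
        rw [Subgroup.card_eq_one, Subgroup.zpowers_eq_bot] at h2
        exact hu1 h2
      · exact h2.ge
  have hcomm' : ∀ v ∈ Subgroup.zpowers x, g * v = v * g := by
    intro v hv
    rw [← hgen] at hv
    obtain ⟨k, rfl⟩ := Subgroup.mem_zpowers_iff.mp hv
    have h1 : Commute g (u : G) := by
      change g * u = u * g
      calc g * (u : G) = g * u * g⁻¹ * g := by group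
        _ = u * g := by rw [hcomm]
    exact h1.zpow_right k
  apply FaithfulSMul.eq_of_smul_eq_smul (α := α)
  intro w
  rw [one_smul]
  by_cases hw : w = a
  · rw [hw, hg]
  · obtain ⟨v, hv, -⟩ := S.hreg y w hy hw
    rw [← hv, ← mul_smul, hcomm' v v.2, mul_smul, hgy]

/-- No nontrivial element fixes three points. -/
theorem eq_one_of_fix3 [Finite G] [IsPretransitive G α] [FaithfulSMul G α]
    (S : Setup G α p d x a) {g : G} {b c e : α} (hbc : b ≠ c) (hce : c ≠ e) (hbe : b ≠ e)
    (h1 : g • b = b) (h2 : g • c = c) (h3 : g • e = e) : g = 1 := by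
  obtain ⟨t, ht⟩ := exists_smul_eq G b a
  have hfx : ∀ w : α, g • w = w → (t * g * t⁻¹) • (t • w) = t • w := by
    intro w hw
    rw [mul_smul, mul_smul, inv_smul_smul, hw]
  have hne : ∀ {u v : α}, u ≠ v → t • u ≠ t • v := fun huv h => huv (MulAction.injective t h)
  have h4 := S.eq_one_of_fix_aux (g := t * g * t⁻¹) (y := t • c) (z := t • e)
    (by rw [← ht]; exact hfx b h1)
    (by rw [← ht]; exact hne hbc.symm) (by rw [← ht]; exact hne hbe.symm) (hne hce)
    (hfx c h2) (hfx e h3)
  have h5 : g = t⁻¹ * (t * g * t⁻¹) * t := by group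
  rw [h5, h4]
  group

theorem finite_α (S : Setup G α p d x a) : Finite α := by
  have h1 : Nat.card α ≠ 0 := by rw [S.hα]; omega
  exact (Nat.card_ne_zero.mp h1).2

/-- Two-point stabilizers have order `d`. -/
theorem card_two [Finite G] [IsPretransitive G α] (S : Setup G α p d x a) {b : α} (hb : b ≠ a) :
    Nat.card ↥(stabilizer G a ⊓ stabilizer G b) = d := by
  classical
  haveI := S.finite_α
  let H := stabilizer G a
  have h1 := natCard_orbit_mul H b
  have horb : orbit H b = ({a} : Set α)ᶜ := by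
    ext z
    constructor
    · rintro ⟨u, rfl⟩ hu
      have hu' : (u : G) • b = a := hu
      have h2 : (u : G) • a = a := u.2
      exact hb (MulAction.injective (u : G) (hu'.trans h2.symm))
    · intro hz
      obtain ⟨g, hg, hgb⟩ := S.exists_stab hb (show z ≠ a from hz)
      exact ⟨⟨g, hg⟩, hgb⟩
  have h3 : Nat.card (orbit H b) = p := by
    rw [horb, Nat.card_coe_set_eq, Set.ncard_compl, Set.ncard_singleton, S.hα]
    omega
  rw [h3, S.card_stab] at h1
  have h4 : Nat.card (stabilizer H b) = d := Nat.eq_of_mul_eq_mul_left S.hp.pos h1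
  rw [← h4]
  refine Nat.card_congr ⟨fun g => ⟨⟨g.1, g.2.1⟩, g.2.2⟩, fun g => ⟨g.1.1, g.1.2, g.2⟩,
    fun g => rfl, fun g => rfl⟩

/-- The number of injections of `Fin 3` in a set of size `p + 1`. -/
theorem card_embedding (S : Setup G α p d x a) :
    Nat.card (Fin 3 ↪ α) = (p + 1) * p * (p - 1) := by
  classical
  haveI := S.finite_α
  haveI : Fintype α := Fintype.ofFinite α
  rw [Nat.card_eq_fintype_card, Fintype.card_embedding_eq, Fintype.card_fin,
    ← Nat.card_eq_fintype_card, S.hα]
  have hp2 := S.hp.two_le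
  obtain ⟨k, rfl⟩ : ∃ k, p = k + 2 := ⟨p - 2, by omega⟩
  simp [Nat.descFactorial_succ]
  ring

/-- Stabilizers of triples are trivial. -/
theorem stab_triple [Finite G] [IsPretransitive G α] [FaithfulSMul G α] (S : Setup G α p d x a)
    (t : Fin 3 ↪ α) : stabilizer G t = ⊥ := by
  rw [eq_bot_iff]
  intro g hg
  rw [Subgroup.mem_bot]
  have h0 : g • t 0 = t 0 := DFunLike.congr_fun hg 0
  have h1 : g • t 1 = t 1 := DFunLike.congr_fun hg 1
  have h2 : g • t 2 = t 2 := DFunLike.congr_fun hg 2
  exact S.eq_one_of_fix3 (fun h => by simpa using t.injective h)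
    (fun h => by simpa using t.injective h) (fun h => by simpa using t.injective h) h0 h1 h2

/-- If `d = p - 1` the group is sharply 3-transitive. -/
theorem sharp [Finite G] [IsPretransitive G α] [FaithfulSMul G α] (S : Setup G α p d x a)
    (hdp : d = p - 1) :
    IsMultiplyPretransitive G α 3 ∧ ∀ t : Fin 3 ↪ α, stabilizer G t = ⊥ := by
  classical
  refine ⟨?_, S.stab_triple⟩
  haveI := S.finite_α
  refine ⟨fun t t' => ?_⟩
  have h1 := natCard_orbit_mul G t
  rw [S.stab_triple t, Subgroup.card_bot, mul_one, S.hG, hdp, ← S.card_embedding] at h1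
  have h2 : orbit G t = Set.univ := by
    apply Set.eq_of_subset_of_ncard_le (Set.subset_univ _) _ (Set.toFinite _)
    exact le_of_eq (by rw [Set.ncard_univ, ← Nat.card_coe_set_eq (orbit G t), h1])
  have h3 : t' ∈ orbit G t := by rw [h2]; trivial
  obtain ⟨g, hg⟩ := h3
  exact ⟨g, hg⟩

/-- Conversely sharp 3-transitivity gives `d = p - 1`. -/
theorem d_of_sharp [Finite G] (S : Setup G α p d x a)
    (h3 : IsMultiplyPretransitive G α 3) (hs : ∀ t : Fin 3 ↪ α, stabilizer G t = ⊥) :
    d = p - 1 := by
  classical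
  haveI := S.finite_α
  have hp2 := S.hp.two_le
  -- a triple
  have hpos : 0 < Nat.card (Fin 3 ↪ α) := by
    rw [S.card_embedding]
    exact Nat.mul_pos (Nat.mul_pos (by omega) (by omega)) (by omega)
  obtain ⟨t⟩ : Nonempty (Fin 3 ↪ α) := (Nat.card_pos_iff.mp hpos).1
  have h1 := natCard_orbit_mul G t
  have h2 : orbit G t = Set.univ := orbit_eq_univ G t
  rw [hs t, Subgroup.card_bot, mul_one, S.hG, h2, Nat.card_coe_set_eq, Set.ncard_univ,
    S.card_embedding] at h1
  have h3 : 0 < (p + 1) * p := Nat.mul_pos (by omega) (by omega)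
  exact (Nat.eq_of_mul_eq_mul_left h3 h1).symm

/-- A point fixed by `x` is `a`. -/
theorem eq_of_x_fix (S : Setup G α p d x a) {y : α} (hy : x • y = y) : y = a := by
  by_contra hne
  obtain ⟨u, -, huu⟩ := S.hreg y y hne hne
  have h1 := huu ⟨x, Subgroup.mem_zpowers x⟩ hy
  have h2 := huu 1 (one_smul _ y)
  have h3 : (⟨x, Subgroup.mem_zpowers x⟩ : Subgroup.zpowers x) = 1 := h1.trans h2.symm
  have h4 : x = 1 := congrArg Subtype.val h3
  have h5 := S.hx
  rw [h4, orderOf_one] at h5
  exact S.hp.one_lt.ne h5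

/-- If `d = 1` there is a regular normal subgroup (Burnside's transfer theorem). -/
theorem exists_regular_of_d_one [Finite G] [IsPretransitive G α] [FaithfulSMul G α]
    (S : Setup G α p 1 x a) :
    ∃ K : Subgroup G, K.Normal ∧ IsPretransitive K α ∧ ∀ b : α, stabilizer K b = ⊥ := by
  classical
  haveI := S.finite_α
  have hp := S.hp
  haveI : Fact p.Prime := ⟨hp⟩
  have hnd : ¬ p ∣ p + 1 := by
    intro h
    have h2 : p ∣ 1 := (Nat.dvd_add_right (dvd_refl p)).mp h
    exact hp.one_lt.ne' (Nat.dvd_one.mp h2)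
  have hfac : (Nat.card G).factorization p = 1 := by
    rw [S.hG, mul_one, mul_comm, Nat.factorization_mul hp.ne_zero (Nat.succ_ne_zero p),
      Finsupp.add_apply, hp.factorization_self, Nat.factorization_eq_zero_of_not_dvd hnd]
  let P : Sylow p G := Sylow.ofCard (Subgroup.zpowers x) (by rw [S.card_Z, hfac, pow_one])
  have hPZ : (P : Subgroup G) = Subgroup.zpowers x := rfl
  have hstabZ : stabilizer G a = Subgroup.zpowers x := by
    symm
    apply Subgroup.eq_of_le_of_card_ge S.Z_le
    rw [S.card_stab, S.card_Z, mul_one]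
  have hnorm : Subgroup.normalizer (P : Set G) ≤ Subgroup.centralizer (P : Set G) := by
    intro g hg
    have hga : g • a = a := by
      apply S.eq_of_x_fix
      have h1 : g⁻¹ * x * g ∈ Subgroup.zpowers x := by
        have h3 := (Subgroup.mem_set_normalizer_iff''.mp hg) x
        exact h3.mp (Subgroup.mem_zpowers x)
      have h4 : (g⁻¹ * x * g) • a = a := S.z_fix ⟨_, h1⟩
      calc x • g • a = g • (g⁻¹ * x * g) • a := by
            simp only [mul_smul, smul_inv_smul]
        _ = g • a := by rw [h4]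
    have hgZ : g ∈ Subgroup.zpowers x := by
      rw [← hstabZ]
      exact mem_stabilizer_iff.mpr hga
    rw [Subgroup.mem_centralizer_iff]
    intro h hh
    have hh' : h ∈ Subgroup.zpowers x := hh
    obtain ⟨k, rfl⟩ := Subgroup.mem_zpowers_iff.mp hh'
    obtain ⟨l, rfl⟩ := Subgroup.mem_zpowers_iff.mp hgZ
    exact ((Commute.refl x).zpow_zpow k l)
  have hc := MonoidHom.ker_transferSylow_isComplement' P hnorm
  let K : Subgroup G := (MonoidHom.transferSylow P hnorm).ker
  have hKcard : Nat.card K = p + 1 := by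
    have h1 := hc.card_mul_card
    have h2 : Nat.card (P : Subgroup G) = p := S.card_Z
    rw [h2, S.hG, mul_one] at h1
    exact Nat.eq_of_mul_eq_mul_right hp.pos h1
  haveI hKn : K.Normal := MonoidHom.normal_ker _
  have hK1 : K ≠ ⊥ := by
    intro h
    rw [h, Subgroup.card_bot] at hKcard
    have := hp.pos
    omega
  haveI := S.twoTrans
  haveI : IsPreprimitive G α := isPreprimitive_of_is_two_pretransitive ‹_›
  haveI htr : IsPretransitive K α := isPretransitive_of_normal_of_ne_bot K hK1
  refine ⟨K, hKn, htr, fun b => ?_⟩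
  have h1 := natCard_orbit_mul K b
  rw [orbit_eq_univ, Nat.card_coe_set_eq, Set.ncard_univ, S.hα, hKcard] at h1
  have h2 : Nat.card (stabilizer K b) = 1 :=
    Nat.eq_of_mul_eq_mul_left (Nat.succ_pos p) (by rw [h1, mul_one])
  exact Subgroup.card_eq_one.mp h2

end Setup


end Cfsg.Agent.Lib.Perm.PrimeDeg
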