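import Mathlib

/-!
# Field coordinates from a Singer cycle

Let `A` be an additive automorphism of a finite abelian group `W` with a transitive cyclic action on
the nonzero elements.  Then the subring of `End W` generated by `A` is a field over which `W` is
one-dimensional; automorphisms of `W` normalising `⟨A⟩` become semilinear in the coordinates given
by a field `E` of the same size.
-/

namespace Cfsg.Agent.Lib.Perm.SingerCoords

variable {W E : Type*} [AddCommGroup W] [Finite W] [Field E] [Finite E]

/-- Transitivity from any nonzero vector. -/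
theorem exists_iterate_apply (A : W ≃+ W) {v₀ : W} (htr : ∀ w : W, w ≠ 0 → ∃ k : ℕ, A^[k] v₀ = w)
    {u w : W} (hu : u ≠ 0) (hw : w ≠ 0) : ∃ k : ℕ, A^[k] u = w := by
  obtain ⟨k₁, h₁⟩ := htr u hu
  obtain ⟨k₂, h₂⟩ := htr w hw
  let π : Equiv.Perm W := A.toEquiv
  have hπ : ∀ (k : ℕ) (x : W), (π ^ k) x = A^[k] x := by
    intro k x
    rw [← Equiv.Perm.iterate_eq_pow]
    rfl
  have hn : 0 < orderOf π := orderOf_pos π
  refine ⟨k₂ + (orderOf π - 1) * k₁, ?_⟩
  rw [← hπ] at h₁ h₂ ⊢
  have h3 : (π ^ ((orderOf π - 1) * k₁)) * π ^ k₁ = 1 := by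
    rw [← pow_add]
    have : (orderOf π - 1) * k₁ + k₁ = orderOf π * k₁ := by
      obtain ⟨n, hn'⟩ : ∃ n, orderOf π = n + 1 := ⟨orderOf π - 1, by omega⟩
      rw [hn']
      simp only [Nat.add_sub_cancel]
      ring
    rw [this, pow_mul, pow_orderOf_eq_one, one_pow]
  rw [← h₁, ← h₂, pow_add]
  change (π ^ k₂) (((π ^ ((orderOf π - 1) * k₁)) * π ^ k₁) v₀) = _
  rw [h3]
  rfl

/-- The coordinates. -/
theorem exists_coords (hc : Nat.card E = Nat.card W) (A : W ≃+ W) (v₀ : W) (hv₀ : v₀ ≠ 0)
    (htr : ∀ w : W, w ≠ 0 → ∃ k : ℕ, A^[k] v₀ = w) :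
    ∃ e : W ≃+ E, e v₀ = 1 ∧ ∀ (B : W ≃+ W) (j : ℕ), (∀ w, B (A w) = A^[j] (B w)) →
      ∃ σ : E ≃+* E, ∀ w, e (B w) = e (B v₀) * σ (e w) := by
  classical
  let a : AddMonoid.End W := A.toAddMonoidHom
  let L : Subring (AddMonoid.End W) := Subring.closure {a}
  have hfinEnd : Finite (AddMonoid.End W) :=
    Finite.of_injective (fun f : AddMonoid.End W => (f : W → W)) DFunLike.coe_injective
  have hcomm : ∀ x ∈ ({a} : Set (AddMonoid.End W)), ∀ y ∈ ({a} : Set (AddMonoid.End W)),
      x * y = y * x := by
    rintro x rfl y rfl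
    rfl
  let _ : CommRing L := Subring.closureCommRingOfComm hcomm
  have hapow : ∀ k : ℕ, ∀ w, (a ^ k) w = A^[k] w := by
    intro k
    induction k with
    | zero => intro w; rfl
    | succ k ih =>
      intro w
      rw [pow_succ, Function.iterate_succ_apply]
      change (a ^ k) (A w) = A^[k] (A w)
      exact ih _
  have haL : a ∈ L := Subring.subset_closure rfl
  -- elements of `L` commute with `A`
  have hLc : ∀ f ∈ L, ∀ w, f (A w) = A (f w) := by
    intro f hf
    induction hf using Subring.closure_induction with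
    | mem x hx =>
      rw [Set.mem_singleton_iff] at hx
      subst hx
      intro w
      rfl
    | zero =>
      intro w
      change (0 : W) = A 0
      rw [map_zero]
    | one => intro w; rfl
    | add x y _ _ hx hy =>
      intro w
      change x (A w) + y (A w) = A (x w + y w)
      rw [hx, hy, map_add]
    | neg x _ hx =>
      intro w
      change -(x (A w)) = A (-(x w))
      rw [hx, map_neg]
    | mul x y _ _ hx hy =>
      intro w
      change x (y (A w)) = A (x (y w))
      rw [hy, hx]
  have hLcp : ∀ f ∈ L, ∀ (k : ℕ) (w : W), f (A^[k] w) = A^[k] (f w) := by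
    intro f hf k
    induction k with
    | zero => intro w; rfl
    | succ k ih =>
      intro w
      rw [Function.iterate_succ_apply, Function.iterate_succ_apply, ih, hLc f hf]
  -- nonzero elements are injective
  have hLinj : ∀ f ∈ L, f ≠ 0 → ∀ w, f w = 0 → w = 0 := by
    intro f hf hf0 w hw
    by_contra hw0
    apply hf0
    ext u
    by_cases hu : u = 0
    · rw [hu, map_zero]; rfl
    · obtain ⟨k, rfl⟩ := exists_iterate_apply A htr hw0 hu
      rw [hLcp f hf, hw]
      have h0 : ∀ k : ℕ, A^[k] (0 : W) = 0 := by
        intro k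
        induction k with
        | zero => rfl
        | succ k ih => rw [Function.iterate_succ_apply, map_zero, ih]
      rw [h0]
      rfl
  have hnt : Nontrivial L := by
    refine ⟨⟨0, 1, ?_⟩⟩
    intro h
    have h1 : ((0 : L) : AddMonoid.End W) = ((1 : L) : AddMonoid.End W) := congrArg Subtype.val h
    have h2 := DFunLike.congr_fun h1 v₀
    exact hv₀ h2.symm
  have hdom : IsDomain L := by
    have : NoZeroDivisors L := by
      refine ⟨?_⟩
      intro f g hfg
      by_contra hne
      push Not at hne
      have hf : (f : AddMonoid.End W) ≠ 0 := fun h => hne.1 (Subtype.ext h)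
      have hg : (g : AddMonoid.End W) ≠ 0 := fun h => hne.2 (Subtype.ext h)
      apply hg
      ext w
      have h1 : (f : AddMonoid.End W) ((g : AddMonoid.End W) w) = 0 := by
        have h2 : ((f * g : L) : AddMonoid.End W) w = 0 := by
          rw [hfg]
          rfl
        exact h2
      exact hLinj _ f.2 hf _ h1
    exact NoZeroDivisors.to_isDomain L
  let _ : Fintype L := Fintype.ofFinite L
  let _ : Field L := Fintype.fieldOfDomain L
  -- the evaluation map
  let ev : L →+ W :=
    { toFun := fun f => (f : AddMonoid.End W) v₀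
      map_zero' := rfl
      map_add' := fun _ _ => rfl }
  have hev : ∀ f : L, ev f = (f : AddMonoid.End W) v₀ := fun _ => rfl
  have hevb : Function.Bijective ev := by
    constructor
    · rw [injective_iff_map_eq_zero]
      intro f hf
      by_contra hne
      have hf0 : (f : AddMonoid.End W) ≠ 0 := fun h => hne (Subtype.ext h)
      exact hv₀ (hLinj _ f.2 hf0 _ hf)
    · intro w
      by_cases hw : w = 0
      · exact ⟨0, by rw [hw, map_zero]⟩
      · obtain ⟨k, rfl⟩ := htr w hw
        refine ⟨⟨a ^ k, pow_mem haL k⟩, ?_⟩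
        rw [hev]
        exact hapow k v₀
  let evE : L ≃+ W := AddEquiv.ofBijective ev hevb
  let _ : Fintype E := Fintype.ofFinite E
  have hcardL : Fintype.card L = Fintype.card E := by
    rw [← Nat.card_eq_fintype_card, ← Nat.card_eq_fintype_card, hc]
    exact Nat.card_congr evE.toEquiv
  let ρ : L ≃+* E := FiniteField.ringEquivOfCardEq hcardL
  let e : W ≃+ E := evE.symm.trans ρ.toAddEquiv
  have hevmul : ∀ f g : L, ev (f * g) = (f : AddMonoid.End W) (ev g) := fun _ _ => rfl
  have hekey : ∀ f : L, e (ev f) = ρ f := by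
    intro f
    change ρ (evE.symm (evE f)) = ρ f
    rw [AddEquiv.symm_apply_apply]
  have he1 : e v₀ = 1 := by
    have h1 : ev (1 : L) = v₀ := rfl
    rw [← h1, hekey, map_one]
  refine ⟨e, he1, ?_⟩
  intro B j hB
  let bb : AddMonoid.End W := B.toAddMonoidHom
  let bi : AddMonoid.End W := B.symm.toAddMonoidHom
  have hbb : ∀ w, bb (bi w) = w := fun w => by
    exact AddEquiv.apply_symm_apply B w
  have hbi : ∀ w, bi (bb w) = w := fun w => by
    exact AddEquiv.symm_apply_apply B w
  -- conjugation by `B` preserves `L`
  have hconj : ∀ f ∈ L, bb * f * bi ∈ L := by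
    intro f hf
    induction hf using Subring.closure_induction with
    | mem x hx =>
      rw [Set.mem_singleton_iff] at hx
      subst hx
      have : bb * a * bi = a ^ j := by
        ext w
        change B (A (B.symm w)) = (a ^ j) w
        rw [hB, hapow, AddEquiv.apply_symm_apply]
      rw [this]
      exact pow_mem haL j
    | zero =>
      have : bb * 0 * bi = 0 := by simp
      rw [this]
      exact zero_mem _
    | one =>
      have : bb * 1 * bi = 1 := by
        ext w
        exact hbb w
      rw [this]
      exact one_mem _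
    | add x y _ _ hx hy =>
      have : bb * (x + y) * bi = bb * x * bi + bb * y * bi := by noncomm_ring
      rw [this]
      exact add_mem hx hy
    | neg x _ hx =>
      have : bb * (-x) * bi = -(bb * x * bi) := by noncomm_ring
      rw [this]
      exact neg_mem hx
    | mul x y _ _ hx hy =>
      have : bb * (x * y) * bi = (bb * x * bi) * (bb * y * bi) := by
        ext w
        change bb (x (y (bi w))) = bb (x (bi (bb (y (bi w)))))
        rw [hbi]
      rw [this]
      exact mul_mem hx hy
  let τ : L →+* L :=
    { toFun := fun f => ⟨bb * f.1 * bi, hconj f.1 f.2⟩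
      map_one' := by
        apply Subtype.ext
        ext w
        exact hbb w
      map_zero' := by
        apply Subtype.ext
        change bb * 0 * bi = 0
        simp
      map_mul' := by
        intro f g
        apply Subtype.ext
        ext w
        change bb (f.1 (g.1 (bi w))) = bb (f.1 (bi (bb (g.1 (bi w)))))
        rw [hbi]
      map_add' := by
        intro f g
        apply Subtype.ext
        change bb * (f.1 + g.1) * bi = bb * f.1 * bi + bb * g.1 * bi
        noncomm_ring }
  have hτinj : Function.Injective τ := τ.injective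
  have hτbij : Function.Bijective τ := Finite.injective_iff_bijective.mp hτinj
  let τe : L ≃+* L := RingEquiv.ofBijective τ hτbij
  let σ : E ≃+* E := ρ.symm.trans (τe.trans ρ)
  refine ⟨σ, ?_⟩
  intro w
  -- write `w` and `B v₀` through `ev`
  obtain ⟨f, rfl⟩ := hevb.2 w
  obtain ⟨g, hg⟩ := hevb.2 (B v₀)
  have h1 : B (ev f) = ev (τ f * g) := by
    rw [hevmul, hg]
    change B (f.1 v₀) = bb (f.1 (bi (B v₀)))
    have : bi (B v₀) = v₀ := hbi v₀
    rw [this]
    rfl
  rw [h1, ← hg, hekey, hekey, hekey]
  have h2 : σ (ρ f) = ρ (τ f) := by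
    change ρ (τ (ρ.symm (ρ f))) = ρ (τ f)
    rw [RingEquiv.symm_apply_apply]
  rw [h2, map_mul, mul_comm]

end Cfsg.Agent.Lib.Perm.SingerCoords
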