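import Mathlib
import Cfsg.Agent.Lib.Perm.PrimeDeg
import Cfsg.Agent.Lib.Perm.SingerCoords

/-!
# Transitive groups of degree `p + 1` and order `(p + 1) p d`: a regular normal subgroup

If there is a regular normal subgroup then `p + 1 = 2 ^ q` and the group acts by semi-affine maps
of the field with `2 ^ q` elements.
-/

set_option autoImplicit false
set_option linter.unusedSectionVars false
set_option linter.style.haveILetI false

namespace Cfsg.Agent.Lib.Perm.PrimeDegReg

open MulAction Cfsg.Agent.Lib.Perm.PrimeDeg Cfsg.Agent.Lib.Perm.SingerCoords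

variable {G α : Type*} [Group G] [MulAction G α]

/-- Coordinates on the set from coordinates on the regular normal subgroup. -/
theorem coords_core {E W : Type*} [Field E] [Finite E] [AddCommGroup W] [Finite W]
    (hc : Nat.card E = Nat.card W) (pt : W ≃ α) (A : W ≃+ W) (v₀ : W) (hv₀ : v₀ ≠ 0)
    (htr : ∀ w : W, w ≠ 0 → ∃ k : ℕ, A^[k] v₀ = w)
    (hg : ∀ g : G, ∃ (B : W ≃+ W) (j : ℕ) (v : W), (∀ w, B (A w) = A^[j] (B w)) ∧
      ∀ w, g • pt w = pt (v + B w)) :
    ∃ e : α ≃ E, (∀ g : G, ∃ (c : Eˣ) (b : E) (φ : E ≃+* E), ∀ y, e (g • y) = c * φ (e y) + b) ∧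
      (∀ g : G, g • pt 0 = pt 0 → g • pt v₀ = pt v₀ → ∃ φ : E ≃+* E, ∀ y, e (g • y) = φ (e y)) := by
  obtain ⟨e', he1, hB⟩ := exists_coords hc A v₀ hv₀ htr
  refine ⟨pt.symm.trans e'.toEquiv, fun g => ?_, fun g hg0 hg1 => ?_⟩
  · obtain ⟨B, j, v, hBA, hv⟩ := hg g
    obtain ⟨σ, hσ⟩ := hB B j hBA
    have hc0 : e' (B v₀) ≠ 0 := by
      intro h
      apply hv₀
      exact (map_eq_zero_iff B B.injective).mp ((map_eq_zero_iff e' e'.injective).mp h)
    refine ⟨Units.mk0 _ hc0, e' v, σ, fun y => ?_⟩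
    obtain ⟨w, rfl⟩ := pt.surjective y
    change e' (pt.symm (g • pt w)) = e' (B v₀) * σ (e' (pt.symm (pt w))) + e' v
    rw [hv w, Equiv.symm_apply_apply, Equiv.symm_apply_apply, map_add, hσ, add_comm]
  · obtain ⟨B, j, v, hBA, hv⟩ := hg g
    obtain ⟨σ, hσ⟩ := hB B j hBA
    have hv0 : v = 0 := by
      have h1 := hv 0
      rw [hg0, map_zero B, add_zero] at h1
      exact (pt.injective h1).symm
    have hBv : B v₀ = v₀ := by
      have h1 := hv v₀
      rw [hg1, hv0, zero_add] at h1
      exact (pt.injective h1).symm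
    refine ⟨σ, fun y => ?_⟩
    obtain ⟨w, rfl⟩ := pt.surjective y
    change e' (pt.symm (g • pt w)) = σ (e' (pt.symm (pt w)))
    rw [hv w, Equiv.symm_apply_apply, Equiv.symm_apply_apply, hv0, zero_add, hσ, hBv, he1, one_mul]

/-- A group acting by field automorphisms has order dividing the order of the automorphism
group. -/
theorem card_dvd_ringAut [FaithfulSMul G α] {E : Type*} [Field E] (D : Subgroup G) (e : α ≃ E)
    (hD : ∀ g ∈ D, ∃ φ : E ≃+* E, ∀ y, e (g • y) = φ (e y)) :
    Nat.card D ∣ Nat.card (RingAut E) := by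
  classical
  choose! φ hφ using hD
  have huniq : ∀ (g : G) (_ : g ∈ D) (z : E), φ g z = e (g • e.symm z) := by
    intro g hg z
    rw [hφ g hg, Equiv.apply_symm_apply]
  let f : D →* RingAut E := MonoidHom.mk' (fun g => φ g.1) (by
    intro g h
    apply RingEquiv.ext
    intro z
    rw [RingAut.mul_apply, huniq _ (g * h).2, huniq _ g.2, huniq _ h.2, Equiv.symm_apply_apply]
    change e (((g : G) * (h : G)) • e.symm z) = _
    rw [mul_smul])
  have hf : Function.Injective f := by
    intro g h hgh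
    apply Subtype.ext
    apply FaithfulSMul.eq_of_smul_eq_smul (α := α)
    intro y
    have h1 : φ g.1 (e y) = φ h.1 (e y) := congrArg (fun r : RingAut E => r (e y)) hgh
    rw [← hφ _ g.2, ← hφ _ h.2] at h1
    exact e.injective h1
  exact Subgroup.card_dvd_of_injective f hf

/-- The order of the Galois group. -/
theorem card_ringAut_galois {q : ℕ} (hq : q ≠ 0) :
    Nat.card (RingAut (GaloisField 2 q)) = q := by
  have h1 := IsGalois.card_aut_eq_finrank (ZMod 2) (GaloisField 2 q)
  rw [GaloisField.finrank 2 hq] at h1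
  refine Eq.trans ?_ h1
  symm
  refine Nat.card_congr ⟨fun e => e.toRingEquiv, fun σ => AlgEquiv.ofRingEquiv (f := σ) (fun r => ?_),
    fun e => ?_, fun σ => ?_⟩
  · have h : (σ : GaloisField 2 q →+* GaloisField 2 q).comp (algebraMap (ZMod 2) (GaloisField 2 q)) =
        algebraMap (ZMod 2) (GaloisField 2 q) :=
      Subsingleton.elim (α := ZMod 2 →+* GaloisField 2 q) _ _
    exact congrArg (fun f : ZMod 2 →+* GaloisField 2 q => f r) h
  · ext x
    rfl
  · ext x
    rfl

/-- A regular normal subgroup forces the third alternative. -/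
theorem third_of_regular [Finite G] [IsPretransitive G α] [FaithfulSMul G α] {p d : ℕ} {x : G}
    {a : α} (S : Setup G α p d x a) (hp2 : p ≠ 2) (N : Subgroup G) (hN : N.Normal)
    (htr : IsPretransitive N α) (hreg : ∀ b : α, stabilizer N b = ⊥) :
    ∃ q : ℕ, q.Prime ∧ p + 1 = 2 ^ q ∧ (d = 1 ∨ d = q) ∧ ∃ e : α ≃ GaloisField 2 q,
      ∀ g : G, ∃ (c : (GaloisField 2 q)ˣ) (b : GaloisField 2 q)
        (φ : GaloisField 2 q ≃+* GaloisField 2 q), ∀ y, e (g • y) = c * φ (e y) + b := by
  classical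
  haveI := S.finite_α
  have hp := S.hp
  haveI := hN
  -- the point map
  let pt₀ : N → α := fun n => (n : G) • a
  have hpt_inj : Function.Injective pt₀ := by
    intro n n' h
    have h1 : n⁻¹ * n' ∈ stabilizer N a := by
      rw [mem_stabilizer_iff, mul_smul]
      have h2 : n' • a = n • a := h.symm
      rw [h2, inv_smul_smul]
    rw [hreg a, Subgroup.mem_bot] at h1
    exact inv_mul_eq_one.mp h1
  have hpt_surj : Function.Surjective pt₀ := fun y => by
    obtain ⟨n, hn⟩ := exists_smul_eq N a y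
    exact ⟨n, hn⟩
  have hcardN : Nat.card N = p + 1 := by
    rw [← S.hα]
    exact Nat.card_eq_of_bijective pt₀ ⟨hpt_inj, hpt_surj⟩
  haveI : Finite N := inferInstance
  have hconj : ∀ (m : G), m • a = a → ∀ n : N, (m * n * m⁻¹ : G) • a = m • ((n : G) • a) := by
    intro m hm n
    have h1 : m⁻¹ • a = a := by rw [inv_smul_eq_iff, hm]
    rw [mul_smul, mul_smul, h1]
  have hNconj : ∀ (g : G) (n : N), g * n * g⁻¹ ∈ N := fun g n => hN.conj_mem _ n.2 g
  -- an involution
  have hdvd : 2 ∣ Nat.card N := by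
    rw [hcardN]
    rcases hp.eq_two_or_odd' with h | h
    · exact absurd h hp2
    · exact Odd.add_one h |>.two_dvd
  obtain ⟨v₀, hv₀⟩ := exists_prime_orderOf_dvd_card' 2 hdvd
  have hv₀1 : v₀ ≠ 1 := by
    intro h
    rw [h, orderOf_one] at hv₀
    omega
  have hpt1 : pt₀ 1 = a := one_smul _ a
  have hne : ∀ n : N, n ≠ 1 → pt₀ n ≠ a := fun n hn h => hn (hpt_inj (h.trans hpt1.symm))
  have htrans : ∀ n : N, n ≠ 1 → ∃ k : ℕ, (x ^ k * v₀ * (x ^ k)⁻¹ : G) = n := by
    intro n hn
    obtain ⟨u, hu, -⟩ := S.hreg _ _ (hne v₀ hv₀1) (hne n hn)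
    obtain ⟨k, hk⟩ : ∃ k : ℕ, x ^ k = u := by
      have h1 := (mem_powers_iff_mem_zpowers (x := x) (y := (u : G))).mpr u.2
      exact Submonoid.mem_powers_iff _ _ |>.mp h1
    refine ⟨k, ?_⟩
    have hua : (u : G) • a = a := S.z_fix u
    have h1 : (⟨u * v₀ * (u : G)⁻¹, hNconj u v₀⟩ : N) = n := by
      apply hpt_inj
      change ((u : G) * v₀ * (u : G)⁻¹) • a = (n : G) • a
      rw [hconj _ hua v₀]
      exact hu
    rw [hk]
    exact congrArg Subtype.val h1
  -- exponent two
  have hsq : ∀ n : N, n * n = 1 := by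
    intro n
    by_cases hn : n = 1
    · rw [hn, one_mul]
    · obtain ⟨k, hk⟩ := htrans n hn
      apply Subtype.ext
      have hv2 : ((v₀ : G)) * v₀ = 1 := by
        have h1 := pow_orderOf_eq_one v₀
        rw [hv₀, pow_two] at h1
        exact congrArg Subtype.val h1
      change (n : G) * n = 1
      rw [← hk]
      calc x ^ k * (v₀ : G) * (x ^ k)⁻¹ * (x ^ k * v₀ * (x ^ k)⁻¹)
          = x ^ k * ((v₀ : G) * v₀) * (x ^ k)⁻¹ := by group
        _ = 1 := by rw [hv2]; group
  have hcomm : ∀ n n' : N, n * n' = n' * n := by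
    intro n n'
    have h1 := hsq (n * n')
    have h2 := hsq n
    have h3 := hsq n'
    calc n * n' = n * n' * ((n' * n) * (n' * n)) := by rw [hsq (n' * n), mul_one]
      _ = (n * (n' * n')) * n * (n' * n) := by group
      _ = n' * n := by rw [h3, mul_one, h2, one_mul]
  let _ : CommGroup N := { (inferInstance : Group N) with mul_comm := hcomm }
  -- the order
  have h2grp : IsPGroup 2 N := fun n => ⟨1, by rw [pow_one, pow_two]; exact hsq n⟩
  obtain ⟨q, hq⟩ := IsPGroup.iff_card.mp h2grp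
  have hpq : p + 1 = 2 ^ q := by rw [← hcardN, hq]
  have hq0 : q ≠ 0 := by
    rintro rfl
    have := hp.pos
    omega
  have hq1 : q ≠ 1 := by
    rintro rfl
    have := hp.one_lt
    omega
  have hqp : q.Prime := by
    have h1 : (2 ^ q - 1).Prime := by
      have : 2 ^ q - 1 = p := by omega
      rwa [this]
    exact (Nat.prime_of_pow_sub_one_prime hq1 h1).2
  refine ⟨q, hqp, hpq, ?_⟩
  -- the additive group
  let A : Additive N ≃+ Additive N := MulEquiv.toAdditive (MulAut.conjNormal x)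
  have hAcoe : ∀ w : Additive N, (((A w).toMul : N) : G) = x * (w.toMul : N) * x⁻¹ := fun w =>
    MulAut.conjNormal_apply x _
  have hAk : ∀ (k : ℕ) (w : Additive N),
      (((A^[k] w).toMul : N) : G) = x ^ k * (w.toMul : N) * (x ^ k)⁻¹ := by
    intro k
    induction k with
    | zero =>
      intro w
      simp
    | succ k ih =>
      intro w
      rw [Function.iterate_succ_apply', hAcoe, ih, pow_succ']
      group
  let pt : Additive N ≃ α := (Additive.toMul : Additive N ≃ N).trans
    (Equiv.ofBijective pt₀ ⟨hpt_inj, hpt_surj⟩)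
  have hptdef : ∀ w : Additive N, pt w = ((w.toMul : N) : G) • a := fun w => rfl
  have hcW : Nat.card (GaloisField 2 q) = Nat.card (Additive N) := by
    rw [GaloisField.card 2 q hq0, ← hq]
    exact (Nat.card_congr Additive.toMul).symm
  let v₀' : Additive N := Additive.ofMul v₀
  have hv₀' : v₀' ≠ 0 := fun h => hv₀1 (Additive.ofMul.injective h)
  have htr' : ∀ w : Additive N, w ≠ 0 → ∃ k : ℕ, A^[k] v₀' = w := by
    intro w hw
    have hw1 : w.toMul ≠ 1 := fun h => hw (Additive.toMul.injective h)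
    obtain ⟨k, hk⟩ := htrans _ hw1
    refine ⟨k, ?_⟩
    apply Additive.toMul.injective
    apply Subtype.ext
    rw [hAk]
    exact hk
  have hg' : ∀ g : G, ∃ (B : Additive N ≃+ Additive N) (j : ℕ) (v : Additive N), (∀ w, B (A w) = A^[j] (B w)) ∧
      ∀ w, g • pt w = pt (v + B w) := by
    intro g
    obtain ⟨n, hn⟩ := exists_smul_eq N a (g • a)
    have hn' : (n : G) • a = g • a := hn
    let m : G := (n : G)⁻¹ * g
    have hm : m • a = a := by
      change ((n : G)⁻¹ * g) • a = a
      rw [mul_smul, ← hn', inv_smul_smul]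
    have hmem : m * x * m⁻¹ ∈ Subgroup.zpowers x := S.conj_mem hm (Subgroup.mem_zpowers x)
    obtain ⟨j, hj⟩ : ∃ j : ℕ, x ^ j = m * x * m⁻¹ := by
      have h1 := (mem_powers_iff_mem_zpowers (x := x) (y := m * x * m⁻¹)).mpr hmem
      exact Submonoid.mem_powers_iff _ _ |>.mp h1
    let B : Additive N ≃+ Additive N := MulEquiv.toAdditive (MulAut.conjNormal m)
    have hBcoe : ∀ w : Additive N, (((B w).toMul : N) : G) = m * (w.toMul : N) * m⁻¹ := fun w =>
      MulAut.conjNormal_apply m _
    refine ⟨B, j, Additive.ofMul n, fun w => ?_, fun w => ?_⟩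
    · apply Additive.toMul.injective
      apply Subtype.ext
      rw [hBcoe, hAcoe, hAk, hBcoe, hj]
      group
    · rw [hptdef, hptdef]
      have h1 : (((Additive.ofMul n + B w).toMul : N) : G) = (n : G) * ((B w).toMul : N) := rfl
      have hgm : (n : G) * m = g := by
        change (n : G) * ((n : G)⁻¹ * g) = g
        group
      rw [h1, hBcoe, mul_smul, hconj m hm, ← mul_smul (n : G) m, hgm]
  obtain ⟨e, he1, he2⟩ := coords_core hcW pt A v₀' hv₀' htr' hg'
  refine ⟨?_, e, he1⟩
  -- the two-point stabilizer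
  let b₀ : α := pt v₀'
  have hb₀ : b₀ ≠ a := hne v₀ hv₀1
  have hD : ∀ g ∈ stabilizer G a ⊓ stabilizer G b₀, ∃ φ : GaloisField 2 q ≃+* GaloisField 2 q,
      ∀ y, e (g • y) = φ (e y) := by
    intro g hg
    have hpt0 : pt 0 = a := hpt1
    apply he2 g
    · rw [hpt0]
      exact hg.1
    · exact hg.2
  have h1 := card_dvd_ringAut _ e hD
  rw [S.card_two hb₀, card_ringAut_galois hq0] at h1
  exact (Nat.dvd_prime hqp).mp h1

end Cfsg.Agent.Lib.Perm.PrimeDegReg
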