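import Cfsg.Agent.S3681
import Mathlib

set_option autoImplicit false

/-!
# Babai's bound on the minimal degree of a primitive group

A simplified form of Babai's "distinguishing number" argument. If `G` is primitive and the
orbital of `(u, v)` does not cover all pairs with first coordinate `u`, then the number `D` of
points `w` such that `(u, w)` and `(v, w)` lie in different orbitals satisfies `n ≤ (2 D + 1)²`.
-/

namespace Cfsg.Agent.Lib.Perm.Babai

open Finset MulAction

theorem closed_mem {G Ω : Type*} [Group G] [Finite G] [MulAction G Ω]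
    (hprim : IsPreprimitive G Ω) {P : Ω → Ω → Prop}
    (hP : ∀ (h : G) x y, P x y → P (h • x) (h • y)) {a b : Ω} (hab : P a b) (hne : a ≠ b)
    {T : Set Ω} {x : Ω} (hx : x ∈ T) (hT : ∀ y z, y ∈ T → P y z → z ∈ T) (y : Ω) : y ∈ T := by
  classical
  haveI := hprim
  have hlift : ∀ (h : G) {p q : Ω}, Relation.ReflTransGen P p q →
      Relation.ReflTransGen P (h • p) (h • q) := fun h _ _ hpq =>
    Relation.ReflTransGen.rec (motive := fun q _ => Relation.ReflTransGen P (h • _) (h • q))
      Relation.ReflTransGen.refl (fun _ h2 ih => ih.tail (hP h _ _ h2)) hpq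
  have hT' : ∀ {p q : Ω}, p ∈ T → Relation.ReflTransGen P p q → q ∈ T := by
    intro p q hp hpq
    induction hpq with
    | refl => exact hp
    | tail _ h2 ih => exact hT _ _ ih h2
  let S : Submonoid G :=
    { carrier := {h | Relation.ReflTransGen P a (h • a)}
      one_mem' := by
        simp only [Set.mem_ofPred_eq, one_smul]
        exact Relation.ReflTransGen.refl
      mul_mem' := by
        intro h₁ h₂ h1 h2
        simp only [Set.mem_ofPred_eq, mul_smul] at *
        exact h1.trans (hlift h₁ h2) }
  let M : Subgroup G :=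
    { S with
      inv_mem' := by
        intro h hh
        have e : h⁻¹ = h ^ (orderOf h - 1) := by
          rw [eq_comm, ← mul_left_inj h, inv_mul_cancel, ← pow_succ,
            Nat.sub_add_cancel (orderOf_pos h), pow_orderOf_eq_one]
        rw [e]
        exact S.pow_mem hh _ }
  haveI hnt : Nontrivial Ω := ⟨⟨a, b, hne⟩⟩
  have hco := IsPreprimitive.isCoatom_stabilizer_of_isPreprimitive (G := G) a
  obtain ⟨g', hg'⟩ := exists_smul_eq G a b
  have hM : M = ⊤ := by
    apply hco.2
    refine lt_of_le_of_ne ?_ ?_
    · intro h hh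
      have hh' : h • a = a := hh
      change Relation.ReflTransGen P a (h • a)
      rw [hh']
    · intro heq
      have h1 : g' ∈ M := by
        change Relation.ReflTransGen P a (g' • a)
        rw [hg']
        exact Relation.ReflTransGen.single hab
      rw [← heq] at h1
      exact hne (h1.symm.trans hg')
  have hall : ∀ h : G, Relation.ReflTransGen P a (h • a) := fun h => by
    have : h ∈ M := by rw [hM]; trivial
    exact this
  obtain ⟨h₀, hh₀⟩ := exists_smul_eq G a x
  obtain ⟨h₁, hh₁⟩ := exists_smul_eq G a (h₀⁻¹ • y)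
  have h2 := hlift h₀ (hall h₁)
  rw [hh₀, hh₁, smul_inv_smul] at h2
  exact hT' hx h2

section
variable {G Ω : Type*} [Group G] [MulAction G Ω]

/-- An invariant relation. -/
def IsInv (G : Type*) {Ω : Type*} [Group G] [MulAction G Ω] (P : Ω → Ω → Prop) : Prop :=
  ∀ (h : G) x y, P x y → P (h • x) (h • y)

theorem IsInv.iff {P : Ω → Ω → Prop} (hP : IsInv G P) (h : G) (x y : Ω) :
    P (h • x) (h • y) ↔ P x y :=
  ⟨fun H => by simpa using hP h⁻¹ _ _ H, hP h x y⟩

/-- The orbital of `(u, v)`. -/
def Orbl (G : Type*) {Ω : Type*} [Group G] [MulAction G Ω] (u v x y : Ω) : Prop :=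
  ∃ h : G, h • u = x ∧ h • v = y

theorem orbl_isInv (u v : Ω) : IsInv G (Orbl G u v) := by
  rintro h x y ⟨k, rfl, rfl⟩
  exact ⟨h * k, mul_smul _ _ _, mul_smul _ _ _⟩

theorem orbl_self (u v : Ω) : Orbl G u v u v := ⟨1, one_smul _ _, one_smul _ _⟩

variable [Fintype Ω] [DecidableEq Ω]

open Classical in
/-- out-neighbours -/
noncomputable def out (P : Ω → Ω → Prop) (x : Ω) : Finset Ω := univ.filter (fun y => P x y)

open Classical in
/-- in-neighbours -/
noncomputable def inn (P : Ω → Ω → Prop) (y : Ω) : Finset Ω := univ.filter (fun x => P x y)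

@[simp] theorem mem_out {P : Ω → Ω → Prop} {x y : Ω} : y ∈ out P x ↔ P x y := by simp [out]

@[simp] theorem mem_inn {P : Ω → Ω → Prop} {x y : Ω} : x ∈ inn P y ↔ P x y := by simp [inn]

theorem card_out_smul {P : Ω → Ω → Prop} (hP : IsInv G P) (h : G) (x : Ω) :
    (out P (h • x)).card = (out P x).card := by
  symm
  refine Finset.card_equiv (MulAction.toPerm h) (fun w => ?_)
  simp [hP.iff]

theorem card_inn_smul {P : Ω → Ω → Prop} (hP : IsInv G P) (h : G) (x : Ω) :
    (inn P (h • x)).card = (inn P x).card := by
  symm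
  refine Finset.card_equiv (MulAction.toPerm h) (fun w => ?_)
  simp [hP.iff]

theorem card_out_eq [IsPretransitive G Ω] {P : Ω → Ω → Prop} (hP : IsInv G P) (x y : Ω) :
    (out P x).card = (out P y).card := by
  obtain ⟨h, rfl⟩ := exists_smul_eq G x y
  exact (card_out_smul hP h x).symm

theorem card_inn_eq [IsPretransitive G Ω] {P : Ω → Ω → Prop} (hP : IsInv G P) (x y : Ω) :
    (inn P x).card = (inn P y).card := by
  obtain ⟨h, rfl⟩ := exists_smul_eq G x y
  exact (card_inn_smul hP h x).symm

theorem card_inn_eq_out [IsPretransitive G Ω] {P : Ω → Ω → Prop} (hP : IsInv G P) (x : Ω) :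
    (inn P x).card = (out P x).card := by
  classical
  have h1 : ∑ a : Ω, (out P a).card = ∑ b : Ω, (inn P b).card := by
    have := Finset.sum_card_bipartiteAbove_eq_sum_card_bipartiteBelow
      (s := (univ : Finset Ω)) (t := (univ : Finset Ω)) (fun a b => P a b)
    convert this using 2
    · congr 1
    · congr 1
  rw [Finset.sum_congr rfl (fun a _ => card_out_eq hP a x),
    Finset.sum_congr rfl (fun a _ => card_inn_eq hP a x)] at h1
  simp only [Finset.sum_const, smul_eq_mul] at h1
  have hpos : 0 < (univ : Finset Ω).card := Finset.card_pos.mpr ⟨x, mem_univ _⟩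
  exact (Nat.eq_of_mul_eq_mul_left hpos h1).symm

open Classical in
/-- The set of points distinguishing `x` and `y`. -/
noncomputable def dst (G : Type*) {Ω : Type*} [Group G] [MulAction G Ω] [Fintype Ω] (x y : Ω) :
    Finset Ω :=
  univ.filter (fun w => ¬ ∃ h : G, h • x = y ∧ h • w = w)

theorem mem_dst {x y w : Ω} : w ∈ dst G x y ↔ ¬ ∃ h : G, h • x = y ∧ h • w = w := by
  simp [dst]

theorem dst_comm (x y : Ω) : dst G x y = dst G y x := by
  ext w
  rw [mem_dst, mem_dst, not_iff_not]
  constructor
  · rintro ⟨h, rfl, h2⟩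
    refine ⟨h⁻¹, by simp, ?_⟩
    rw [inv_smul_eq_iff, h2]
  · rintro ⟨h, rfl, h2⟩
    refine ⟨h⁻¹, by simp, ?_⟩
    rw [inv_smul_eq_iff, h2]

theorem dst_trans (x y z : Ω) : dst G x z ⊆ dst G x y ∪ dst G y z := by
  intro w hw
  rw [mem_dst] at hw
  rw [mem_union, mem_dst, mem_dst]
  by_contra hcon
  push Not at hcon
  obtain ⟨⟨h1, rfl, h1w⟩, ⟨h2, rfl, h2w⟩⟩ := hcon
  exact hw ⟨h2 * h1, mul_smul _ _ _, by rw [mul_smul, h1w, h2w]⟩

theorem card_dst_smul (h : G) (x y : Ω) :
    (dst G (h • x) (h • y)).card = (dst G x y).card := by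
  symm
  refine Finset.card_equiv (MulAction.toPerm h) (fun w => ?_)
  simp only [toPerm_apply, mem_dst, not_iff_not]
  constructor
  · rintro ⟨k, rfl, hk⟩
    refine ⟨h * k * h⁻¹, ?_, ?_⟩
    · simp [mul_smul]
    · simp [mul_smul, hk]
  · rintro ⟨k, h1, h2⟩
    refine ⟨h⁻¹ * k * h, ?_, ?_⟩
    · simp [mul_smul, h1]
    · simp [mul_smul, h2]

theorem sdiff_sub_dst {P : Ω → Ω → Prop} (hP : IsInv G P) (x y : Ω) :
    out P x \ out P y ⊆ dst G x y := by
  intro w hw
  rw [mem_sdiff, mem_out, mem_out] at hw
  rw [mem_dst]
  rintro ⟨h, rfl, h2⟩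
  apply hw.2
  have := hP h _ _ hw.1
  rwa [h2] at this

theorem two_mul_sdiff_le {P : Ω → Ω → Prop} (hP : IsInv G P) (x y : Ω)
    (hk : (out P x).card = (out P y).card) :
    2 * (out P x \ out P y).card ≤ (dst G x y).card := by
  classical
  have h1 := sdiff_sub_dst hP x y
  have h2 := sdiff_sub_dst hP y x
  rw [dst_comm] at h2
  have h3 : (out P x \ out P y ∪ out P y \ out P x).card ≤ (dst G x y).card :=
    Finset.card_le_card (Finset.union_subset h1 h2)
  have hd : Disjoint (out P x \ out P y) (out P y \ out P x) := by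
    rw [Finset.disjoint_left]
    intro a ha hb
    exact (mem_sdiff.mp ha).2 (mem_sdiff.mp hb).1
  rw [Finset.card_union_of_disjoint hd, ← Finset.card_sdiff_comm hk] at h3
  omega

theorem card_dst_of_orbl {u v x y : Ω} (h : Orbl G u v x y) :
    (dst G x y).card = (dst G u v).card := by
  obtain ⟨k, rfl, rfl⟩ := h
  exact card_dst_smul k u v

theorem card_sdiff_smul {P : Ω → Ω → Prop} (hP : IsInv G P) (h : G) (x y : Ω) :
    (out P (h • x) \ out P (h • y)).card = (out P x \ out P y).card := by
  symm
  refine Finset.card_equiv (MulAction.toPerm h) (fun w => ?_)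
  simp [hP.iff]

section main
variable [Finite G]

theorem lemA (hprim : IsPreprimitive G Ω) {u v : Ω} (huv : u ≠ v) :
    Fintype.card Ω ≤ (out (Orbl G u v) u).card * (dst G u v).card + 1 := by
  classical
  set P := Orbl G u v with hPdef
  have hP : IsInv G P := orbl_isInv u v
  have hcov : (univ : Finset Ω) ⊆ insert u ((out P u).biUnion (fun t => dst G u t)) := by
    intro w _
    by_contra hw
    rw [mem_insert, not_or, mem_biUnion] at hw
    obtain ⟨hwu, hw⟩ := hw
    push Not at hw
    have hw' : ∀ t, P u t → ∃ h : G, h • u = t ∧ h • w = w := by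
      intro t ht
      have := hw t (mem_out.mpr ht)
      rw [mem_dst] at this
      push Not at this
      obtain ⟨h, h1, h2⟩ := this
      exact ⟨h, h1, h2⟩
    have hmem := closed_mem hprim (P := P) hP (a := u) (b := v) (orbl_self u v) huv
      (T := {x | ∃ h : G, h • w = w ∧ h • u = x}) (x := u) ⟨1, one_smul _ _, one_smul _ _⟩
      (by
        rintro y z ⟨h, hw1, rfl⟩ hyz
        have h1 : P u (h⁻¹ • z) := by
          have := hP h⁻¹ _ _ hyz
          simpa using this
        obtain ⟨k, hk1, hk2⟩ := hw' _ h1
        refine ⟨h * k, ?_, ?_⟩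
        · rw [mul_smul, hk2, hw1]
        · rw [mul_smul, hk1, smul_inv_smul]) w
    obtain ⟨h, h1, h2⟩ := hmem
    exact hwu (MulAction.injective h (h2.trans h1.symm)).symm
  calc Fintype.card Ω = (univ : Finset Ω).card := rfl
    _ ≤ (insert u ((out P u).biUnion (fun t => dst G u t))).card := Finset.card_le_card hcov
    _ ≤ ((out P u).biUnion (fun t => dst G u t)).card + 1 := Finset.card_insert_le _ _
    _ ≤ (∑ t ∈ out P u, (dst G u t).card) + 1 := by
        gcongr
        exact Finset.card_biUnion_le
    _ = (out P u).card * (dst G u v).card + 1 := by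
        congr 1
        rw [Finset.sum_congr rfl (g := fun _ => (dst G u v).card), Finset.sum_const, smul_eq_mul]
        intro t ht
        exact card_dst_of_orbl (mem_out.mp ht)

theorem lemB (hprim : IsPreprimitive G Ω) {u v : Ω} (huv : u ≠ v)
    (hq : 4 * (out (Orbl G u v) u \ out (Orbl G u v) v).card < (out (Orbl G u v) u).card) :
    Fintype.card Ω < 2 * (out (Orbl G u v) u).card := by
  classical
  haveI := hprim
  set P := Orbl G u v with hPdef
  have hP : IsInv G P := orbl_isInv u v
  set k := (out P u).card with hk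
  set q := (out P u \ out P v).card with hqdef
  have hk' : ∀ x, (out P x).card = k := fun x => card_out_eq hP x u
  have hi' : ∀ x, (inn P x).card = k := fun x => by rw [card_inn_eq_out hP, hk']
  have hq1 : ∀ x y, P x y → (out P x \ out P y).card = q := by
    rintro x y ⟨h, rfl, rfl⟩
    exact card_sdiff_smul hP h u v
  have hq2 : ∀ x y, P x y → (out P y \ out P x).card = q := fun x y hxy => by
    rw [← hq1 x y hxy]
    exact Finset.card_sdiff_comm ((hk' y).trans (hk' x).symm)
  have c1 : ∀ x z t, P x t → P z t → k ≤ (out P x ∩ out P z).card + 2 * q := by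
    intro x z t hxt hzt
    have hsub : out P t ⊆ (out P x ∩ out P z) ∪ ((out P t \ out P x) ∪ (out P t \ out P z)) := by
      intro w hw
      simp only [mem_union, mem_inter, mem_sdiff]
      tauto
    have h1 := Finset.card_le_card hsub
    have h2 := Finset.card_union_le (out P x ∩ out P z) ((out P t \ out P x) ∪ (out P t \ out P z))
    have h3 := Finset.card_union_le (out P t \ out P x) (out P t \ out P z)
    rw [hq2 x t hxt, hq2 z t hzt] at h3
    rw [hk'] at h1
    omega
  let E : Ω → Ω → Prop := fun x y => ∃ t, P x t ∧ P y t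
  have Etrans : ∀ x y z, E x y → E y z → E x z := by
    rintro x y z ⟨t, h1, h2⟩ ⟨t', h3, h4⟩
    have c2 := c1 x y t h1 h2
    have c3 := c1 y z t' h3 h4
    by_contra hne
    have hd : Disjoint (out P x ∩ out P y) (out P y ∩ out P z) := by
      rw [Finset.disjoint_left]
      intro a ha hb
      exact hne ⟨a, mem_out.mp (mem_inter.mp ha).1, mem_out.mp (mem_inter.mp hb).2⟩
    have hle : (out P x ∩ out P y ∪ out P y ∩ out P z).card ≤ (out P y).card := by
      apply Finset.card_le_card
      apply Finset.union_subset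
      · exact Finset.inter_subset_right
      · exact Finset.inter_subset_left
    rw [Finset.card_union_of_disjoint hd, hk'] at hle
    omega
  have Euv : E u v := by
    have hlt : (out P u \ out P v).card < (out P u).card := by omega
    obtain ⟨t, ht, ht'⟩ := Finset.exists_mem_notMem_of_card_lt_card hlt
    refine ⟨t, mem_out.mp ht, ?_⟩
    by_contra hc
    exact ht' (mem_sdiff.mpr ⟨ht, fun h => hc (mem_out.mp h)⟩)
  have Eu : E u u := ⟨v, orbl_self u v, orbl_self u v⟩
  have EInv : ∀ (h : G) x y, E x y → E (h • x) (h • y) := by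
    rintro h x y ⟨t, h1, h2⟩
    exact ⟨h • t, hP h _ _ h1, hP h _ _ h2⟩
  have hall : ∀ y, E u y := fun y =>
    closed_mem hprim EInv Euv huv (T := {x | E u x}) (x := u) Eu
      (fun y z hy hz => Etrans _ _ _ hy hz) y
  have hsum : ∑ y : Ω, ((out P u).filter (fun t => P y t)).card = k * k := by
    have := Finset.sum_card_bipartiteAbove_eq_sum_card_bipartiteBelow
      (s := (univ : Finset Ω)) (t := out P u) (fun y t => P y t)
    have e2 : ∑ b ∈ out P u, ((univ : Finset Ω).bipartiteBelow (fun y t => P y t) b).card = k * k := by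
      rw [Finset.sum_congr rfl (g := fun _ => k), Finset.sum_const, smul_eq_mul]
      intro t _
      rw [← hi' t]
      congr 1
    rw [← e2, ← this]
    apply Finset.sum_congr rfl
    intro y _
    congr 1
  have hge : ∀ y, k ≤ ((out P u).filter (fun t => P y t)).card + 2 * q := by
    intro y
    obtain ⟨t, h1, h2⟩ := hall y
    have := c1 u y t h1 h2
    have e : out P u ∩ out P y = (out P u).filter (fun t => P y t) := by
      ext w
      simp
    rwa [e] at this
  have hbound : Fintype.card Ω * k ≤ k * k + Fintype.card Ω * (2 * q) := by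
    have h1 : ∑ _y : Ω, k ≤ ∑ y : Ω, (((out P u).filter (fun t => P y t)).card + 2 * q) :=
      Finset.sum_le_sum (fun y _ => hge y)
    rw [Finset.sum_add_distrib, hsum] at h1
    simpa [Finset.card_univ, mul_comm, mul_left_comm] using h1
  by_contra hcon
  push Not at hcon
  have hkpos : 0 < k := by omega
  set n := Fintype.card Ω
  have h4 : 4 * q + 1 ≤ k := hq
  nlinarith [Nat.mul_le_mul_left n h4, Nat.mul_le_mul_right (k + 1) hcon]

theorem lemC (hprim : IsPreprimitive G Ω) {u v z₀ : Ω} (huv : u ≠ v)
    (hdom : Fintype.card Ω < 2 * (out (Orbl G u v) u).card)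
    (hz : z₀ ≠ u) (hzn : ¬ Orbl G u v u z₀) :
    Fintype.card Ω ≤ (2 * (dst G u v).card + 1) ^ 2 := by
  classical
  haveI := hprim
  set P := Orbl G u v with hPdef
  have hP : IsInv G P := orbl_isInv u v
  set k := (out P u).card with hk
  set D := (dst G u v).card with hD
  set n := Fintype.card Ω with hn
  have hk' : ∀ x, (out P x).card = k := fun x => card_out_eq hP x u
  let S : Ω → Ω → Prop := fun x y => x ≠ y ∧ ¬ P x y
  have hS : IsInv G S := by
    rintro h x y ⟨h1, h2⟩
    refine ⟨fun h3 => h1 (MulAction.injective h h3), fun h3 => h2 ((hP.iff h x y).mp h3)⟩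
  set s := (out S u).card with hs
  have hs' : ∀ x, (out S x).card = s := fun x => card_out_eq hS x u
  have hsi : ∀ x, (inn S x).card = s := fun x => by rw [card_inn_eq_out hS, hs']
  have hPirr : ∀ x, ¬ P x x := by
    rintro x ⟨h, h1, h2⟩
    exact huv (MulAction.injective h (h1.trans h2.symm))
  -- partition
  have hpart : n = 1 + k + s := by
    have h1 : (univ : Finset Ω) = insert u (out P u ∪ out S u) := by
      ext w
      simp only [mem_univ, mem_insert, mem_union, mem_out, true_iff]
      by_cases h1 : u = w
      · exact Or.inl h1.symm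
      · by_cases h2 : P u w
        · exact Or.inr (Or.inl h2)
        · exact Or.inr (Or.inr ⟨h1, h2⟩)
    have h2 : u ∉ out P u ∪ out S u := by
      simp only [mem_union, mem_out, not_or]
      exact ⟨hPirr u, fun h => h.1 rfl⟩
    have h3 : Disjoint (out P u) (out S u) := by
      rw [Finset.disjoint_left]
      intro a ha hb
      exact (mem_out.mp hb).2 (mem_out.mp ha)
    have h4 : n = (univ : Finset Ω).card := rfl
    rw [h4, h1, Finset.card_insert_of_notMem h2, Finset.card_union_of_disjoint h3]
    omega
  -- part 1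
  have hex : ∃ z, S u z ∧ S z v := by
    by_contra hno
    push Not at hno
    have hmem := closed_mem hprim (P := S) hS (a := u) (b := z₀) ⟨hz.symm, hzn⟩ hz.symm
      (T := {x | x = u ∨ S u x}) (x := u) (Or.inl rfl)
      (by
        rintro y z (rfl | hy) hyz
        · exact Or.inr hyz
        · by_cases hzu : z = u
          · exact Or.inl hzu
          · right
            refine ⟨fun h => hzu h.symm, fun hPz => ?_⟩
            obtain ⟨h, h1, h2⟩ := hPz
            have a1 : S u (h⁻¹ • y) := by
              have := hS h⁻¹ _ _ hy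
              rw [inv_smul_eq_iff.mpr h1.symm] at this
              exact this
            have a2 : S (h⁻¹ • y) v := by
              have := hS h⁻¹ _ _ hyz
              rw [inv_smul_eq_iff.mpr h2.symm] at this
              exact this
            exact hno _ a1 a2) v
    rcases hmem with h1 | h1
    · exact huv h1.symm
    · exact h1.2 (orbl_self u v)
  have hks : k ≤ s * s := by
    obtain ⟨z, hz1, hz2⟩ := hex
    have hsub : out P u ⊆ (out S u).biUnion (out S) := by
      intro y hy
      obtain ⟨h, h1, h2⟩ := mem_out.mp hy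
      rw [mem_biUnion]
      refine ⟨h • z, mem_out.mpr ?_, mem_out.mpr ?_⟩
      · have := hS h _ _ hz1
        rwa [h1] at this
      · have := hS h _ _ hz2
        rwa [h2] at this
    calc k ≤ ((out S u).biUnion (out S)).card := Finset.card_le_card hsub
      _ ≤ ∑ z ∈ out S u, (out S z).card := Finset.card_biUnion_le
      _ = s * s := by
        rw [Finset.sum_congr rfl (fun z _ => hs' z), Finset.sum_const, smul_eq_mul]
  -- part 2
  have hcommon : ∀ x y : Ω, ∃ t, P x t ∧ P y t := by
    intro x y
    by_contra hno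
    push Not at hno
    have hd : Disjoint (out P x) (out P y) := by
      rw [Finset.disjoint_left]
      intro a ha hb
      exact hno a (mem_out.mp ha) (mem_out.mp hb)
    have h1 : (out P x ∪ out P y).card ≤ n := Finset.card_le_univ _
    rw [Finset.card_union_of_disjoint hd, hk', hk'] at h1
    omega
  have hdst : ∀ x y : Ω, (dst G x y).card ≤ 2 * D := by
    intro x y
    obtain ⟨t, h1, h2⟩ := hcommon x y
    have h3 := Finset.card_le_card (dst_trans (G := G) x t y)
    have h4 := Finset.card_union_le (dst G x t) (dst G t y)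
    have h5 : (dst G t y).card = (dst G y t).card := by rw [dst_comm]
    rw [h5, card_dst_of_orbl h1, card_dst_of_orbl h2] at h4
    omega
  have hSd : ∀ y, (out S u \ out S y).card ≤ D := by
    intro y
    have := two_mul_sdiff_le hS u y ((hs' u).trans (hs' y).symm)
    have := hdst u y
    omega
  have hsum : ∑ y : Ω, ((out S u).filter (fun t => ¬ S y t)).card
      = s * (n - s) := by
    have := Finset.sum_card_bipartiteAbove_eq_sum_card_bipartiteBelow
      (s := (univ : Finset Ω)) (t := out S u) (fun y t => ¬ S y t)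
    have e2 : ∑ b ∈ out S u, ((univ : Finset Ω).bipartiteBelow (fun y t => ¬ S y t) b).card
        = s * (n - s) := by
      rw [Finset.sum_congr rfl (g := fun _ => n - s), Finset.sum_const, smul_eq_mul]
      intro t _
      have h1 := Finset.card_filter_add_card_filter_not (s := (univ : Finset Ω))
        (fun y => S y t)
      have h2 : ((univ : Finset Ω).filter (fun y => S y t)).card = s := by
        rw [← hsi t]
        congr 1
        ext w
        simp
      have h3 : ((univ : Finset Ω).bipartiteBelow (fun y t => ¬ S y t) t).card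
          = ((univ : Finset Ω).filter (fun y => ¬ S y t)).card := by
        congr 1
      rw [h3]
      have h4 : (univ : Finset Ω).card = n := rfl
      omega
    rw [← e2, ← this]
    apply Finset.sum_congr rfl
    intro y _
    congr 1
  have hupper : s * (n - s) ≤ n * D := by
    rw [← hsum]
    calc ∑ y : Ω, ((out S u).filter (fun t => ¬ S y t)).card
        ≤ ∑ _y : Ω, D := by
          apply Finset.sum_le_sum
          intro y _
          refine le_trans (Finset.card_le_card ?_) (hSd y)
          intro w hw
          rw [mem_filter] at hw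
          exact mem_sdiff.mpr ⟨hw.1, fun h => hw.2 (mem_out.mp h)⟩
      _ = n * D := by simp [Finset.card_univ, hn]
  have hsD : s ≤ 2 * D := by
    by_contra hcon
    push Not at hcon
    have e : n - s = k + 1 := by omega
    rw [e] at hupper
    have h1 : (2 * D + 1) * (k + 1) ≤ s * (k + 1) := Nat.mul_le_mul_right _ hcon
    have h2 : n * D ≤ (2 * k) * D := Nat.mul_le_mul_right _ hdom.le
    nlinarith
  calc n = 1 + k + s := hpart
    _ ≤ 1 + s * s + s := by omega
    _ ≤ (s + 1) ^ 2 := by nlinarith
    _ ≤ (2 * D + 1) ^ 2 := Nat.pow_le_pow_left (by omega) 2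

theorem distinguish (hprim : IsPreprimitive G Ω) {u v z₀ : Ω} (huv : u ≠ v)
    (hz : z₀ ≠ u) (hzn : ¬ Orbl G u v u z₀) :
    Fintype.card Ω ≤ (2 * (dst G u v).card + 1) ^ 2 := by
  classical
  haveI := hprim
  by_cases hq : 4 * (out (Orbl G u v) u \ out (Orbl G u v) v).card < (out (Orbl G u v) u).card
  · exact lemC hprim huv (lemB hprim huv hq) hz hzn
  · have hA := lemA hprim huv
    have h2 := two_mul_sdiff_le (orbl_isInv (G := G) u v) u v
      (card_out_eq (orbl_isInv (G := G) u v) u v)
    set k := (out (Orbl G u v) u).card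
    set q := (out (Orbl G u v) u \ out (Orbl G u v) v).card
    set D := (dst G u v).card
    have h3 : k ≤ 2 * D := by omega
    have h4 : k * D ≤ 2 * D * D := Nat.mul_le_mul_right _ h3
    nlinarith

/-- The doubly transitive case: either the support of `g` is large, or two conjugates of `g` have
a 3-cycle as a commutator. -/
theorem two_trans [FaithfulSMul G Ω] (hprim : IsPreprimitive G Ω)
    (hA : ¬ alternatingGroup Ω ≤ (MulAction.toPermHom G Ω).range) (g : G) {u : Ω}
    (hgu : g • u ≠ u) (h2 : ∀ z, z ≠ u → Orbl G u (g • u) u z) :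
    Fintype.card Ω ≤ (((univ : Finset Ω).filter (fun w => g • w ≠ w)).erase u).card ^ 2 + 1 := by
  classical
  haveI := hprim
  haveI : Fintype G := Fintype.ofFinite G
  set v := g • u with hv
  set Δ := ((univ : Finset Ω).filter (fun w => g • w ≠ w)).erase u with hΔ
  set H := (univ : Finset G).filter (fun x => x • u = u) with hH
  set f₀ := (H.filter (fun x => x • v = v)).card with hf₀
  have hfib : ∀ c b, c ≠ u → b ≠ u → (H.filter (fun x => x • c = b)).card = f₀ := by
    intro c b hc hb
    obtain ⟨h₁, h11, h12⟩ := h2 c hc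
    obtain ⟨h₂, h21, h22⟩ := h2 b hb
    symm
    refine Finset.card_equiv ((Equiv.mulLeft h₂).trans (Equiv.mulRight h₁⁻¹)) (fun x => ?_)
    simp only [hH, mem_filter, mem_univ, true_and, Equiv.trans_apply, Equiv.coe_mulLeft,
      Equiv.coe_mulRight]
    have e1 : h₁⁻¹ • u = u := by rw [inv_smul_eq_iff, h11]
    have e2 : h₁⁻¹ • c = v := by rw [inv_smul_eq_iff, h12]
    rw [mul_smul, mul_smul, mul_smul, mul_smul, e1, e2]
    constructor
    · rintro ⟨a1, a2⟩
      rw [a1, a2]
      exact ⟨h21, h22⟩
    · rintro ⟨a1, a2⟩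
      constructor
      · exact MulAction.injective h₂ (a1.trans h21.symm)
      · exact MulAction.injective h₂ (a2.trans h22.symm)
  have hvu : v ≠ u := hgu
  have hHcard : H.card = (Fintype.card Ω - 1) * f₀ := by
    have h1 : H.card = ∑ b ∈ (univ : Finset Ω).erase u, (H.filter (fun x => x • v = b)).card := by
      apply Finset.card_eq_sum_card_fiberwise
      intro x hx
      have hx' : x • u = u := (mem_filter.mp hx).2
      simp only [Finset.coe_erase, Finset.coe_univ, Set.mem_diff, Set.mem_univ, true_and,
        Set.mem_singleton_iff]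
      intro hxv
      exact hvu (MulAction.injective x (hxv.trans hx'.symm))
    rw [h1, Finset.sum_congr rfl (fun b hb => hfib v b hvu (Finset.ne_of_mem_erase hb)),
      Finset.sum_const, smul_eq_mul, Finset.card_erase_of_mem (mem_univ _), Finset.card_univ]
  have hHpos : 0 < H.card := Finset.card_pos.mpr ⟨1, by simp [hH]⟩
  have hf₀pos : 0 < f₀ := by
    rcases Nat.eq_zero_or_pos f₀ with h | h
    · rw [h, mul_zero] at hHcard
      omega
    · exact h
  by_cases hex : ∀ x ∈ H, ∃ c ∈ Δ, x • c ∈ Δ
  · have hsub : H ⊆ Δ.biUnion (fun c => Δ.biUnion (fun b => H.filter (fun x => x • c = b))) := by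
      intro x hx
      obtain ⟨c, hc, hxc⟩ := hex x hx
      simp only [mem_biUnion, mem_filter]
      exact ⟨c, hc, x • c, hxc, hx, rfl⟩
    have hle : H.card ≤ Δ.card ^ 2 * f₀ := by
      calc H.card ≤ (Δ.biUnion (fun c => Δ.biUnion (fun b => H.filter (fun x => x • c = b)))).card :=
            Finset.card_le_card hsub
        _ ≤ ∑ c ∈ Δ, (Δ.biUnion (fun b => H.filter (fun x => x • c = b))).card :=
            Finset.card_biUnion_le
        _ ≤ ∑ c ∈ Δ, ∑ b ∈ Δ, (H.filter (fun x => x • c = b)).card :=
            Finset.sum_le_sum (fun c _ => Finset.card_biUnion_le)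
        _ = ∑ c ∈ Δ, ∑ b ∈ Δ, f₀ := by
            apply Finset.sum_congr rfl
            intro c hc
            apply Finset.sum_congr rfl
            intro b hb
            exact hfib c b (Finset.ne_of_mem_erase hc) (Finset.ne_of_mem_erase hb)
        _ = Δ.card ^ 2 * f₀ := by
            simp only [Finset.sum_const, smul_eq_mul]
            ring
    rw [hHcard] at hle
    have := Nat.le_of_mul_le_mul_right hle hf₀pos
    omega
  · exfalso
    push Not at hex
    obtain ⟨x, hxH, hx⟩ := hex
    have hxu : x • u = u := (mem_filter.mp hxH).2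
    have hxinv : x⁻¹ • u = u := by rw [inv_smul_eq_iff, hxu]
    let ρ := MulAction.toPermHom G Ω
    have h3 := Cfsg.Agent.S3681.commutator_three (ρ g) (ρ (x * g * x⁻¹)) u hgu
      (by
        change (x * g * x⁻¹) • u ≠ u
        rw [mul_smul, mul_smul, hxinv]
        intro h
        exact hvu (MulAction.injective x (h.trans hxu.symm)))
      (by
        intro p hp1 hp2
        change g • p ≠ p at hp1
        change (x * g * x⁻¹) • p ≠ p at hp2
        by_contra hpu
        have hpΔ : p ∈ Δ := by
          rw [hΔ, mem_erase]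
          exact ⟨hpu, by simpa using hp1⟩
        have hc : x⁻¹ • p ∈ Δ := by
          rw [hΔ, mem_erase]
          refine ⟨fun h => hpu ?_, ?_⟩
          · rw [inv_smul_eq_iff] at h
            rw [h, hxu]
          · simp only [mem_filter, mem_univ, true_and]
            intro h
            apply hp2
            rw [mul_smul, mul_smul, h, smul_inv_smul]
        have := hx _ hc
        rw [smul_inv_smul] at this
        exact this hpΔ)
    apply hA
    let f : Ω →ₑ[(MulAction.toPermHom G Ω).rangeRestrict] Ω :=
      ⟨id, fun _ _ => rfl⟩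
    have hR : IsPreprimitive (MulAction.toPermHom G Ω).range Ω :=
      IsPreprimitive.of_surjective (f := f) Function.surjective_id
    refine Equiv.Perm.alternatingGroup_le_of_isPreprimitive_of_isThreeCycle_mem hR h3 ?_
    refine ⟨g * (x * g * x⁻¹) * g⁻¹ * (x * g * x⁻¹)⁻¹, ?_⟩
    simp only [map_mul, map_inv]
    rfl

/-- **Babai's minimal degree bound** in integer form. -/
theorem babai_nat [FaithfulSMul G Ω] (hprim : IsPreprimitive G Ω)
    (hA : ¬ alternatingGroup Ω ≤ (MulAction.toPermHom G Ω).range) (g : G) (hg : g ≠ 1) :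
    Fintype.card Ω ≤ (2 * ((univ : Finset Ω).filter (fun w => g • w ≠ w)).card + 1) ^ 2 := by
  classical
  obtain ⟨u, hgu⟩ : ∃ u : Ω, g • u ≠ u := by
    by_contra hno
    push Not at hno
    exact hg (FaithfulSMul.eq_of_smul_eq_smul (α := Ω) (fun p => by rw [hno, one_smul]))
  set m := ((univ : Finset Ω).filter (fun w => g • w ≠ w)).card with hm
  by_cases h2 : ∀ z, z ≠ u → Orbl G u (g • u) u z
  · have h := two_trans hprim hA g hgu h2
    have hle : (((univ : Finset Ω).filter (fun w => g • w ≠ w)).erase u).card ≤ m :=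
      Finset.card_le_card (Finset.erase_subset _ _)
    set m' := (((univ : Finset Ω).filter (fun w => g • w ≠ w)).erase u).card
    have h3 : m' ^ 2 ≤ m ^ 2 := Nat.pow_le_pow_left hle 2
    nlinarith
  · push Not at h2
    obtain ⟨z, hz, hzn⟩ := h2
    have h := distinguish hprim (u := u) (v := g • u) hgu.symm hz hzn
    have hle : (dst G u (g • u)).card ≤ m := by
      apply Finset.card_le_card
      intro w hw
      rw [mem_dst] at hw
      simp only [mem_filter, mem_univ, true_and]
      intro hgw
      exact hw ⟨g, rfl, hgw⟩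
    exact h.trans (Nat.pow_le_pow_left (by omega) 2)

end main

end

end Cfsg.Agent.Lib.Perm.Babai
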