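import Mathlib

/-!
# The group `Z₂ × S₄`: finite computations

Finite facts used for the characterization of `S₆` by the centralizer `Z₂ × S₄`.
-/

set_option autoImplicit false

namespace Cfsg.Agent.Lib.Perm.CenS4

open Equiv

abbrev Z2 := Multiplicative (ZMod 2)
abbrev S4 := Equiv.Perm (Fin 4)
abbrev Tgt := Z2 × S4

def a : Z2 := Multiplicative.ofAdd 1
def tg : Tgt := (a, 1)
def w : S4 := swap 0 1 * swap 2 3
def w1 : S4 := swap 0 2 * swap 1 3
def w2 : S4 := swap 0 3 * swap 1 2
def zg : Tgt := (1, w)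
def IsV (σ : S4) : Prop := σ = w ∨ σ = w1 ∨ σ = w2
def IsTr (σ : S4) : Prop := ∃ i j : Fin 4, i ≠ j ∧ σ = swap i j

instance : DecidablePred IsV := fun σ => by unfold IsV; infer_instance
instance : DecidablePred IsTr := fun σ => by unfold IsTr; infer_instance

theorem a_mul_a : a * a = 1 := by decide
theorem a_ne_one : a ≠ 1 := by decide
theorem z2_cases : ∀ b : Z2, b = 1 ∨ b = a := by decide

theorem d_center : ∀ x : Tgt, (∀ y, x * y = y * x) → x = 1 ∨ x = tg := by decide +kernel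

theorem d_invol : ∀ y : Tgt, y * y = 1 → y ≠ 1 → y = tg ∨ IsV y.2 ∨ IsTr y.2 := by decide +kernel

theorem d_v_no3 : ∀ y : Tgt, IsV y.2 → ∀ q : Tgt, q * y = y * q → q * q * q = 1 → q = 1 := by decide +kernel

theorem d_v_conj : ∀ y : Tgt, IsV y.2 → ∃ c : Tgt, y = c * (y.1, w) * c⁻¹ := by decide +kernel

theorem d_tr_conj : ∀ ρ ρ' : S4, IsTr ρ → IsTr ρ' → ∀ b : Z2, ∃ c : Tgt, c.1 = 1 ∧ (b, ρ') = c * (b, ρ) * c⁻¹ := by
  decide +kernel

/-- commutators in the centralizer of `zg` -/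
theorem d_comm_std : ∀ y₁ y₂ : Tgt, y₁ * zg = zg * y₁ → y₂ * zg = zg * y₂ →
    y₁ * y₂ * y₁⁻¹ * y₂⁻¹ = 1 ∨ y₁ * y₂ * y₁⁻¹ * y₂⁻¹ = zg := by decide +kernel

/-- a commutator equal to `zg` -/
def c4 : S4 := swap 0 2 * swap 2 1 * swap 1 3

def cc : Tgt := (1, c4)
def rr : Tgt := (1, swap 0 1)
theorem d_zg_comm : cc * rr * cc⁻¹ * rr⁻¹ = zg := by decide +kernel
theorem d_cc_std : cc * zg = zg * cc := by decide +kernel
theorem d_rr_std : rr * zg = zg * rr := by decide +kernel

theorem tg_comm : ∀ y : Tgt, y * tg = tg * y := by decide +kernel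

theorem tg_mul_tg : tg * tg = 1 := by decide
theorem tg_ne_one : tg ≠ 1 := by decide
theorem zg_ne_one : zg ≠ 1 := by decide +kernel

def rr2 : Tgt := (1, swap 2 3)
theorem rr_mul_rr2 : rr * rr2 = zg := by decide +kernel
theorem rr2_comm : rr2 * rr = rr * rr2 := by decide +kernel
theorem rr2_ne : rr2 ≠ rr := by decide +kernel
theorem rr_tr : IsTr rr.2 := by decide +kernel
theorem rr2_tr : IsTr rr2.2 := by decide +kernel

/-- even permutations -/
def IsEv (σ : S4) : Prop := σ = 1 ∨ IsV σ ∨ σ * σ * σ = 1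

instance : DecidablePred IsEv := fun σ => by unfold IsEv; infer_instance

def sg : S4 →* Z2 := MonoidHom.mk' (fun σ => if IsEv σ then 1 else a) (by decide +kernel)

theorem sg_apply (σ : S4) : sg σ = if IsEv σ then 1 else a := rfl

theorem sg_swap : ∀ i j : Fin 4, i ≠ j → sg (swap i j) = a := by decide +kernel

theorem sg_tr : ∀ ρ : S4, IsTr ρ → sg ρ = a := by decide +kernel

def chi : Tgt →* Z2 := (MonoidHom.coprod (MonoidHom.id Z2) sg)

theorem chi_apply (y : Tgt) : chi y = y.1 * sg y.2 := rfl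

theorem chi_tg : chi tg = a := by decide +kernel

theorem chi_zg : chi zg = 1 := by decide +kernel

/-- The dihedral group of order 8 inside `Z₂ × S₄`: the kernel of `chi` in the centralizer of `zg`. -/
def cd : Tgt := (a, c4)
def sd : Tgt := (a, swap 0 1)

def Ffun : DihedralGroup 4 → Tgt
  | DihedralGroup.r i => cd ^ (ZMod.val i)
  | DihedralGroup.sr i => sd * cd ^ (ZMod.val i)

def F : DihedralGroup 4 →* Tgt := MonoidHom.mk' Ffun (by decide +kernel)

theorem F_inj : Function.Injective F := by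
  have : ∀ x y, F x = F y → x = y := by decide +kernel
  exact fun x y h => this x y h

theorem F_mem : ∀ d, chi (F d) = 1 ∧ F d * zg = zg * F d := by decide +kernel

theorem F_surj : ∀ y, chi y = 1 → y * zg = zg * y → ∃ d, F d = y := by decide +kernel

/-- involutions of the dihedral part. -/
def InvD (y : Tgt) : Prop := (y.1 = 1 ∧ IsV y.2) ∨ (y.1 = a ∧ IsTr y.2)

instance : DecidablePred InvD := fun y => by unfold InvD; infer_instance

theorem D_gen : ∀ y, chi y = 1 → y * zg = zg * y →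
    y = 1 ∨ InvD y ∨ ∃ y₁ : Tgt, InvD y₁ ∧ InvD (y₁⁻¹ * y) := by decide +kernel

theorem InvD_chi : ∀ y, InvD y → chi y = 1 := by decide +kernel

theorem cd_sq : cd * cd = zg := by decide +kernel

theorem chi_cd : chi cd = 1 := by decide +kernel

theorem card_Tgt : Nat.card Tgt = 48 := by
  rw [Nat.card_prod, Nat.card_eq_fintype_card, Nat.card_eq_fintype_card]
  decide +kernel

end Cfsg.Agent.Lib.Perm.CenS4
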