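import Mathlib
import Cfsg.Agent.Lib.Perm.CenS4Fin
import Cfsg.Agent.Lib.Frobenius.Even
import Cfsg.Agent.Lib.Components.ZStarMain
import Cfsg.Agent.S0201

/-!
# Finite groups with an involution with centralizer `Z₂ × S₄`: first reductions
-/

set_option autoImplicit false

namespace Cfsg.Agent.Lib.Perm.CenS4

open Equiv

universe u

variable {G : Type u} [Group G] {t : G}

abbrev Cen (t : G) : Subgroup G := Subgroup.centralizer ({t} : Set G)

theorem mem_cen {t g : G} : g ∈ Cen t ↔ g * t = t * g := Subgroup.mem_centralizer_singleton_iff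

/-- The embedding of `Z₂ × S₄` in `G`. -/
def iota (e : Cen t ≃* Tgt) : Tgt →* G := (Cen t).subtype.comp e.symm.toMonoidHom

theorem iota_inj (e : Cen t ≃* Tgt) : Function.Injective (iota e) := by
  intro x y h
  have h' : (e.symm x : G) = (e.symm y : G) := h
  exact e.symm.injective (Subtype.ext h')

theorem iota_comm (e : Cen t ≃* Tgt) (y : Tgt) : iota e y * t = t * iota e y :=
  mem_cen.1 (e.symm y).2

theorem exists_iota (e : Cen t ≃* Tgt) {g : G} (hg : g * t = t * g) : ∃ y, iota e y = g :=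
  ⟨e ⟨g, mem_cen.2 hg⟩, by simp [iota]⟩

/-- The conjugates of `t`. -/
def Om (t x : G) : Prop := ∃ g : G, g * t * g⁻¹ = x

theorem Om.conj {x : G} (h : Om t x) (c : G) : Om t (c * x * c⁻¹) := by
  obtain ⟨g, rfl⟩ := h
  exact ⟨c * g, by group⟩

theorem Om.self : Om t t := ⟨1, by group⟩

/-- The hypotheses of the main theorem in normal form. -/
structure Hyp (e : Cen t ≃* Tgt) (S : Sylow 2 G) : Prop where
  ht : orderOf t = 2
  het : iota e tg = t
  hS : ∀ g, g ∈ (S : Subgroup G) ↔ g * iota e zg = iota e zg * g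
  hSt : ∀ g ∈ (S : Subgroup G), g * t = t * g

section
variable {e : Cen t ≃* Tgt} {S : Sylow 2 G} (h : Hyp e S)
include h

theorem t_mul_t : t * t = 1 := by
  have := pow_orderOf_eq_one t
  rw [h.ht, pow_two] at this
  exact this

theorem t_ne_one : t ≠ 1 := by
  intro h1
  have := h.ht
  rw [h1, orderOf_one] at this
  omega

/-- the centralizer of `z` consists of elements commuting with `zg` in the image. -/
theorem cen_z {g : G} (hg : g * iota e zg = iota e zg * g) :
    ∃ y, iota e y = g ∧ y * zg = zg * y := by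
  obtain ⟨y, rfl⟩ := exists_iota e (h.hSt g ((h.hS g).2 hg))
  refine ⟨y, rfl, ?_⟩
  apply iota_inj e
  simpa [map_mul] using hg

theorem mem_S_iota {y : Tgt} : iota e y ∈ (S : Subgroup G) ↔ y * zg = zg * y := by
  rw [h.hS]
  constructor
  · intro h1
    apply iota_inj e
    simpa [map_mul] using h1
  · intro h1
    rw [← map_mul, h1, map_mul]

theorem cen_conj_z {y c : Tgt} (hy : y = c * zg * c⁻¹) {g : G} (hg : g * iota e y = iota e y * g) :
    ∃ y', iota e y' = g := by
  have h1 : (iota e c)⁻¹ * g * iota e c * iota e zg = iota e zg * ((iota e c)⁻¹ * g * iota e c) := by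
    subst hy
    simp only [map_mul, map_inv] at hg
    have h2 : g * (iota e c * iota e zg * (iota e c)⁻¹) = iota e c * iota e zg * (iota e c)⁻¹ * g := hg
    calc (iota e c)⁻¹ * g * iota e c * iota e zg
        = (iota e c)⁻¹ * (g * (iota e c * iota e zg * (iota e c)⁻¹)) * iota e c := by group
      _ = (iota e c)⁻¹ * (iota e c * iota e zg * (iota e c)⁻¹ * g) * iota e c := by rw [h2]
      _ = iota e zg * ((iota e c)⁻¹ * g * iota e c) := by group
  obtain ⟨y', hy', -⟩ := cen_z h h1
  refine ⟨c * y' * c⁻¹, ?_⟩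
  simp only [map_mul, map_inv, hy']
  group

theorem cen_v {y : Tgt} (hy1 : y.1 = 1) (hy : IsV y.2) {g : G} (hg : g * iota e y = iota e y * g) :
    ∃ y', iota e y' = g := by
  obtain ⟨c, hc⟩ := d_v_conj y hy
  rw [hy1] at hc
  exact cen_conj_z h hc hg

/-- a `V`-element is not conjugate to `t`. -/
theorem not_om_v {y : Tgt} (hy1 : y.1 = 1) (hy : IsV y.2) : ¬ Om t (iota e y) := by
  rintro ⟨g, hg⟩
  set q3 : Tgt := (1, swap 0 1 * swap 1 2) with hq3
  have hq33 : q3 * q3 * q3 = 1 := by decide +kernel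
  have hq3ne : q3 ≠ 1 := by decide +kernel
  set q := g * iota e q3 * g⁻¹ with hq
  have h1 : q * iota e y = iota e y * q := by
    rw [← hg, hq]
    have := iota_comm e q3
    calc g * iota e q3 * g⁻¹ * (g * t * g⁻¹) = g * (iota e q3 * t) * g⁻¹ := by group
      _ = g * (t * iota e q3) * g⁻¹ := by rw [this]
      _ = _ := by group
  obtain ⟨q', hq'⟩ := cen_v h hy1 hy h1
  have h2 : q' * y = y * q' := by
    apply iota_inj e
    rw [map_mul, map_mul, hq']
    exact h1
  have h3 : q' * q' * q' = 1 := by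
    apply iota_inj e
    simp only [map_mul, hq', map_one]
    rw [hq]
    calc g * iota e q3 * g⁻¹ * (g * iota e q3 * g⁻¹) * (g * iota e q3 * g⁻¹)
        = g * (iota e q3 * iota e q3 * iota e q3) * g⁻¹ := by group
      _ = g * iota e (q3 * q3 * q3) * g⁻¹ := by simp only [map_mul]
      _ = 1 := by rw [hq33, map_one]; group
  have h4 := d_v_no3 y hy q' h2 h3
  have h5 : q = 1 := by rw [← hq', h4, map_one]
  have h6 : iota e q3 = 1 := by
    rw [hq] at h5
    have : iota e q3 = g⁻¹ * (g * iota e q3 * g⁻¹) * g := by group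
    rw [this, h5]; group
  exact hq3ne (iota_inj e (by rw [h6, map_one]))

/-- `t` and `t z` are not conjugate. -/
theorem not_om_tz [Finite G] : ¬ Om t (iota e (a, w)) := by
  rintro ⟨g, hg⟩
  haveI : Fact (Nat.Prime 2) := ⟨Nat.prime_two⟩
  have hu : iota e (a, w) = t * iota e zg := by
    have h0 : iota e (a, w) = iota e tg * iota e zg := by
      rw [← map_mul]
      congr 1
    rwa [h.het] at h0
  have h1 : t ∈ Subgroup.centralizer ((S : Subgroup G) : Set G) := by
    rw [Subgroup.mem_centralizer_iff]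
    intro s hs
    exact h.hSt s hs
  have h2 : (g⁻¹)⁻¹ * t * g⁻¹ ∈ Subgroup.centralizer ((S : Subgroup G) : Set G) := by
    rw [inv_inv, hg, hu, Subgroup.mem_centralizer_iff]
    intro s hs
    have h3 := h.hSt s hs
    have h4 := (h.hS s).1 hs
    calc s * (t * iota e zg) = (s * t) * iota e zg := by group
      _ = t * (s * iota e zg) := by rw [h3]; group
      _ = t * (iota e zg * s) := by rw [h4]
      _ = _ := by group
  obtain ⟨n, hn, hn2⟩ := Sylow.conj_eq_normalizer_conj_of_mem_centralizer S t g⁻¹ h1 h2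
  rw [inv_inv, hg] at hn2
  -- `n⁻¹` normalizes `S`
  have hk : ∀ x ∈ (S : Subgroup G), n⁻¹ * x * n ∈ (S : Subgroup G) := by
    intro x hx
    have := (Subgroup.mem_normalizer_iff'.1 hn) 
    have h5 := (Subgroup.mem_normalizer_iff.1 (inv_mem hn) x).1 hx
    simpa using h5
  have hcc : iota e cc ∈ (S : Subgroup G) := (mem_S_iota h).2 d_cc_std
  have hrr : iota e rr ∈ (S : Subgroup G) := (mem_S_iota h).2 d_rr_std
  obtain ⟨y₁, hy₁⟩ := exists_iota e (h.hSt _ (hk _ hcc))
  obtain ⟨y₂, hy₂⟩ := exists_iota e (h.hSt _ (hk _ hrr))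
  have hy₁s : y₁ * zg = zg * y₁ := (mem_S_iota h).1 (hy₁ ▸ hk _ hcc)
  have hy₂s : y₂ * zg = zg * y₂ := (mem_S_iota h).1 (hy₂ ▸ hk _ hrr)
  have hcomm : n⁻¹ * iota e zg * n = iota e (y₁ * y₂ * y₁⁻¹ * y₂⁻¹) := by
    simp only [map_mul, map_inv, hy₁, hy₂]
    rw [← d_zg_comm]
    simp only [map_mul, map_inv]
    group
  have hzz : n⁻¹ * iota e zg * n = iota e zg := by
    rcases d_comm_std y₁ y₂ hy₁s hy₂s with h6 | h6
    · exfalso
      rw [h6, map_one] at hcomm
      have h7 : iota e zg = 1 := by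
        have : iota e zg = n * (n⁻¹ * iota e zg * n) * n⁻¹ := by group
        rw [this, hcomm]; group
      exact zg_ne_one (iota_inj e (by rw [h7, map_one]))
    · rw [hcomm, h6]
  have hnS : n⁻¹ ∈ (S : Subgroup G) := by
    rw [h.hS]
    calc n⁻¹ * iota e zg = (n⁻¹ * iota e zg * n) * n⁻¹ := by group
      _ = _ := by rw [hzz]
  have h8 := h.hSt _ hnS
  have h9 : iota e (a, w) = t := by
    rw [hn2]
    rw [h8]
    group
  have h9' : iota e (a, w) = iota e tg := by rw [h9, h.het]
  exact absurd (iota_inj e h9') (by decide +kernel)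

/-- The conjugates of `t` in the centralizer of `t`. -/
theorem om_cases [Finite G] {y : Tgt} (hy : Om t (iota e y)) : y = tg ∨ IsTr y.2 := by
  have hyy : y * y = 1 := by
    apply iota_inj e
    obtain ⟨g, hg⟩ := hy
    rw [map_mul, ← hg, map_one]
    calc g * t * g⁻¹ * (g * t * g⁻¹) = g * (t * t) * g⁻¹ := by group
      _ = 1 := by rw [t_mul_t h]; group
  have hy1 : y ≠ 1 := by
    rintro rfl
    obtain ⟨g, hg⟩ := hy
    rw [map_one] at hg
    apply t_ne_one h
    have : t = g⁻¹ * (g * t * g⁻¹) * g := by group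
    rw [this, hg]; group
  rcases d_invol y hyy hy1 with h1 | h1 | h1
  · exact Or.inl h1
  · exfalso
    obtain ⟨c, hc⟩ := d_v_conj y h1
    rcases z2_cases y.1 with h2 | h2
    · exact not_om_v h h2 h1 hy
    · apply not_om_tz h
      have h3 : ((a, w) : Tgt) = c⁻¹ * y * c := by
        rw [← h2]
        nth_rw 2 [hc]
        group
      rw [h3]
      have := hy.conj (iota e c)⁻¹
      simpa [map_mul, map_inv] using this
  · exact Or.inr h1

/-- Normal subgroups of odd order are trivial. -/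
theorem eq_bot_of_odd [Finite G] {N : Subgroup G} (hN : N.Normal) (hodd : Odd (Nat.card N)) : N = ⊥ := by
  rw [eq_bot_iff]
  intro k hk
  rw [Subgroup.mem_bot]
  -- the three elements `v`
  have hfix : ∀ y : Tgt, y.1 = 1 → IsV y.2 → ∀ k ∈ N, iota e y * k = k * iota e y → k = 1 := by
    intro y hy1 hy k hk hc
    obtain ⟨k', rfl⟩ := cen_v h hy1 hy hc.symm
    have hc' : k' * y = y * k' := by
      apply iota_inj e
      simpa [map_mul] using hc.symm
    have h16 : k' ^ 16 = 1 := by
      have : ∀ y : Tgt, IsV y.2 → ∀ q : Tgt, q * y = y * q → q ^ 16 = 1 := by decide +kernel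
      exact this y hy k' hc'
    have hcop : Nat.Coprime (Nat.card N) 16 := by
      have : Nat.Coprime (Nat.card N) (2 ^ 4) := Nat.Coprime.pow_right 4 (Nat.coprime_two_right.2 hodd)
      simpa using this
    have h1 : (iota e k') ^ 16 = 1 := by rw [← map_pow, h16, map_one]
    have h2 : (iota e k') ^ Nat.card N = 1 := by
      have := pow_card_eq_one' (G := N) (x := ⟨iota e k', hk⟩)
      have h3 := congrArg (Subtype.val) this
      rw [Subgroup.coe_pow] at h3
      exact h3
    have := (pow_gcd_eq_one (a := iota e k') (m := Nat.card N) (n := 16)).2 ⟨h2, h1⟩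
    rw [hcop.gcd_eq_one, pow_one] at this
    exact this
  have hinv : ∀ y : Tgt, y.1 = 1 → IsV y.2 → ∀ k ∈ N, iota e y * k * (iota e y)⁻¹ = k⁻¹ := by
    intro y hy1 hy k hk
    have hyy : iota e y * iota e y = 1 := by
      rw [← map_mul]
      have : ∀ y : Tgt, y.1 = 1 → IsV y.2 → y * y = 1 := by decide +kernel
      rw [this y hy1 hy, map_one]
    refine Cfsg.Agent.Lib.Frobenius.Even.inverts_of_fpf_involution ?_ hyy ?_ hk
    · rw [Subgroup.normalizer_eq_top_iff.2 hN]
      exact Subgroup.mem_top _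
    · intro k hk hc
      exact hfix y hy1 hy k hk hc
  have h1 : iota e (1, w1) * (iota e (1, w2) * k * (iota e (1, w2))⁻¹) * (iota e (1, w1))⁻¹ = k := by
    rw [hinv (1, w2) rfl (Or.inr (Or.inr rfl)) k hk,
      hinv (1, w1) rfl (Or.inr (Or.inl rfl)) k⁻¹ (inv_mem hk), inv_inv]
  have h2 : (1, w) = ((1, w1) : Tgt) * (1, w2) := by decide +kernel
  apply hfix (1, w) rfl (Or.inl rfl) k hk
  rw [h2, map_mul]
  have h3 : iota e (1, w1) * iota e (1, w2) * k * (iota e (1, w1) * iota e (1, w2))⁻¹ = k := by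
    calc iota e (1, w1) * iota e (1, w2) * k * (iota e (1, w1) * iota e (1, w2))⁻¹
        = iota e (1, w1) * (iota e (1, w2) * k * (iota e (1, w2))⁻¹) * (iota e (1, w1))⁻¹ := by group
      _ = k := h1
  calc iota e (1, w1) * iota e (1, w2) * k
      = (iota e (1, w1) * iota e (1, w2) * k * (iota e (1, w1) * iota e (1, w2))⁻¹) * (iota e (1, w1) * iota e (1, w2)) := by group
    _ = _ := by rw [h3]

/-- If `t` has no other conjugate in `Z₂ × S₄`, it is central. -/
theorem caseA [Finite G] (hno : ∀ y : Tgt, IsTr y.2 → ¬ Om t (iota e y)) : Cen t = ⊤ := by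
  have hiso : ∀ g : G, g * t * g⁻¹ ∈ (S : Subgroup G) → g * t * g⁻¹ = t := by
    intro g hg
    obtain ⟨y, hy⟩ := exists_iota e (h.hSt _ hg)
    have h1 : Om t (iota e y) := ⟨g, hy.symm⟩
    rcases om_cases h h1 with h2 | h2
    · rw [← hy, h2, h.het]
    · exact absurd h1 (hno y h2)
  obtain ⟨N, hN, hodd, hc⟩ := Cfsg.Agent.Lib.Components.ZStarMain.zstar_sylow
    (fun X _ _ S n e hO => Cfsg.Agent.S0201.result S n e hO) S t h.ht
    ((h.hS t).2 (iota_comm e zg).symm) hiso
  have hb := eq_bot_of_odd h hN hodd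
  rw [eq_top_iff]
  intro g _
  rw [mem_cen]
  have h1 := hc g
  rw [hb, Subgroup.mem_bot] at h1
  have h2 : t * g * t⁻¹ = g := by
    have : t * g * t⁻¹ = (t * g * t⁻¹ * g⁻¹) * g := by group
    rw [this, h1, one_mul]
  calc g * t = t * g * t⁻¹ * t := by rw [h2]
    _ = _ := by group

end

end Cfsg.Agent.Lib.Perm.CenS4
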