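import Mathlib
import Cfsg.Agent.Lib.Perm.CenS4A
import Cfsg.Agent.Lib.Transfer.IndexTwo
import Cfsg.Agent.Lib.SmallCen.D8Char
import Cfsg.Agent.Lib.SmallCen.D8Simple

/-!
# Finite groups with an involution with centralizer `Z₂ × S₄`: the subgroup of index two
-/

set_option autoImplicit false

namespace Cfsg.Agent.Lib.Perm.CenS4

open Equiv

universe u

variable {G : Type u} [Group G] [Finite G] {t : G} {e : Cen t ≃* Tgt} {S : Sylow 2 G}

section
variable (h : Hyp e S) (hr : Om t (iota e rr))
include h hr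

omit [Finite G] in
theorem om_tr {ρ : S4} (hρ : IsTr ρ) : Om t (iota e (1, ρ)) := by
  obtain ⟨c, -, hc⟩ := d_tr_conj (swap 0 1) ρ (by decide +kernel) hρ 1
  clear h
  have h1 := hr.conj (iota e c)
  have h2 : iota e (1, ρ) = iota e c * iota e rr * (iota e c)⁻¹ := by
    rw [hc]
    simp only [map_mul, map_inv]
    rfl
  rw [h2]
  exact h1

/-- The elements `t r` are conjugate to `z`. -/
theorem z_conj_tr {ρ : S4} (hρ : IsTr ρ) : ∃ g, g * iota e zg * g⁻¹ = iota e (a, ρ) := by
  obtain ⟨g, hg⟩ := id hr
  have hr2 : Om t (iota e rr2) := om_tr h hr rr2_tr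
  set r' := g⁻¹ * iota e rr2 * g with hr'
  have hcomm : r' * t = t * r' := by
    have h1 : iota e rr2 * iota e rr = iota e rr * iota e rr2 := by
      rw [← map_mul, rr2_comm, map_mul]
    rw [← hg] at h1
    have h2 : g⁻¹ * (iota e rr2 * (g * t * g⁻¹)) * g = g⁻¹ * ((g * t * g⁻¹) * iota e rr2) * g := by rw [h1]
    calc r' * t = g⁻¹ * (iota e rr2 * (g * t * g⁻¹)) * g := by rw [hr']; group
      _ = g⁻¹ * ((g * t * g⁻¹) * iota e rr2) * g := h2
      _ = t * r' := by rw [hr']; group
  obtain ⟨y, hy⟩ := exists_iota e hcomm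
  have hOmy : Om t (iota e y) := by
    rw [hy, hr']
    have := hr2.conj g⁻¹
    simpa using this
  have hzc : g⁻¹ * iota e zg * g = t * r' := by
    rw [← rr_mul_rr2, map_mul, ← hg, hr']
    group
  have hytr : IsTr y.2 := by
    rcases om_cases h hOmy with h1 | h1
    · exfalso
      rw [h1, h.het] at hy
      have h2 : iota e rr2 = g * t * g⁻¹ := by
        calc iota e rr2 = g * r' * g⁻¹ := by rw [hr']; group
          _ = g * t * g⁻¹ := by rw [← hy]
      rw [hg] at h2
      exact rr2_ne (iota_inj e h2)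
    · exact h1
  have hty : t * r' = iota e (tg * y) := by
    rw [map_mul, h.het, hy]
  rcases z2_cases y.1 with h1 | h1
  · -- `y.1 = 1`
    have h2 : tg * y = (a, y.2) := by
      ext1
      · change a * y.1 = a
        rw [h1, mul_one]
      · change 1 * y.2 = y.2
        rw [one_mul]
    obtain ⟨c, -, hc⟩ := d_tr_conj y.2 ρ hytr hρ a
    refine ⟨iota e c * g⁻¹, ?_⟩
    rw [hc]
    simp only [map_mul, map_inv]
    rw [mul_inv_rev, inv_inv]
    have h3 : iota e (a, y.2) = g⁻¹ * iota e zg * g := by rw [hzc, hty, h2]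
    rw [h3]
    group
  · -- `y.1 = a` is impossible
    exfalso
    have h2 : tg * y = (1, y.2) := by
      ext1
      · change a * y.1 = 1
        rw [h1, a_mul_a]
      · change 1 * y.2 = y.2
        rw [one_mul]
    have h3 : Om t (iota e (1, y.2)) := om_tr h hr hytr
    rw [← h2, ← hty, ← hzc] at h3
    have h4 := h3.conj g
    have h5 : g * (g⁻¹ * iota e zg * g) * g⁻¹ = iota e zg := by group
    rw [h5] at h4
    exact not_om_v h (y := zg) rfl (Or.inl rfl) h4

theorem om_cases2 {y : Tgt} (hy : Om t (iota e y)) : y = tg ∨ (y.1 = 1 ∧ IsTr y.2) := by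
  rcases om_cases h hy with h1 | h1
  · exact Or.inl h1
  · rcases z2_cases y.1 with h2 | h2
    · exact Or.inr ⟨h2, h1⟩
    · exfalso
      obtain ⟨g, hg⟩ := z_conj_tr h hr h1
      have h3 : ((a, y.2) : Tgt) = y := by
        ext1
        · exact h2.symm
        · rfl
      rw [h3] at hg
      have h4 := hy.conj g⁻¹
      rw [← hg] at h4
      have h5 : g⁻¹ * (g * iota e zg * g⁻¹) * g⁻¹⁻¹ = iota e zg := by group
      rw [h5] at h4
      exact not_om_v h (y := zg) rfl (Or.inl rfl) h4

end

section
variable (h : Hyp e S)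
include h

omit [Finite G] in
theorem S_le_cen : (S : Subgroup G) ≤ Cen t := fun s hs => mem_cen.2 (h.hSt s hs)

/-- The character on the Sylow subgroup. -/
noncomputable def epsS : (S : Subgroup G) →* Z2 :=
  chi.comp (e.toMonoidHom.comp (Subgroup.inclusion (S_le_cen h)))

theorem epsS_iota {y : Tgt} (hm : iota e y ∈ (S : Subgroup G)) : epsS h ⟨iota e y, hm⟩ = chi y := by
  have h1 : Subgroup.inclusion (S_le_cen h) ⟨iota e y, hm⟩ = e.symm y := Subtype.ext rfl
  simp only [epsS, MonoidHom.comp_apply, h1]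
  simp

variable (hr : Om t (iota e rr))
include hr

theorem exists_f : ∃ f : G →* Z2, f t = a ∧ ∀ y, f (iota e y) = chi y := by
  classical
  haveI : Fact (Nat.Prime 2) := ⟨Nat.prime_two⟩
  have hodd : Odd (S : Subgroup G).index := by
    have := S.not_dvd_index
    exact Nat.odd_iff.2 (by omega)
  have h1 : (MonoidHom.transfer (epsS h)) t ≠ 1 := by
    refine Cfsg.Agent.Lib.Transfer.IndexTwo.transfer_ne_one (S : Subgroup G) hodd (epsS h) t 1 ?_ ?_ ?_
    · rw [pow_one, pow_two]
      exact t_mul_t h
    · intro g hg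
      obtain ⟨y, hy⟩ := exists_iota e (h.hSt _ hg)
      have hOm : Om t (iota e y) := ⟨g⁻¹, by rw [inv_inv]; exact hy.symm⟩
      have hmem : iota e y ∈ (S : Subgroup G) := hy ▸ hg
      have h2 : (⟨g⁻¹ * t * g, hg⟩ : (S : Subgroup G)) = ⟨iota e y, hmem⟩ := Subtype.ext hy.symm
      rw [h2, epsS_iota]
      rcases om_cases2 h hr hOm with h3 | ⟨h3, h4⟩
      · rw [h3, chi_tg]
        exact a_ne_one
      · rw [chi_apply, h3, one_mul, sg_tr _ h4]
        exact a_ne_one
    · intro k hk hk2 g hg
      have hk3 : k = 2 := by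
        have := Nat.le_of_dvd (by norm_num) hk2
        omega
      subst hk3
      have h2 : (⟨g⁻¹ * t ^ 2 * g, hg⟩ : (S : Subgroup G)) = 1 := by
        apply Subtype.ext
        change g⁻¹ * t ^ 2 * g = 1
        rw [pow_two, t_mul_t h]
        simp
      rw [h2, map_one]
  refine ⟨MonoidHom.transfer (epsS h), ?_, ?_⟩
  · rcases z2_cases (MonoidHom.transfer (epsS h) t) with h2 | h2
    · exact absurd h2 h1
    · exact h2
  · set f := MonoidHom.transfer (epsS h) with hf
    have hft : f t = a := by
      rcases z2_cases (f t) with h2 | h2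
      · exact absurd h2 h1
      · exact h2
    have hom : ∀ x, Om t x → f x = a := by
      rintro x ⟨g, rfl⟩
      rw [map_mul, map_mul, map_inv, hft, mul_comm (f g), mul_assoc, mul_inv_cancel, mul_one]
    have hS4 : ∀ σ : S4, f (iota e (1, σ)) = sg σ := by
      intro σ
      induction σ using Equiv.Perm.swap_induction_on with
      | one =>
        have : ((1, 1) : Tgt) = 1 := rfl
        rw [this, map_one, map_one, map_one]
      | swap_mul σ x y hxy ih =>
        have h2 : ((1, swap x y * σ) : Tgt) = (1, swap x y) * (1, σ) := by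
          ext1
          · exact (mul_one _).symm
          · rfl
        rw [h2, map_mul, map_mul, map_mul, ih, hom _ (om_tr h hr ⟨x, y, hxy, rfl⟩), sg_swap x y hxy]
    intro y
    have h2 : y = (y.1, 1) * (1, y.2) := by
      ext1
      · exact (mul_one _).symm
      · exact (one_mul _).symm
    have h3 : f (iota e (y.1, 1)) = y.1 := by
      rcases z2_cases y.1 with h4 | h4
      · rw [h4]
        have : ((1, 1) : Tgt) = 1 := rfl
        rw [this, map_one, map_one]
      · rw [h4]
        have : iota e (a, 1) = t := h.het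
        rw [this, hft]
    conv_lhs => rw [h2]
    rw [map_mul, map_mul, h3, hS4, chi_apply]

end

end Cfsg.Agent.Lib.Perm.CenS4
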