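import Mathlib
import Cfsg.Agent.Lib.Perm.CenS4B

/-!
# Finite groups with an involution with centralizer `Z₂ × S₄`: the kernel of the character
-/

set_option autoImplicit false

namespace Cfsg.Agent.Lib.Perm.CenS4

open Equiv

universe u

variable {G : Type u} [Group G] [Finite G] {t : G} {e : Cen t ≃* Tgt} {S : Sylow 2 G} {f : G →* Z2}

abbrev Cen' {H : Type*} [Group H] (x : H) : Subgroup H := Cfsg.Agent.Lib.SmallCen.D8Group.Cen x

/-- `z` in the kernel. -/
def zk (hfi : ∀ y, f (iota e y) = chi y) : f.ker := ⟨iota e zg, by rw [MonoidHom.mem_ker, hfi, chi_zg]⟩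

theorem zg_sq : zg ^ 2 = 1 := by decide +kernel

section
variable (hft : f t = a) (hfi : ∀ y, f (iota e y) = chi y)
include hft

omit [Finite G] in
theorem f_surj : Function.Surjective f := by
  intro b
  rcases z2_cases b with rfl | rfl
  · exact ⟨1, map_one f⟩
  · exact ⟨t, hft⟩

theorem index_ker : f.ker.index = 2 := by
  rw [Subgroup.index_ker, MonoidHom.range_eq_top.2 (f_surj hft)]
  rw [Subgroup.card_top, Nat.card_eq_fintype_card]
  rfl

theorem card_ker : Nat.card f.ker * 2 = Nat.card G := by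
  have h1 := Subgroup.card_mul_index f.ker
  rwa [index_ker hft] at h1

omit hft

/-- The embedding of the dihedral group. -/
noncomputable def emb (h : Hyp e S) : DihedralGroup 4 →* Cen' (zk hfi) where
  toFun d := ⟨⟨iota e (F d), by rw [MonoidHom.mem_ker, hfi]; exact (F_mem d).1⟩, by
    rw [Cfsg.Agent.Lib.SmallCen.D8Group.mem_cen]
    apply Subtype.ext
    change iota e (F d) * iota e zg = iota e zg * iota e (F d)
    rw [← map_mul, (F_mem d).2, map_mul]⟩
  map_one' := by
    apply Subtype.ext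
    apply Subtype.ext
    change iota e (F 1) = 1
    rw [map_one, map_one]
  map_mul' := by
    intro x y
    apply Subtype.ext
    apply Subtype.ext
    change iota e (F (x * y)) = iota e (F x) * iota e (F y)
    rw [map_mul, map_mul]

theorem emb_bij (h : Hyp e S) : Function.Bijective (emb (f := f) (e := e) hfi h) := by
  constructor
  · intro x y hxy
    have h1 : iota e (F x) = iota e (F y) := congrArg (fun q : Cen' (zk hfi) => ((q : f.ker) : G)) hxy
    exact F_inj (iota_inj e h1)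
  · rintro ⟨⟨x, hx⟩, hxc⟩
    rw [Cfsg.Agent.Lib.SmallCen.D8Group.mem_cen] at hxc
    have h1 : x * iota e zg = iota e zg * x := congrArg Subtype.val hxc
    obtain ⟨y, rfl, hy⟩ := cen_z h h1
    have h2 : chi y = 1 := by
      rw [← hfi]
      exact hx
    obtain ⟨d, rfl⟩ := F_surj y h2 hy
    exact ⟨d, rfl⟩

/-- The centralizer of `z` in the kernel is dihedral of order 8. -/
noncomputable def e2 (h : Hyp e S) : Cen' (zk hfi) ≃* DihedralGroup 4 :=
  (MulEquiv.ofBijective (emb hfi h) (emb_bij hfi h)).symm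

omit [Finite G] in
theorem zk_order : orderOf (zk (e := e) hfi) = 2 := by
  haveI : Fact (Nat.Prime 2) := ⟨Nat.prime_two⟩
  apply orderOf_eq_prime
  · apply Subtype.ext
    change (iota e zg) ^ 2 = 1
    rw [← map_pow]
    rw [zg_sq, map_one]
  · intro h1
    have h2 : iota e zg = 1 := congrArg Subtype.val h1
    exact zg_ne_one (iota_inj e (by rw [h2, map_one]))

end

section
variable (h : Hyp e S) (hr : Om t (iota e rr)) (hft : f t = a) (hfi : ∀ y, f (iota e y) = chi y)
include h hr hft hfi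

theorem no_index_two (K : Subgroup f.ker) (hK : K.index = 2) : False := by
  classical
  haveI : Fact (Nat.Prime 2) := ⟨Nat.prime_two⟩
  haveI hKn : K.Normal := Subgroup.normal_of_index_eq_two hK
  -- `z ∈ K`
  have hcdk : iota e cd ∈ f.ker := by rw [MonoidHom.mem_ker, hfi, chi_cd]
  have hzK : zk hfi ∈ K := by
    have h1 := Subgroup.sq_mem_of_index_two hK (⟨iota e cd, hcdk⟩ : f.ker)
    have h2 : (⟨iota e cd, hcdk⟩ : f.ker) ^ 2 = zk hfi := by
      apply Subtype.ext
      change (iota e cd) ^ 2 = iota e zg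
      rw [pow_two, ← map_mul, cd_sq]
    rwa [h2] at h1
  -- involutions
  have hinv : ∀ y, InvD y → ∀ m : iota e y ∈ f.ker, (⟨iota e y, m⟩ : f.ker) ∈ K := by
    intro y hy m
    have h1 : ∃ g, g * iota e zg * g⁻¹ = iota e y := by
      rcases hy with ⟨hy1, hy2⟩ | ⟨hy1, hy2⟩
      · obtain ⟨c, hc⟩ := d_v_conj y hy2
        rw [hy1] at hc
        refine ⟨iota e c, ?_⟩
        conv_rhs => rw [hc]
        simp only [map_mul, map_inv]
        rfl
      · obtain ⟨g, hg⟩ := z_conj_tr h hr hy2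
        refine ⟨g, ?_⟩
        rw [hg]
        congr 1
        ext1
        · exact hy1.symm
        · rfl
    obtain ⟨g, hg⟩ := h1
    have h2 : ∃ g' ∈ f.ker, g' * iota e zg * g'⁻¹ = iota e y := by
      rcases z2_cases (f g) with h3 | h3
      · exact ⟨g, h3, hg⟩
      · refine ⟨g * t, ?_, ?_⟩
        · rw [MonoidHom.mem_ker, map_mul, h3, hft, a_mul_a]
        · rw [← hg]
          have h4 := iota_comm e zg
          calc g * t * iota e zg * (g * t)⁻¹ = g * (t * iota e zg) * t⁻¹ * g⁻¹ := by group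
            _ = g * (iota e zg * t) * t⁻¹ * g⁻¹ := by rw [h4]
            _ = _ := by group
    obtain ⟨g', hg'm, hg'⟩ := h2
    have h3 := hKn.conj_mem _ hzK (⟨g', hg'm⟩ : f.ker)
    have h4 : (⟨g', hg'm⟩ : f.ker) * zk hfi * (⟨g', hg'm⟩ : f.ker)⁻¹ = ⟨iota e y, m⟩ :=
      Subtype.ext hg'
    rwa [h4] at h3
  have hall : ∀ y, chi y = 1 → y * zg = zg * y → ∀ m : iota e y ∈ f.ker, (⟨iota e y, m⟩ : f.ker) ∈ K := by
    intro y h1 h2 m
    rcases D_gen y h1 h2 with h3 | h3 | ⟨y₁, h3, h4⟩
    · subst h3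
      have : (⟨iota e 1, m⟩ : f.ker) = 1 := Subtype.ext (map_one _)
      rw [this]
      exact K.one_mem
    · exact hinv y h3 m
    · have hm1 : iota e y₁ ∈ f.ker := by rw [MonoidHom.mem_ker, hfi, InvD_chi _ h3]
      have hm2 : iota e (y₁⁻¹ * y) ∈ f.ker := by rw [MonoidHom.mem_ker, hfi, InvD_chi _ h4]
      have h5 := K.mul_mem (hinv y₁ h3 hm1) (hinv _ h4 hm2)
      have h6 : (⟨iota e y₁, hm1⟩ : f.ker) * ⟨iota e (y₁⁻¹ * y), hm2⟩ = ⟨iota e y, m⟩ := by
        apply Subtype.ext
        change iota e y₁ * iota e (y₁⁻¹ * y) = iota e y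
        rw [← map_mul]
        congr 1
        group
      rwa [h6] at h5
  have hPK : Cen' (zk hfi) ≤ K := by
    rintro ⟨x, hx⟩ hxc
    rw [Cfsg.Agent.Lib.SmallCen.D8Group.mem_cen] at hxc
    have h1 : x * iota e zg = iota e zg * x := congrArg Subtype.val hxc
    obtain ⟨y, rfl, hy⟩ := cen_z h h1
    have h2 : chi y = 1 := by
      rw [← hfi]
      exact hx
    exact hall y h2 hy hx
  have h8 : 8 ∣ Nat.card K := by
    have h1 := Subgroup.card_dvd_of_le hPK
    rwa [Nat.card_congr (e2 hfi h).toEquiv, Cfsg.Agent.Lib.SmallCen.D8Group.d_card] at h1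
  have hKc : Nat.card K * 2 = Nat.card f.ker := by
    have h1 := Subgroup.card_mul_index K
    rwa [hK] at h1
  have hGc := card_ker hft
  have hSle : Nat.card S ∣ 48 := by
    have h1 := Subgroup.card_dvd_of_le (S_le_cen h)
    rwa [Nat.card_congr e.toEquiv, card_Tgt] at h1
  have hSi : Nat.card S * (S : Subgroup G).index = Nat.card G := Subgroup.card_mul_index _
  have hodd : Odd (S : Subgroup G).index := by
    have := S.not_dvd_index
    exact Nat.odd_iff.2 (by omega)
  have h32 : 32 ∣ Nat.card S := by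
    have h1 : 32 ∣ Nat.card S * (S : Subgroup G).index := by
      rw [hSi, ← hGc, ← hKc]
      obtain ⟨k, hk⟩ := h8
      exact ⟨k, by rw [hk]; ring⟩
    have hcop : Nat.Coprime 32 (S : Subgroup G).index := by
      have : Nat.Coprime (2 ^ 5) (S : Subgroup G).index := Nat.Coprime.pow_left 5 (Nat.coprime_two_left.2 hodd)
      simpa using this
    exact hcop.dvd_of_dvd_mul_right h1
  have := h32.trans hSle
  omega

theorem H_main : (Nat.card f.ker = 168 ∨ Nat.card f.ker = 360) ∧ IsSimpleGroup f.ker ∧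
    ∀ g W : G, f g = 1 → f W = 1 → g * g = 1 → g * W = W * g → W * W * W = 1 → W ≠ 1 → g = 1 := by
  have h2 : ∀ K : Subgroup f.ker, K.index ≠ 2 := fun K hK => no_index_two h hr hft hfi K hK
  have hz2 := zk_order (f := f) (e := e) hfi
  obtain ⟨hcases, hperf⟩ := Cfsg.Agent.Lib.SmallCen.D8Char.main (e2 hfi h) hz2 h2
  have hcard := Cfsg.Agent.Lib.SmallCen.D8Group.card_eq_eight_mul (e2 hfi h)
  refine ⟨hcases, ?_, ?_⟩
  · refine Cfsg.Agent.Lib.SmallCen.D8Simple.isSimple (e2 hfi h) hz2 h2 ?_ hperf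
    omega
  · intro g W hg hW hgg hgW hW3 hW1
    by_contra hg1
    have hgk : orderOf (⟨g, hg⟩ : f.ker) = 2 := by
      haveI : Fact (Nat.Prime 2) := ⟨Nat.prime_two⟩
      apply orderOf_eq_prime
      · apply Subtype.ext
        change g ^ 2 = 1
        rw [pow_two, hgg]
      · intro h3
        exact hg1 (congrArg Subtype.val h3)
    have hconj := Cfsg.Agent.Lib.SmallCen.D8Group.isConj_of_orderOf_two (e2 hfi h) hz2 h2 hgk
    obtain ⟨c, hc⟩ := isConj_iff.1 hconj
    have hc' : (c : G) * iota e zg * (c : G)⁻¹ = g := congrArg Subtype.val hc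
    set Wk : f.ker := (c⁻¹ * ⟨W, hW⟩ * c) with hWk
    have hWkc : Wk ∈ Cen' (zk hfi) := by
      rw [Cfsg.Agent.Lib.SmallCen.D8Group.mem_cen]
      apply Subtype.ext
      change (c : G)⁻¹ * W * (c : G) * iota e zg = iota e zg * ((c : G)⁻¹ * W * (c : G))
      have h3 : iota e zg = (c : G)⁻¹ * g * (c : G) := by rw [← hc']; group
      rw [h3]
      calc (c : G)⁻¹ * W * (c : G) * ((c : G)⁻¹ * g * (c : G)) = (c : G)⁻¹ * (W * g) * (c : G) := by group
        _ = (c : G)⁻¹ * (g * W) * (c : G) := by rw [hgW]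
        _ = _ := by group
    have hd : ∀ d : DihedralGroup 4, d * d * d = 1 → d = 1 := by decide
    have h4 : (e2 hfi h) ⟨Wk, hWkc⟩ = 1 := by
      apply hd
      rw [← map_mul, ← map_mul]
      have h5 : (⟨Wk, hWkc⟩ : Cen' (zk hfi)) * ⟨Wk, hWkc⟩ * ⟨Wk, hWkc⟩ = 1 := by
        apply Subtype.ext
        apply Subtype.ext
        change ((c : G)⁻¹ * W * (c : G)) * ((c : G)⁻¹ * W * (c : G)) * ((c : G)⁻¹ * W * (c : G)) = 1
        calc _ = (c : G)⁻¹ * (W * W * W) * (c : G) := by group
          _ = 1 := by rw [hW3]; group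
      rw [h5, map_one]
    have h5 : (⟨Wk, hWkc⟩ : Cen' (zk hfi)) = 1 := by
      apply (e2 hfi h).injective
      rw [h4, map_one]
    have h6 : (c : G)⁻¹ * W * (c : G) = 1 := congrArg (fun q : Cen' (zk hfi) => ((q : f.ker) : G)) h5
    apply hW1
    have : W = (c : G) * ((c : G)⁻¹ * W * (c : G)) * (c : G)⁻¹ := by group
    rw [this, h6]; group

end

end Cfsg.Agent.Lib.Perm.CenS4
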