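import Mathlib
import Cfsg.Agent.Lib.Perm.CenS4Fin

/-!
# The group `Z₂ × S₄`: finite computations, part 2
-/

set_option autoImplicit false

namespace Cfsg.Agent.Lib.Perm.CenS4

open Equiv

/-- forbidden elements in the stabilizer of a point outside the centralizer. -/
def Forb (y : Tgt) : Prop := y = tg ∨ (y.1 = 1 ∧ IsV y.2) ∨ (y.1 = a ∧ IsTr y.2)
/-- the elements of order three -/
def T3 (y : Tgt) : Prop := y.1 = 1 ∧ y.2 * y.2 * y.2 = 1 ∧ y.2 ≠ 1
/-- the allowed involutions -/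
def B2 (y : Tgt) : Prop := (y.1 = 1 ∧ IsTr y.2) ∨ (y.1 = a ∧ IsV y.2)

instance : DecidablePred Forb := fun y => by unfold Forb; infer_instance
instance : DecidablePred T3 := fun y => by unfold T3; infer_instance
instance : DecidablePred B2 := fun y => by unfold B2; infer_instance

theorem d_allowed : ∀ y : Tgt, y = 1 ∨ B2 y ∨ T3 y ∨ Forb y ∨ Forb (y * y) ∨ Forb (y * y * y) := by decide +kernel

theorem d_B2 : ∀ y₁ y₂ : Tgt, B2 y₁ → B2 y₂ → y₁ ≠ y₂ → ¬ B2 (y₁ * y₂) := by decide +kernel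

theorem d_B2_inv : ∀ y : Tgt, B2 y → y * y = 1 := by decide +kernel

theorem d_T3_inv : ∀ y : Tgt, T3 y → y * y * y = 1 := by decide +kernel

set_option synthInstance.maxHeartbeats 2000000 in
set_option synthInstance.maxSize 2000 in
theorem d_T3_pair : ∀ q y : Tgt, T3 q → T3 y → y ≠ q → y ≠ q⁻¹ → Forb (q * y) ∨ Forb (q⁻¹ * y) := by decide +kernel

set_option synthInstance.maxHeartbeats 2000000 in
set_option synthInstance.maxSize 2000 in
theorem d_B2_T3 : ∀ q u : Tgt, T3 q → B2 u →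
    (Forb (u * q) ∨ Forb (q * u) ∨ Forb (u * q * u⁻¹ * q⁻¹) ∨ Forb ((u * q) * (u * q))) ∨
      (u.1 = 1 ∧ IsTr u.2 ∧ ∃ i : Fin 4, q.2 i = i ∧ u.2 i = i) := by decide +kernel

set_option synthInstance.maxHeartbeats 2000000 in
set_option synthInstance.maxSize 2000 in
theorem d_stab : ∀ q u : Tgt, T3 q → u.1 = 1 → IsTr u.2 → ∀ i : Fin 4, q.2 i = i → u.2 i = i →
    ∀ σ : S4, σ i = i → ((1 : Z2), σ) = 1 ∨ ((1 : Z2), σ) = q ∨ ((1 : Z2), σ) = q * q ∨ ((1 : Z2), σ) = u ∨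
      ((1 : Z2), σ) = u * q ∨ ((1 : Z2), σ) = u * (q * q) := by decide +kernel

theorem d_exists_T3 : ∀ i : Fin 4, ∃ σ : S4, σ i = i ∧ σ * σ * σ = 1 ∧ σ ≠ 1 := by decide +kernel

set_option synthInstance.maxHeartbeats 2000000 in
set_option synthInstance.maxSize 2000 in
theorem d_Om_comm : ∀ y₁ y₂ : Tgt, y₁ * zg = zg * y₁ → y₂ * zg = zg * y₂ →
    (y₁ = tg ∨ (y₁.1 = 1 ∧ IsTr y₁.2)) → (y₂ = tg ∨ (y₂.1 = 1 ∧ IsTr y₂.2)) → y₁ * y₂ = y₂ * y₁ := by decide +kernel

/-- The set of seven elements. -/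
def A7 : Finset Tgt := Finset.univ.filter (fun y => y = tg ∨ (y.1 = 1 ∧ IsTr y.2))

theorem A7_card : A7.card = 7 := by decide +kernel

theorem mem_A7 {y : Tgt} : y ∈ A7 ↔ (y = tg ∨ (y.1 = 1 ∧ IsTr y.2)) := by
  simp [A7]

theorem pow_dvd_lcm_mem {p k : ℕ} (hp : p.Prime) (hk : k ≠ 0) (s : Multiset ℕ) (h0 : ∀ m ∈ s, m ≠ 0)
    (h : p ^ k ∣ s.lcm) : ∃ m ∈ s, p ^ k ∣ m := by
  induction s using Multiset.induction_on with
  | empty =>
    exfalso
    simp only [Multiset.lcm_zero] at h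
    have h1 : p ^ k = 1 := by simpa using h
    have h2 : 1 < p ^ k := Nat.one_lt_pow hk hp.one_lt
    omega
  | cons a s ih =>
    rw [Multiset.lcm_cons] at h
    have h1 : a ≠ 0 := h0 a (Multiset.mem_cons_self a s)
    have h2 : s.lcm ≠ 0 := by
      intro h3
      rw [Multiset.lcm_eq_zero_iff] at h3
      exact h0 0 (Multiset.mem_cons_of_mem h3) rfl
    have h3 : Nat.lcm a s.lcm ≠ 0 := Nat.lcm_ne_zero h1 h2
    have h4 : p ^ k ∣ Nat.lcm a s.lcm := h
    rw [hp.pow_dvd_iff_le_factorization h3, Nat.factorization_lcm h1 h2] at h4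
    rcases le_sup_iff.1 h4 with h5 | h5
    · exact ⟨a, Multiset.mem_cons_self a s, (hp.pow_dvd_iff_le_factorization h1).2 h5⟩
    · obtain ⟨m, hm, hm2⟩ := ih (fun m hm => h0 m (Multiset.mem_cons_of_mem hm))
        ((hp.pow_dvd_iff_le_factorization h2).2 h5)
      exact ⟨m, Multiset.mem_cons_of_mem hm, hm2⟩

theorem mem_cycleType_le {π : Equiv.Perm (Fin 6)} {m : ℕ} (hm : m ∈ π.cycleType) : m ≤ 6 := by
  have h1 := Multiset.le_sum_of_mem hm
  rw [Equiv.Perm.sum_cycleType] at h1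
  have h2 := Finset.card_le_univ π.support
  simp only [Fintype.card_fin] at h2
  omega

theorem mem_cycleType_ne {π : Equiv.Perm (Fin 6)} {m : ℕ} (hm : m ∈ π.cycleType) : m ≠ 0 := by
  have := Equiv.Perm.two_le_of_mem_cycleType hm
  omega

theorem s6_pow45 (π : Equiv.Perm (Fin 6)) (h : π ^ 45 = 1) : π ^ 3 = 1 ∨ π ^ 5 = 1 := by
  have hd : orderOf π ∣ 45 := orderOf_dvd_of_pow_eq_one h
  rw [← Equiv.Perm.lcm_cycleType] at hd
  have h9 : ¬ (3 ^ 2 ∣ π.cycleType.lcm) := by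
    intro h1
    obtain ⟨m, hm, hm2⟩ := pow_dvd_lcm_mem Nat.prime_three (by norm_num) _ (fun m hm => mem_cycleType_ne hm) h1
    have h2 := mem_cycleType_le hm
    have h3 := mem_cycleType_ne hm
    have h4 := Nat.le_of_dvd (by omega) hm2
    omega
  have h15 : ¬ (3 ∣ π.cycleType.lcm ∧ 5 ∣ π.cycleType.lcm) := by
    rintro ⟨h1, h2⟩
    obtain ⟨m1, hm1, hd1⟩ := pow_dvd_lcm_mem (k := 1) Nat.prime_three (by norm_num) _ (fun m hm => mem_cycleType_ne hm) (by simpa using h1)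
    obtain ⟨m2, hm2, hd2⟩ := pow_dvd_lcm_mem (k := 1) Nat.prime_five (by norm_num) _ (fun m hm => mem_cycleType_ne hm) (by simpa using h2)
    have h3 := mem_cycleType_le hm1
    have h4 := mem_cycleType_le hm2
    have h5 := mem_cycleType_ne hm1
    have h6 := mem_cycleType_ne hm2
    simp only [pow_one] at hd1 hd2
    have h7 : m2 = 5 := by omega
    have h8 : m1 ≠ m2 := by omega
    have h9 : m1 ∈ π.cycleType.erase m2 := (Multiset.mem_erase_of_ne h8).2 hm1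
    have h10 := Multiset.le_sum_of_mem h9
    have h11 := Multiset.sum_erase hm2
    rw [Equiv.Perm.sum_cycleType] at h11
    have h12 := Finset.card_le_univ π.support
    simp only [Fintype.card_fin] at h12
    have h13 : 3 ≤ m1 := Nat.le_of_dvd (by omega) hd1
    omega
  have h3 : ∀ n : ℕ, n ∣ 45 → ¬ (3 ^ 2 ∣ n) → ¬ (3 ∣ n ∧ 5 ∣ n) → n ∣ 3 ∨ n ∣ 5 := by
    intro n hn h1 h2
    have h4 : n ∈ Nat.divisors 45 := Nat.mem_divisors.2 ⟨hn, by norm_num⟩
    have h5 : Nat.divisors 45 = {1, 3, 5, 9, 15, 45} := by decide +kernel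
    rw [h5] at h4
    simp only [Finset.mem_insert, Finset.mem_singleton] at h4
    rcases h4 with rfl | rfl | rfl | rfl | rfl | rfl <;> omega
  rcases h3 _ hd h9 h15 with h4 | h4
  · left
    rw [Equiv.Perm.lcm_cycleType] at h4
    exact orderOf_dvd_iff_pow_eq_one.1 h4
  · right
    rw [Equiv.Perm.lcm_cycleType] at h4
    exact orderOf_dvd_iff_pow_eq_one.1 h4

/-- The elements of the chain. -/
def e12 : Tgt := (1, swap 1 2)

theorem rr_e12 : (rr * e12) ^ 3 = 1 := by decide +kernel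
theorem e12_rr2 : (e12 * rr2) ^ 3 = 1 := by decide +kernel
theorem rr_rr2 : rr * rr2 = rr2 * rr := by decide +kernel
theorem rr_sq : rr * rr = 1 := by decide +kernel
theorem rr2_sq : rr2 * rr2 = 1 := by decide +kernel
theorem e12_sq : e12 * e12 = 1 := by decide +kernel
theorem rr_e12_ne : rr * e12 ≠ e12 * rr := by decide +kernel
theorem rr_ne_tg : rr ≠ tg := by decide +kernel

end Cfsg.Agent.Lib.Perm.CenS4
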