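import Mathlib
import Cfsg.Agent.Lib.Perm.CenS4C
import Cfsg.Agent.Lib.Perm.CenS4Fin2
import Cfsg.Agent.S0497

/-!
# Finite groups with an involution with centralizer `Z₂ × S₄`: counting, 3-transpositions
-/

set_option autoImplicit false

namespace Cfsg.Agent.Lib.Perm.CenS4

open Equiv

universe u

/-- A subgroup of `Z₂ × S₄` of order at least 6 without forbidden elements contains a point stabilizer. -/
theorem stab_of_large (Q : Subgroup Tgt) (hF : ∀ y ∈ Q, ¬ Forb y) (h6 : 6 ≤ Nat.card Q) :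
    ∃ i : Fin 4, ∀ σ : S4, σ i = i → ((1 : Z2), σ) ∈ Q := by
  classical
  have hall : ∀ y ∈ Q, y = 1 ∨ B2 y ∨ T3 y := by
    intro y hy
    rcases d_allowed y with h1 | h1 | h1 | h1 | h1 | h1
    · exact Or.inl h1
    · exact Or.inr (Or.inl h1)
    · exact Or.inr (Or.inr h1)
    · exact absurd h1 (hF y hy)
    · exact absurd h1 (hF _ (Q.mul_mem hy hy))
    · exact absurd h1 (hF _ (Q.mul_mem (Q.mul_mem hy hy) hy))
  set Qs : Finset Tgt := Finset.univ.filter (· ∈ Q) with hQs
  have hcard : Qs.card = Nat.card Q := by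
    rw [Nat.card_eq_fintype_card, Fintype.card_subtype]
  have hmem : ∀ y, y ∈ Qs ↔ y ∈ Q := by
    intro y
    simp [hQs]
  -- an element of order three
  obtain ⟨q, hqQ, hq⟩ : ∃ q ∈ Q, T3 q := by
    have h1 : 1 < (Qs.erase 1).card := by
      rw [Finset.card_erase_of_mem ((hmem 1).2 Q.one_mem)]
      omega
    obtain ⟨y₁, hy₁, y₂, hy₂, hne⟩ := Finset.one_lt_card.1 h1
    rw [Finset.mem_erase, hmem] at hy₁ hy₂
    rcases hall y₁ hy₁.2 with h2 | h2 | h2
    · exact absurd h2 hy₁.1
    · rcases hall y₂ hy₂.2 with h3 | h3 | h3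
      · exact absurd h3 hy₂.1
      · rcases hall _ (Q.mul_mem hy₁.2 hy₂.2) with h4 | h4 | h4
        · exfalso
          apply hne
          have h5 := d_B2_inv y₁ h2
          exact mul_left_cancel (h5.trans h4.symm)
        · exact absurd h4 (d_B2 y₁ y₂ h2 h3 hne)
        · exact ⟨_, Q.mul_mem hy₁.2 hy₂.2, h4⟩
      · exact ⟨y₂, hy₂.2, h3⟩
    · exact ⟨y₁, hy₁.2, h2⟩
  -- an element outside the subgroup generated by `q`
  obtain ⟨u, huQ, hu⟩ : ∃ u ∈ Q, B2 u := by
    have h1 : ({1, q, q⁻¹} : Finset Tgt).card < Qs.card := by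
      have h2 : ({1, q, q⁻¹} : Finset Tgt).card ≤ 3 := Finset.card_le_three
      omega
    obtain ⟨y, hy, hy2⟩ := Finset.exists_mem_notMem_of_card_lt_card h1
    rw [hmem] at hy
    simp only [Finset.mem_insert, Finset.mem_singleton, not_or] at hy2
    rcases hall y hy with h2 | h2 | h2
    · exact absurd h2 hy2.1
    · exact ⟨y, hy, h2⟩
    · exfalso
      rcases d_T3_pair q y hq h2 hy2.2.1 hy2.2.2 with h3 | h3
      · exact hF _ (Q.mul_mem hqQ hy) h3
      · exact hF _ (Q.mul_mem (inv_mem hqQ) hy) h3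
  rcases d_B2_T3 q u hq hu with (h1 | h1 | h1 | h1) | ⟨h1, h2, i, h3, h4⟩
  · exact absurd h1 (hF _ (Q.mul_mem huQ hqQ))
  · exact absurd h1 (hF _ (Q.mul_mem hqQ huQ))
  · exact absurd h1 (hF _ (Q.mul_mem (Q.mul_mem (Q.mul_mem huQ hqQ) (inv_mem huQ)) (inv_mem hqQ)))
  · exact absurd h1 (hF _ (Q.mul_mem (Q.mul_mem huQ hqQ) (Q.mul_mem huQ hqQ)))
  · refine ⟨i, fun σ hσ => ?_⟩
    rcases d_stab q u hq h1 h2 i h3 h4 σ hσ with h5 | h5 | h5 | h5 | h5 | h5 <;> rw [h5]
    · exact Q.one_mem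
    · exact hqQ
    · exact Q.mul_mem hqQ hqQ
    · exact huQ
    · exact Q.mul_mem huQ hqQ
    · exact Q.mul_mem huQ (Q.mul_mem hqQ hqQ)

variable {G : Type u} [Group G] [Finite G] {t : G} {e : Cen t ≃* Tgt} {S : Sylow 2 G} {f : G →* Z2}

/-- The number of conjugates. -/
theorem card_om : Nat.card {x : G // Om t x} = (Cen t).index := by
  symm
  apply Nat.card_congr
  refine Equiv.ofBijective (fun q : G ⧸ Cen t => (⟨q.out * t * q.out⁻¹, q.out, rfl⟩ : {x : G // Om t x}))
    ⟨?_, ?_⟩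
  · intro q q' hqq
    have h1 : q.out * t * q.out⁻¹ = q'.out * t * q'.out⁻¹ := congrArg Subtype.val hqq
    rw [← q.out_eq', ← q'.out_eq', QuotientGroup.eq, mem_cen]
    have h2 : q'.out⁻¹ * (q.out * t * q.out⁻¹) * q'.out = t := by
      rw [h1]; group
    calc q.out⁻¹ * q'.out * t = q.out⁻¹ * q'.out * (q'.out⁻¹ * (q.out * t * q.out⁻¹) * q'.out) := by rw [h2]
      _ = t * (q.out⁻¹ * q'.out) := by group
  · rintro ⟨x, g, rfl⟩
    refine ⟨(g : G ⧸ Cen t), Subtype.ext ?_⟩
    obtain ⟨c, hc⟩ := QuotientGroup.mk_out_eq_mul (Cen t) g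
    have h1 : (c : G) * t = t * c := mem_cen.1 c.2
    change Quotient.out (g : G ⧸ Cen t) * t * (Quotient.out (g : G ⧸ Cen t))⁻¹ = g * t * g⁻¹
    rw [hc]
    calc g * c * t * (g * c)⁻¹ = g * ((c : G) * t) * (c : G)⁻¹ * g⁻¹ := by group
      _ = g * (t * c) * (c : G)⁻¹ * g⁻¹ := by rw [h1]
      _ = _ := by group

theorem card_G_eq (e : Cen t ≃* Tgt) : Nat.card G = 48 * (Cen t).index := by
  have h1 := Subgroup.card_mul_index (Cen t)
  rw [Nat.card_congr e.toEquiv, card_Tgt] at h1
  exact h1.symm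

omit [Finite G] in
theorem comm_of_conj_comm {c x t : G} (hc : c * t = t * c) (h1 : (c * x * c⁻¹) * t = t * (c * x * c⁻¹)) :
    x * t = t * x := by
  have h2 : c⁻¹ * t * c = t := by
    rw [mul_assoc, ← hc]; group
  calc x * t = x * (c⁻¹ * t * c) := by rw [h2]
    _ = c⁻¹ * ((c * x * c⁻¹) * t) * c := by group
    _ = c⁻¹ * (t * (c * x * c⁻¹)) * c := by rw [h1]
    _ = (c⁻¹ * t * c) * x := by group
    _ = t * x := by rw [h2]

section
variable (h : Hyp e S) (hr : Om t (iota e rr)) (hft : f t = a) (hfi : ∀ y, f (iota e y) = chi y)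
include h hr

theorem exists_x0 : ∃ x, Om t x ∧ x * t ≠ t * x := by
  obtain ⟨g, hg⟩ := id hr
  have h1 : Om t (iota e e12) := om_tr h hr (by decide +kernel)
  refine ⟨g⁻¹ * iota e e12 * g, ?_, ?_⟩
  · have := h1.conj g⁻¹
    simpa using this
  · intro h2
    apply rr_e12_ne
    apply iota_inj e
    rw [map_mul, map_mul, ← hg]
    calc g * t * g⁻¹ * iota e e12 = g * (t * (g⁻¹ * iota e e12 * g)) * g⁻¹ := by group
      _ = g * ((g⁻¹ * iota e e12 * g) * t) * g⁻¹ := by rw [h2]
      _ = _ := by group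

/-- The seven conjugates commuting with `t`. -/
theorem om_A7 {y : Tgt} (hy : y ∈ A7) : Om t (iota e y) := by
  rw [mem_A7] at hy
  rcases hy with rfl | ⟨h1, h2⟩
  · rw [h.het]
    exact Om.self
  · have h3 := om_tr h hr h2
    have h4 : ((1, y.2) : Tgt) = y := by
      ext1
      · exact h1.symm
      · rfl
    rwa [h4] at h3

include hft hfi

theorem order_eq : Nat.card f.ker = 360 ∧ Nat.card G = 720 ∧ (Cen t).index = 15 := by
  classical
  haveI := Fintype.ofFinite G
  obtain ⟨hc, -, -⟩ := H_main h hr hft hfi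
  have hk := card_ker hft
  have hG := card_G_eq e
  obtain ⟨x₀, hx₀, hx₀t⟩ := exists_x0 h hr
  -- lower bound on the number of conjugates
  have h8 : 8 ≤ (Cen t).index := by
    rw [← card_om, Nat.card_eq_fintype_card, Fintype.card_subtype]
    have h1 : (insert x₀ (A7.image (iota e))).card = 8 := by
      rw [Finset.card_insert_of_notMem, Finset.card_image_of_injective _ (iota_inj e), A7_card]
      intro h2
      obtain ⟨y, -, rfl⟩ := Finset.mem_image.1 h2
      exact hx₀t (iota_comm e y)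
    rw [← h1]
    apply Finset.card_le_card
    intro x hx
    rw [Finset.mem_insert, Finset.mem_image] at hx
    rw [Finset.mem_filter]
    refine ⟨Finset.mem_univ _, ?_⟩
    rcases hx with rfl | ⟨y, hy, rfl⟩
    · exact hx₀
    · exact om_A7 h hr hy
  rcases hc with hc | hc
  · exfalso
    omega
  · refine ⟨hc, by omega, by omega⟩

/-- At most eight conjugates do not commute with `t`. -/
theorem card_X : Nat.card {x : G // Om t x ∧ x * t ≠ t * x} ≤ 8 := by
  classical
  haveI := Fintype.ofFinite G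
  obtain ⟨-, -, hi⟩ := order_eq h hr hft hfi
  rw [Nat.card_eq_fintype_card, Fintype.card_subtype]
  have h1 : (Finset.univ.filter (fun x : G => Om t x)).card = 15 := by
    rw [← hi, ← card_om, Nat.card_eq_fintype_card, Fintype.card_subtype]
  have h2 : (Finset.univ.filter (fun x : G => Om t x ∧ x * t ≠ t * x)).card + (A7.image (iota e)).card ≤
      (Finset.univ.filter (fun x : G => Om t x)).card := by
    rw [← Finset.card_union_of_disjoint]
    · apply Finset.card_le_card
      intro x hx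
      rw [Finset.mem_union, Finset.mem_filter, Finset.mem_image] at hx
      rw [Finset.mem_filter]
      refine ⟨Finset.mem_univ _, ?_⟩
      rcases hx with ⟨-, h3, -⟩ | ⟨y, hy, rfl⟩
      · exact h3
      · exact om_A7 h hr hy
    · rw [Finset.disjoint_left]
      intro x hx hx2
      rw [Finset.mem_filter] at hx
      rw [Finset.mem_image] at hx2
      obtain ⟨y, -, rfl⟩ := hx2
      exact hx.2.2 (iota_comm e y)
  rw [Finset.card_image_of_injective _ (iota_inj e), A7_card] at h2
  omega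

/-- The stabilizer of `x` in `Z₂ × S₄`. -/
def stabQ (e : Cen t ≃* Tgt) (x : G) : Subgroup Tgt := Subgroup.comap (iota e) (Subgroup.centralizer ({x} : Set G))

omit h hr hft hfi [Finite G] in
theorem mem_stabQ {x : G} {y : Tgt} : y ∈ stabQ e x ↔ iota e y * x = x * iota e y := by
  rw [stabQ, Subgroup.mem_comap, Subgroup.mem_centralizer_singleton_iff]

theorem stabQ_large {x : G} (hx : Om t x) (hxt : x * t ≠ t * x) : 6 ≤ Nat.card (stabQ e x) := by
  classical
  have hX := card_X h hr hft hfi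
  have hinj : Nat.card (Tgt ⧸ stabQ e x) ≤ Nat.card {x : G // Om t x ∧ x * t ≠ t * x} := by
    apply Nat.card_le_card_of_injective
      (fun q : Tgt ⧸ stabQ e x => (⟨iota e q.out * x * (iota e q.out)⁻¹, hx.conj _, by
        intro h1
        exact hxt (comm_of_conj_comm (iota_comm e q.out) h1)⟩ : {x : G // Om t x ∧ x * t ≠ t * x}))
    intro q q' hqq
    have h1 : iota e q.out * x * (iota e q.out)⁻¹ = iota e q'.out * x * (iota e q'.out)⁻¹ :=
      congrArg Subtype.val hqq
    rw [← q.out_eq', ← q'.out_eq', QuotientGroup.eq, mem_stabQ]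
    rw [map_mul, map_inv]
    have h2 : (iota e q'.out)⁻¹ * (iota e q.out * x * (iota e q.out)⁻¹) * iota e q'.out = x := by
      rw [h1]; group
    calc (iota e q.out)⁻¹ * iota e q'.out * x
        = (iota e q.out)⁻¹ * iota e q'.out * ((iota e q'.out)⁻¹ * (iota e q.out * x * (iota e q.out)⁻¹) * iota e q'.out) := by rw [h2]
      _ = _ := by group
  have h1 := Subgroup.card_mul_index (stabQ e x)
  rw [card_Tgt] at h1
  have h2 : (stabQ e x).index ≤ 8 := hinj.trans hX
  by_contra h3
  have h4 : Nat.card (stabQ e x) ≤ 5 := by omega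
  have h5 : Nat.card (stabQ e x) * (stabQ e x).index ≤ 5 * 8 := Nat.mul_le_mul h4 h2
  omega

omit hft hfi in
theorem stabQ_forb {x : G} (hx : Om t x) (hxt : x * t ≠ t * x) {y : Tgt} (hy : y ∈ stabQ e x) : ¬ Forb y := by
  rw [mem_stabQ] at hy
  rintro (rfl | ⟨h1, h2⟩ | ⟨h1, h2⟩)
  · rw [h.het] at hy
    exact hxt hy.symm
  · obtain ⟨y', rfl⟩ := cen_v h h1 h2 hy.symm
    exact hxt (iota_comm e y')
  · -- `y = t r` is conjugate to `z`
    apply hxt
    obtain ⟨g, hg⟩ := z_conj_tr h hr h2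
    have h3 : ((a, y.2) : Tgt) = y := by
      ext1
      · exact h1.symm
      · rfl
    rw [h3] at hg
    -- conjugate back
    have hx' : g⁻¹ * x * g ∈ (S : Subgroup G) := by
      rw [h.hS]
      have h4 : iota e zg = g⁻¹ * iota e y * g := by rw [← hg]; group
      rw [h4]
      calc g⁻¹ * x * g * (g⁻¹ * iota e y * g) = g⁻¹ * (x * iota e y) * g := by group
        _ = g⁻¹ * (iota e y * x) * g := by rw [hy]
        _ = _ := by group
    have ht' : g⁻¹ * t * g ∈ (S : Subgroup G) := by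
      rw [h.hS]
      have h4 : iota e zg = g⁻¹ * iota e y * g := by rw [← hg]; group
      rw [h4]
      have h5 := iota_comm e y
      calc g⁻¹ * t * g * (g⁻¹ * iota e y * g) = g⁻¹ * (t * iota e y) * g := by group
        _ = g⁻¹ * (iota e y * t) * g := by rw [h5]
        _ = _ := by group
    obtain ⟨y₁, hy₁⟩ := exists_iota e (h.hSt _ hx')
    obtain ⟨y₂, hy₂⟩ := exists_iota e (h.hSt _ ht')
    have hOm1 : Om t (iota e y₁) := by
      rw [hy₁]
      have := hx.conj g⁻¹
      simpa using this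
    have hOm2 : Om t (iota e y₂) := by
      rw [hy₂]
      have := (Om.self (t := t)).conj g⁻¹
      simpa using this
    have hc := d_Om_comm y₁ y₂ ((mem_S_iota h).1 (hy₁ ▸ hx')) ((mem_S_iota h).1 (hy₂ ▸ ht'))
      (om_cases2 h hr hOm1) (om_cases2 h hr hOm2)
    have h6 : iota e y₁ * iota e y₂ = iota e y₂ * iota e y₁ := by
      rw [← map_mul, hc, map_mul]
    rw [hy₁, hy₂] at h6
    calc x * t = g * ((g⁻¹ * x * g) * (g⁻¹ * t * g)) * g⁻¹ := by group
      _ = g * ((g⁻¹ * t * g) * (g⁻¹ * x * g)) * g⁻¹ := by rw [h6]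
      _ = t * x := by group

theorem exists_stab {x : G} (hx : Om t x) (hxt : x * t ≠ t * x) :
    ∃ i : Fin 4, ∀ σ : S4, σ i = i → iota e (1, σ) * x = x * iota e (1, σ) := by
  obtain ⟨i, hi⟩ := stab_of_large (stabQ e x) (fun y hy => stabQ_forb h hr hx hxt hy)
    (stabQ_large h hr hft hfi hx hxt)
  exact ⟨i, fun σ hσ => mem_stabQ.1 (hi σ hσ)⟩

/-- The product of `t` with a noncommuting conjugate has order three. -/
theorem cube_of_noncomm {x : G} (hx : Om t x) (hxt : x * t ≠ t * x) : (t * x) ^ 3 = 1 := by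
  obtain ⟨i, hi⟩ := exists_stab h hr hft hfi hx hxt
  obtain ⟨σ, hσ1, hσ3, hσne⟩ := d_exists_T3 i
  obtain ⟨hc360, -, -⟩ := order_eq h hr hft hfi
  obtain ⟨-, hsimple, ha⟩ := H_main h hr hft hfi
  obtain ⟨φ⟩ := Cfsg.Agent.S0497.result (G := f.ker) hc360
  set W := iota e (1, σ) with hW
  have hWx : W * x = x * W := hi σ hσ1
  have hWt : W * t = t * W := iota_comm e _
  have hW3 : W * W * W = 1 := by
    rw [hW, ← map_mul, ← map_mul]
    have : ((1, σ) * (1, σ) * (1, σ) : Tgt) = 1 := by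
      ext1
      · rfl
      · exact hσ3
    rw [this, map_one]
  have hW1 : W ≠ 1 := by
    intro h1
    apply hσne
    have h2 : ((1, σ) : Tgt) = 1 := iota_inj e (by rw [← hW, h1, map_one])
    exact congrArg Prod.snd h2
  have hfW : f W = 1 := by
    rw [hW, hfi, chi_apply]
    have : ∀ σ : S4, σ * σ * σ = 1 → sg σ = 1 := by decide +kernel
    rw [this σ hσ3, mul_one]
  have hfx : f x = a := by
    obtain ⟨g, rfl⟩ := hx
    rw [map_mul, map_mul, map_inv, hft, mul_comm (f g), mul_assoc, mul_inv_cancel, mul_one]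
  set u := t * x with hu
  have hfu : f u = 1 := by rw [hu, map_mul, hft, hfx, a_mul_a]
  have huW : u * W = W * u := by
    rw [hu]
    calc t * x * W = t * (W * x) := by rw [mul_assoc, hWx]
      _ = (t * W) * x := by group
      _ = (W * t) * x := by rw [hWt]
      _ = _ := by group
  -- elements of the kernel
  have h45 : ∀ g : G, f g = 1 → g ^ 45 = 1 → g ^ 3 = 1 ∨ g ^ 5 = 1 := by
    intro g hg hg45
    have h1 : ((φ ⟨g, hg⟩ : alternatingGroup (Fin 6)) : Equiv.Perm (Fin 6)) ^ 45 = 1 := by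
      have h2 : (⟨g, hg⟩ : f.ker) ^ 45 = 1 := Subtype.ext hg45
      have h3 := congrArg (fun k => ((φ k : alternatingGroup (Fin 6)) : Equiv.Perm (Fin 6))) h2
      simpa [map_pow] using h3
    have hinj : ∀ k : ℕ, ((φ ⟨g, hg⟩ : alternatingGroup (Fin 6)) : Equiv.Perm (Fin 6)) ^ k = 1 → g ^ k = 1 := by
      intro k hk
      have h2 : (φ ⟨g, hg⟩ : alternatingGroup (Fin 6)) ^ k = 1 := Subtype.ext (by simpa using hk)
      have h3 : φ ((⟨g, hg⟩ : f.ker) ^ k) = φ 1 := by rw [map_pow, h2, map_one]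
      have h4 := φ.injective h3
      exact congrArg Subtype.val h4
    rcases s6_pow45 _ h1 with h2 | h2
    · exact Or.inl (hinj 3 h2)
    · exact Or.inr (hinj 5 h2)
  -- `u ^ 45 = 1`
  have h360 : u ^ 360 = 1 := by
    have h1 := pow_card_eq_one' (G := f.ker) (x := ⟨u, hfu⟩)
    rw [hc360] at h1
    exact congrArg Subtype.val h1
  have hpowW : ∀ n : ℕ, u ^ n * W = W * u ^ n := fun n => ((Commute.pow_left huW n)).eq
  have hfpow : ∀ n : ℕ, f (u ^ n) = 1 := fun n => by rw [map_pow, hfu, one_pow]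
  have h8 : u ^ 180 = 1 := by
    have := ha (u ^ 180) W (hfpow 180) hfW (by rw [← pow_add]; exact h360) (hpowW 180) hW3 hW1
    exact this
  have h4 : u ^ 90 = 1 := by
    have := ha (u ^ 90) W (hfpow 90) hfW (by rw [← pow_add]; exact h8) (hpowW 90) hW3 hW1
    exact this
  have hu45 : u ^ 45 = 1 := by
    have := ha (u ^ 45) W (hfpow 45) hfW (by rw [← pow_add]; exact h4) (hpowW 45) hW3 hW1
    exact this
  rcases h45 u hfu hu45 with h1 | h1
  · exact h1
  · -- `u ^ 5 = 1`: the element `u W` leads to a contradiction or `u ^ 3 = 1`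
    have hc : Commute u W := huW
    have hW33 : W ^ 3 = 1 := by rw [pow_succ, pow_two]; exact hW3
    have h2 : (u * W) ^ 45 = 1 := by
      rw [hc.mul_pow, hu45, one_mul]
      have : W ^ 45 = (W ^ 3) ^ 15 := by rw [← pow_mul]
      rw [this, hW33, one_pow]
    have hf2 : f (u * W) = 1 := by rw [map_mul, hfu, hfW, one_mul]
    rcases h45 _ hf2 h2 with h3 | h3
    · rw [hc.mul_pow, hW33, mul_one] at h3
      exact h3
    · exfalso
      rw [hc.mul_pow, h1, one_mul] at h3
      apply hW1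
      have h4 : W ^ 5 = W ^ 3 * W * W := by rw [pow_succ, pow_succ]
      rw [h4, hW33, one_mul] at h3
      calc W = W * (W * W) := by
            have h5 : W * (W * W) = W * 1 := by rw [h3]
            rw [h5, mul_one]
        _ = W * W * W := by group
        _ = 1 := hW3

/-- The conjugates of `t` are 3-transpositions. -/
theorem three_transp {b c : G} (hb : Om t b) (hc : Om t c) (hbc : b * c ≠ c * b) : (b * c) ^ 3 = 1 := by
  obtain ⟨g, rfl⟩ := hb
  set x := g⁻¹ * c * g with hx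
  have hOm : Om t x := by
    have := hc.conj g⁻¹
    simpa [hx] using this
  have hxt : x * t ≠ t * x := by
    intro h1
    apply hbc
    calc g * t * g⁻¹ * c = g * (t * x) * g⁻¹ := by rw [hx]; group
      _ = g * (x * t) * g⁻¹ := by rw [h1]
      _ = _ := by rw [hx]; group
  have h1 := cube_of_noncomm h hr hft hfi hOm hxt
  have h2 : g * t * g⁻¹ * c = g * (t * x) * g⁻¹ := by rw [hx]; group
  rw [h2, conj_pow, h1]
  group

end

end Cfsg.Agent.Lib.Perm.CenS4
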