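import Mathlib

/-!
# Coset enumeration for a chain of 3-transpositions
-/

set_option autoImplicit false

namespace Cfsg.Agent.Lib.Perm.CenS4Chain

universe u

variable {G : Type u} [Group G]

/-- Counting: a subgroup covered by `n` cosets. -/
theorem card_le_of_cover [Finite G] {A J : Subgroup G} {n : ℕ} (c : Fin n → G)
    (h : ∀ g ∈ A, ∃ i, (c i)⁻¹ * g ∈ J) : Nat.card A ≤ n * Nat.card J := by
  classical
  choose idx hidx using fun g : A => h g.1 g.2
  have hinj : Function.Injective (fun g : A => ((idx g, ⟨(c (idx g))⁻¹ * g.1, hidx g⟩) : Fin n × J)) := by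
    intro g g' hgg
    simp only [Prod.mk.injEq, Subtype.mk.injEq] at hgg
    obtain ⟨h1, h2⟩ := hgg
    rw [h1] at h2
    exact Subtype.ext (mul_left_cancel h2)
  have := Nat.card_le_card_of_injective _ hinj
  rwa [Nat.card_prod, Nat.card_eq_fintype_card (α := Fin n), Fintype.card_fin] at this

/-- A chain of five. -/
structure Chain5 (s1 s2 s3 s4 s5 : G) : Prop where
  q1 : s1 * s1 = 1
  q2 : s2 * s2 = 1
  q3 : s3 * s3 = 1
  q4 : s4 * s4 = 1
  q5 : s5 * s5 = 1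
  b12 : s1 * s2 * s1 = s2 * s1 * s2
  b23 : s2 * s3 * s2 = s3 * s2 * s3
  b34 : s3 * s4 * s3 = s4 * s3 * s4
  b45 : s4 * s5 * s4 = s5 * s4 * s5
  c13 : s1 * s3 = s3 * s1
  c14 : s1 * s4 = s4 * s1
  c15 : s1 * s5 = s5 * s1
  c24 : s2 * s4 = s4 * s2
  c25 : s2 * s5 = s5 * s2
  c35 : s3 * s5 = s5 * s3

theorem step {x y c d : G} (hxy : x * y = y * x) (h : x * c = c * d) : x * (y * c) = (y * c) * d := by
  rw [← mul_assoc, hxy, mul_assoc, h, mul_assoc]

theorem base {x y c : G} (hb : x * y * x = y * x * y) (hk : y * c = c * y) : x * (y * (x * c)) = (y * (x * c)) * y := by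
  calc x * (y * (x * c)) = (x * y * x) * c := by group
    _ = (y * x * y) * c := by rw [hb]
    _ = y * x * (y * c) := by group
    _ = y * x * (c * y) := by rw [hk]
    _ = _ := by group

theorem comm2 {x y c : G} (h1 : x * y = y * x) (h2 : x * c = c * x) : x * (y * c) = (y * c) * x :=
  step h1 h2

theorem sq_left {a c : G} (ha : a * a = 1) : a * (a * c) = c := by
  rw [← mul_assoc, ha, one_mul]

/-- The abstract coset argument. -/
theorem cover_aux {ι : Type*} {X : Set G} {M : Subgroup G} (C : ι → G) (i₀ : ι) (hi₀ : C i₀ = 1)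
    (hinv : ∀ x ∈ X, x⁻¹ ∈ X)
    (hT : ∀ x ∈ X, ∀ i, ∃ j, ∃ n ∈ M, x * C i = C j * n) {g : G} (hg : g ∈ Subgroup.closure X) :
    ∃ i, (C i)⁻¹ * g ∈ M := by
  have hstep : ∀ x ∈ X, ∀ y, (∃ i, (C i)⁻¹ * y ∈ M) → ∃ i, (C i)⁻¹ * (x * y) ∈ M := by
    rintro x hx y ⟨i, hi⟩
    obtain ⟨j, n, hn, hj⟩ := hT x hx i
    refine ⟨j, ?_⟩
    have h1 : (C j)⁻¹ * (x * y) = n * ((C i)⁻¹ * y) := by
      have h2 : C j = x * C i * n⁻¹ := by rw [hj]; group
      rw [h2]
      group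
    rw [h1]
    exact M.mul_mem hn hi
  induction hg using Subgroup.closure_induction_left with
  | one =>
    refine ⟨i₀, ?_⟩
    rw [hi₀]
    simp [M.one_mem]
  | mul_left x hx y hy ih => exact hstep x hx y ih
  | inv_mul_cancel x hx y hy ih => exact hstep _ (hinv x hx) y ih

section
variable {s1 s2 s3 s4 s5 : G} (h : Chain5 s1 s2 s3 s4 s5)
include h

omit h in
theorem inv_of_sq {x : G} (hx : x * x = 1) : x⁻¹ = x := inv_eq_of_mul_eq_one_left hx

/-- Left multiplication by a generator permutes the six cosets. -/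
theorem cover5 {M : Subgroup G} (h2 : s2 ∈ M) (h3 : s3 ∈ M) (h4 : s4 ∈ M) (h5 : s5 ∈ M)
    {g : G} (hg : g ∈ Subgroup.closure ({s1, s2, s3, s4, s5} : Set G)) :
    ∃ i : Fin 6, (![1, s1, s2 * s1, s3 * (s2 * s1), s4 * (s3 * (s2 * s1)), s5 * (s4 * (s3 * (s2 * s1)))] i)⁻¹ * g ∈ M := by
  refine cover_aux _ 0 rfl ?_ ?_ hg
  · rintro x (rfl | rfl | rfl | rfl | rfl)
    · rw [inv_of_sq h.q1]; simp
    · rw [inv_of_sq h.q2]; simp
    · rw [inv_of_sq h.q3]; simp
    · rw [inv_of_sq h.q4]; simp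
    · rw [inv_of_sq h.q5]; simp
  · have k31 : s3 * s1 = s1 * s3 := h.c13.symm
    have k41 : s4 * s1 = s1 * s4 := h.c14.symm
    have k51 : s5 * s1 = s1 * s5 := h.c15.symm
    have k42 : s4 * (s2 * s1) = (s2 * s1) * s4 := comm2 h.c24.symm k41
    have k52 : s5 * (s2 * s1) = (s2 * s1) * s5 := comm2 h.c25.symm k51
    have k53 : s5 * (s3 * (s2 * s1)) = (s3 * (s2 * s1)) * s5 := comm2 h.c35.symm k52
    have l12 : s1 * (s2 * s1) = (s2 * s1) * s2 := by
      calc s1 * (s2 * s1) = s1 * s2 * s1 := by group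
        _ = s2 * s1 * s2 := h.b12
    have l23 := base (c := s1) h.b23 k31
    have l34 := base (c := s2 * s1) h.b34 k42
    have l45 := base (c := s3 * (s2 * s1)) h.b45 k53
    have l13 : s1 * (s3 * (s2 * s1)) = (s3 * (s2 * s1)) * s2 := step h.c13 l12
    have l14 : s1 * (s4 * (s3 * (s2 * s1))) = (s4 * (s3 * (s2 * s1))) * s2 := step h.c14 l13
    have l15 : s1 * (s5 * (s4 * (s3 * (s2 * s1)))) = (s5 * (s4 * (s3 * (s2 * s1)))) * s2 := step h.c15 l14
    have l24 : s2 * (s4 * (s3 * (s2 * s1))) = (s4 * (s3 * (s2 * s1))) * s3 := step h.c24 l23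
    have l25 : s2 * (s5 * (s4 * (s3 * (s2 * s1)))) = (s5 * (s4 * (s3 * (s2 * s1)))) * s3 := step h.c25 l24
    have l35 : s3 * (s5 * (s4 * (s3 * (s2 * s1)))) = (s5 * (s4 * (s3 * (s2 * s1)))) * s4 := step h.c35 l34
    have o : (1 : G) ∈ M := M.one_mem
    rintro x (rfl | rfl | rfl | rfl | rfl) i
    · fin_cases i
      · exact ⟨1, 1, o, by change x * 1 = x * 1; rfl⟩
      · exact ⟨0, 1, o, by change x * x = 1 * 1; rw [h.q1, one_mul]⟩
      · exact ⟨2, s2, h2, l12⟩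
      · exact ⟨3, s2, h2, l13⟩
      · exact ⟨4, s2, h2, l14⟩
      · exact ⟨5, s2, h2, l15⟩
    · fin_cases i
      · exact ⟨0, x, h2, by change x * 1 = 1 * x; group⟩
      · exact ⟨2, 1, o, by change x * s1 = x * s1 * 1; rw [mul_one]⟩
      · exact ⟨1, 1, o, by change x * (x * s1) = s1 * 1; rw [sq_left h.q2, mul_one]⟩
      · exact ⟨3, s3, h3, l23⟩
      · exact ⟨4, s3, h3, l24⟩
      · exact ⟨5, s3, h3, l25⟩
    · fin_cases i
      · exact ⟨0, x, h3, by change x * 1 = 1 * x; group⟩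
      · exact ⟨1, x, h3, k31⟩
      · exact ⟨3, 1, o, by change x * (s2 * s1) = x * (s2 * s1) * 1; rw [mul_one]⟩
      · exact ⟨2, 1, o, by change x * (x * (s2 * s1)) = (s2 * s1) * 1; rw [sq_left h.q3, mul_one]⟩
      · exact ⟨4, s4, h4, l34⟩
      · exact ⟨5, s4, h4, l35⟩
    · fin_cases i
      · exact ⟨0, x, h4, by change x * 1 = 1 * x; group⟩
      · exact ⟨1, x, h4, k41⟩
      · exact ⟨2, x, h4, k42⟩
      · exact ⟨4, 1, o, by change x * (s3 * (s2 * s1)) = x * (s3 * (s2 * s1)) * 1; rw [mul_one]⟩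
      · exact ⟨3, 1, o, by change x * (x * (s3 * (s2 * s1))) = (s3 * (s2 * s1)) * 1; rw [sq_left h.q4, mul_one]⟩
      · exact ⟨5, s5, h5, l45⟩
    · fin_cases i
      · exact ⟨0, x, h5, by change x * 1 = 1 * x; group⟩
      · exact ⟨1, x, h5, k51⟩
      · exact ⟨2, x, h5, k52⟩
      · exact ⟨3, x, h5, k53⟩
      · exact ⟨5, 1, o, by change x * (s4 * (s3 * (s2 * s1))) = x * (s4 * (s3 * (s2 * s1))) * 1; rw [mul_one]⟩
      · exact ⟨4, 1, o, by change x * (x * (s4 * (s3 * (s2 * s1)))) = (s4 * (s3 * (s2 * s1))) * 1; rw [sq_left h.q5, mul_one]⟩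

/-- The same for the chain of four. -/
theorem cover4 {J : Subgroup G} (h3 : s3 ∈ J) (h4 : s4 ∈ J) (h5 : s5 ∈ J)
    {g : G} (hg : g ∈ Subgroup.closure ({s2, s3, s4, s5} : Set G)) :
    ∃ i : Fin 5, (![1, s2, s3 * s2, s4 * (s3 * s2), s5 * (s4 * (s3 * s2))] i)⁻¹ * g ∈ J := by
  refine cover_aux _ 0 rfl ?_ ?_ hg
  · rintro x (rfl | rfl | rfl | rfl)
    · rw [inv_of_sq h.q2]; simp
    · rw [inv_of_sq h.q3]; simp
    · rw [inv_of_sq h.q4]; simp
    · rw [inv_of_sq h.q5]; simp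
  · have k42 : s4 * s2 = s2 * s4 := h.c24.symm
    have k52 : s5 * s2 = s2 * s5 := h.c25.symm
    have k53 : s5 * (s3 * s2) = (s3 * s2) * s5 := comm2 h.c35.symm k52
    have l23 : s2 * (s3 * s2) = (s3 * s2) * s3 := by
      calc s2 * (s3 * s2) = s2 * s3 * s2 := by group
        _ = s3 * s2 * s3 := h.b23
    have l34 := base (c := s2) h.b34 k42
    have l45 := base (c := s3 * s2) h.b45 k53
    have l24 : s2 * (s4 * (s3 * s2)) = (s4 * (s3 * s2)) * s3 := step h.c24 l23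
    have l25 : s2 * (s5 * (s4 * (s3 * s2))) = (s5 * (s4 * (s3 * s2))) * s3 := step h.c25 l24
    have l35 : s3 * (s5 * (s4 * (s3 * s2))) = (s5 * (s4 * (s3 * s2))) * s4 := step h.c35 l34
    have o : (1 : G) ∈ J := J.one_mem
    rintro x (rfl | rfl | rfl | rfl) i
    · fin_cases i
      · exact ⟨1, 1, o, by change x * 1 = x * 1; rfl⟩
      · exact ⟨0, 1, o, by change x * x = 1 * 1; rw [h.q2, one_mul]⟩
      · exact ⟨2, s3, h3, l23⟩
      · exact ⟨3, s3, h3, l24⟩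
      · exact ⟨4, s3, h3, l25⟩
    · fin_cases i
      · exact ⟨0, x, h3, by change x * 1 = 1 * x; group⟩
      · exact ⟨2, 1, o, by change x * s2 = x * s2 * 1; rw [mul_one]⟩
      · exact ⟨1, 1, o, by change x * (x * s2) = s2 * 1; rw [sq_left h.q3, mul_one]⟩
      · exact ⟨3, s4, h4, l34⟩
      · exact ⟨4, s4, h4, l35⟩
    · fin_cases i
      · exact ⟨0, x, h4, by change x * 1 = 1 * x; group⟩
      · exact ⟨1, x, h4, k42⟩
      · exact ⟨3, 1, o, by change x * (s3 * s2) = x * (s3 * s2) * 1; rw [mul_one]⟩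
      · exact ⟨2, 1, o, by change x * (x * (s3 * s2)) = (s3 * s2) * 1; rw [sq_left h.q4, mul_one]⟩
      · exact ⟨4, s5, h5, l45⟩
    · fin_cases i
      · exact ⟨0, x, h5, by change x * 1 = 1 * x; group⟩
      · exact ⟨1, x, h5, k52⟩
      · exact ⟨2, x, h5, k53⟩
      · exact ⟨4, 1, o, by change x * (s4 * (s3 * s2)) = x * (s4 * (s3 * s2)) * 1; rw [mul_one]⟩
      · exact ⟨3, 1, o, by change x * (x * (s4 * (s3 * s2))) = (s4 * (s3 * s2)) * 1; rw [sq_left h.q5, mul_one]⟩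

end

end Cfsg.Agent.Lib.Perm.CenS4Chain
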