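import Mathlib
import Cfsg.Agent.Lib.Perm.CenS4D
import Cfsg.Agent.Lib.Perm.CenS4E

/-!
# Finite groups with an involution with centralizer `Z₂ × S₄`: the isomorphism with `S₆`
-/

set_option autoImplicit false

namespace Cfsg.Agent.Lib.Perm.CenS4

open Equiv Cfsg.Agent.Lib.Perm.CenS4Chain

universe u

variable {G : Type u} [Group G] [Finite G] {t : G} {e : Cen t ≃* Tgt} {S : Sylow 2 G} {f : G →* Z2}

/-- A simple subgroup with large order is contained in every subgroup of small index. -/
theorem le_of_simple {H J : Subgroup G} (hs : IsSimpleGroup H) (hcard : Nat.factorial J.index < Nat.card H) : H ≤ J := by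
  classical
  let ψ : H →* Equiv.Perm (G ⧸ J) := (MulAction.toPermHom G (G ⧸ J)).comp H.subtype
  rcases hs.eq_bot_or_eq_top_of_normal ψ.ker inferInstance with h1 | h1
  · exfalso
    have h2 : Function.Injective ψ := (MonoidHom.ker_eq_bot_iff ψ).1 h1
    have h3 := Nat.card_le_card_of_injective ψ h2
    rw [Nat.card_perm] at h3
    have : Nat.card (G ⧸ J) = J.index := rfl
    rw [this] at h3
    omega
  · intro x hx
    have h2 : (⟨x, hx⟩ : H) ∈ ψ.ker := by rw [h1]; trivial
    have h3 : ψ ⟨x, hx⟩ = 1 := h2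
    have h4 : x • ((1 : G) : G ⧸ J) = ((1 : G) : G ⧸ J) := by
      have := congrArg (fun p : Equiv.Perm (G ⧸ J) => p ((1 : G) : G ⧸ J)) h3
      exact this
    have h5 : ((x : G) : G ⧸ J) = ((1 : G) : G ⧸ J) := by
      have h6 : x • ((1 : G) : G ⧸ J) = ((x * 1 : G) : G ⧸ J) := rfl
      rw [h6, mul_one] at h4
      exact h4
    rw [eq_comm, QuotientGroup.eq] at h5
    simpa using h5

omit [Finite G] in
theorem braid_of_cube {x y : G} (hx : x * x = 1) (hy : y * y = 1) (h : (x * y) ^ 3 = 1) : x * y * x = y * x * y := by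
  have h1 : x * y * (x * y) * (x * y) = 1 := by
    rw [← h, pow_succ, pow_two]
  have hxi : x⁻¹ = x := inv_eq_of_mul_eq_one_left hx
  have hyi : y⁻¹ = y := inv_eq_of_mul_eq_one_left hy
  have h2 : x * y * x = (y * (x * y))⁻¹ := by
    apply eq_inv_of_mul_eq_one_left
    calc x * y * x * (y * (x * y)) = x * y * (x * y) * (x * y) := by group
      _ = 1 := h1
  rw [h2, mul_inv_rev, mul_inv_rev, hxi, hyi]

/-- Case B of the main theorem. -/
theorem caseB (h : Hyp e S) (hr : Om t (iota e rr)) : Nonempty (G ≃* Equiv.Perm (Fin 6)) := by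
  classical
  obtain ⟨f, hft, hfi⟩ := exists_f h hr
  obtain ⟨hc360, hc720, hi15⟩ := order_eq h hr hft hfi
  obtain ⟨-, hsimple, -⟩ := H_main h hr hft hfi
  obtain ⟨x₀, hx₀, hx₀t⟩ := exists_x0 h hr
  obtain ⟨i, hi⟩ := exists_stab h hr hft hfi hx₀ hx₀t
  -- the element `x'`
  set τ : S4 := swap i 0 with hτ
  have hτi : τ i = 0 := by rw [hτ, swap_apply_left]
  set c : G := iota e (1, τ) with hc
  set x' : G := c * x₀ * c⁻¹ with hx'
  have hOmx : Om t x' := hx₀.conj c
  have hx't : x' * t ≠ t * x' := fun h1 => hx₀t (comm_of_conj_comm (iota_comm e _) h1)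
  have hx'σ : ∀ σ : S4, σ 0 = 0 → iota e (1, σ) * x' = x' * iota e (1, σ) := by
    intro σ hσ
    have h1 : (τ⁻¹ * σ * τ) i = i := by
      simp only [Perm.mul_apply]
      rw [hτi, hσ, ← hτi]
      exact τ.symm_apply_apply i
    have h2 := hi _ h1
    have h3 : iota e (1, σ) = c * iota e (1, τ⁻¹ * σ * τ) * c⁻¹ := by
      rw [hc, ← map_inv, ← map_mul, ← map_mul]
      congr 1
      ext1
      · simp
      · simp only [Prod.snd_mul, Prod.snd_inv]
        group
    rw [h3, hx']
    calc c * iota e (1, τ⁻¹ * σ * τ) * c⁻¹ * (c * x₀ * c⁻¹)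
        = c * (iota e (1, τ⁻¹ * σ * τ) * x₀) * c⁻¹ := by group
      _ = c * (x₀ * iota e (1, τ⁻¹ * σ * τ)) * c⁻¹ := by rw [h2]
      _ = _ := by group
  -- the chain
  have hq2 : x' * x' = 1 := by
    obtain ⟨g, hg⟩ := hOmx
    rw [← hg]
    calc g * t * g⁻¹ * (g * t * g⁻¹) = g * (t * t) * g⁻¹ := by group
      _ = 1 := by rw [t_mul_t h]; group
  have hsq : ∀ y : Tgt, y * y = 1 → iota e y * iota e y = 1 := by
    intro y hy
    rw [← map_mul, hy, map_one]
  have hx'rr : x' * iota e rr ≠ iota e rr * x' := by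
    intro h1
    apply hx't
    have h2 : iota e rr2 * x' = x' * iota e rr2 := hx'σ (swap 2 3) (by decide +kernel)
    have h3 : x' * iota e zg = iota e zg * x' := by
      rw [← rr_mul_rr2, map_mul]
      calc x' * (iota e rr * iota e rr2) = (x' * iota e rr) * iota e rr2 := by group
        _ = iota e rr * (x' * iota e rr2) := by rw [h1]; group
        _ = iota e rr * (iota e rr2 * x') := by rw [h2]
        _ = _ := by group
    exact h.hSt _ ((h.hS _).2 h3)
  have hch : Chain5 t x' (iota e rr) (iota e e12) (iota e rr2) :=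
    { q1 := t_mul_t h
      q2 := hq2
      q3 := hsq _ rr_sq
      q4 := hsq _ e12_sq
      q5 := hsq _ rr2_sq
      b12 := braid_of_cube (t_mul_t h) hq2 (cube_of_noncomm h hr hft hfi hOmx hx't)
      b23 := braid_of_cube hq2 (hsq _ rr_sq) (three_transp h hr hft hfi hOmx hr hx'rr)
      b34 := braid_of_cube (hsq _ rr_sq) (hsq _ e12_sq) (by
        rw [← map_mul, ← map_pow, rr_e12, map_one])
      b45 := braid_of_cube (hsq _ e12_sq) (hsq _ rr2_sq) (by
        rw [← map_mul, ← map_pow, e12_rr2, map_one])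
      c13 := (iota_comm e _).symm
      c14 := (iota_comm e _).symm
      c15 := (iota_comm e _).symm
      c24 := (hx'σ (swap 1 2) (by decide +kernel)).symm
      c25 := (hx'σ (swap 2 3) (by decide +kernel)).symm
      c35 := by rw [← map_mul, rr_rr2, map_mul] }
  -- the subgroups
  set G₀ := Subgroup.closure ({t, x', iota e rr, iota e e12, iota e rr2} : Set G) with hG₀
  set M := Subgroup.closure ({x', iota e rr, iota e e12, iota e rr2} : Set G) with hM
  let ψ : S4 →* G := (iota e).comp (MonoidHom.inr Z2 S4)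
  have hψ : ∀ σ, ψ σ = iota e (1, σ) := fun σ => rfl
  -- order of `M`
  have hJ : Nat.card ψ.range ≤ 24 := by
    have h1 := Nat.card_le_card_of_surjective ψ.rangeRestrict ψ.rangeRestrict_surjective
    have h2 : Nat.card S4 = 24 := by
      rw [Nat.card_perm, Nat.card_eq_fintype_card, Fintype.card_fin]
      rfl
    omega
  have hM120 : Nat.card M ≤ 120 := by
    have h1 := card_le_of_cover (A := M) (J := ψ.range) _ (fun g hg =>
      cover4 hch (J := ψ.range) ⟨swap 0 1, rfl⟩ ⟨swap 1 2, rfl⟩ ⟨swap 2 3, rfl⟩ hg)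
    omega
  have hmem : ∀ x ∈ ({x', iota e rr, iota e e12, iota e rr2} : Set G), x ∈ M :=
    fun x hx => Subgroup.subset_closure hx
  have hG₀M : Nat.card G₀ ≤ 720 := by
    have h1 := card_le_of_cover (A := G₀) (J := M) _ (fun g hg =>
      cover5 hch (M := M) (hmem _ (by simp)) (hmem _ (by simp)) (hmem _ (by simp)) (hmem _ (by simp)) hg)
    omega
  -- `G₀` contains the centralizer of `t`
  have hmem0 : ∀ x ∈ ({t, x', iota e rr, iota e e12, iota e rr2} : Set G), x ∈ G₀ :=
    fun x hx => Subgroup.subset_closure hx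
  have hψG₀ : ∀ σ, ψ σ ∈ G₀ := by
    intro σ
    have h1 : ∀ i : Fin 3, swap i.castSucc i.succ ∈ G₀.comap ψ := by
      intro i
      rw [Subgroup.mem_comap, hψ]
      fin_cases i
      · exact hmem0 _ (by simp [rr])
      · exact hmem0 _ (by simp [e12])
      · exact hmem0 _ (by simp [rr2])
    have h2 : Submonoid.closure (Set.range fun i : Fin 3 => swap i.castSucc i.succ) ≤ (G₀.comap ψ).toSubmonoid := by
      rw [Submonoid.closure_le]
      rintro _ ⟨i, rfl⟩
      exact h1 i
    rw [Equiv.Perm.mclosure_swap_castSucc_succ 3] at h2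
    exact h2 (Submonoid.mem_top σ)
  have hcenG₀ : Cen t ≤ G₀ := by
    intro g hg
    obtain ⟨y, rfl⟩ := exists_iota e (mem_cen.1 hg)
    have h1 : y = (y.1, 1) * (1, y.2) := by
      ext1
      · exact (mul_one _).symm
      · exact (one_mul _).symm
    rw [h1, map_mul]
    refine G₀.mul_mem ?_ (hψG₀ y.2)
    rcases z2_cases y.1 with h2 | h2
    · rw [h2]
      have : ((1, 1) : Tgt) = 1 := rfl
      rw [this, map_one]
      exact G₀.one_mem
    · rw [h2]
      have : iota e (a, 1) = t := h.het
      rw [this]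
      exact hmem0 _ (by simp)
  have hx'G₀ : x' ∈ G₀ := hmem0 _ (by simp)
  have hcencard : Nat.card (Cen t) = 48 := by
    rw [Nat.card_congr e.toEquiv, card_Tgt]
  have hG₀top : G₀ = ⊤ := by
    have hdvd := Subgroup.card_dvd_of_le hcenG₀
    rw [hcencard] at hdvd
    obtain ⟨k, hk⟩ := hdvd
    have hk1 : k ≠ 1 := by
      rintro rfl
      have h1 : Cen t = G₀ := Subgroup.eq_of_le_of_card_ge hcenG₀ (by rw [hcencard, hk])
      apply hx't
      have h2 : x' ∈ Cen t := h1 ▸ hx'G₀
      exact mem_cen.1 h2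
    have hidx := Subgroup.card_mul_index G₀
    rw [hc720, hk] at hidx
    have h15 : k * G₀.index = 15 := by nlinarith
    have hkle : k ∣ 15 := ⟨_, h15.symm⟩
    have hk3 : 3 ≤ k := by
      have h1 : k ≠ 0 := by
        rintro rfl
        omega
      have h2 : k ≠ 2 := by
        rintro rfl
        omega
      omega
    have hidx5 : G₀.index ≤ 5 := by nlinarith
    have hfac : Nat.factorial G₀.index ≤ 120 := by
      have := Nat.factorial_le hidx5
      simpa [Nat.factorial] using this
    have hH : f.ker ≤ G₀ := le_of_simple hsimple (by omega)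
    rw [eq_top_iff]
    intro g _
    rcases z2_cases (f g) with h1 | h1
    · exact hH h1
    · have h2 : g * t ∈ f.ker := by
        rw [MonoidHom.mem_ker, map_mul, h1, hft, a_mul_a]
      have h3 : g = (g * t) * t⁻¹ := by group
      rw [h3]
      exact G₀.mul_mem (hH h2) (inv_mem (hmem0 _ (by simp)))
  have hM120' : Nat.card M = 120 := by
    have h1 := card_le_of_cover (A := G₀) (J := M) _ (fun g hg =>
      cover5 hch (M := M) (hmem _ (by simp)) (hmem _ (by simp)) (hmem _ (by simp)) (hmem _ (by simp)) hg)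
    rw [hG₀top, Subgroup.card_top, hc720] at h1
    omega
  have hMi : M.index = 6 := by
    have h1 := Subgroup.card_mul_index M
    rw [hM120', hc720] at h1
    omega
  -- the action
  let π : G →* Equiv.Perm (G ⧸ M) := MulAction.toPermHom G (G ⧸ M)
  have hker : π.ker = ⊥ := by
    rw [eq_bot_iff]
    intro g hg
    rw [Subgroup.mem_bot]
    have hgM : ∀ k ∈ π.ker, k ∈ M := by
      intro k hk
      have h3 : π k = 1 := hk
      have h4 : k • ((1 : G) : G ⧸ M) = ((1 : G) : G ⧸ M) := by
        have := congrArg (fun p : Equiv.Perm (G ⧸ M) => p ((1 : G) : G ⧸ M)) h3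
        exact this
      have h5 : ((k : G) : G ⧸ M) = ((1 : G) : G ⧸ M) := by
        have h6 : k • ((1 : G) : G ⧸ M) = ((k * 1 : G) : G ⧸ M) := rfl
        rw [h6, mul_one] at h4
        exact h4
      rw [eq_comm, QuotientGroup.eq] at h5
      simpa using h5
    have hN : (π.ker.subgroupOf f.ker).Normal := inferInstance
    rcases hsimple.eq_bot_or_eq_top_of_normal _ hN with h1 | h1
    · -- `g` is central
      have hcentral : ∀ x : G, g * x = x * g := by
        intro x
        have h2 : g * x * g⁻¹ * x⁻¹ ∈ π.ker := by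
          have h20 := (inferInstance : π.ker.Normal).conj_mem g⁻¹ (inv_mem hg) x
          have h21 := π.ker.mul_mem hg h20
          simpa [mul_assoc] using h21
        have h3 : g * x * g⁻¹ * x⁻¹ ∈ f.ker := by
          rw [MonoidHom.mem_ker]
          simp only [map_mul, map_inv]
          have h30 : ∀ p q : Z2, p * q * p⁻¹ * q⁻¹ = 1 := by decide
          exact h30 _ _
        have h4 : (⟨_, h3⟩ : f.ker) ∈ π.ker.subgroupOf f.ker := h2
        rw [h1, Subgroup.mem_bot] at h4
        have h5 : g * x * g⁻¹ * x⁻¹ = 1 := congrArg Subtype.val h4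
        calc g * x = (g * x * g⁻¹ * x⁻¹) * (x * g) := by group
          _ = x * g := by rw [h5, one_mul]
      obtain ⟨y, rfl⟩ := exists_iota e (hcentral t)
      have hy : ∀ y', y * y' = y' * y := by
        intro y'
        apply iota_inj e
        rw [map_mul, map_mul]
        exact hcentral _
      rcases d_center y hy with h2 | h2
      · rw [h2, map_one]
      · exfalso
        rw [h2, h.het] at hcentral
        obtain ⟨g', hg'⟩ := id hr
        have h3 : g' * t * g'⁻¹ = t := by
          rw [← hcentral g', mul_inv_cancel_right]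
        rw [h3] at hg'
        have h4 : iota e tg = iota e rr := by rw [h.het]; exact hg'
        exact rr_ne_tg (iota_inj e h4).symm
    · exfalso
      have h2 : f.ker ≤ M := by
        intro x hx
        have h3 : (⟨x, hx⟩ : f.ker) ∈ π.ker.subgroupOf f.ker := by rw [h1]; trivial
        exact hgM x h3
      have h3 := Subgroup.card_le_of_le h2
      omega
  have hinj : Function.Injective π := (MonoidHom.ker_eq_bot_iff π).1 hker
  have hcardP : Nat.card (Equiv.Perm (G ⧸ M)) = 720 := by
    rw [Nat.card_perm]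
    have : Nat.card (G ⧸ M) = 6 := hMi
    rw [this]
    rfl
  have hbij : Function.Bijective π := by
    rw [Nat.bijective_iff_injective_and_card]
    exact ⟨hinj, by rw [hc720, hcardP]⟩
  have hM6 : Nat.card (G ⧸ M) = 6 := hMi
  exact ⟨(MulEquiv.ofBijective π hbij).trans (Equiv.permCongrHom (Finite.equivFinOfCardEq hM6))⟩

end Cfsg.Agent.Lib.Perm.CenS4
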