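import Mathlib
import Cfsg.Agent.Lib.Perm.CenS4F

/-!
# Finite groups with an involution with centralizer `Z₂ × S₄`: the main theorem
-/

set_option autoImplicit false

namespace Cfsg.Agent.Lib.Perm.CenS4

open Equiv
open scoped Pointwise

universe u

/-- The twist of `Z₂ × S₄` by the sign. -/
def tw : Tgt ≃* Tgt where
  toFun y := (y.1 * sg y.2, y.2)
  invFun y := (y.1 * sg y.2, y.2)
  left_inv := by decide +kernel
  right_inv := by decide +kernel
  map_mul' := by decide +kernel

theorem tw_tg : tw.symm tg = tg := by decide +kernel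
theorem tw_zg : tw.symm zg = zg := by decide +kernel
theorem tw_rr : tw.symm rr = (a, swap 0 1) := by decide +kernel

variable {G : Type u} [Group G] [Finite G] {t : G} {e : Cen t ≃* Tgt} {S : Sylow 2 G}

omit [Finite G] in
theorem iota_tw (e : Cen t ≃* Tgt) (y : Tgt) : iota (e.trans tw) y = iota e (tw.symm y) := rfl

omit [Finite G] in
theorem Hyp.twist (h : Hyp e S) : Hyp (e.trans tw) S where
  ht := h.ht
  het := by rw [iota_tw, tw_tg]; exact h.het
  hS := by
    intro g
    rw [iota_tw, tw_zg]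
    exact h.hS g
  hSt := h.hSt

/-- The main dichotomy in normal form. -/
theorem main_of_hyp (h : Hyp e S) : Cen t = ⊤ ∨ Nonempty (G ≃* Equiv.Perm (Fin 6)) := by
  by_cases H : ∃ y : Tgt, IsTr y.2 ∧ Om t (iota e y)
  · right
    obtain ⟨y, hy, hOm⟩ := H
    obtain ⟨c, -, hc⟩ := d_tr_conj y.2 (swap 0 1) hy (by decide +kernel) y.1
    have h1 : Om t (iota e (y.1, swap 0 1)) := by
      have h2 := hOm.conj (iota e c)
      have h3 : iota e (y.1, swap 0 1) = iota e c * iota e y * (iota e c)⁻¹ := by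
        rw [hc]
        simp only [map_mul, map_inv]
      rw [h3]
      exact h2
    rcases z2_cases y.1 with h2 | h2
    · rw [h2] at h1
      exact caseB h h1
    · rw [h2] at h1
      refine caseB h.twist ?_
      rw [iota_tw, tw_rr]
      exact h1
  · left
    exact caseA h (fun y hy hOm => H ⟨y, hy, hOm⟩)

theorem isSolvable_S4 : Group.IsSolvable S4 := by
  let V' : Subgroup S4 :=
    { carrier := {σ | σ = 1 ∨ IsV σ}
      one_mem' := Or.inl rfl
      mul_mem' := by
        have : ∀ x y : S4, (x = 1 ∨ IsV x) → (y = 1 ∨ IsV y) → (x * y = 1 ∨ IsV (x * y)) := by decide +kernel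
        exact fun {x y} hx hy => this x y hx hy
      inv_mem' := by
        have : ∀ x : S4, (x = 1 ∨ IsV x) → (x⁻¹ = 1 ∨ IsV x⁻¹) := by decide +kernel
        exact fun {x} hx => this x hx }
  have h1 : ⁅(⊤ : Subgroup S4), (⊤ : Subgroup S4)⁆ ≤ sg.ker := by
    rw [Subgroup.commutator_le]
    intro x _ y _
    rw [MonoidHom.mem_ker, commutatorElement_def]
    simp only [map_mul, map_inv]
    have h30 : ∀ p q : Z2, p * q * p⁻¹ * q⁻¹ = 1 := by decide
    exact h30 _ _
  have h2 : ⁅sg.ker, sg.ker⁆ ≤ V' := by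
    rw [Subgroup.commutator_le]
    intro x hx y hy
    have : ∀ x y : S4, sg x = 1 → sg y = 1 → (x * y * x⁻¹ * y⁻¹ = 1 ∨ IsV (x * y * x⁻¹ * y⁻¹)) := by decide +kernel
    exact this x y hx hy
  have h3 : ⁅V', V'⁆ ≤ ⊥ := by
    rw [Subgroup.commutator_le]
    intro x hx y hy
    have : ∀ x y : S4, (x = 1 ∨ IsV x) → (y = 1 ∨ IsV y) → x * y * x⁻¹ * y⁻¹ = 1 := by decide +kernel
    rw [Subgroup.mem_bot]
    exact this x y hx hy
  refine (Group.isSolvable_def _).2 ⟨3, ?_⟩
  rw [eq_bot_iff]
  have h4 : derivedSeries S4 1 ≤ sg.ker := h1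
  have h5 : derivedSeries S4 2 ≤ V' := le_trans (Subgroup.commutator_mono h4 h4) h2
  exact le_trans (Subgroup.commutator_mono h5 h5) h3

theorem isSolvable_Tgt : Group.IsSolvable Tgt := by
  haveI := isSolvable_S4
  infer_instance

theorem card_std : Nat.card (Subgroup.centralizer ({zg} : Set Tgt)) = 16 := by
  have h1 : ↥(Subgroup.centralizer ({zg} : Set Tgt)) ≃ {y : Tgt // y * zg = zg * y} :=
    Equiv.subtypeEquivRight (fun y => Subgroup.mem_centralizer_singleton_iff)
  rw [Nat.card_congr h1, Nat.card_eq_fintype_card, Fintype.card_subtype]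
  decide +kernel

theorem fact48 : (Nat.card Tgt).factorization 2 = 4 := by
  rw [card_Tgt, show (48 : ℕ) = 2 ^ 4 * 3 from rfl, Nat.factorization_mul (by norm_num) (by norm_num),
    Nat.Prime.factorization_pow Nat.prime_two]
  simp [Nat.Prime.factorization Nat.prime_three]

/-- Normalization of the given data. -/
theorem exists_normal (t : G) (ht : orderOf t = 2) (T : Sylow 2 G) (htT : t ∈ (T : Subgroup G))
    (htc : ∀ s ∈ (T : Subgroup G), s * t = t * s) (e : Cen t ≃* Tgt)
    (h2 : ∀ S : Sylow 2 G, Subgroup.centralizer ((⁅(S : Subgroup G), (S : Subgroup G)⁆ : Subgroup G) : Set G) = (S : Subgroup G)) :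
    ∃ e' : Cen t ≃* Tgt, Hyp e' T := by
  classical
  haveI : Fact (Nat.Prime 2) := ⟨Nat.prime_two⟩
  have hle : (T : Subgroup G) ≤ Cen t := fun s hs => mem_cen.2 (htc s hs)
  have hcard48 : Nat.card (Cen t) = 48 := by rw [Nat.card_congr e.toEquiv, card_Tgt]
  -- `e t`
  have het : e ⟨t, mem_cen.2 rfl⟩ = tg := by
    have h1 : ∀ y, e ⟨t, mem_cen.2 rfl⟩ * y = y * e ⟨t, mem_cen.2 rfl⟩ := by
      intro y
      obtain ⟨x, rfl⟩ := e.surjective y
      rw [← map_mul, ← map_mul]
      congr 1
      apply Subtype.ext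
      exact (mem_cen.1 x.2).symm
    rcases d_center _ h1 with h3 | h3
    · exfalso
      have h4 : (⟨t, mem_cen.2 rfl⟩ : Cen t) = 1 := by
        apply e.injective
        rw [h3, map_one]
      have h5 : t = 1 := congrArg Subtype.val h4
      rw [h5, orderOf_one] at ht
      omega
    · exact h3
  -- order of `T`
  have hT16 : Nat.card T = 16 := by
    have h1 : Nat.card (T : Subgroup G) = 2 ^ (Nat.card G).factorization 2 := T.card_eq_multiplicity
    have h3 := Subgroup.card_dvd_of_le hle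
    rw [hcard48] at h3
    have h4 : (48 : ℕ) ∣ Nat.card G := by
      rw [← hcard48]
      exact Subgroup.card_subgroup_dvd_card _
    have h5 : 16 ∣ Nat.card (T : Subgroup G) := by
      rw [h1]
      have h6 : (2 : ℕ) ^ 4 ∣ Nat.card G := (by norm_num : (2 : ℕ) ^ 4 ∣ 48).trans h4
      have h7 := (Nat.Prime.pow_dvd_iff_le_factorization Nat.prime_two Nat.card_pos.ne').1 h6
      exact pow_dvd_pow 2 h7
    obtain ⟨k, hk⟩ := h5
    rw [hk] at h3
    have h8 : k ∣ 3 := by
      have : 16 * k ∣ 16 * 3 := h3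
      exact Nat.dvd_of_mul_dvd_mul_left (by norm_num) this
    have h9 : k = 1 ∨ k = 3 := by
      have := (Nat.dvd_prime Nat.prime_three).1 h8
      exact this
    rcases h9 with rfl | rfl
    · simpa using hk
    · exfalso
      rw [h1] at hk
      have h10 : 3 ∣ 2 ^ (Nat.card G).factorization 2 := by
        rw [hk]
        exact ⟨16, by ring⟩
      have h11 := Nat.Prime.dvd_of_dvd_pow Nat.prime_three h10
      omega
  -- conjugating to the standard Sylow subgroup
  set P₀ : Subgroup Tgt := ((T : Subgroup G).subgroupOf (Cen t)).map e.toMonoidHom with hP₀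
  have hP₀card : Nat.card P₀ = 2 ^ (Nat.card Tgt).factorization 2 := by
    rw [fact48, hP₀, Subgroup.card_map_of_injective e.injective,
      Nat.card_congr (Subgroup.subgroupOfEquivOfLe hle).toEquiv, hT16]
    rfl
  have hstdcard : Nat.card (Subgroup.centralizer ({zg} : Set Tgt)) = 2 ^ (Nat.card Tgt).factorization 2 := by
    rw [fact48, card_std]
    rfl
  obtain ⟨y, hy⟩ := MulAction.exists_smul_eq Tgt (Sylow.ofCard P₀ hP₀card) (Sylow.ofCard _ hstdcard)
  have hconj : ∀ p ∈ P₀, y * p * y⁻¹ ∈ Subgroup.centralizer ({zg} : Set Tgt) := by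
    intro p hp
    have h1 : MulAut.conj y • p ∈ MulAut.conj y • P₀ := Subgroup.smul_mem_pointwise_smul _ _ _ hp
    have h3 : (((y • Sylow.ofCard P₀ hP₀card : Sylow 2 Tgt)) : Subgroup Tgt) = MulAut.conj y • P₀ := rfl
    rw [← h3, hy] at h1
    exact h1
  -- the new isomorphism
  let e' : Cen t ≃* Tgt := e.trans (MulAut.conj y)
  have he' : ∀ x : Cen t, e' x = y * e x * y⁻¹ := fun x => rfl
  have hiota : ∀ g (hg : g ∈ Cen t), iota e' (e' ⟨g, hg⟩) = g := by
    intro g hg
    simp [iota]
  have hstd : ∀ g (hg : g ∈ (T : Subgroup G)), e' ⟨g, hle hg⟩ * zg = zg * e' ⟨g, hle hg⟩ := by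
    intro g hg
    rw [he']
    have h1 := hconj (e ⟨g, hle hg⟩) ⟨⟨g, hle hg⟩, hg, rfl⟩
    exact Subgroup.mem_centralizer_singleton_iff.1 h1
  refine ⟨e', ht, ?_, ?_, htc⟩
  · have h1 : tg = e' ⟨t, mem_cen.2 rfl⟩ := by
      rw [he', het, tg_comm y, mul_inv_cancel_right]
    rw [h1]
    exact hiota _ _
  · intro g
    constructor
    · intro hg
      have h1 := hiota g (hle hg)
      have h3 := hstd g hg
      calc g * iota e' zg = iota e' (e' ⟨g, hle hg⟩) * iota e' zg := by rw [h1]
        _ = iota e' zg * iota e' (e' ⟨g, hle hg⟩) := by rw [← map_mul, h3, map_mul]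
        _ = iota e' zg * g := by rw [h1]
    · intro hg
      rw [← h2 T, Subgroup.mem_centralizer_iff]
      have hcz : ⁅(T : Subgroup G), (T : Subgroup G)⁆ ≤ Subgroup.zpowers (iota e' zg) := by
        rw [Subgroup.commutator_le]
        intro p hp q hq
        have h3 := d_comm_std _ _ (hstd p hp) (hstd q hq)
        have h4 : p * q * p⁻¹ * q⁻¹ = iota e' (e' ⟨p, hle hp⟩ * e' ⟨q, hle hq⟩ * (e' ⟨p, hle hp⟩)⁻¹ * (e' ⟨q, hle hq⟩)⁻¹) := by
          simp only [map_mul, map_inv, hiota]
        rw [commutatorElement_def, h4]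
        rcases h3 with h3 | h3
        · rw [h3, map_one]
          exact Subgroup.one_mem _
        · rw [h3]
          exact Subgroup.mem_zpowers _
      intro c hc
      obtain ⟨k, rfl⟩ := Subgroup.mem_zpowers_iff.1 (hcz hc)
      have h3 : Commute g (iota e' zg) := hg
      exact (h3.zpow_right k).symm.eq

end Cfsg.Agent.Lib.Perm.CenS4
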