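import Mathlib
import Cfsg.Agent.Lib.Basic.JordanCover
import Cfsg.Agent.Lib.Perm.Basic
import Cfsg.Agent.Lib.Solvable.MinimalNormal

/-!
# Derangements and commuting pieces of minimal normal subgroups (team library)

`exists_derangement` (Jordan), `exists_derangement_of_commute`, `mul_derangement_of_coprime`.
Structure of a nonabelian minimal normal subgroup without full O'Nan-Scott:
`RegPair` (two commuting regular subgroups), `ComPair` (commuting factors of a minimal normal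
subgroup with the first factor intransitive) and the dichotomy `nonabelian_dichotomy`.
-/

set_option autoImplicit false
set_option linter.style.haveILetI false
set_option linter.unusedSimpArgs false

namespace Cfsg.Agent.Lib.Perm.Derange

open MulAction
open scoped Pointwise
open Cfsg.Agent.Lib.Solvable.MinimalNormal
open Cfsg.Agent.Lib.Perm.Basic

variable {G Ω : Type*} [Group G] [MulAction G Ω]

/-- Jordan's lemma: a transitive finite group on at least two points has a derangement. -/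
theorem exists_derangement [Finite G] [IsPretransitive G Ω] {a b : Ω} (hab : a ≠ b) :
    ∃ g : G, ∀ ω : Ω, g • ω ≠ ω := by
  by_contra h
  push Not at h
  have htop : stabilizer G a = ⊤ := by
    apply Cfsg.Agent.Lib.Basic.JordanCover.eq_top_of_forall_conj_mem
    intro g
    obtain ⟨ω, hω⟩ := h g
    obtain ⟨y, rfl⟩ := exists_smul_eq G a ω
    refine ⟨y⁻¹, ?_⟩
    rw [mem_stabilizer_iff]
    simp only [inv_inv, mul_smul]
    rw [hω, inv_smul_smul]
  obtain ⟨y, rfl⟩ := exists_smul_eq G a b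
  have : y ∈ stabilizer G a := htop ▸ Subgroup.mem_top y
  exact hab (mem_stabilizer_iff.mp this).symm

/-- Elements of the join of two commuting subgroups. -/
theorem mem_sup_of_commute (A B : Subgroup G) (hc : ∀ a ∈ A, ∀ b ∈ B, a * b = b * a) {g : G}
    (hg : g ∈ A ⊔ B) : ∃ a ∈ A, ∃ b ∈ B, g = b * a := by
  let W : Subgroup G :=
    { carrier := {g | ∃ a ∈ A, ∃ b ∈ B, g = b * a}
      one_mem' := ⟨1, A.one_mem, 1, B.one_mem, by simp⟩
      mul_mem' := by
        rintro _ _ ⟨a, ha, b, hb, rfl⟩ ⟨a', ha', b', hb', rfl⟩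
        refine ⟨a * a', mul_mem ha ha', b * b', mul_mem hb hb', ?_⟩
        calc b * a * (b' * a') = b * (a * b') * a' := by group
          _ = b * (b' * a) * a' := by rw [hc a ha b' hb']
          _ = b * b' * (a * a') := by group
      inv_mem' := by
        rintro _ ⟨a, ha, b, hb, rfl⟩
        refine ⟨a⁻¹, inv_mem ha, b⁻¹, inv_mem hb, ?_⟩
        rw [← hc a ha b hb, mul_inv_rev] }
  have hle : A ⊔ B ≤ W := sup_le (fun a ha => ⟨a, ha, 1, B.one_mem, by simp⟩)
    (fun b hb => ⟨1, A.one_mem, b, hb, by simp⟩)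
  exact hle hg

/-- If `A`, `B` commute, `A ≠ 1`, and `AB` is transitive, then `A` contains a derangement. -/
theorem exists_derangement_of_commute [Finite G] [FaithfulSMul G Ω] (A B : Subgroup G)
    (hA : A ≠ ⊥) (hc : ∀ a ∈ A, ∀ b ∈ B, a * b = b * a)
    (htr : ∀ x y : Ω, ∃ a ∈ A, ∃ b ∈ B, (b * a) • x = y) :
    ∃ x ∈ A, ∀ ω : Ω, x • ω ≠ ω := by
  obtain ⟨⟨a₀, ha₀⟩, hne⟩ := (Subgroup.ne_bot_iff_exists_ne_one.mp hA)
  have ha₀' : (a₀ : G) ≠ 1 := fun h => hne (Subtype.ext h)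
  obtain ⟨ω₀, hω₀⟩ : ∃ ω : Ω, (a₀ : G) • ω ≠ ω := by
    by_contra h
    push Not at h
    exact ha₀' (FaithfulSMul.eq_of_smul_eq_smul (α := Ω) fun x => by rw [h x, one_smul])
  have hne2 : (⟨ω₀, mem_orbit_self ω₀⟩ : orbit A ω₀) ≠ ⟨a₀ • ω₀, ⟨⟨a₀, ha₀⟩, rfl⟩⟩ := by
    intro h
    exact hω₀ (congrArg Subtype.val h).symm
  obtain ⟨x, hx⟩ := exists_derangement (G := A) (Ω := orbit A ω₀) hne2
  refine ⟨x, x.2, ?_⟩
  intro y hy
  obtain ⟨a, ha, b, hb, rfl⟩ := htr ω₀ y
  have hfix : (x : G) • (a • ω₀) = a • ω₀ := by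
    have h1 : (x : G) • ((b * a) • ω₀) = (b * a) • ω₀ := hy
    have h2 : ((x : G) * b) • (a • ω₀) = b • (a • ω₀) := by
      simpa only [mul_smul] using h1
    rw [hc x x.2 b hb, mul_smul] at h2
    exact MulAction.injective b h2
  apply hx ⟨a • ω₀, ⟨⟨a, ha⟩, rfl⟩⟩
  exact Subtype.ext hfix

/-- Multiplying a derangement by a commuting element of coprime order gives a derangement. -/
theorem mul_derangement_of_coprime {x c : G} (hx : ∀ ω : Ω, x • ω ≠ ω) (hc : Commute x c)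
    (hcop : Nat.Coprime (orderOf x) (orderOf c)) : ∀ ω : Ω, (x * c) • ω ≠ ω := by
  intro ω h
  have h1 : (x * c) ^ orderOf c ∈ stabilizer G ω := Subgroup.pow_mem _ h _
  rw [hc.mul_pow, pow_orderOf_eq_one, mul_one] at h1
  obtain ⟨m, hm⟩ := exists_pow_eq_self_of_coprime hcop.symm
  have h2 : (x ^ orderOf c) ^ m ∈ stabilizer G ω := Subgroup.pow_mem _ h1 _
  rw [hm] at h2
  exact hx ω h2

/-! ### Minimal invariant subgroups -/

/-- Trivial centre of a minimal invariant noncommutative subgroup. -/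
theorem center_trivial_of_min (S A : Subgroup G) (hinv : ∀ n ∈ S, ∀ a ∈ A, n * a * n⁻¹ ∈ A)
    (hmin : ∀ K : Subgroup G, K ≤ A → K ≠ ⊥ → (∀ n ∈ S, ∀ k ∈ K, n * k * n⁻¹ ∈ K) → K = A)
    (hnc : ¬ ∀ a ∈ A, ∀ b ∈ A, a * b = b * a) :
    ∀ a ∈ A, (∀ n ∈ A, a * n = n * a) → a = 1 := by
  let Z : Subgroup G := A ⊓ Subgroup.centralizer (A : Set G)
  have hZinv : ∀ n ∈ S, ∀ k ∈ Z, n * k * n⁻¹ ∈ Z := by
    intro n hn k hk
    have hkA : k ∈ A := (Subgroup.mem_inf.mp hk).1
    have hkc : k ∈ Subgroup.centralizer (A : Set G) := (Subgroup.mem_inf.mp hk).2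
    refine Subgroup.mem_inf.mpr ⟨hinv n hn k hkA, ?_⟩
    rw [Subgroup.mem_centralizer_iff] at hkc ⊢
    intro y hy
    have hy' : n⁻¹ * y * n ∈ A := by
      have := hinv n⁻¹ (inv_mem hn) y hy
      simpa using this
    have := hkc _ hy'
    calc y * (n * k * n⁻¹) = n * ((n⁻¹ * y * n) * k) * n⁻¹ := by group
      _ = n * (k * (n⁻¹ * y * n)) * n⁻¹ := by rw [this]
      _ = n * k * n⁻¹ * y := by group
  intro a ha hz
  by_contra hne
  have hZne : Z ≠ ⊥ := by
    intro hb
    have : a ∈ Z := Subgroup.mem_inf.mpr ⟨ha, Subgroup.mem_centralizer_iff.mpr fun y hy => (hz y hy).symm⟩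
    rw [hb, Subgroup.mem_bot] at this
    exact hne this
  have hZA := hmin Z inf_le_left hZne hZinv
  apply hnc
  intro u hu v hv
  have hu' : u ∈ Z := hZA ▸ hu
  exact (Subgroup.mem_centralizer_iff.mp (Subgroup.mem_inf.mp hu').2 v hv).symm

/-- A nontrivial finite subgroup with trivial centre is not a `p`-group: there is a prime `q ≠ p`
dividing its order. -/
theorem exists_prime_ne_of_center_trivial [Finite G] (A : Subgroup G) (hA : A ≠ ⊥)
    (hz : ∀ a ∈ A, (∀ n ∈ A, a * n = n * a) → a = 1) (p : ℕ) (hp : p.Prime) :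
    ∃ q : ℕ, q.Prime ∧ q ≠ p ∧ q ∣ Nat.card A := by
  by_contra h
  push Not at h
  haveI : Fact p.Prime := ⟨hp⟩
  have hcard : Nat.card A = p ^ (Nat.card A).primeFactorsList.length :=
    Nat.eq_prime_pow_of_unique_prime_dvd Nat.card_pos.ne' (fun {d} hd hdvd => by
      by_contra hne
      exact h d hd hne hdvd)
  have hpg : IsPGroup p A := IsPGroup.iff_card.mpr ⟨_, hcard⟩
  haveI : Nontrivial A := by
    obtain ⟨a, hne⟩ := Subgroup.ne_bot_iff_exists_ne_one.mp hA
    exact ⟨⟨a, 1, hne⟩⟩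
  haveI := hpg.center_nontrivial
  obtain ⟨z, hz1⟩ := exists_ne (1 : Subgroup.center A)
  apply hz1
  apply Subtype.ext
  apply Subtype.ext
  apply hz z.1.1 z.1.2
  intro n hn
  have := Subgroup.mem_center_iff.mp z.2 ⟨n, hn⟩
  exact (congrArg Subtype.val this).symm

/-- `A` is a minimal nontrivial subgroup of `N` normalized by `N`. -/
structure IsMinInv (N A : Subgroup G) : Prop where
  le : A ≤ N
  ne_bot : A ≠ ⊥
  inv : ∀ n ∈ N, ∀ a ∈ A, n * a * n⁻¹ ∈ A
  min : ∀ K : Subgroup G, K ≤ A → K ≠ ⊥ → (∀ n ∈ N, ∀ k ∈ K, n * k * n⁻¹ ∈ K) → K = A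

/-- Conjugate of a subgroup. -/
abbrev cj (g : G) (A : Subgroup G) : Subgroup G := A.map (MulAut.conj g).toMonoidHom

theorem mem_cj {g x : G} {A : Subgroup G} : x ∈ cj g A ↔ g⁻¹ * x * g ∈ A := by
  constructor
  · rintro ⟨a, ha, rfl⟩
    simpa [mul_assoc] using ha
  · intro h
    exact ⟨_, h, by simp [mul_assoc]⟩

theorem cj_one (A : Subgroup G) : cj 1 A = A := by
  ext x; simp [mem_cj]

theorem cj_cj (g h : G) (A : Subgroup G) : cj g (cj h A) = cj (g * h) A := by
  ext x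
  simp only [mem_cj]
  have : h⁻¹ * (g⁻¹ * x * g) * h = (g * h)⁻¹ * x * (g * h) := by group
  rw [this]

theorem card_cj (g : G) (A : Subgroup G) : Nat.card (cj g A) = Nat.card A :=
  Subgroup.card_map_of_injective (MulAut.conj g).injective

theorem cj_ne_bot {g : G} {A : Subgroup G} (hA : A ≠ ⊥) : cj g A ≠ ⊥ := by
  intro h
  apply hA
  have := congrArg (cj g⁻¹) h
  rw [cj_cj, inv_mul_cancel, cj_one] at this
  rw [this]
  ext x
  simp [mem_cj]

theorem IsMinInv.cj {N A : Subgroup G} [N.Normal] (h : IsMinInv N A) (g : G) :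
    IsMinInv N (cj g A) := by
  refine ⟨?_, cj_ne_bot h.ne_bot, ?_, ?_⟩
  · intro x hx
    have h1 := h.le (mem_cj.mp hx)
    have := (inferInstance : N.Normal).conj_mem _ h1 g
    have e : g * (g⁻¹ * x * g) * g⁻¹ = x := by group
    rwa [e] at this
  · intro n hn x hx
    rw [mem_cj] at hx ⊢
    have hn' : g⁻¹ * n * g ∈ N := by
      have := (inferInstance : N.Normal).conj_mem n hn g⁻¹
      simpa using this
    have := h.inv _ hn' _ hx
    have e : g⁻¹ * n * g * (g⁻¹ * x * g) * (g⁻¹ * n * g)⁻¹ = g⁻¹ * (n * x * n⁻¹) * g := by group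
    rwa [e] at this
  · intro K hK hKne hKinv
    have hKg : Derange.cj g⁻¹ K = A := by
      apply h.min
      · intro y hy
        have h1 := hK (mem_cj.mp hy)
        rw [mem_cj] at h1
        have e : g⁻¹ * ((g⁻¹)⁻¹ * y * g⁻¹) * g = y := by group
        rwa [e] at h1
      · exact cj_ne_bot hKne
      · intro n hn y hy
        rw [mem_cj] at hy ⊢
        have hn' : g * n * g⁻¹ ∈ N := (inferInstance : N.Normal).conj_mem n hn g
        have := hKinv _ hn' _ hy
        have e : g * n * g⁻¹ * ((g⁻¹)⁻¹ * y * g⁻¹) * (g * n * g⁻¹)⁻¹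
            = (g⁻¹)⁻¹ * (n * y * n⁻¹) * g⁻¹ := by group
        rwa [e] at this
    rw [← hKg, cj_cj, mul_inv_cancel, cj_one]

/-- Two different minimal invariant subgroups commute. -/
theorem IsMinInv.comm_of_ne {N A A' : Subgroup G} (h : IsMinInv N A) (h' : IsMinInv N A')
    (hne : A ≠ A') : ∀ a ∈ A, ∀ b ∈ A', a * b = b * a := by
  have hinf : A ⊓ A' = ⊥ := by
    by_contra hb
    have h1 : A ⊓ A' = A := h.min _ inf_le_left hb
      (fun n hn k hk => Subgroup.mem_inf.mpr ⟨h.inv n hn k (Subgroup.mem_inf.mp hk).1, h'.inv n hn k (Subgroup.mem_inf.mp hk).2⟩)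
    have h2 : A ⊓ A' = A' := h'.min _ inf_le_right hb
      (fun n hn k hk => Subgroup.mem_inf.mpr ⟨h.inv n hn k (Subgroup.mem_inf.mp hk).1, h'.inv n hn k (Subgroup.mem_inf.mp hk).2⟩)
    exact hne (h1.symm.trans h2)
  intro a ha b hb
  have h1 : a * b * a⁻¹ * b⁻¹ ∈ A ⊓ A' := by
    refine Subgroup.mem_inf.mpr ⟨?_, ?_⟩
    · have := h.inv b (h'.le hb) a⁻¹ (inv_mem ha)
      have h3 := mul_mem ha this
      have e : a * (b * a⁻¹ * b⁻¹) = a * b * a⁻¹ * b⁻¹ := by group
      rwa [e] at h3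
    · have := h'.inv a (h.le ha) b hb
      exact mul_mem this (inv_mem hb)
  rw [hinf, Subgroup.mem_bot] at h1
  have h2 : a * b * a⁻¹ = b := by
    rwa [mul_inv_eq_one] at h1
  rw [mul_inv_eq_iff_eq_mul] at h2
  exact h2

/-- If `N` is minimal normal and there is a proper nontrivial `N`-invariant subgroup, there is a
minimal invariant subgroup `A ≠ N`. -/
theorem exists_isMinInv [Finite G] {N K : Subgroup G} (hKN : K ≤ N) (hKne : K ≠ ⊥) (hKN' : K ≠ N)
    (hKinv : ∀ n ∈ N, ∀ k ∈ K, n * k * n⁻¹ ∈ K) : ∃ A, IsMinInv N A ∧ A ≠ N := by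
  let S : Set (Subgroup G) :=
    {M | M ≤ K ∧ M ≠ ⊥ ∧ ∀ n ∈ N, ∀ k ∈ M, n * k * n⁻¹ ∈ M}
  have hS : S.Nonempty := ⟨K, le_rfl, hKne, hKinv⟩
  obtain ⟨M, hMS, hmin⟩ : ∃ M ∈ S, ∀ M' ∈ S, Nat.card M ≤ Nat.card M' :=
    Set.exists_min_image S (fun M : Subgroup G => Nat.card M) (Set.toFinite S) hS
  refine ⟨M, ⟨hMS.1.trans hKN, hMS.2.1, hMS.2.2, ?_⟩, ?_⟩
  · intro L hL hLne hLinv
    exact Subgroup.eq_of_le_of_card_ge hL (hmin L ⟨hL.trans hMS.1, hLne, hLinv⟩)
  · intro hMN
    exact hKN' (le_antisymm hKN (hMN ▸ hMS.1))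

/-- Two commuting regular subgroups. -/
structure RegPair (A B : Subgroup G) (Ω : Type*) [MulAction G Ω] : Prop where
  comm : ∀ a ∈ A, ∀ b ∈ B, a * b = b * a
  transA : ∀ x y : Ω, ∃ a ∈ A, a • x = y
  transB : ∀ x y : Ω, ∃ b ∈ B, b • x = y
  freeA : ∀ a ∈ A, ∀ ω : Ω, a • ω = ω → a = 1
  freeB : ∀ b ∈ B, ∀ ω : Ω, b • ω = ω → b = 1
  npA : ∀ p : ℕ, p.Prime → ∃ q : ℕ, q.Prime ∧ q ≠ p ∧ q ∣ Nat.card A
  npB : ∀ p : ℕ, p.Prime → ∃ q : ℕ, q.Prime ∧ q ≠ p ∧ q ∣ Nat.card B
  neA : A ≠ ⊥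

/-- Commuting factors of a minimal normal subgroup, the first being intransitive. -/
structure ComPair (N A B : Subgroup G) (Ω : Type*) [MulAction G Ω] : Prop where
  normal : N.Normal
  sup : A ⊔ B = N
  comm : ∀ a ∈ A, ∀ b ∈ B, a * b = b * a
  inf : A ⊓ B = ⊥
  neA : A ≠ ⊥
  neB : B ≠ ⊥
  invB : ∀ n ∈ N, ∀ b ∈ B, n * b * n⁻¹ ∈ B
  minA : IsMinInv N A
  cenA : ∀ a ∈ A, (∀ n ∈ A, a * n = n * a) → a = 1
  npA : ∀ p : ℕ, p.Prime → ∃ q : ℕ, q.Prime ∧ q ≠ p ∧ q ∣ Nat.card A
  npB : ∀ p : ℕ, p.Prime → ∃ q : ℕ, q.Prime ∧ q ≠ p ∧ q ∣ Nat.card B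
  transN : ∀ x y : Ω, ∃ n ∈ N, n • x = y
  notTransA : ∃ x y : Ω, ∀ a ∈ A, a • x ≠ y

theorem exists_prime_ne_of_mono [Finite G] {A B : Subgroup G} (hAB : A ≤ B)
    (h : ∀ p : ℕ, p.Prime → ∃ q : ℕ, q.Prime ∧ q ≠ p ∧ q ∣ Nat.card A) :
    ∀ p : ℕ, p.Prime → ∃ q : ℕ, q.Prime ∧ q ≠ p ∧ q ∣ Nat.card B := by
  intro p hp
  obtain ⟨q, hq, hqp, hd⟩ := h p hp
  exact ⟨q, hq, hqp, hd.trans (Subgroup.card_dvd_of_le hAB)⟩

/-- The main dichotomy for a faithful primitive group without abelian minimal normal subgroups. -/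
theorem nonabelian_dichotomy [Finite G] [FaithfulSMul G Ω] [IsPreprimitive G Ω] (a b : Ω)
    (hab : a ≠ b)
    (hnoab : ∀ M : Subgroup G, IsMinNormal M → ¬ ∀ x ∈ M, ∀ y ∈ M, x * y = y * x) :
    (∃ T : Subgroup G, T.Normal ∧ IsSimpleGroup T ∧ ¬ IsMulCommutative T ∧
      Subgroup.centralizer (T : Set G) = ⊥) ∨
    (∃ A B : Subgroup G, RegPair A B Ω) ∨
    (∃ N A B : Subgroup G, ComPair N A B Ω) := by
  classical
  haveI : Nontrivial G := by
    obtain ⟨g, hg⟩ := exists_smul_eq G a b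
    refine ⟨⟨g, 1, ?_⟩⟩
    rintro rfl
    rw [one_smul] at hg
    exact hab hg
  obtain ⟨N, hN⟩ := exists_isMinNormal (G := G)
  haveI hNn : N.Normal := hN.1
  have hNc := hnoab N hN
  haveI hNtr : IsPretransitive N Ω := isPretransitive_of_normal_of_ne_bot N hN.2.1
  have hNz := center_trivial_of_min ⊤ N (fun n _ a ha => hNn.conj_mem a ha n)
    (fun K hK hKne hKinv => by
      haveI hKn : K.Normal := ⟨fun k hk g => hKinv g (Subgroup.mem_top g) k hk⟩
      exact (hN.2.2 K hKn hK).resolve_left hKne) hNc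
  have hNnp := fun p hp => exists_prime_ne_of_center_trivial N hN.2.1 hNz p hp
  by_cases hs : IsSimpleGroup N
  · by_cases hc : Subgroup.centralizer (N : Set G) = ⊥
    · left
      refine ⟨N, hNn, hs, ?_, hc⟩
      intro hcomm
      apply hNc
      intro x hx y hy
      have := hcomm.is_comm.comm (⟨x, hx⟩ : N) ⟨y, hy⟩
      exact congrArg Subtype.val this
    · right; left
      haveI : (Subgroup.centralizer (N : Set G)).Normal := Subgroup.normal_centralizer
      obtain ⟨M, hM, hMC⟩ := exists_isMinNormal_le _ inferInstance hc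
      haveI hMn : M.Normal := hM.1
      haveI hMtr : IsPretransitive M Ω := isPretransitive_of_normal_of_ne_bot M hM.2.1
      have hMc := hnoab M hM
      have hMz := center_trivial_of_min ⊤ M (fun n _ a ha => hMn.conj_mem a ha n)
        (fun K hK hKne hKinv => by
          haveI hKn : K.Normal := ⟨fun k hk g => hKinv g (Subgroup.mem_top g) k hk⟩
          exact (hM.2.2 K hKn hK).resolve_left hKne) hMc
      have hcomm : ∀ x ∈ N, ∀ y ∈ M, x * y = y * x := fun x hx y hy =>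
        Subgroup.mem_centralizer_iff.mp (hMC hy) x hx
      refine ⟨N, M, hcomm, ?_, ?_, ?_, ?_, hNnp, ?_, hN.2.1⟩
      · exact fun x y => exists_mem_smul_eq N x y
      · exact fun x y => exists_mem_smul_eq M x y
      · intro x hx ω hω
        exact eq_one_of_mem_centralizer_of_smul_eq M
          (Subgroup.mem_centralizer_iff.mpr fun y hy => (hcomm x hx y hy).symm) hω
      · intro y hy ω hω
        exact eq_one_of_mem_centralizer_of_smul_eq N (hMC hy) hω
      · exact fun p hp => exists_prime_ne_of_center_trivial M hM.2.1 hMz p hp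
  · -- `N` is not simple: produce `A`, `B`
    right
    have hNt : Nontrivial N := by
      obtain ⟨x, hne⟩ := Subgroup.ne_bot_iff_exists_ne_one.mp hN.2.1
      exact ⟨⟨x, 1, hne⟩⟩
    obtain ⟨K₀, hK₀n, hK₀b, hK₀t⟩ : ∃ K : Subgroup N, K.Normal ∧ K ≠ ⊥ ∧ K ≠ ⊤ := by
      by_contra hcon
      push Not at hcon
      apply hs
      refine ⟨fun K hK => ?_⟩
      by_cases hb : K = ⊥
      · exact Or.inl hb
      · exact Or.inr (hcon K hK hb)
    let K : Subgroup G := K₀.map N.subtype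
    have hKN : K ≤ N := Subgroup.map_subtype_le K₀
    have hKne : K ≠ ⊥ := by
      intro h
      apply hK₀b
      rwa [Subgroup.map_eq_bot_iff_of_injective _ N.subtype_injective] at h
    have hKne' : K ≠ N := by
      intro h
      apply hK₀t
      rw [eq_top_iff]
      intro x _
      have hxK : (x : G) ∈ K := by rw [h]; exact x.2
      obtain ⟨y, hy, hyx⟩ := hxK
      have : y = x := Subtype.ext hyx
      rwa [← this]
    have hKinv : ∀ n ∈ N, ∀ k ∈ K, n * k * n⁻¹ ∈ K := by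
      rintro n hn _ ⟨k, hk, rfl⟩
      exact ⟨⟨n, hn⟩ * k * (⟨n, hn⟩ : N)⁻¹, hK₀n.conj_mem k hk ⟨n, hn⟩, rfl⟩
    obtain ⟨A, hA, hAN⟩ := exists_isMinInv hKN hKne hKne' hKinv
    -- commuting conjugates
    have hcj : ∀ g, IsMinInv N (cj g A) := fun g => hA.cj g
    -- `A` is noncommutative
    have hall : (∀ x ∈ A, ∀ y ∈ A, x * y = y * x) → False := by
      intro hcA
      -- all conjugates commute pairwise
      have hcomm : ∀ g h, ∀ x ∈ cj g A, ∀ y ∈ cj h A, x * y = y * x := by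
        intro g h x hx y hy
        by_cases he : cj g A = cj h A
        · rw [← he] at hy
          rw [mem_cj] at hx hy
          have := hcA _ hx _ hy
          have e1 : x = g * (g⁻¹ * x * g) * g⁻¹ := by group
          have e2 : y = g * (g⁻¹ * y * g) * g⁻¹ := by group
          rw [e1, e2]
          calc g * (g⁻¹ * x * g) * g⁻¹ * (g * (g⁻¹ * y * g) * g⁻¹)
              = g * ((g⁻¹ * x * g) * (g⁻¹ * y * g)) * g⁻¹ := by group
            _ = g * ((g⁻¹ * y * g) * (g⁻¹ * x * g)) * g⁻¹ := by rw [this]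
            _ = _ := by group
        · exact (hcj g).comm_of_ne (hcj h) he x hx y hy
      let L : Subgroup G := ⨆ g, cj g A
      have hLc : L ≤ Subgroup.centralizer (L : Set G) := by
        apply iSup_le
        intro g
        rw [Subgroup.le_centralizer_iff]
        apply iSup_le
        intro h x hx
        rw [Subgroup.mem_centralizer_iff]
        intro y hy
        exact hcomm g h y hy x hx
      have hLn : L.Normal := by
        constructor
        intro x hx g
        have hLmap : L.map (MulAut.conj g).toMonoidHom ≤ L := by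
          rw [Subgroup.map_iSup]
          apply iSup_le
          intro h
          have : (cj h A).map (MulAut.conj g).toMonoidHom = cj (g * h) A := cj_cj g h A
          rw [this]
          exact le_iSup (fun g => cj g A) (g * h)
        exact hLmap ⟨x, hx, rfl⟩
      have hLN : L ≤ N := iSup_le fun g => (hcj g).le
      have hLne : L ≠ ⊥ := by
        intro hb
        apply hA.ne_bot
        rw [eq_bot_iff]
        calc A = cj 1 A := (cj_one A).symm
          _ ≤ L := le_iSup (fun g => cj g A) 1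
          _ = ⊥ := hb
      have hLeq : L = N := (hN.2.2 L hLn hLN).resolve_left hLne
      apply hNc
      intro x hx y hy
      have hx' : x ∈ L := by rw [hLeq]; exact hx
      have hy' : y ∈ L := by rw [hLeq]; exact hy
      exact (Subgroup.mem_centralizer_iff.mp (hLc hx') y hy').symm
    have hAz := center_trivial_of_min N A hA.inv hA.min hall
    have hAnp := fun p hp => exists_prime_ne_of_center_trivial A hA.ne_bot hAz p hp
    -- some conjugate differs from `A`
    obtain ⟨g₀, hg₀⟩ : ∃ g, cj g A ≠ A := by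
      by_contra hcon
      push Not at hcon
      haveI hAn : A.Normal := by
        constructor
        intro x hx g
        have : g * x * g⁻¹ ∈ cj g A := by
          rw [mem_cj]; simpa [mul_assoc] using hx
        rwa [hcon g] at this
      exact hAN ((hN.2.2 A hAn hA.le).resolve_left hA.ne_bot)
    let B : Subgroup G := ⨆ g : {g : G // cj g A ≠ A}, cj g.1 A
    have hB0 : cj g₀ A ≤ B := le_iSup (fun g : {g : G // cj g A ≠ A} => cj g.1 A) ⟨g₀, hg₀⟩
    have hABcomm : ∀ x ∈ A, ∀ y ∈ B, x * y = y * x := by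
      intro x hx y hy
      have hle : B ≤ Subgroup.centralizer (A : Set G) := by
        apply iSup_le
        intro g z hz
        rw [Subgroup.mem_centralizer_iff]
        intro w hw
        exact hA.comm_of_ne (hcj g.1) (Ne.symm g.2) w hw z hz
      exact Subgroup.mem_centralizer_iff.mp (hle hy) x hx
    have hBN : B ≤ N := iSup_le fun g => (hcj g.1).le
    have hBinv : ∀ n ∈ N, ∀ b ∈ B, n * b * n⁻¹ ∈ B := by
      intro n hn b hb
      have hle : B ≤ B.comap (MulAut.conj n).toMonoidHom := by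
        apply iSup_le
        intro g z hz
        have := (hcj g.1).inv n hn z hz
        exact (le_iSup (fun g : {g : G // cj g A ≠ A} => cj g.1 A) g) this
      exact hle hb
    have hinf : A ⊓ B = ⊥ := by
      by_contra hb
      have h1 : A ⊓ B = A := hA.min _ inf_le_left hb
        (fun n hn k hk => Subgroup.mem_inf.mpr ⟨hA.inv n hn k (Subgroup.mem_inf.mp hk).1, hBinv n hn k (Subgroup.mem_inf.mp hk).2⟩)
      apply hall
      intro x hx y hy
      have : y ∈ A ⊓ B := by rw [h1]; exact hy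
      exact hABcomm x hx y (Subgroup.mem_inf.mp this).2
    have hsup : A ⊔ B = N := by
      let L : Subgroup G := ⨆ g, cj g A
      have hLn : L.Normal := by
        constructor
        intro x hx g
        have hLmap : L.map (MulAut.conj g).toMonoidHom ≤ L := by
          rw [Subgroup.map_iSup]
          apply iSup_le
          intro h
          have : (cj h A).map (MulAut.conj g).toMonoidHom = cj (g * h) A := cj_cj g h A
          rw [this]
          exact le_iSup (fun g => cj g A) (g * h)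
        exact hLmap ⟨x, hx, rfl⟩
      have hLN : L ≤ N := iSup_le fun g => (hcj g).le
      have hA1 : A ≤ L := by
        calc A = cj 1 A := (cj_one A).symm
          _ ≤ L := le_iSup (fun g => cj g A) 1
      have hLne : L ≠ ⊥ := by
        intro hb
        apply hA.ne_bot
        rw [eq_bot_iff]
        rw [hb] at hA1
        exact hA1
      have hLeq : L = N := (hN.2.2 L hLn hLN).resolve_left hLne
      apply le_antisymm (sup_le hA.le hBN)
      rw [← hLeq]
      apply iSup_le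
      intro g
      by_cases he : cj g A = A
      · rw [he]; exact le_sup_left
      · exact le_sup_of_le_right (le_iSup (fun g : {g : G // cj g A ≠ A} => cj g.1 A) ⟨g, he⟩)
    have hA0np : ∀ p : ℕ, p.Prime → ∃ q : ℕ, q.Prime ∧ q ≠ p ∧ q ∣ Nat.card (cj g₀ A) := by
      intro p hp
      rw [card_cj]
      exact hAnp p hp
    by_cases htA : ∀ x y : Ω, ∃ a ∈ A, a • x = y
    · -- `A` transitive: regular pair
      left
      let C := cj g₀ A
      have hCcomm : ∀ x ∈ A, ∀ y ∈ C, x * y = y * x := fun x hx y hy => hABcomm x hx y (hB0 hy)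
      haveI hAtr : IsPretransitive A Ω := isPretransitive_subgroup_of A htA
      have htC : ∀ x y : Ω, ∃ c ∈ C, c • x = y := by
        intro x y
        obtain ⟨u, hu, huxy⟩ := htA (g₀⁻¹ • x) (g₀⁻¹ • y)
        refine ⟨g₀ * u * g₀⁻¹, ?_, ?_⟩
        · rw [mem_cj]
          simpa [mul_assoc] using hu
        · rw [mul_smul, mul_smul, huxy, smul_inv_smul]
      haveI hCtr : IsPretransitive C Ω := isPretransitive_subgroup_of C htC
      refine ⟨A, C, hCcomm, htA, htC, ?_, ?_, hAnp, hA0np, hA.ne_bot⟩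
      · intro x hx ω hω
        exact eq_one_of_mem_centralizer_of_smul_eq C
          (Subgroup.mem_centralizer_iff.mpr fun y hy => (hCcomm x hx y hy).symm) hω
      · intro y hy ω hω
        exact eq_one_of_mem_centralizer_of_smul_eq A
          (Subgroup.mem_centralizer_iff.mpr fun x hx => hCcomm x hx y hy) hω
    · right
      push Not at htA
      obtain ⟨x₀, y₀, hxy⟩ := htA
      refine ⟨N, A, B, ⟨hNn, hsup, hABcomm, hinf, hA.ne_bot, ?_, hBinv, hA, hAz, hAnp,
        exists_prime_ne_of_mono hB0 hA0np, fun x y => exists_mem_smul_eq N x y, x₀, y₀, hxy⟩⟩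
      intro hb
      apply cj_ne_bot (g := g₀) hA.ne_bot
      rw [eq_bot_iff, ← hb]
      exact hB0

/-! ### Non-conjugacy and derangements in the two situations -/

/-- In a regular pair: if `a * b` fixes a point, `a` and `b` have the same order. -/
theorem RegPair.orderOf_eq {A B : Subgroup G} [Finite G] (h : RegPair A B Ω) {a b : G} (ha : a ∈ A)
    (hb : b ∈ B) {ω : Ω} (hfix : (a * b) • ω = ω) : orderOf a = orderOf b⁻¹ := by
  have hkey : ∀ k : ℕ, a ^ k • ω = b⁻¹ ^ k • ω := by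
    have h1 : a • ω = b⁻¹ • ω := by
      rw [eq_inv_smul_iff, ← mul_smul, ← h.comm a ha b hb]
      exact hfix
    intro k
    induction k with
    | zero => simp
    | succ k ih =>
      rw [pow_succ, mul_smul, h1, ← mul_smul, h.comm _ (pow_mem ha k) _ (inv_mem hb), mul_smul, ih,
        ← mul_smul, ← pow_succ']
  apply le_antisymm
  · apply Nat.le_of_dvd (orderOf_pos _)
    apply orderOf_dvd_of_pow_eq_one
    apply h.freeA _ (pow_mem ha _) ω
    rw [hkey, pow_orderOf_eq_one, one_smul]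
  · apply Nat.le_of_dvd (orderOf_pos _)
    apply orderOf_dvd_of_pow_eq_one
    apply h.freeB _ (pow_mem (inv_mem hb) _) ω
    rw [← hkey, pow_orderOf_eq_one, one_smul]

theorem RegPair.card_eq_left [Finite G] {A B : Subgroup G} (h : RegPair A B Ω) (ω : Ω) :
    Nat.card A = Nat.card Ω := by
  refine Nat.card_congr (Equiv.ofBijective (fun a : A => (a : G) • ω) ⟨?_, ?_⟩)
  · intro a a' haa
    have h1 : ((a' : G)⁻¹ * a) • ω = ω := by
      rw [mul_smul, inv_smul_eq_iff]
      exact haa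
    have := h.freeA _ (mul_mem (inv_mem a'.2) a.2) ω h1
    apply Subtype.ext
    rw [inv_mul_eq_one] at this
    exact this.symm
  · intro y
    obtain ⟨a, ha, hay⟩ := h.transA ω y
    exact ⟨⟨a, ha⟩, hay⟩

theorem RegPair.card_eq_right [Finite G] {A B : Subgroup G} (h : RegPair A B Ω) (ω : Ω) :
    Nat.card B = Nat.card Ω := by
  refine Nat.card_congr (Equiv.ofBijective (fun a : B => (a : G) • ω) ⟨?_, ?_⟩)
  · intro a a' haa
    have h1 : ((a' : G)⁻¹ * a) • ω = ω := by
      rw [mul_smul, inv_smul_eq_iff]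
      exact haa
    have := h.freeB _ (mul_mem (inv_mem a'.2) a.2) ω h1
    apply Subtype.ext
    rw [inv_mul_eq_one] at this
    exact this.symm
  · intro y
    obtain ⟨a, ha, hay⟩ := h.transB ω y
    exact ⟨⟨a, ha⟩, hay⟩

/-- In a regular pair, three derangements of orders `r`, `s`, `r * s`. -/
theorem RegPair.exists_three [Finite G] [Nonempty Ω] {A B : Subgroup G} (h : RegPair A B Ω) :
    ∃ r s : ℕ, r.Prime ∧ s.Prime ∧ r ≠ s ∧ ∃ x y z : G,
      orderOf x = r ∧ orderOf y = s ∧ orderOf z = r * s ∧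
      (∀ ω : Ω, x • ω ≠ ω) ∧ (∀ ω : Ω, y • ω ≠ ω) ∧ (∀ ω : Ω, z • ω ≠ ω) := by
  classical
  obtain ⟨r, hr, hrd⟩ : ∃ r : ℕ, r.Prime ∧ r ∣ Nat.card A := by
    obtain ⟨q, hq, -, hd⟩ := h.npA 2 Nat.prime_two
    exact ⟨q, hq, hd⟩
  obtain ⟨s, hs, hsr, hsd⟩ := h.npA r hr
  obtain ⟨ω₀⟩ := ‹Nonempty Ω›
  have hcard : Nat.card A = Nat.card B := (h.card_eq_left ω₀).trans (h.card_eq_right ω₀).symm
  haveI : Fact r.Prime := ⟨hr⟩
  haveI : Fact s.Prime := ⟨hs⟩
  obtain ⟨x, hx⟩ := exists_prime_orderOf_dvd_card' r hrd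
  obtain ⟨y, hy⟩ := exists_prime_orderOf_dvd_card' s hsd
  obtain ⟨w, hw⟩ := exists_prime_orderOf_dvd_card' s (hcard ▸ hsd)
  rw [← Subgroup.orderOf_coe] at hx hy hw
  have hx1 : (x : G) ≠ 1 := by
    intro h1
    rw [h1, orderOf_one] at hx
    exact hr.one_lt.ne hx
  have hy1 : (y : G) ≠ 1 := by
    intro h1
    rw [h1, orderOf_one] at hy
    exact hs.one_lt.ne hy
  refine ⟨r, s, hr, hs, hsr.symm, x, y, (x : G) * w, hx, hy, ?_, ?_, ?_, ?_⟩
  · have hcomm : Commute (x : G) (w : G) := h.comm _ x.2 _ w.2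
    rw [hcomm.orderOf_mul_eq_mul_orderOf_of_coprime, hx, hw]
    rw [hx, hw]
    exact (Nat.coprime_primes hr hs).mpr hsr.symm
  · intro ω hω
    exact hx1 (h.freeA _ x.2 ω hω)
  · intro ω hω
    exact hy1 (h.freeA _ y.2 ω hω)
  · intro ω hω
    have := h.orderOf_eq x.2 w.2 hω
    rw [orderOf_inv, hx, hw] at this
    exact hsr this.symm

/-! ### The non-conjugacy lemma in a `ComPair` -/

/-- Normal closure in `N` of an element: the smallest `N`-invariant subgroup containing it. -/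
def clN (N : Subgroup G) (h : G) : Subgroup G :=
  Subgroup.closure {x | ∃ n ∈ N, x = n * h * n⁻¹}

theorem self_mem_clN (N : Subgroup G) (h : G) : h ∈ clN N h :=
  Subgroup.subset_closure ⟨1, N.one_mem, by simp⟩

theorem clN_inv (N : Subgroup G) (h : G) : ∀ n ∈ N, ∀ k ∈ clN N h, n * k * n⁻¹ ∈ clN N h := by
  intro n hn k hk
  have hle : clN N h ≤ (clN N h).comap (MulAut.conj n).toMonoidHom := by
    rw [clN, Subgroup.closure_le]
    rintro _ ⟨m, hm, rfl⟩
    refine Subgroup.subset_closure ⟨n * m, mul_mem hn hm, ?_⟩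
    simp [mul_assoc]
  exact hle hk

theorem clN_le (N K : Subgroup G) {h : G} (hh : h ∈ K)
    (hK : ∀ n ∈ N, ∀ k ∈ K, n * k * n⁻¹ ∈ K) : clN N h ≤ K := by
  rw [clN, Subgroup.closure_le]
  rintro _ ⟨m, hm, rfl⟩
  exact hK m hm h hh

theorem clN_conj (N : Subgroup G) [N.Normal] (h g : G) :
    clN N (g * h * g⁻¹) = cj g (clN N h) := by
  apply le_antisymm
  · apply clN_le
    · rw [mem_cj]
      have e : g⁻¹ * (g * h * g⁻¹) * g = h := by group
      rw [e]
      exact self_mem_clN N h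
    · intro n hn k hk
      rw [mem_cj] at hk ⊢
      have hn' : g⁻¹ * n * g ∈ N := by
        have := (inferInstance : N.Normal).conj_mem n hn g⁻¹
        simpa using this
      have := clN_inv N h _ hn' _ hk
      have e : g⁻¹ * n * g * (g⁻¹ * k * g) * (g⁻¹ * n * g)⁻¹ = g⁻¹ * (n * k * n⁻¹) * g := by group
      rwa [e] at this
  · intro x hx
    rw [mem_cj] at hx
    have hle : clN N h ≤ (clN N (g * h * g⁻¹)).comap (MulAut.conj g).toMonoidHom := by
      apply clN_le
      · apply self_mem_clN N (g * h * g⁻¹)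
      · intro n hn k hk
        have hn' : g * n * g⁻¹ ∈ N := (inferInstance : N.Normal).conj_mem n hn g
        have hk' : (MulAut.conj g).toMonoidHom k ∈ clN N (g * h * g⁻¹) := hk
        have := clN_inv N (g * h * g⁻¹) _ hn' _ hk'
        have e : g * n * g⁻¹ * ((MulAut.conj g).toMonoidHom k) * (g * n * g⁻¹)⁻¹
            = (MulAut.conj g).toMonoidHom (n * k * n⁻¹) := by
          simp [MulAut.conj_apply]
          group
        rw [Subgroup.mem_comap, ← e]
        exact this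
    have := hle hx
    rw [Subgroup.mem_comap] at this
    have e : (MulAut.conj g).toMonoidHom (g⁻¹ * x * g) = x := by
      simp [MulAut.conj_apply]
      group
    rwa [e] at this

/-- `a * b` is never conjugate to `b` in a `ComPair` when `1 ≠ a ∈ A`, `b ∈ B`. -/
theorem ComPair.not_isConj [Finite G] {N A B : Subgroup G} (h : ComPair N A B Ω) {a b : G}
    (ha : a ∈ A) (ha1 : a ≠ 1) (hb : b ∈ B) : ¬ IsConj b (a * b) := by
  haveI := h.normal
  intro hconj
  obtain ⟨g, hg⟩ := isConj_iff.mp hconj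
  have hcardeq : Nat.card (clN N (a * b)) = Nat.card (clN N b) := by
    rw [← hg, clN_conj, card_cj]
  -- `A ≤ clN (a * b)`
  obtain ⟨n, hn, hne⟩ : ∃ n ∈ A, a * n ≠ n * a := by
    by_contra hcon
    push Not at hcon
    exact ha1 (h.cenA a ha hcon)
  have hkey : (a * b) * (n * (a * b) * n⁻¹)⁻¹ = a * (n * a⁻¹ * n⁻¹) := by
    have hnb : Commute n b := h.comm n hn b hb
    have hnb' : n * b⁻¹ = b⁻¹ * n := hnb.inv_right
    calc (a * b) * (n * (a * b) * n⁻¹)⁻¹ = a * b * ((n * b⁻¹) * a⁻¹ * n⁻¹) := by group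
      _ = a * b * ((b⁻¹ * n) * a⁻¹ * n⁻¹) := by rw [hnb']
      _ = a * (n * a⁻¹ * n⁻¹) := by group
  have hAle : A ≤ clN N (a * b) := by
    have hinfinv : ∀ m ∈ N, ∀ k ∈ A ⊓ clN N (a * b), m * k * m⁻¹ ∈ A ⊓ clN N (a * b) := by
      intro m hm k hk
      exact Subgroup.mem_inf.mpr ⟨h.minA.inv m hm k (Subgroup.mem_inf.mp hk).1,
        clN_inv N _ m hm k (Subgroup.mem_inf.mp hk).2⟩
    have hne' : A ⊓ clN N (a * b) ≠ ⊥ := by
      intro hbot
      have hmem : (a * b) * (n * (a * b) * n⁻¹)⁻¹ ∈ A ⊓ clN N (a * b) := by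
        refine Subgroup.mem_inf.mpr ⟨?_, ?_⟩
        · rw [hkey]
          exact mul_mem ha (h.minA.inv n (h.minA.le hn) _ (inv_mem ha))
        · exact mul_mem (self_mem_clN N _)
            (inv_mem (clN_inv N _ n (h.minA.le hn) _ (self_mem_clN N _)))
      rw [hbot, Subgroup.mem_bot] at hmem
      apply hne
      rw [hkey] at hmem
      -- from `a * (n a⁻¹ n⁻¹) = 1` get commutation
      have h4 : n * a⁻¹ * n⁻¹ = a⁻¹ := by
        have := eq_inv_of_mul_eq_one_right hmem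
        exact this
      have h5 : n * a⁻¹ = a⁻¹ * n := by
        rwa [mul_inv_eq_iff_eq_mul] at h4
      have h6 : a * n = n * a := by
        have : a * (n * a⁻¹) * a = a * (a⁻¹ * n) * a := by rw [h5]
        simpa [mul_assoc] using this
      exact h6
    have := h.minA.min _ inf_le_left hne' hinfinv
    intro x hx
    have hx' : x ∈ A ⊓ clN N (a * b) := by rw [this]; exact hx
    exact (Subgroup.mem_inf.mp hx').2
  have hale : a ∈ clN N (a * b) := hAle ha
  have hble : b ∈ clN N (a * b) := by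
    have := mul_mem (inv_mem hale) (self_mem_clN N (a * b))
    simpa using this
  have hcl : clN N b ≤ clN N (a * b) := clN_le _ _ hble (clN_inv N _)
  have heq : clN N b = clN N (a * b) := Subgroup.eq_of_le_of_card_ge hcl hcardeq.le
  have hclB : clN N b ≤ B := clN_le _ _ hb h.invB
  have : a ∈ A ⊓ B := Subgroup.mem_inf.mpr ⟨ha, hclB (heq ▸ hale)⟩
  rw [h.inf, Subgroup.mem_bot] at this
  exact ha1 this

/-- In a `ComPair`: an element `b ∈ B` acting fixed-point-freely on the `A`-orbits. -/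
theorem ComPair.exists_fpf [Finite G] [FaithfulSMul G Ω] {N A B : Subgroup G}
    (h : ComPair N A B Ω) : ∃ b ∈ B, ∀ (ω : Ω), ∀ a ∈ A, b • ω ≠ a • ω := by
  classical
  -- the transitive action of `B` on the orbit of `O₀` (a set of points)
  obtain ⟨x₀, y₀, hxy⟩ := h.notTransA
  let O₀ : Set Ω := {z | ∃ a ∈ A, a • x₀ = z}
  have hdecomp : ∀ y : Ω, ∃ a ∈ A, ∃ b ∈ B, (b * a) • x₀ = y := by
    intro y
    obtain ⟨n, hn, hny⟩ := h.transN x₀ y
    rw [← h.sup] at hn
    obtain ⟨a, ha, b, hb, rfl⟩ := mem_sup_of_commute A B h.comm hn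
    exact ⟨a, ha, b, hb, hny⟩
  -- two different translates of `O₀`
  obtain ⟨a₁, ha₁, b₁, hb₁, hy₀⟩ := hdecomp y₀
  have hb₁O : (⟨b₁, hb₁⟩ : B) • O₀ ≠ O₀ := by
    intro he
    have hmem : y₀ ∈ (⟨b₁, hb₁⟩ : B) • O₀ := by
      refine ⟨a₁ • x₀, ⟨a₁, ha₁, rfl⟩, ?_⟩
      rw [← hy₀, mul_smul]
      rfl
    rw [he] at hmem
    obtain ⟨a, ha, hay⟩ := hmem
    exact hxy a ha hay
  have hne2 : (⟨O₀, mem_orbit_self O₀⟩ : orbit B O₀) ≠ ⟨(⟨b₁, hb₁⟩ : B) • O₀, ⟨⟨b₁, hb₁⟩, rfl⟩⟩ := by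
    intro he
    exact hb₁O (congrArg Subtype.val he).symm
  obtain ⟨b, hb⟩ := exists_derangement (G := B) (Ω := orbit B O₀) hne2
  refine ⟨b, b.2, ?_⟩
  intro ω a ha hba
  -- write `ω = (v * u) • x₀`, `P = v • O₀`
  obtain ⟨u, hu, v, hv, rfl⟩ := hdecomp ω
  apply hb ⟨(⟨v, hv⟩ : B) • O₀, ⟨⟨v, hv⟩, rfl⟩⟩
  apply Subtype.ext
  -- both sets are the `A`-orbit of the relevant point
  set ω := (v * u) • x₀ with hω
  have hP : (⟨v, hv⟩ : B) • O₀ = {z | ∃ c ∈ A, c • ω = z} := by
    ext z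
    constructor
    · rintro ⟨_, ⟨a', ha', rfl⟩, rfl⟩
      refine ⟨a' * u⁻¹, mul_mem ha' (inv_mem hu), ?_⟩
      rw [hω, ← mul_smul]
      change _ = v • a' • x₀
      rw [← mul_smul]
      congr 1
      calc a' * u⁻¹ * (v * u) = a' * (u⁻¹ * v) * u := by group
        _ = a' * (v * u⁻¹) * u := by rw [h.comm _ (inv_mem hu) v hv]
        _ = (a' * v) * (u⁻¹ * u) := by group
        _ = v * a' := by rw [inv_mul_cancel, mul_one, h.comm _ ha' v hv]
    · rintro ⟨c, hc, rfl⟩
      refine ⟨(c * u) • x₀, ⟨c * u, mul_mem hc hu, rfl⟩, ?_⟩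
      change v • (c * u) • x₀ = c • ω
      rw [hω, ← mul_smul, ← mul_smul, ← mul_assoc, ← mul_assoc, h.comm _ hc v hv]
  have hbP : (b : B) • ((⟨v, hv⟩ : B) • O₀) = (⟨v, hv⟩ : B) • O₀ := by
    rw [hP]
    ext z
    constructor
    · rintro ⟨_, ⟨c, hc, rfl⟩, rfl⟩
      refine ⟨c * a, mul_mem hc ha, ?_⟩
      change _ = (b : G) • c • ω
      rw [mul_smul, ← mul_smul (b : G) c, ← h.comm c hc b b.2, mul_smul, ← hba]
    · rintro ⟨c, hc, rfl⟩
      refine ⟨(c * a⁻¹) • ω, ⟨c * a⁻¹, mul_mem hc (inv_mem ha), rfl⟩, ?_⟩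
      change (b : G) • (c * a⁻¹) • ω = c • ω
      rw [← mul_smul, ← h.comm _ (mul_mem hc (inv_mem ha)) b b.2, mul_smul, hba, ← mul_smul]
      simp
  exact hbP

/-- Three pairwise non-conjugate derangements in a `ComPair`. -/
theorem ComPair.exists_three [Finite G] [FaithfulSMul G Ω] {N A B : Subgroup G}
    (h : ComPair N A B Ω) : ∃ u v w : G, (∀ ω : Ω, u • ω ≠ ω) ∧ (∀ ω : Ω, v • ω ≠ ω) ∧
      (∀ ω : Ω, w • ω ≠ ω) ∧ ¬ IsConj u v ∧ ¬ IsConj u w ∧ ¬ IsConj v w := by
  classical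
  obtain ⟨r, hr, hrd⟩ : ∃ r : ℕ, r.Prime ∧ r ∣ Nat.card A := by
    obtain ⟨q, hq, -, hd⟩ := h.npA 2 Nat.prime_two
    exact ⟨q, hq, hd⟩
  obtain ⟨s, hs, hsr, hsd⟩ := h.npA r hr
  haveI : Fact r.Prime := ⟨hr⟩
  haveI : Fact s.Prime := ⟨hs⟩
  obtain ⟨x, hx⟩ := exists_prime_orderOf_dvd_card' r hrd
  obtain ⟨y, hy⟩ := exists_prime_orderOf_dvd_card' s hsd
  rw [← Subgroup.orderOf_coe] at hx hy
  have hx1 : (x : G) ≠ 1 := by
    intro h1
    rw [h1, orderOf_one] at hx
    exact hr.one_lt.ne hx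
  have hy1 : (y : G) ≠ 1 := by
    intro h1
    rw [h1, orderOf_one] at hy
    exact hs.one_lt.ne hy
  obtain ⟨b, hb, hbf⟩ := h.exists_fpf
  have hder : ∀ c ∈ A, ∀ ω : Ω, (c * b) • ω ≠ ω := by
    intro c hc ω hω
    rw [mul_smul] at hω
    have : b • ω = c⁻¹ • ω := by
      rw [eq_inv_smul_iff]
      exact hω
    exact hbf ω _ (inv_mem hc) this
  refine ⟨b, x * b, y * b, ?_, hder _ x.2, hder _ y.2, h.not_isConj x.2 hx1 hb,
    h.not_isConj y.2 hy1 hb, ?_⟩
  · intro ω
    have := hder 1 A.one_mem ω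
    rwa [one_mul] at this
  · intro hconj
    have h1 := hconj.pow r
    have hc1 : Commute (x : G) b := h.comm _ x.2 _ hb
    have hc2 : Commute (y : G) b := h.comm _ y.2 _ hb
    rw [hc1.mul_pow, hc2.mul_pow, ← hx, pow_orderOf_eq_one, one_mul] at h1
    refine h.not_isConj (pow_mem y.2 _) ?_ (pow_mem hb _) h1
    intro he
    have hd := orderOf_dvd_of_pow_eq_one he
    rw [hy, hx] at hd
    exact hsr ((Nat.prime_dvd_prime_iff_eq hs hr).mp hd)

/-- Common output of the dichotomy: a derangement commuting with an element of prime order `q ≠ p`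
for any prescribed prime `p`. -/
theorem RegPair.exists_derangement_commuting [Finite G] [Nonempty Ω] {A B : Subgroup G}
    (h : RegPair A B Ω) (p : ℕ) (hp : p.Prime) :
    ∃ x c : G, (∀ ω : Ω, x • ω ≠ ω) ∧ Commute x c ∧ ∃ q : ℕ, q.Prime ∧ q ≠ p ∧ orderOf c = q := by
  obtain ⟨q, hq, hqp, hqd⟩ := h.npB p hp
  haveI : Fact q.Prime := ⟨hq⟩
  obtain ⟨c, hc⟩ := exists_prime_orderOf_dvd_card' q hqd
  rw [← Subgroup.orderOf_coe] at hc
  obtain ⟨⟨x, hxA⟩, hx1⟩ := Subgroup.ne_bot_iff_exists_ne_one.mp h.neA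
  have hx1' : x ≠ 1 := fun he => hx1 (Subtype.ext he)
  refine ⟨x, c, ?_, h.comm x hxA c c.2, q, hq, hqp, hc⟩
  intro ω hω
  exact hx1' (h.freeA x hxA ω hω)

theorem ComPair.exists_derangement_commuting [Finite G] [FaithfulSMul G Ω] {N A B : Subgroup G}
    (h : ComPair N A B Ω) (p : ℕ) (hp : p.Prime) :
    ∃ x c : G, (∀ ω : Ω, x • ω ≠ ω) ∧ Commute x c ∧ ∃ q : ℕ, q.Prime ∧ q ≠ p ∧ orderOf c = q := by
  obtain ⟨q, hq, hqp, hqd⟩ := h.npB p hp
  haveI : Fact q.Prime := ⟨hq⟩
  obtain ⟨c, hc⟩ := exists_prime_orderOf_dvd_card' q hqd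
  rw [← Subgroup.orderOf_coe] at hc
  obtain ⟨x, hxA, hxd⟩ := exists_derangement_of_commute A B h.neA h.comm (by
    intro u v
    obtain ⟨n, hn, hnuv⟩ := h.transN u v
    rw [← h.sup] at hn
    obtain ⟨a, ha, b, hb, rfl⟩ := mem_sup_of_commute A B h.comm hn
    exact ⟨a, ha, b, hb, hnuv⟩)
  exact ⟨x, c, hxd, h.comm x hxA c c.2, q, hq, hqp, hc⟩

/-- A commutative minimal normal subgroup is elementary abelian. -/
theorem exists_prime_pow_eq_one_of_minNormal [Finite G] {M : Subgroup G} (hM : IsMinNormal M)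
    (hcomm : ∀ x ∈ M, ∀ y ∈ M, x * y = y * x) : ∃ r : ℕ, r.Prime ∧ ∀ m ∈ M, m ^ r = 1 := by
  classical
  haveI := hM.1
  obtain ⟨⟨m₀, hm₀⟩, hne⟩ := Subgroup.ne_bot_iff_exists_ne_one.mp hM.2.1
  haveI : Nontrivial M := ⟨⟨⟨m₀, hm₀⟩, 1, hne⟩⟩
  obtain ⟨r, hr, hrd⟩ := Nat.exists_prime_and_dvd (Finite.one_lt_card (α := M)).ne'
  haveI : Fact r.Prime := ⟨hr⟩
  obtain ⟨c, hc⟩ := exists_prime_orderOf_dvd_card' r hrd
  rw [← Subgroup.orderOf_coe] at hc
  let P : Subgroup G :=
    { carrier := {m | m ∈ M ∧ m ^ r = 1}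
      one_mem' := ⟨M.one_mem, one_pow r⟩
      mul_mem' := by
        rintro a b ⟨ha, ha'⟩ ⟨hb, hb'⟩
        refine ⟨mul_mem ha hb, ?_⟩
        rw [(show Commute a b from hcomm a ha b hb).mul_pow, ha', hb', one_mul]
      inv_mem' := by
        rintro a ⟨ha, ha'⟩
        exact ⟨inv_mem ha, by rw [inv_pow, ha', inv_one]⟩ }
  have hPn : P.Normal := by
    constructor
    rintro n ⟨hn, hn'⟩ g
    refine ⟨(inferInstance : M.Normal).conj_mem n hn g, ?_⟩
    rw [conj_pow, hn', mul_one, mul_inv_cancel]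
  have hPne : P ≠ ⊥ := by
    intro hb
    have hcP : (c : G) ∈ P := ⟨c.2, by rw [← hc, pow_orderOf_eq_one]⟩
    rw [hb, Subgroup.mem_bot] at hcP
    rw [hcP, orderOf_one] at hc
    exact hr.one_lt.ne hc
  have hPeq := (hM.2.2 P hPn (fun x hx => hx.1)).resolve_left hPne
  refine ⟨r, hr, fun m hm => ?_⟩
  have : m ∈ P := by rw [hPeq]; exact hm
  exact this.2

end Cfsg.Agent.Lib.Perm.Derange
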