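import Mathlib
import Cfsg.Agent.Lib.Zsig.PrimCore
import Cfsg.Agent.Lib.Classical.Spectra.Ppd

/-!
# Counting two-dimensional subspaces; primitive prime divisors

The number `Y` of two-dimensional subspaces of an `n`-dimensional space over `ZMod p` satisfies
`Y * ((p ^ 2 - 1) * (p ^ 2 - p)) = (p ^ n - 1) * (p ^ n - p)`, and primitive prime divisors of
`p ^ e - 1` exist for `e ≥ 3` outside `(p, e) = (2, 6)`.
-/

set_option autoImplicit false
set_option linter.style.haveILetI false
set_option linter.unusedSectionVars false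
set_option linter.unusedVariables false

namespace Cfsg.Agent.Lib.Perm.Gamma1

open Module

section Ppd

theorem prim_of_dvd {q r e : ℕ} (hr : r.Prime) (he : 0 < e) (h1 : r ∣ q ^ e - 1)
    (hq : 1 ≤ q) (h2 : ∀ i, 0 < i → i < e → ¬ r ∣ q ^ i - 1) : IsPrimitiveRoot (q : ZMod r) e := by
  haveI : Fact r.Prime := ⟨hr⟩
  have key : ∀ i : ℕ, r ∣ q ^ i - 1 ↔ (q : ZMod r) ^ i = 1 := by
    intro i
    have h3 : 1 ≤ q ^ i := Nat.one_le_pow _ _ hq
    rw [← ZMod.natCast_eq_zero_iff, Nat.cast_sub h3, Nat.cast_pow, Nat.cast_one, sub_eq_zero]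
  refine IsPrimitiveRoot.mk_of_lt _ he ((key e).mp h1) ?_
  intro l hl0 hl hl1
  exact h2 l hl0 hl ((key l).mpr hl1)

/-- Primitive prime divisors. -/
theorem exists_prim {p e : ℕ} (hp : p.Prime) (he : 3 ≤ e) (hne : ¬ (p = 2 ∧ e = 6)) :
    ∃ r, r.Prime ∧ IsPrimitiveRoot (p : ZMod r) e := by
  rcases hp.eq_two_or_odd' with rfl | hodd
  · by_cases h : (2, e) ∈ Cfsg.Agent.Lib.Zsig.PrimCore.L13
    · have h1 : e = 6 ∨ e = 4 ∨ e = 10 ∨ e = 12 ∨ e = 18 ∨ e = 3 ∨ e = 8 ∨ e = 20 := by
        simpa [Cfsg.Agent.Lib.Zsig.PrimCore.L13] using h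
      rcases h1 with rfl | rfl | rfl | rfl | rfl | rfl | rfl | rfl
      · exact absurd ⟨rfl, rfl⟩ hne
      · refine ⟨5, by norm_num, prim_of_dvd (by norm_num) (by norm_num) (by norm_num) (by norm_num) ?_⟩
        intro i h0 h1; interval_cases i <;> norm_num
      · refine ⟨11, by norm_num, prim_of_dvd (by norm_num) (by norm_num) (by norm_num) (by norm_num) ?_⟩
        intro i h0 h1; interval_cases i <;> norm_num
      · refine ⟨13, by norm_num, prim_of_dvd (by norm_num) (by norm_num) (by norm_num) (by norm_num) ?_⟩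
        intro i h0 h1; interval_cases i <;> norm_num
      · refine ⟨19, by norm_num, prim_of_dvd (by norm_num) (by norm_num) (by norm_num) (by norm_num) ?_⟩
        intro i h0 h1; interval_cases i <;> norm_num
      · refine ⟨7, by norm_num, prim_of_dvd (by norm_num) (by norm_num) (by norm_num) (by norm_num) ?_⟩
        intro i h0 h1; interval_cases i <;> norm_num
      · refine ⟨17, by norm_num, prim_of_dvd (by norm_num) (by norm_num) (by norm_num) (by norm_num) ?_⟩
        intro i h0 h1; interval_cases i <;> norm_num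
      · refine ⟨41, by norm_num, prim_of_dvd (by norm_num) (by norm_num) (by norm_num) (by norm_num) ?_⟩
        intro i h0 h1; interval_cases i <;> norm_num
    · obtain ⟨m, ⟨hm1, hm2⟩, hm⟩ := Cfsg.Agent.Lib.Zsig.PrimCore.core (le_refl 2) he h
      have hm1' : m ≠ 1 := by omega
      obtain ⟨r, hr, hrm⟩ := Nat.exists_prime_and_dvd hm1'
      refine ⟨r, hr, prim_of_dvd hr (by omega) (hrm.trans hm1) (by norm_num) ?_⟩
      intro i h0 h1 hd
      exact (hr.coprime_iff_not_dvd.mp (Nat.Coprime.coprime_dvd_left hrm (hm2 i h0 h1))) hd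
  · exact Cfsg.Agent.Lib.Classical.Spectra.Ppd.exists_ppd (by omega)
      (by have := hp.two_le; rcases hodd with ⟨k, hk⟩; omega)

variable {p r e : ℕ}

theorem prim_not_dvd (hr : r.Prime) (he : 0 < e) (h : IsPrimitiveRoot (p : ZMod r) e) : ¬ r ∣ p := by
  intro h0
  have h1 : (p : ZMod r) = 0 := (ZMod.natCast_eq_zero_iff _ _).mpr h0
  have h2 := h.pow_eq_one
  rw [h1, zero_pow (by omega)] at h2
  haveI : Fact r.Prime := ⟨hr⟩
  exact zero_ne_one h2

theorem prim_dvd_iff (hp : 1 ≤ p) (hr : r.Prime) (h : IsPrimitiveRoot (p : ZMod r) e) (i : ℕ) :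
    r ∣ p ^ i - 1 ↔ e ∣ i := by
  have h1 : 1 ≤ p ^ i := Nat.one_le_pow _ _ hp
  rw [← ZMod.natCast_eq_zero_iff, Nat.cast_sub h1, Nat.cast_pow, Nat.cast_one, sub_eq_zero]
  exact h.pow_eq_one_iff_dvd i

theorem prim_dvd_sub_one (hr : r.Prime) (he : 0 < e) (h : IsPrimitiveRoot (p : ZMod r) e) :
    e ∣ r - 1 := by
  haveI : Fact r.Prime := ⟨hr⟩
  have h1 : (p : ZMod r) ≠ 0 := fun h0 => prim_not_dvd hr he h ((ZMod.natCast_eq_zero_iff _ _).mp h0)
  exact h.dvd_of_pow_eq_one _ (ZMod.pow_card_sub_one_eq_one h1)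

end Ppd

section Count

variable {p : ℕ} [hp : Fact p.Prime]
variable (W : Type*) [AddCommGroup W] [Module (ZMod p) W] [Finite W]

variable (p) in
/-- Independent pairs. -/
abbrev Pairs : Type _ := {q : W × W // q.1 ≠ 0 ∧ ∀ a : ZMod p, a • q.1 ≠ q.2}

theorem card_pairs : Nat.card (Pairs p W) = (Nat.card W - 1) * (Nat.card W - p) := by
  classical
  haveI : Fintype W := Fintype.ofFinite W
  haveI : Module.Finite (ZMod p) W := Module.Finite.of_finite
  let E : Pairs p W ≃ Σ u : {u : W // u ≠ 0}, {v : W // ∀ a : ZMod p, a • (u : W) ≠ v} :=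
    { toFun := fun q => ⟨⟨q.1.1, q.2.1⟩, ⟨q.1.2, q.2.2⟩⟩
      invFun := fun s => ⟨(s.1.1, s.2.1), s.1.2, s.2.2⟩
      left_inv := fun _ => rfl
      right_inv := fun _ => rfl }
  have hfib : ∀ u : {u : W // u ≠ 0}, Nat.card {v : W // ∀ a : ZMod p, a • (u : W) ≠ v} =
      Nat.card W - p := by
    intro u
    have hsp : Nat.card (Submodule.span (ZMod p) {(u : W)}) = p := by
      rw [Module.natCard_eq_pow_finrank (K := ZMod p), Nat.card_zmod,
        finrank_span_singleton u.2, pow_one]
    have h1 : Nat.card {v : W // ∀ a : ZMod p, a • (u : W) ≠ v} =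
        Nat.card {v : W // ¬ v ∈ Submodule.span (ZMod p) {(u : W)}} := by
      refine Nat.card_congr (Equiv.subtypeEquivRight fun v => ?_)
      rw [Submodule.mem_span_singleton]
      push Not
      rfl
    rw [h1]
    classical
    letI : Fintype {v : W // v ∈ Submodule.span (ZMod p) {(u : W)}} := Fintype.ofFinite _
    letI : Fintype {v : W // ¬ v ∈ Submodule.span (ZMod p) {(u : W)}} := Fintype.ofFinite _
    rw [Nat.card_eq_fintype_card, Fintype.card_subtype_compl, Nat.card_eq_fintype_card]
    congr 1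
    rw [← Nat.card_eq_fintype_card]
    exact hsp
  rw [Nat.card_congr E, Nat.card_sigma]
  simp only [hfib, Finset.sum_const, smul_eq_mul, Finset.card_univ]
  congr 1
  rw [← Nat.card_eq_fintype_card]
  have h0 : Nat.card {u : W // u ≠ 0} = Nat.card W - 1 := by
    letI : Fintype {u : W // u = 0} := Fintype.ofFinite _
    letI : Fintype {u : W // ¬ u = 0} := Fintype.ofFinite _
    rw [Nat.card_eq_fintype_card, Fintype.card_subtype_compl, Nat.card_eq_fintype_card]
    congr 1
    simp
  exact h0

variable (p) in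
/-- The two-dimensional subspaces. -/
abbrev TwoSub : Type _ := {U : Submodule (ZMod p) W // finrank (ZMod p) U = 2}

variable {W}

theorem pair_span (q : Pairs p W) :
    finrank (ZMod p) (Submodule.span (ZMod p) {q.1.1, q.1.2} : Submodule (ZMod p) W) = 2 := by
  classical
  have hli : LinearIndependent (ZMod p) ![q.1.1, q.1.2] := by
    rw [LinearIndependent.pair_iff' q.2.1]
    exact q.2.2
  have h1 := finrank_span_eq_card hli
  simp only [Fintype.card_fin] at h1
  have h2 : Set.range ![q.1.1, q.1.2] = {q.1.1, q.1.2} := by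
    ext x
    simp only [Matrix.range_cons, Matrix.range_empty, Set.union_empty, Set.mem_union, Set.mem_singleton_iff,
      Set.mem_insert_iff]
  rw [h2] at h1
  exact h1

variable (W) in
/-- The map from independent pairs to their span. -/
def pairMap (q : Pairs p W) : TwoSub p W := ⟨_, pair_span q⟩

theorem mem_pairMap_left (q : Pairs p W) : q.1.1 ∈ (pairMap W q).1 :=
  Submodule.subset_span (by simp)

theorem mem_pairMap_right (q : Pairs p W) : q.1.2 ∈ (pairMap W q).1 :=
  Submodule.subset_span (by simp)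

/-- The fibres of the map from pairs to subspaces. -/
def fibreEquiv (U : TwoSub p W) :
    {q : Pairs p W // pairMap W q = U} ≃ Pairs p (U.1) where
  toFun q := ⟨(⟨q.1.1.1, by have h := mem_pairMap_left q.1; rwa [q.2] at h⟩,
      ⟨q.1.1.2, by have h := mem_pairMap_right q.1; rwa [q.2] at h⟩), by
      intro h
      exact q.1.2.1 (congrArg Subtype.val h), by
      intro a h
      exact q.1.2.2 a (congrArg Subtype.val h)⟩
  invFun q := ⟨⟨(q.1.1.1, q.1.2.1), by
      intro h
      exact q.2.1 (Subtype.ext h), by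
      intro a h
      exact q.2.2 a (Subtype.ext h)⟩, by
      apply Subtype.ext
      apply Submodule.eq_of_le_of_finrank_eq
      · show Submodule.span (ZMod p) {_, _} ≤ U.1
        rw [Submodule.span_le]
        intro x hx
        rcases hx with rfl | hx
        · exact q.1.1.2
        · rw [Set.mem_singleton_iff] at hx
          rw [hx]
          exact q.1.2.2
      · rw [U.2]
        exact pair_span _⟩
  left_inv q := by
    apply Subtype.ext
    apply Subtype.ext
    rfl
  right_inv q := by
    apply Subtype.ext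
    rfl

theorem card_submodule' (U : Submodule (ZMod p) W) :
    Nat.card U = p ^ finrank (ZMod p) U := by
  haveI : Module.Finite (ZMod p) U := Module.Finite.of_finite
  rw [Module.natCard_eq_pow_finrank (K := ZMod p), Nat.card_zmod]

variable (W) in
/-- **The number of two-dimensional subspaces.** -/
theorem card_twoSub : Nat.card (TwoSub p W) * ((p ^ 2 - 1) * (p ^ 2 - p)) =
    (Nat.card W - 1) * (Nat.card W - p) := by
  classical
  haveI : Fintype (TwoSub p W) := Fintype.ofFinite _
  have h1 : Nat.card (Σ U : TwoSub p W, {q : Pairs p W // pairMap W q = U}) =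
      Nat.card (Pairs p W) := Nat.card_congr (Equiv.sigmaFiberEquiv _)
  rw [Nat.card_sigma] at h1
  have h2 : ∀ U : TwoSub p W, Nat.card {q : Pairs p W // pairMap W q = U} =
      (p ^ 2 - 1) * (p ^ 2 - p) := by
    intro U
    rw [Nat.card_congr (fibreEquiv U), card_pairs, card_submodule', U.2]
  simp only [h2, Finset.sum_const, smul_eq_mul, Finset.card_univ] at h1
  rw [card_pairs] at h1
  rw [← h1, Nat.card_eq_fintype_card]

end Count

end Cfsg.Agent.Lib.Perm.Gamma1
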