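import Mathlib
import Cfsg.Prelude.Def_Transfer
import Cfsg.Agent.Lib.Nilpotent.Elements

/-!
Minimal covers of a finite group by nilpotent subgroups: two members generate the group, a
non-trivial `p`-element of a group with abelian Sylow `p`-subgroups and trivial centre lies in a
single member, and if a Sylow `p`-subgroup `P` lies in a member then that member is `C_G(P)`.
-/

set_option autoImplicit false

open scoped Pointwise

namespace Cfsg.Agent.Lib.Perm.NilCover

variable {G : Type*} [Group G] [Finite G]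

/-- The hypothesis of the statements: `𝓐` is a minimal cover by nilpotent subgroups. -/
def MinNilCover (𝓐 : Finset (Subgroup G)) : Prop :=
  ((∀ A ∈ 𝓐, A ≠ ⊤) ∧ (∀ g : G, ∃ A ∈ 𝓐, g ∈ A)) ∧
    (∀ 𝓑 : Finset (Subgroup G), (∀ A ∈ 𝓑, A ≠ ⊤) ∧ (∀ g : G, ∃ A ∈ 𝓑, g ∈ A) → 𝓐.card ≤ 𝓑.card) ∧
    (∀ A ∈ 𝓐, Group.IsNilpotent ↥A)

/-- Two members of a minimal cover lying in a common proper subgroup are equal. -/
theorem eq_of_le_proper {𝓐 : Finset (Subgroup G)} (h : MinNilCover 𝓐) {A B M : Subgroup G}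
    (hA : A ∈ 𝓐) (hB : B ∈ 𝓐) (hM : M ≠ ⊤) (hAM : A ≤ M) (hBM : B ≤ M) : A = B := by
  classical
  by_contra hne
  have hle := h.2.1 (insert M ((𝓐.erase A).erase B)) ⟨?_, ?_⟩
  · have h1 : (insert M ((𝓐.erase A).erase B)).card ≤ ((𝓐.erase A).erase B).card + 1 :=
      Finset.card_insert_le _ _
    have hB' : B ∈ 𝓐.erase A := Finset.mem_erase.2 ⟨fun e => hne e.symm, hB⟩
    have h2 : ((𝓐.erase A).erase B).card = (𝓐.erase A).card - 1 := Finset.card_erase_of_mem hB'
    have h3 : (𝓐.erase A).card = 𝓐.card - 1 := Finset.card_erase_of_mem hA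
    have h4 : 0 < (𝓐.erase A).card := Finset.card_pos.2 ⟨B, hB'⟩
    omega
  · intro C hC
    rcases Finset.mem_insert.1 hC with rfl | hC
    · exact hM
    · exact h.1.1 C (Finset.mem_of_mem_erase (Finset.mem_of_mem_erase hC))
  · intro g
    obtain ⟨C, hC, hgC⟩ := h.1.2 g
    by_cases hCA : C = A
    · exact ⟨M, Finset.mem_insert_self _ _, hAM (hCA ▸ hgC)⟩
    by_cases hCB : C = B
    · exact ⟨M, Finset.mem_insert_self _ _, hBM (hCB ▸ hgC)⟩
    exact ⟨C, Finset.mem_insert_of_mem (Finset.mem_erase.2 ⟨hCB, Finset.mem_erase.2 ⟨hCA, hC⟩⟩), hgC⟩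

section Parts

variable {p : ℕ} [Fact p.Prime]

/-- Decomposition of an element into commuting `p`-part and `p'`-part, powers of the element. -/
theorem exists_parts (a : G) : ∃ u v : G, a = u * v ∧ Commute u v ∧ u ∈ Subgroup.zpowers a ∧
    v ∈ Subgroup.zpowers a ∧ (∃ k : ℕ, u ^ p ^ k = 1) ∧ Nat.Coprime (orderOf v) p := by
  have hp : Nat.Prime p := Fact.out
  have hn : 0 < orderOf a := orderOf_pos a
  obtain ⟨α, m, hm, hnm⟩ := Nat.exists_eq_pow_mul_and_not_dvd hn.ne' p hp.ne_one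
  have hcop : Nat.Coprime (p ^ α) m :=
    Nat.Coprime.pow_left α ((Nat.Prime.coprime_iff_not_dvd hp).2 hm)
  have hbez : ((p ^ α : ℕ) : ℤ) * Nat.gcdA (p ^ α) m + (m : ℤ) * Nat.gcdB (p ^ α) m = 1 := by
    have := Nat.gcd_eq_gcd_ab (p ^ α) m
    rw [hcop] at this
    exact_mod_cast this.symm
  set s := Nat.gcdA (p ^ α) m
  set t := Nat.gcdB (p ^ α) m
  refine ⟨a ^ ((m : ℤ) * t), a ^ (((p ^ α : ℕ) : ℤ) * s), ?_, ?_, ?_, ?_, ⟨α, ?_⟩, ?_⟩
  · rw [← zpow_add, add_comm, hbez, zpow_one]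
  · exact (Commute.refl a).zpow_zpow _ _
  · exact Subgroup.zpow_mem_zpowers _ _
  · exact Subgroup.zpow_mem_zpowers _ _
  · rw [← zpow_natCast, ← zpow_mul]
    have : ((m : ℤ) * t * ((p ^ α : ℕ) : ℤ)) = (orderOf a : ℤ) * t := by rw [hnm]; push_cast; ring
    rw [this, zpow_mul, zpow_natCast, pow_orderOf_eq_one, one_zpow]
  · have h1 : (a ^ (((p ^ α : ℕ) : ℤ) * s)) ^ m = 1 := by
      rw [← zpow_natCast, ← zpow_mul]
      have : (((p ^ α : ℕ) : ℤ) * s * (m : ℤ)) = (orderOf a : ℤ) * s := by rw [hnm]; push_cast; ring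
      rw [this, zpow_mul, zpow_natCast, pow_orderOf_eq_one, one_zpow]
    have h2 : orderOf (a ^ (((p ^ α : ℕ) : ℤ) * s)) ∣ m := orderOf_dvd_of_pow_eq_one h1
    exact Nat.Coprime.coprime_dvd_left h2 ((Nat.Prime.coprime_iff_not_dvd hp).2 hm).symm

/-- Elements of a `p`-subgroup commute when one Sylow `p`-subgroup is abelian. -/
theorem commute_of_isPGroup {P : Sylow p G} (hab : IsMulCommutative ↥(P : Subgroup G))
    {H : Subgroup G} (hH : IsPGroup p H) {x y : G} (hx : x ∈ H) (hy : y ∈ H) : Commute x y := by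
  obtain ⟨Q, hQ⟩ := hH.exists_le_sylow
  obtain ⟨g, rfl⟩ := MulAction.exists_smul_eq G P Q
  have key : ∀ w, w ∈ H → g⁻¹ * w * g ∈ (P : Subgroup G) := by
    intro w hw
    have h1 : w ∈ ((g • P : Sylow p G) : Subgroup G) := hQ hw
    rw [Sylow.coe_subgroup_smul, Subgroup.mem_pointwise_smul_iff_inv_smul_mem] at h1
    simpa [MulAut.conj_apply] using h1
  have h2 := hab.is_comm.comm (⟨_, key x hx⟩ : ↥(P : Subgroup G)) ⟨_, key y hy⟩
  have h3 : (g⁻¹ * x * g) * (g⁻¹ * y * g) = (g⁻¹ * y * g) * (g⁻¹ * x * g) := congrArg Subtype.val h2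
  have h4 : g⁻¹ * (x * y) * g = g⁻¹ * (y * x) * g := by
    calc g⁻¹ * (x * y) * g = (g⁻¹ * x * g) * (g⁻¹ * y * g) := by group
      _ = (g⁻¹ * y * g) * (g⁻¹ * x * g) := h3
      _ = g⁻¹ * (y * x) * g := by group
  have h5 : x * y = y * x := by
    have := mul_right_cancel h4
    exact mul_left_cancel this
  exact h5

/-- In a nilpotent member, a `p`-element is central when Sylow `p`-subgroups are abelian. -/
theorem central_in_nilpotent {P : Sylow p G} (hab : IsMulCommutative ↥(P : Subgroup G))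
    {A : Subgroup G} (hA : Group.IsNilpotent ↥A) {z : G} (hzA : z ∈ A) {k : ℕ} (hz : z ^ p ^ k = 1) :
    A ≤ Subgroup.centralizer {z} := by
  intro a ha
  rw [Subgroup.mem_centralizer_singleton_iff]
  obtain ⟨u, v, rfl, huv, hu, hv, ⟨j, hj⟩, hcop⟩ := exists_parts (p := p) a
  have huA : u ∈ A := (Subgroup.zpowers_le.2 ha) hu
  have hvA : v ∈ A := (Subgroup.zpowers_le.2 ha) hv
  -- `z` commutes with `v`
  have hzv : Commute z v := by
    have hc : (orderOf (⟨z, hzA⟩ : A)).Coprime (orderOf (⟨v, hvA⟩ : A)) := by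
      rw [Subgroup.orderOf_mk, Subgroup.orderOf_mk]
      have hd : orderOf z ∣ p ^ k := orderOf_dvd_of_pow_eq_one hz
      exact Nat.Coprime.coprime_dvd_left hd (Nat.Coprime.pow_left k hcop.symm)
    have := Cfsg.Agent.Lib.Nilpotent.Elements.commute_of_coprime_orderOf hc
    exact congrArg Subtype.val this.eq
  -- `z` commutes with `u`
  have hzu : Commute z u := by
    obtain ⟨Q⟩ : Nonempty (Sylow p ↥A) := inferInstance
    have hzQ : (⟨z, hzA⟩ : A) ∈ Q :=
      Cfsg.Agent.Lib.Nilpotent.Elements.mem_sylow_of_pow_eq_one Q (k := k)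
        (Subtype.ext (by simpa using hz))
    have huQ : (⟨u, huA⟩ : A) ∈ Q :=
      Cfsg.Agent.Lib.Nilpotent.Elements.mem_sylow_of_pow_eq_one Q (k := j)
        (Subtype.ext (by simpa using hj))
    have hmap : IsPGroup p ((Q : Subgroup ↥A).map A.subtype) := Q.isPGroup'.map _
    exact commute_of_isPGroup hab hmap (Subgroup.mem_map_of_mem A.subtype hzQ)
      (Subgroup.mem_map_of_mem A.subtype huQ)
  have : Commute z (u * v) := hzu.mul_right hzv
  exact this.eq.symm

/-- A `p`-element normalizing a Sylow `p`-subgroup lies in it. -/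
theorem mem_sylow_of_normalizes (P : Sylow p G) {x : G} {k : ℕ} (hx : x ^ p ^ k = 1)
    (hn : x ∈ Subgroup.normalizer ((P : Subgroup G) : Set G)) : x ∈ (P : Subgroup G) := by
  have h1 : IsPGroup p (Subgroup.zpowers x) := by
    apply IsPGroup.of_card (n := (orderOf x).factorization p)
    rw [Nat.card_zpowers]
    have hd : orderOf x ∣ p ^ k := orderOf_dvd_of_pow_eq_one hx
    obtain ⟨j, _, hj⟩ := (Nat.dvd_prime_pow (Fact.out)).1 hd
    rw [hj]
    simp [Nat.Prime.factorization_self (Fact.out : p.Prime)]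
  have h2 := h1.to_sup_of_normal_right' P.isPGroup' (Subgroup.zpowers_le.2 hn)
  have h3 := P.is_maximal' h2 le_sup_right
  have h4 : Subgroup.zpowers x ≤ (P : Subgroup G) := by
    rw [← h3]; exact le_sup_left
  exact h4 (Subgroup.mem_zpowers x)

theorem mem_sylow_of_commute (P : Sylow p G) {x : G} {k : ℕ} (hx : x ^ p ^ k = 1)
    (hc : ∀ y ∈ (P : Subgroup G), Commute x y) : x ∈ (P : Subgroup G) := by
  apply mem_sylow_of_normalizes P hx
  rw [Subgroup.mem_normalizer_iff]
  intro y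
  constructor
  · intro hy
    rw [(hc y hy).eq, mul_inv_cancel_right]; exact hy
  · intro hy
    have h1 := (hc _ hy).eq
    have h2 : y = x * y * x⁻¹ := by
      calc y = x⁻¹ * (x * y * x⁻¹ * x) := by group
        _ = x⁻¹ * (x * (x * y * x⁻¹)) := by rw [h1]
        _ = x * y * x⁻¹ := by group
    rw [h2]; exact hy

/-- Commuting elements of coprime orders are powers of their product. -/
theorem mem_zpowers_mul_left {a b : G} (hab : Commute a b)
    (hc : Nat.Coprime (orderOf a) (orderOf b)) : a ∈ Subgroup.zpowers (a * b) := by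
  obtain ⟨m, hm⟩ := exists_pow_eq_self_of_coprime hc.symm
  have h2 : (a * b) ^ orderOf b = a ^ orderOf b := by
    rw [hab.mul_pow, pow_orderOf_eq_one, mul_one]
  have h3 : ((a * b) ^ orderOf b) ^ m = a := by rw [h2, hm]
  have h4 : ((a * b) ^ orderOf b) ^ m ∈ Subgroup.zpowers (a * b) :=
    (Subgroup.zpowers (a * b)).pow_mem ((Subgroup.zpowers (a * b)).pow_mem (Subgroup.mem_zpowers _) _) _
  rwa [h3] at h4

theorem mem_zpowers_mul_right {a b : G} (hab : Commute a b)
    (hc : Nat.Coprime (orderOf a) (orderOf b)) : b ∈ Subgroup.zpowers (a * b) := by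
  have h1 := mem_zpowers_mul_left hab hc
  have h2 := (Subgroup.zpowers (a * b)).mul_mem ((Subgroup.zpowers (a * b)).inv_mem h1)
    (Subgroup.mem_zpowers (a * b))
  have h3 : a⁻¹ * (a * b) = b := by group
  rwa [h3] at h2

end Parts

section Main

variable {p : ℕ} [Fact p.Prime] {𝓐 : Finset (Subgroup G)}

/-- A non-trivial `p`-element lies in a unique member. -/
theorem member_unique (h : MinNilCover 𝓐) (hZ : Subgroup.center G = ⊥) {P : Sylow p G}
    (hab : IsMulCommutative ↥(P : Subgroup G)) {z : G} (hz1 : z ≠ 1) {k : ℕ} (hz : z ^ p ^ k = 1)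
    {A B : Subgroup G} (hA : A ∈ 𝓐) (hB : B ∈ 𝓐) (hzA : z ∈ A) (hzB : z ∈ B) : A = B := by
  have hM : Subgroup.centralizer {z} ≠ ⊤ := by
    intro htop
    have : z ∈ Subgroup.center G := by
      rw [Subgroup.mem_center_iff]
      intro g
      have hg : g ∈ Subgroup.centralizer {z} := htop ▸ Subgroup.mem_top g
      exact Subgroup.mem_centralizer_singleton_iff.1 hg
    rw [hZ] at this
    exact hz1 (Subgroup.mem_bot.1 this)
  exact eq_of_le_proper h hA hB hM
    (central_in_nilpotent hab (h.2.2 A hA) hzA hz) (central_in_nilpotent hab (h.2.2 B hB) hzB hz)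

/-- If a non-trivial Sylow `P` (abelian) lies in a member `A`, then `A = C_G(P)`. -/
theorem eq_centralizer (h : MinNilCover 𝓐) (hZ : Subgroup.center G = ⊥) {P : Sylow p G}
    (hab : IsMulCommutative ↥(P : Subgroup G)) (hP1 : (P : Subgroup G) ≠ ⊥) {A : Subgroup G}
    (hA : A ∈ 𝓐) (hPA : (P : Subgroup G) ≤ A) :
    Subgroup.centralizer ((P : Subgroup G) : Set G) = A := by
  apply le_antisymm
  · intro y hy
    rw [Subgroup.mem_centralizer_iff] at hy
    obtain ⟨u, v, rfl, huv, hu, hv, ⟨j, hj⟩, hcop⟩ := exists_parts (p := p) y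
    have hcomm : ∀ w ∈ Subgroup.zpowers (u * v), ∀ x ∈ (P : Subgroup G), Commute w x := by
      intro w hw x hx
      obtain ⟨i, rfl⟩ := hw
      have : Commute (u * v) x := (hy x hx).symm
      exact this.zpow_left i
    have huP : u ∈ (P : Subgroup G) := mem_sylow_of_commute P hj (hcomm u hu)
    obtain ⟨⟨z, hz⟩, hz1⟩ := (Subgroup.ne_bot_iff_exists_ne_one).1 hP1
    have hz1' : z ≠ 1 := fun e => hz1 (Subtype.ext e)
    obtain ⟨k, hk⟩ := Cfsg.Agent.Lib.Nilpotent.Elements.exists_pow_eq_one_of_mem P.isPGroup' hz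
    have hzv : Commute z v := (hcomm v hv z hz).symm
    have hc : Nat.Coprime (orderOf z) (orderOf v) := by
      have hd : orderOf z ∣ p ^ k := orderOf_dvd_of_pow_eq_one hk
      exact Nat.Coprime.coprime_dvd_left hd (Nat.Coprime.pow_left k hcop.symm)
    obtain ⟨B, hB, hzvB⟩ := h.1.2 (z * v)
    have hzB : z ∈ B := (Subgroup.zpowers_le.2 hzvB) (mem_zpowers_mul_left hzv hc)
    have hvB : v ∈ B := (Subgroup.zpowers_le.2 hzvB) (mem_zpowers_mul_right hzv hc)
    have hBA : B = A := member_unique h hZ hab hz1' hk hB hA hzB (hPA hz)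
    exact A.mul_mem (hPA huP) (hBA ▸ hvB)
  · intro a ha
    rw [Subgroup.mem_centralizer_iff]
    intro z hz
    obtain ⟨k, hk⟩ := Cfsg.Agent.Lib.Nilpotent.Elements.exists_pow_eq_one_of_mem P.isPGroup' hz
    have := central_in_nilpotent hab (h.2.2 A hA) (hPA hz) hk ha
    rw [Subgroup.mem_centralizer_singleton_iff] at this
    exact this.symm

/-- `P` is equal to `Q` if their centralizers agree. -/
theorem eq_of_centralizer_eq {P Q : Sylow p G} (hab : IsMulCommutative ↥(P : Subgroup G))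
    (h : Subgroup.centralizer ((P : Subgroup G) : Set G) = Subgroup.centralizer ((Q : Subgroup G) : Set G)) :
    P = Q := by
  have hQP : (Q : Subgroup G) ≤ (P : Subgroup G) := by
    intro x hx
    obtain ⟨k, hk⟩ := Cfsg.Agent.Lib.Nilpotent.Elements.exists_pow_eq_one_of_mem Q.isPGroup' hx
    apply mem_sylow_of_commute P hk
    intro y hy
    have hyC : y ∈ Subgroup.centralizer ((P : Subgroup G) : Set G) := by
      rw [Subgroup.mem_centralizer_iff]
      intro w hw
      exact congrArg Subtype.val (hab.is_comm.comm (⟨w, hw⟩ : ↥(P : Subgroup G)) ⟨y, hy⟩)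
    rw [h, Subgroup.mem_centralizer_iff] at hyC
    exact hyC x hx
  exact Sylow.ext (Q.is_maximal' P.isPGroup' hQP)

/-- The hypothesis on the Sylow subgroup. -/
def Good (Q : Sylow p G) : Prop :=
  IsCyclic ↥(Q : Subgroup G) ∨
    (IsMulCommutative ↥(Q : Subgroup G) ∧ ¬ Cfsg.IsElementaryAbelian p (Q : Subgroup G))

theorem Good.isMulCommutative {Q : Sylow p G} (hQ : Good Q) : IsMulCommutative ↥(Q : Subgroup G) := by
  rcases hQ with hc | ⟨hc, -⟩
  · exact hc.commutative
  · exact hc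

theorem Good.conj {P : Sylow p G} (hP : Good P) (Q : Sylow p G) : Good Q := by
  have e : ↥(P : Subgroup G) ≃* ↥(Q : Subgroup G) := P.equiv Q
  rcases hP with hc | ⟨hc, hne⟩
  · exact Or.inl (isCyclic_of_surjective e e.surjective)
  · refine Or.inr ⟨⟨⟨fun x y => ?_⟩⟩, fun hQE => hne ⟨hc, ?_⟩⟩
    · have := hc.is_comm.comm (e.symm x) (e.symm y)
      have h2 := congrArg e this
      simpa using h2
    · intro a ha
      have h1 := hQE.2 _ (e ⟨a, ha⟩).2
      have h2 : e (⟨a, ha⟩ ^ p) = 1 := by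
        rw [map_pow]; exact Subtype.ext h1
      have h3 : (⟨a, ha⟩ : ↥(P : Subgroup G)) ^ p = 1 := by
        simpa using h2
      exact congrArg Subtype.val h3

/-- A Sylow subgroup as in `Good` lies in a member of the cover. -/
theorem exists_member (h : MinNilCover 𝓐) (hZ : Subgroup.center G = ⊥) {Q : Sylow p G}
    (hQ : Good Q) : ∃ A ∈ 𝓐, (Q : Subgroup G) ≤ A := by
  have hab := hQ.isMulCommutative
  rcases hQ with hc | ⟨-, hne⟩
  · obtain ⟨⟨x, hx⟩, hgen⟩ := IsCyclic.exists_generator (α := ↥(Q : Subgroup G))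
    obtain ⟨A, hA, hxA⟩ := h.1.2 x
    refine ⟨A, hA, fun y hy => ?_⟩
    obtain ⟨k, hk⟩ := hgen ⟨y, hy⟩
    have : y = x ^ k := by
      have := congrArg Subtype.val hk
      simpa using this.symm
    rw [this]
    exact A.zpow_mem hxA k
  · have hex : ∃ x ∈ (Q : Subgroup G), x ^ p ≠ 1 := by
      by_contra hcon
      push Not at hcon
      exact hne ⟨hab, hcon⟩
    obtain ⟨x, hxQ, hxp⟩ := hex
    have hpow : ∀ y ∈ (Q : Subgroup G), ∃ k : ℕ, y ^ p ^ k = 1 := fun y hy =>
      Cfsg.Agent.Lib.Nilpotent.Elements.exists_pow_eq_one_of_mem Q.isPGroup' hy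
    obtain ⟨A, hA, hzA⟩ := h.1.2 (x ^ p)
    obtain ⟨kz, hkz⟩ := hpow (x ^ p) (Q.toSubgroup.pow_mem hxQ p)
    have huniq : ∀ B ∈ 𝓐, x ^ p ∈ B → B = A := fun B hB hzB =>
      member_unique h hZ hab hxp hkz hB hA hzB hzA
    -- `x ∈ A`
    obtain ⟨A', hA', hxA'⟩ := h.1.2 x
    have hxA : x ∈ A := by
      have := huniq A' hA' (A'.pow_mem hxA' p)
      exact this ▸ hxA'
    -- elements of order `p`
    have hord : ∀ w ∈ (Q : Subgroup G), w ^ p = 1 → w ∈ A := by
      intro w hw hwp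
      obtain ⟨B, hB, hB'⟩ := h.1.2 (x * w)
      have hcomm : Commute x w := congrArg Subtype.val (hab.is_comm.comm ⟨x, hxQ⟩ ⟨w, hw⟩)
      have h1 : (x * w) ^ p = x ^ p := by rw [hcomm.mul_pow, hwp, mul_one]
      have h2 : x ^ p ∈ B := h1 ▸ B.pow_mem hB' p
      have h3 := huniq B hB h2
      subst h3
      have h4 := B.mul_mem (B.inv_mem hxA) hB'
      have h5 : x⁻¹ * (x * w) = w := by group
      rwa [h5] at h4
    refine ⟨A, hA, fun v hv => ?_⟩
    by_cases hv1 : v = 1
    · rw [hv1]; exact A.one_mem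
    obtain ⟨k, hk⟩ := hpow v hv
    -- a power of `v` of order `p`
    have hk' : ∃ j : ℕ, v ^ p ^ j ≠ 1 ∧ v ^ p ^ (j + 1) = 1 := by
      have hex : ∃ j, v ^ p ^ j = 1 := ⟨k, hk⟩
      classical
      have hmin := Nat.find_spec hex
      have hpos : Nat.find hex ≠ 0 := by
        intro h0
        rw [h0] at hmin
        simp at hmin
        exact hv1 hmin
      obtain ⟨j, hj⟩ := Nat.exists_eq_succ_of_ne_zero hpos
      refine ⟨j, ?_, ?_⟩
      · exact Nat.find_min hex (by omega)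
      · rw [hj] at hmin; exact hmin
    obtain ⟨j, hj1, hj2⟩ := hk'
    have hw : v ^ p ^ j ∈ A := by
      apply hord _ (Q.toSubgroup.pow_mem hv _)
      rw [← pow_mul, ← pow_succ]; exact hj2
    obtain ⟨B, hB, hvB⟩ := h.1.2 v
    have hBA : B = A := member_unique h hZ hab hj1 (k := 1)
      (by rw [pow_one, ← pow_mul, ← pow_succ]; exact hj2) hB hA (B.pow_mem hvB _) hw
    exact hBA ▸ hvB

theorem ne_bot_of_conj {P : Sylow p G} (hP : (P : Subgroup G) ≠ ⊥) (Q : Sylow p G) :
    (Q : Subgroup G) ≠ ⊥ := by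
  intro hQ
  have e : ↥(P : Subgroup G) ≃* ↥(Q : Subgroup G) := P.equiv Q
  apply hP
  rw [Subgroup.eq_bot_iff_forall]
  intro x hx
  have h0 : ∀ y ∈ (Q : Subgroup G), y = 1 := by
    rw [hQ]; simp
  have h1 := h0 _ (e ⟨x, hx⟩).2
  have h2 : e ⟨x, hx⟩ = 1 := Subtype.ext h1
  have h3 : (⟨x, hx⟩ : ↥(P : Subgroup G)) = 1 := by simpa using h2
  exact congrArg Subtype.val h3

theorem ne_bot_of_not_normal {P : Sylow p G} (hnn : ¬ (P : Subgroup G).Normal) :
    (P : Subgroup G) ≠ ⊥ := by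
  intro hP
  rw [hP] at hnn
  exact hnn inferInstance

/-- Under the `Good` hypothesis every centralizer of a Sylow is a member containing it. -/
theorem centralizer_mem (h : MinNilCover 𝓐) (hZ : Subgroup.center G = ⊥) {P : Sylow p G}
    (hP : Good P) (hP1 : (P : Subgroup G) ≠ ⊥) (Q : Sylow p G) :
    Subgroup.centralizer ((Q : Subgroup G) : Set G) ∈ 𝓐 ∧
      (Q : Subgroup G) ≤ Subgroup.centralizer ((Q : Subgroup G) : Set G) := by
  have hQ := hP.conj Q
  obtain ⟨A, hA, hQA⟩ := exists_member h hZ hQ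
  have := eq_centralizer h hZ hQ.isMulCommutative (ne_bot_of_conj hP1 Q) hA hQA
  rw [this]
  exact ⟨hA, hQA⟩

/-- Any proper subgroup containing `C_G(P)` normalizes `P`. -/
theorem le_normalizer (h : MinNilCover 𝓐) (hZ : Subgroup.center G = ⊥) {P : Sylow p G}
    (hP : Good P) (hP1 : (P : Subgroup G) ≠ ⊥) {M : Subgroup G} (hM : M ≠ ⊤)
    (hCM : Subgroup.centralizer ((P : Subgroup G) : Set G) ≤ M) :
    M ≤ Subgroup.normalizer ((P : Subgroup G) : Set G) := by
  intro m hm
  have hsmul : ((m • P : Sylow p G) : Subgroup G) = (P : Subgroup G).map (MulAut.conj m).toMonoidHom := by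
    rw [Sylow.coe_subgroup_smul]; rfl
  have hC : Subgroup.centralizer (((m • P : Sylow p G) : Subgroup G) : Set G) ≤ M := by
    intro y hy
    have hy' : m⁻¹ * y * m ∈ Subgroup.centralizer ((P : Subgroup G) : Set G) := by
      rw [Subgroup.mem_centralizer_iff] at hy ⊢
      intro w hw
      have hw' : m * w * m⁻¹ ∈ ((m • P : Sylow p G) : Subgroup G) := by
        rw [hsmul]
        exact Subgroup.mem_map_of_mem _ hw
      have := hy _ hw'
      calc w * (m⁻¹ * y * m) = m⁻¹ * ((m * w * m⁻¹) * y) * m := by group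
        _ = m⁻¹ * (y * (m * w * m⁻¹)) * m := by rw [this]
        _ = m⁻¹ * y * m * w := by group
    have h3 := hCM hy'
    have h4 := M.mul_mem (M.mul_mem hm h3) (M.inv_mem hm)
    have h5 : m * (m⁻¹ * y * m) * m⁻¹ = y := by group
    rwa [h5] at h4
  have h1 := centralizer_mem h hZ hP hP1 P
  have h2 := centralizer_mem h hZ hP hP1 (m • P)
  have h3 := eq_of_le_proper h h1.1 h2.1 hM hCM hC
  have h4 := eq_of_centralizer_eq hP.isMulCommutative h3
  exact (Sylow.smul_eq_iff_mem_normalizer (g := m) (P := P)).1 h4.symm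

/-- `N_G(P)` is a coatom. -/
theorem normalizer_isCoatom (h : MinNilCover 𝓐) (hZ : Subgroup.center G = ⊥) {P : Sylow p G}
    (hP : Good P) (hnn : ¬ (P : Subgroup G).Normal) :
    IsCoatom (Subgroup.normalizer ((P : Subgroup G) : Set G)) := by
  have hP1 := ne_bot_of_not_normal hnn
  have hN : Subgroup.normalizer ((P : Subgroup G) : Set G) ≠ ⊤ := by
    intro htop
    exact hnn (Subgroup.normalizer_eq_top_iff.1 htop)
  obtain ⟨M, hM, hNM⟩ := (eq_top_or_exists_le_coatom _).resolve_left hN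
  have hCN : Subgroup.centralizer ((P : Subgroup G) : Set G) ≤ Subgroup.normalizer ((P : Subgroup G) : Set G) :=
    Subgroup.centralizer_le_normalizer _
  have := le_normalizer h hZ hP hP1 hM.1 (hCN.trans hNM)
  have heq : Subgroup.normalizer ((P : Subgroup G) : Set G) = M := le_antisymm hNM this
  rw [heq]
  exact hM

end Main

end Cfsg.Agent.Lib.Perm.NilCover
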