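import Mathlib
import Cfsg.Agent.S0205
import Cfsg.Agent.S4501
import Cfsg.Agent.S0997
import Cfsg.Agent.S0998
import Cfsg.Agent.S0904
import Cfsg.Agent.Lib.Perm.Order420
import Cfsg.Agent.Lib.Perm.Order720
import Cfsg.Agent.Lib.ThreePQ.Klein
import Cfsg.Agent.Lib.ThreePQ.Fermat
import Cfsg.Agent.Lib.PSL2.Basic

/-!
# Orders of non-abelian simple groups of order at most `1092`

A table of certificates: for every `n ≤ 1092` either `n` is one of the six orders of the statement, or the table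
records why no non-abelian simple group has order `n`.
-/

set_option autoImplicit false
set_option linter.style.haveILetI false
set_option linter.unusedVariables false
set_option linter.unusedSectionVars false

namespace Cfsg.Agent.Lib.Perm.Order1092

universe u

/-- A primality test by trial division. -/
def isPrimeB (p : ℕ) : Bool :=
  decide (2 ≤ p) && (List.range p).all (fun d => decide (d < 2) || decide (p % d ≠ 0))

theorem isPrimeB_sound {p : ℕ} (h : isPrimeB p = true) : p.Prime := by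
  simp only [isPrimeB, Bool.and_eq_true, decide_eq_true_eq, List.all_eq_true, List.mem_range, Bool.or_eq_true,
    ne_eq] at h
  obtain ⟨h2, h⟩ := h
  rw [Nat.prime_def_lt]
  refine ⟨h2, fun m hm hd => ?_⟩
  rcases h m hm with h3 | h3
  · have h4 : m ≠ 0 := by
      rintro rfl
      have := Nat.eq_zero_of_zero_dvd hd
      omega
    omega
  · exfalso
    exact h3 (Nat.mod_eq_zero_of_dvd hd)

/-- Certificates. -/
inductive Cert where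
  | ok
  | sp
  | two
  | odd
  | pq (p a q b : ℕ)
  | f4 (p a q b : ℕ)
  | f3 (p a q b : ℕ)
  | pr (p r q b : ℕ)

/-- The statement's list of orders. -/
def okB (n : ℕ) : Bool :=
  n == 60 || n == 168 || n == 360 || n == 504 || n == 660 || n == 1092

/-- Orders treated one by one. -/
def spB (n : ℕ) : Bool :=
  n == 420 || n == 720 || n == 780 || n == 792 || n == 840 || n == 924 || n == 936 || n == 1008 || n == 1020 ||
    n == 1080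

/-- Validity of a certificate for an order. -/
def valid : Cert → ℕ → Bool
  | .ok, n => okB n
  | .sp, n => spB n
  | .two, n => n % 4 == 2 && n != 2
  | .odd, n => n % 2 == 1
  | .pq p a q b, n => isPrimeB p && isPrimeB q && n == p ^ a * q ^ b
  | .f4 p a q b, n => isPrimeB p && isPrimeB q && p != q && decide (a ≤ 2) && n == 4 * p ^ a * q ^ b && n != 60
  | .f3 p a q b, n =>
      isPrimeB p && isPrimeB q && p != q && decide (a ≤ 2) && n == 3 * p ^ a * q ^ b && n != 60 && n != 168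
  | .pr p r q b, n =>
      isPrimeB p && isPrimeB q && isPrimeB r && p != q && p != r && q != r && n == p * r * q ^ b && n != 60 &&
        n != 168

/-- Validity of a list of certificates, for consecutive orders. -/
def check : List Cert → ℕ → Bool
  | [], _ => true
  | w :: l, n => valid w n && check l (n + 1)

theorem check_sound : ∀ (l : List Cert) (n : ℕ), check l n = true → ∀ k < l.length, ∃ w, valid w (n + k) = true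
  | [], _, _, k, hk => by simp at hk
  | w :: l, n, h, 0, _ => by
      simp only [check, Bool.and_eq_true] at h
      exact ⟨w, h.1⟩
  | w :: l, n, h, k + 1, hk => by
      simp only [check, Bool.and_eq_true] at h
      simp only [List.length_cons, Nat.add_lt_add_iff_right] at hk
      obtain ⟨w', hw'⟩ := check_sound l (n + 1) h.2 k hk
      refine ⟨w', ?_⟩
      have : n + (k + 1) = n + 1 + k := by omega
      rw [this]
      exact hw'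

/-- The table. -/
def tbl : List Cert :=
  [
   (.pq 2 0 3 0), (.pq 2 1 3 0), (.pq 3 1 2 0), (.pq 2 2 3 0), (.pq 5 1 2 0), (.pq 2 1 3 1),
   (.pq 7 1 2 0), (.pq 2 3 3 0), (.pq 3 2 2 0), (.pq 2 1 5 1), (.pq 11 1 2 0), (.pq 2 2 3 1),
   (.pq 13 1 2 0), (.pq 2 1 7 1), (.pq 3 1 5 1), (.pq 2 4 3 0), (.pq 17 1 2 0), (.pq 2 1 3 2),
   (.pq 19 1 2 0), (.pq 2 2 5 1), (.pq 3 1 7 1), (.pq 2 1 11 1), (.pq 23 1 2 0), (.pq 2 3 3 1),
   (.pq 5 2 2 0), (.pq 2 1 13 1), (.pq 3 3 2 0), (.pq 2 2 7 1), (.pq 29 1 2 0), .two,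
   (.pq 31 1 2 0), (.pq 2 5 3 0), (.pq 3 1 11 1), (.pq 2 1 17 1), (.pq 5 1 7 1), (.pq 2 2 3 2),
   (.pq 37 1 2 0), (.pq 2 1 19 1), (.pq 3 1 13 1), (.pq 2 3 5 1), (.pq 41 1 2 0), .two,
   (.pq 43 1 2 0), (.pq 2 2 11 1), (.pq 3 2 5 1), (.pq 2 1 23 1), (.pq 47 1 2 0), (.pq 2 4 3 1),
   (.pq 7 2 2 0), (.pq 2 1 5 2), (.pq 3 1 17 1), (.pq 2 2 13 1), (.pq 53 1 2 0), (.pq 2 1 3 3),
   (.pq 5 1 11 1), (.pq 2 3 7 1), (.pq 3 1 19 1), (.pq 2 1 29 1), (.pq 59 1 2 0), .ok,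
   (.pq 61 1 2 0), (.pq 2 1 31 1), (.pq 3 2 7 1), (.pq 2 6 3 0), (.pq 5 1 13 1), .two,
   (.pq 67 1 2 0), (.pq 2 2 17 1), (.pq 3 1 23 1), .two, (.pq 71 1 2 0), (.pq 2 3 3 2),
   (.pq 73 1 2 0), (.pq 2 1 37 1), (.pq 3 1 5 2), (.pq 2 2 19 1), (.pq 7 1 11 1), .two,
   (.pq 79 1 2 0), (.pq 2 4 5 1), (.pq 3 4 2 0), (.pq 2 1 41 1), (.pq 83 1 2 0), (.f4 3 1 7 1),
   (.pq 5 1 17 1), (.pq 2 1 43 1), (.pq 3 1 29 1), (.pq 2 3 11 1), (.pq 89 1 2 0), .two,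
   (.pq 7 1 13 1), (.pq 2 2 23 1), (.pq 3 1 31 1), (.pq 2 1 47 1), (.pq 5 1 19 1), (.pq 2 5 3 1),
   (.pq 97 1 2 0), (.pq 2 1 7 2), (.pq 3 2 11 1), (.pq 2 2 5 2), (.pq 101 1 2 0), .two,
   (.pq 103 1 2 0), (.pq 2 3 13 1), .odd, (.pq 2 1 53 1), (.pq 107 1 2 0), (.pq 2 2 3 3),
   (.pq 109 1 2 0), .two, (.pq 3 1 37 1), (.pq 2 4 7 1), (.pq 113 1 2 0), .two,
   (.pq 5 1 23 1), (.pq 2 2 29 1), (.pq 3 2 13 1), (.pq 2 1 59 1), (.pq 7 1 17 1), (.f3 5 1 2 3),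
   (.pq 11 2 2 0), (.pq 2 1 61 1), (.pq 3 1 41 1), (.pq 2 2 31 1), (.pq 5 3 2 0), .two,
   (.pq 127 1 2 0), (.pq 2 7 3 0), (.pq 3 1 43 1), .two, (.pq 131 1 2 0), (.f4 3 1 11 1),
   (.pq 7 1 19 1), (.pq 2 1 67 1), (.pq 3 3 5 1), (.pq 2 3 17 1), (.pq 137 1 2 0), .two,
   (.pq 139 1 2 0), (.f4 5 1 7 1), (.pq 3 1 47 1), (.pq 2 1 71 1), (.pq 11 1 13 1), (.pq 2 4 3 2),
   (.pq 5 1 29 1), (.pq 2 1 73 1), (.pq 3 1 7 2), (.pq 2 2 37 1), (.pq 149 1 2 0), .two,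
   (.pq 151 1 2 0), (.pq 2 3 19 1), (.pq 3 2 17 1), .two, (.pq 5 1 31 1), (.f4 3 1 13 1),
   (.pq 157 1 2 0), (.pq 2 1 79 1), (.pq 3 1 53 1), (.pq 2 5 5 1), (.pq 7 1 23 1), (.pq 2 1 3 4),
   (.pq 163 1 2 0), (.pq 2 2 41 1), .odd, (.pq 2 1 83 1), (.pq 167 1 2 0), .ok,
   (.pq 13 2 2 0), .two, (.pq 3 2 19 1), (.pq 2 2 43 1), (.pq 173 1 2 0), .two,
   (.pq 5 2 7 1), (.pq 2 4 11 1), (.pq 3 1 59 1), (.pq 2 1 89 1), (.pq 179 1 2 0), (.f4 5 1 3 2),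
   (.pq 181 1 2 0), .two, (.pq 3 1 61 1), (.pq 2 3 23 1), (.pq 5 1 37 1), .two,
   (.pq 11 1 17 1), (.pq 2 2 47 1), (.pq 3 3 7 1), .two, (.pq 191 1 2 0), (.pq 2 6 3 1),
   (.pq 193 1 2 0), (.pq 2 1 97 1), .odd, (.pq 2 2 7 2), (.pq 197 1 2 0), .two,
   (.pq 199 1 2 0), (.pq 2 3 5 2), (.pq 3 1 67 1), (.pq 2 1 101 1), (.pq 7 1 29 1), (.f4 3 1 17 1),
   (.pq 5 1 41 1), (.pq 2 1 103 1), (.pq 3 2 23 1), (.pq 2 4 13 1), (.pq 11 1 19 1), .two,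
   (.pq 211 1 2 0), (.pq 2 2 53 1), (.pq 3 1 71 1), (.pq 2 1 107 1), (.pq 5 1 43 1), (.pq 2 3 3 3),
   (.pq 7 1 31 1), (.pq 2 1 109 1), (.pq 3 1 73 1), (.f4 5 1 11 1), (.pq 13 1 17 1), .two,
   (.pq 223 1 2 0), (.pq 2 5 7 1), (.pq 3 2 5 2), (.pq 2 1 113 1), (.pq 227 1 2 0), (.f4 3 1 19 1),
   (.pq 229 1 2 0), .two, .odd, (.pq 2 3 29 1), (.pq 233 1 2 0), .two,
   (.pq 5 1 47 1), (.pq 2 2 59 1), (.pq 3 1 79 1), .two, (.pq 239 1 2 0), (.f3 5 1 2 4),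
   (.pq 241 1 2 0), (.pq 2 1 11 2), (.pq 3 5 2 0), (.pq 2 2 61 1), (.pq 5 1 7 2), .two,
   (.pq 13 1 19 1), (.pq 2 3 31 1), (.pq 3 1 83 1), (.pq 2 1 5 3), (.pq 251 1 2 0), (.f4 7 1 3 2),
   (.pq 11 1 23 1), (.pq 2 1 127 1), .odd, (.pq 2 8 3 0), (.pq 257 1 2 0), .two,
   (.pq 7 1 37 1), (.f4 5 1 13 1), (.pq 3 2 29 1), (.pq 2 1 131 1), (.pq 263 1 2 0), (.f3 11 1 2 3),
   (.pq 5 1 53 1), .two, (.pq 3 1 89 1), (.pq 2 2 67 1), (.pq 269 1 2 0), .two,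
   (.pq 271 1 2 0), (.pq 2 4 17 1), .odd, (.pq 2 1 137 1), (.pq 5 2 11 1), (.f4 3 1 23 1),
   (.pq 277 1 2 0), (.pq 2 1 139 1), (.pq 3 2 31 1), (.pr 5 7 2 3), (.pq 281 1 2 0), .two,
   (.pq 283 1 2 0), (.pq 2 2 71 1), .odd, .two, (.pq 7 1 41 1), (.pq 2 5 3 2),
   (.pq 17 2 2 0), .two, (.pq 3 1 97 1), (.pq 2 2 73 1), (.pq 293 1 2 0), .two,
   (.pq 5 1 59 1), (.pq 2 3 37 1), (.pq 3 3 11 1), (.pq 2 1 149 1), (.pq 13 1 23 1), (.f4 3 1 5 2),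
   (.pq 7 1 43 1), (.pq 2 1 151 1), (.pq 3 1 101 1), (.pq 2 4 19 1), (.pq 5 1 61 1), .two,
   (.pq 307 1 2 0), (.f4 7 1 11 1), (.pq 3 1 103 1), .two, (.pq 311 1 2 0), (.f3 13 1 2 3),
   (.pq 313 1 2 0), (.pq 2 1 157 1), .odd, (.pq 2 2 79 1), (.pq 317 1 2 0), .two,
   (.pq 11 1 29 1), (.pq 2 6 5 1), (.pq 3 1 107 1), .two, (.pq 17 1 19 1), (.pq 2 2 3 4),
   (.pq 5 2 13 1), (.pq 2 1 163 1), (.pq 3 1 109 1), (.pq 2 3 41 1), (.pq 7 1 47 1), .two,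
   (.pq 331 1 2 0), (.pq 2 2 83 1), (.pq 3 2 37 1), (.pq 2 1 167 1), (.pq 5 1 67 1), (.f3 7 1 2 4),
   (.pq 337 1 2 0), (.pq 2 1 13 2), (.pq 3 1 113 1), (.f4 5 1 17 1), (.pq 11 1 31 1), .two,
   (.pq 7 3 2 0), (.pq 2 3 43 1), .odd, (.pq 2 1 173 1), (.pq 347 1 2 0), (.f4 3 1 29 1),
   (.pq 349 1 2 0), .two, (.pq 3 3 13 1), (.pq 2 5 11 1), (.pq 353 1 2 0), .two,
   (.pq 5 1 71 1), (.pq 2 2 89 1), .odd, (.pq 2 1 179 1), (.pq 359 1 2 0), .ok,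
   (.pq 19 2 2 0), (.pq 2 1 181 1), (.pq 3 1 11 2), (.f4 7 1 13 1), (.pq 5 1 73 1), .two,
   (.pq 367 1 2 0), (.pq 2 4 23 1), (.pq 3 2 41 1), .two, (.pq 7 1 53 1), (.f4 3 1 31 1),
   (.pq 373 1 2 0), .two, (.pq 3 1 5 3), (.pq 2 3 47 1), (.pq 13 1 29 1), .two,
   (.pq 379 1 2 0), (.f4 5 1 19 1), (.pq 3 1 127 1), (.pq 2 1 191 1), (.pq 383 1 2 0), (.pq 2 7 3 1),
   .odd, (.pq 2 1 193 1), (.pq 3 2 43 1), (.pq 2 2 97 1), (.pq 389 1 2 0), .two,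
   (.pq 17 1 23 1), (.pq 2 3 7 2), (.pq 3 1 131 1), (.pq 2 1 197 1), (.pq 5 1 79 1), (.f4 11 1 3 2),
   (.pq 397 1 2 0), (.pq 2 1 199 1), .odd, (.pq 2 4 5 2), (.pq 401 1 2 0), .two,
   (.pq 13 1 31 1), (.pq 2 2 101 1), (.pq 3 4 5 1), .two, (.pq 11 1 37 1), (.f3 17 1 2 3),
   (.pq 409 1 2 0), .two, (.pq 3 1 137 1), (.pq 2 2 103 1), (.pq 7 1 59 1), .two,
   (.pq 5 1 83 1), (.pq 2 5 13 1), (.pq 3 1 139 1), .two, (.pq 419 1 2 0), .sp,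
   (.pq 421 1 2 0), (.pq 2 1 211 1), (.pq 3 2 47 1), (.pq 2 3 53 1), (.pq 5 2 17 1), .two,
   (.pq 7 1 61 1), (.pq 2 2 107 1), .odd, .two, (.pq 431 1 2 0), (.pq 2 4 3 3),
   (.pq 433 1 2 0), .two, .odd, (.pq 2 2 109 1), (.pq 19 1 23 1), .two,
   (.pq 439 1 2 0), (.pr 5 11 2 3), (.pq 3 2 7 2), .two, (.pq 443 1 2 0), (.f4 3 1 37 1),
   (.pq 5 1 89 1), (.pq 2 1 223 1), (.pq 3 1 149 1), (.pq 2 6 7 1), (.pq 449 1 2 0), .two,
   (.pq 11 1 41 1), (.pq 2 2 113 1), (.pq 3 1 151 1), (.pq 2 1 227 1), .odd, (.f3 19 1 2 3),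
   (.pq 457 1 2 0), (.pq 2 1 229 1), (.pq 3 3 17 1), (.f4 5 1 23 1), (.pq 461 1 2 0), .two,
   (.pq 463 1 2 0), (.pq 2 4 29 1), .odd, (.pq 2 1 233 1), (.pq 467 1 2 0), (.f4 13 1 3 2),
   (.pq 7 1 67 1), .two, (.pq 3 1 157 1), (.pq 2 3 59 1), (.pq 11 1 43 1), .two,
   (.pq 5 2 19 1), (.f4 7 1 17 1), (.pq 3 2 53 1), (.pq 2 1 239 1), (.pq 479 1 2 0), (.f3 5 1 2 5),
   (.pq 13 1 37 1), (.pq 2 1 241 1), .odd, (.pq 2 2 11 2), (.pq 5 1 97 1), (.pq 2 1 3 5),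
   (.pq 487 1 2 0), (.pq 2 3 61 1), (.pq 3 1 163 1), .two, (.pq 491 1 2 0), (.f4 3 1 41 1),
   (.pq 17 1 29 1), .two, .odd, (.pq 2 4 31 1), (.pq 7 1 71 1), .two,
   (.pq 499 1 2 0), (.pq 2 2 5 3), (.pq 3 1 167 1), (.pq 2 1 251 1), (.pq 503 1 2 0), .ok,
   (.pq 5 1 101 1), .two, (.pq 3 1 13 2), (.pq 2 2 127 1), (.pq 509 1 2 0), .two,
   (.pq 7 1 73 1), (.pq 2 9 3 0), (.pq 3 3 19 1), (.pq 2 1 257 1), (.pq 5 1 103 1), (.f4 3 1 43 1),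
   (.pq 11 1 47 1), .two, (.pq 3 1 173 1), (.pr 5 13 2 3), (.pq 521 1 2 0), .two,
   (.pq 523 1 2 0), (.pq 2 2 131 1), .odd, (.pq 2 1 263 1), (.pq 17 1 31 1), (.f3 11 1 2 4),
   (.pq 23 2 2 0), .two, (.pq 3 2 59 1), (.f4 7 1 19 1), (.pq 13 1 41 1), .two,
   (.pq 5 1 107 1), (.pq 2 3 67 1), (.pq 3 1 179 1), (.pq 2 1 269 1), (.pq 7 2 11 1), (.f4 5 1 3 3),
   (.pq 541 1 2 0), (.pq 2 1 271 1), (.pq 3 1 181 1), (.pq 2 5 17 1), (.pq 5 1 109 1), .two,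
   (.pq 547 1 2 0), (.pq 2 2 137 1), (.pq 3 2 61 1), .two, (.pq 19 1 29 1), (.f3 23 1 2 3),
   (.pq 7 1 79 1), (.pq 2 1 277 1), .odd, (.pq 2 2 139 1), (.pq 557 1 2 0), .two,
   (.pq 13 1 43 1), (.pr 5 7 2 4), .odd, (.pq 2 1 281 1), (.pq 563 1 2 0), (.f4 3 1 47 1),
   (.pq 5 1 113 1), (.pq 2 1 283 1), (.pq 3 4 7 1), (.pq 2 3 71 1), (.pq 569 1 2 0), .two,
   (.pq 571 1 2 0), (.f4 11 1 13 1), (.pq 3 1 191 1), .two, (.pq 5 2 23 1), (.pq 2 6 3 2),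
   (.pq 577 1 2 0), (.pq 2 1 17 2), (.pq 3 1 193 1), (.f4 5 1 29 1), (.pq 7 1 83 1), .two,
   (.pq 11 1 53 1), (.pq 2 3 73 1), .odd, (.pq 2 1 293 1), (.pq 587 1 2 0), (.f4 3 1 7 2),
   (.pq 19 1 31 1), .two, (.pq 3 1 197 1), (.pq 2 4 37 1), (.pq 593 1 2 0), .two,
   .odd, (.pq 2 2 149 1), (.pq 3 1 199 1), .two, (.pq 599 1 2 0), (.f3 5 2 2 3),
   (.pq 601 1 2 0), .two, (.pq 3 2 67 1), (.pq 2 2 151 1), (.pq 5 1 11 2), .two,
   (.pq 607 1 2 0), (.pq 2 5 19 1), .odd, .two, (.pq 13 1 47 1), (.f4 17 1 3 2),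
   (.pq 613 1 2 0), (.pq 2 1 307 1), .odd, (.pr 7 11 2 3), (.pq 617 1 2 0), .two,
   (.pq 619 1 2 0), (.f4 5 1 31 1), (.pq 3 3 23 1), (.pq 2 1 311 1), (.pq 7 1 89 1), (.f3 13 1 2 4),
   (.pq 5 4 2 0), (.pq 2 1 313 1), .odd, (.pq 2 2 157 1), (.pq 17 1 37 1), .two,
   (.pq 631 1 2 0), (.pq 2 3 79 1), (.pq 3 1 211 1), (.pq 2 1 317 1), (.pq 5 1 127 1), (.f4 3 1 53 1),
   (.pq 7 2 13 1), .two, (.pq 3 2 71 1), (.pq 2 7 5 1), (.pq 641 1 2 0), .two,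
   (.pq 643 1 2 0), (.f4 7 1 23 1), .odd, .two, (.pq 647 1 2 0), (.pq 2 3 3 4),
   (.pq 11 1 59 1), .two, .odd, (.pq 2 2 163 1), (.pq 653 1 2 0), .two,
   (.pq 5 1 131 1), (.pq 2 4 41 1), (.pq 3 2 73 1), .two, (.pq 659 1 2 0), .ok,
   (.pq 661 1 2 0), (.pq 2 1 331 1), .odd, (.pq 2 3 83 1), .odd, .two,
   (.pq 23 1 29 1), (.pq 2 2 167 1), (.pq 3 1 223 1), .two, (.pq 11 1 61 1), (.f3 7 1 2 5),
   (.pq 673 1 2 0), (.pq 2 1 337 1), (.pq 3 3 5 2), (.pq 2 2 13 2), (.pq 677 1 2 0), .two,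
   (.pq 7 1 97 1), (.pr 5 17 2 3), (.pq 3 1 227 1), .two, (.pq 683 1 2 0), (.f4 19 1 3 2),
   (.pq 5 1 137 1), (.pq 2 1 7 3), (.pq 3 1 229 1), (.pq 2 4 43 1), (.pq 13 1 53 1), .two,
   (.pq 691 1 2 0), (.pq 2 2 173 1), .odd, (.pq 2 1 347 1), (.pq 5 1 139 1), (.f3 29 1 2 3),
   (.pq 17 1 41 1), (.pq 2 1 349 1), (.pq 3 1 233 1), (.f4 7 1 5 2), (.pq 701 1 2 0), .two,
   (.pq 19 1 37 1), (.pq 2 6 11 1), .odd, (.pq 2 1 353 1), (.pq 7 1 101 1), (.f4 3 1 59 1),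
   (.pq 709 1 2 0), .two, (.pq 3 2 79 1), (.pq 2 3 89 1), (.pq 23 1 31 1), .two,
   .odd, (.pq 2 2 179 1), (.pq 3 1 239 1), (.pq 2 1 359 1), (.pq 719 1 2 0), .sp,
   (.pq 7 1 103 1), (.pq 2 1 19 2), (.pq 3 1 241 1), (.pq 2 2 181 1), (.pq 5 2 29 1), .two,
   (.pq 727 1 2 0), (.pr 7 13 2 3), (.pq 3 6 2 0), .two, (.pq 17 1 43 1), (.f4 3 1 61 1),
   (.pq 733 1 2 0), (.pq 2 1 367 1), .odd, (.pq 2 5 23 1), (.pq 11 1 67 1), .two,
   (.pq 739 1 2 0), (.f4 5 1 37 1), .odd, .two, (.pq 743 1 2 0), (.f3 31 1 2 3),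
   (.pq 5 1 149 1), (.pq 2 1 373 1), (.pq 3 2 83 1), (.f4 11 1 17 1), (.pq 7 1 107 1), .two,
   (.pq 751 1 2 0), (.pq 2 4 47 1), (.pq 3 1 251 1), .two, (.pq 5 1 151 1), (.f4 7 1 3 3),
   (.pq 757 1 2 0), (.pq 2 1 379 1), .odd, (.pr 5 19 2 3), (.pq 761 1 2 0), .two,
   (.pq 7 1 109 1), (.pq 2 2 191 1), .odd, (.pq 2 1 383 1), (.pq 13 1 59 1), (.pq 2 8 3 1),
   (.pq 769 1 2 0), .two, (.pq 3 1 257 1), (.pq 2 2 193 1), (.pq 773 1 2 0), .two,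
   (.pq 5 2 31 1), (.pq 2 3 97 1), .odd, (.pq 2 1 389 1), (.pq 19 1 41 1), .sp,
   (.pq 11 1 71 1), .two, (.pq 3 3 29 1), (.pq 2 4 7 2), (.pq 5 1 157 1), .two,
   (.pq 787 1 2 0), (.pq 2 2 197 1), (.pq 3 1 263 1), .two, (.pq 7 1 113 1), .sp,
   (.pq 13 1 61 1), (.pq 2 1 397 1), .odd, (.pq 2 2 199 1), (.pq 797 1 2 0), .two,
   (.pq 17 1 47 1), (.pq 2 5 5 2), (.pq 3 2 89 1), (.pq 2 1 401 1), (.pq 11 1 73 1), (.f4 3 1 67 1),
   .odd, .two, (.pq 3 1 269 1), (.pq 2 3 101 1), (.pq 809 1 2 0), .two,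
   (.pq 811 1 2 0), (.f4 7 1 29 1), (.pq 3 1 271 1), .two, (.pq 5 1 163 1), (.f3 17 1 2 4),
   (.pq 19 1 43 1), (.pq 2 1 409 1), .odd, (.f4 5 1 41 1), (.pq 821 1 2 0), .two,
   (.pq 823 1 2 0), (.pq 2 3 103 1), .odd, .two, (.pq 827 1 2 0), (.f4 23 1 3 2),
   (.pq 829 1 2 0), .two, (.pq 3 1 277 1), (.pq 2 6 13 1), (.pq 7 2 17 1), .two,
   (.pq 5 1 167 1), (.f4 11 1 19 1), (.pq 3 3 31 1), (.pq 2 1 419 1), (.pq 839 1 2 0), .sp,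
   (.pq 29 2 2 0), (.pq 2 1 421 1), (.pq 3 1 281 1), (.pq 2 2 211 1), (.pq 5 1 13 2), .two,
   (.pq 7 1 11 2), (.pq 2 4 53 1), (.pq 3 1 283 1), .two, (.pq 23 1 37 1), (.f4 3 1 71 1),
   (.pq 853 1 2 0), .two, .odd, (.pq 2 3 107 1), (.pq 857 1 2 0), .two,
   (.pq 859 1 2 0), (.f4 5 1 43 1), .odd, (.pq 2 1 431 1), (.pq 863 1 2 0), (.pq 2 5 3 3),
   (.pq 5 1 173 1), (.pq 2 1 433 1), (.pq 3 1 17 2), (.f4 7 1 31 1), (.pq 11 1 79 1), .two,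
   (.pq 13 1 67 1), (.pq 2 3 109 1), (.pq 3 2 97 1), .two, (.pq 5 3 7 1), (.f4 3 1 73 1),
   (.pq 877 1 2 0), (.pq 2 1 439 1), (.pq 3 1 293 1), (.pr 5 11 2 4), (.pq 881 1 2 0), .two,
   (.pq 883 1 2 0), (.f4 13 1 17 1), .odd, (.pq 2 1 443 1), (.pq 887 1 2 0), (.f3 37 1 2 3),
   (.pq 7 1 127 1), .two, (.pq 3 4 11 1), (.pq 2 2 223 1), (.pq 19 1 47 1), .two,
   (.pq 5 1 179 1), (.pq 2 7 7 1), .odd, (.pq 2 1 449 1), (.pq 29 1 31 1), (.f4 3 2 5 2),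
   (.pq 17 1 53 1), .two, .odd, (.pq 2 3 113 1), (.pq 5 1 181 1), .two,
   (.pq 907 1 2 0), (.pq 2 2 227 1), (.pq 3 2 101 1), .two, (.pq 911 1 2 0), (.f3 19 1 2 4),
   (.pq 11 1 83 1), (.pq 2 1 457 1), .odd, (.pq 2 2 229 1), (.pq 7 1 131 1), .two,
   (.pq 919 1 2 0), (.pr 5 23 2 3), (.pq 3 1 307 1), (.pq 2 1 461 1), (.pq 13 1 71 1), .sp,
   (.pq 5 2 37 1), (.pq 2 1 463 1), (.pq 3 2 103 1), (.pq 2 5 29 1), (.pq 929 1 2 0), .two,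
   (.pq 7 2 19 1), (.pq 2 2 233 1), (.pq 3 1 311 1), (.pq 2 1 467 1), .odd, .sp,
   (.pq 937 1 2 0), .two, (.pq 3 1 313 1), (.f4 5 1 47 1), (.pq 941 1 2 0), .two,
   (.pq 23 1 41 1), (.pq 2 4 59 1), .odd, .two, (.pq 947 1 2 0), (.f4 3 1 79 1),
   (.pq 13 1 73 1), .two, (.pq 3 1 317 1), (.pr 7 17 2 3), (.pq 953 1 2 0), .two,
   (.pq 5 1 191 1), (.pq 2 2 239 1), .odd, (.pq 2 1 479 1), (.pq 7 1 137 1), (.f3 5 1 2 6),
   (.pq 31 2 2 0), .two, (.pq 3 2 107 1), (.pq 2 2 241 1), (.pq 5 1 193 1), .two,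
   (.pq 967 1 2 0), (.pq 2 3 11 2), .odd, .two, (.pq 971 1 2 0), (.pq 2 2 3 5),
   (.pq 7 1 139 1), (.pq 2 1 487 1), .odd, (.pq 2 4 61 1), (.pq 977 1 2 0), .two,
   (.pq 11 1 89 1), (.f4 5 1 7 2), (.pq 3 2 109 1), (.pq 2 1 491 1), (.pq 983 1 2 0), (.f3 41 1 2 3),
   (.pq 5 1 197 1), .two, .odd, (.f4 13 1 19 1), (.pq 23 1 43 1), .two,
   (.pq 991 1 2 0), (.pq 2 5 31 1), (.pq 3 1 331 1), .two, (.pq 5 1 199 1), (.f4 3 1 83 1),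
   (.pq 997 1 2 0), (.pq 2 1 499 1), (.pq 3 3 37 1), (.pq 2 3 5 3), .odd, .two,
   (.pq 17 1 59 1), (.pq 2 2 251 1), .odd, (.pq 2 1 503 1), (.pq 19 1 53 1), .sp,
   (.pq 1009 1 2 0), .two, (.pq 3 1 337 1), (.f4 11 1 23 1), (.pq 1013 1 2 0), .two,
   .odd, (.pq 2 3 127 1), (.pq 3 2 113 1), (.pq 2 1 509 1), (.pq 1019 1 2 0), .sp,
   (.pq 1021 1 2 0), .two, .odd, (.pq 2 10 3 0), (.pq 5 2 41 1), .two,
   (.pq 13 1 79 1), (.pq 2 2 257 1), (.pq 3 1 7 3), .two, (.pq 1031 1 2 0), (.f3 43 1 2 3),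
   (.pq 1033 1 2 0), .two, .odd, (.f4 7 1 37 1), (.pq 17 1 61 1), .two,
   (.pq 1039 1 2 0), (.pr 5 13 2 4), (.pq 3 1 347 1), (.pq 2 1 521 1), (.pq 7 1 149 1), (.f4 29 1 3 2),
   .odd, (.pq 2 1 523 1), (.pq 3 1 349 1), (.pq 2 3 131 1), (.pq 1049 1 2 0), .two,
   (.pq 1051 1 2 0), (.pq 2 2 263 1), (.pq 3 4 13 1), .two, (.pq 5 1 211 1), (.f3 11 1 2 5),
   (.pq 7 1 151 1), (.pq 2 1 23 2), (.pq 3 1 353 1), (.f4 5 1 53 1), (.pq 1061 1 2 0), .two,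
   (.pq 1063 1 2 0), (.pr 7 19 2 3), .odd, .two, (.pq 11 1 97 1), (.f4 3 1 89 1),
   (.pq 1069 1 2 0), .two, .odd, (.pq 2 4 67 1), (.pq 29 1 37 1), .two,
   (.pq 5 2 43 1), (.pq 2 2 269 1), (.pq 3 1 359 1), .two, (.pq 13 1 83 1), .sp,
   (.pq 23 1 47 1), (.pq 2 1 541 1), (.pq 3 1 19 2), (.pq 2 2 271 1), .odd, .two,
   (.pq 1087 1 2 0), (.pq 2 6 17 1), (.pq 3 2 11 2), .two, (.pq 1091 1 2 0), .ok
  ]

theorem tbl_length : tbl.length = 1092 := by decide +kernel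

theorem tbl_check : check tbl 1 = true := by decide +kernel

section Groups

variable {G : Type u} [Group G] [Finite G] [IsSimpleGroup G]

theorem card_psl {F : Type*} [Field F] [Fintype F] (hF : Fintype.card F % 2 = 1) :
    2 * Nat.card (Matrix.ProjectiveSpecialLinearGroup (Fin 2) F) =
      Fintype.card F * (Fintype.card F ^ 2 - 1) := by
  apply Cfsg.Agent.Lib.PSL2.Basic.card_PSL2_of_two_ne_zero
  apply Ring.two_ne_zero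
  intro h2
  have := FiniteField.even_card_iff_char_two.1 h2
  omega

theorem two_pow_ne (m : ℕ) : 2 ^ m ≠ 10 ∧ 2 ^ m ≠ 12 := by
  rcases Nat.lt_or_ge m 4 with h | h
  · interval_cases m <;> norm_num
  · have : 2 ^ 4 ≤ 2 ^ m := Nat.pow_le_pow_right (by norm_num) h
    omega

theorem false_792 (hna : ¬ IsCyclic G) (h : Nat.card G = 792) : False := by
  have h11 : Nat.Prime 11 := by norm_num
  rcases Cfsg.Agent.S0997.result hna 11 2 3 9 h11 Nat.prime_two (by norm_num) (by rw [h]; norm_num) (by norm_num) with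
    ⟨m, F, _, _, -, hm, -⟩ | ⟨m, F, _, _, -, hm, -, -⟩
  · have := two_pow_ne m
    rcases hm with hm | hm <;> omega
  · have := two_pow_ne m
    omega

theorem of_special (hna : ¬ IsCyclic G) {n : ℕ} (h : Nat.card G = n) (hs : spB n = true) : False := by
  have hs' : n = 420 ∨ n = 720 ∨ n = 780 ∨ n = 792 ∨ n = 840 ∨ n = 924 ∨ n = 936 ∨ n = 1008 ∨ n = 1020 ∨ n = 1080 := by
    simpa [spB, or_assoc] using hs
  rcases hs' with rfl | rfl | rfl | rfl | rfl | rfl | rfl | rfl | rfl | rfl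
  · exact Order420.no_420 h
  · letI := Fintype.ofFinite G
    exact Order720.no_720 h
  · exact Cfsg.Agent.Lib.Basic.SmallSimple.false_of_sylow 13 60 (by norm_num) (by rw [h]) (by norm_num) (by norm_num)
      (by decide +kernel)
  · exact false_792 hna h
  · exact Order420.no_840 h
  · exact Cfsg.Agent.Lib.Basic.SmallSimple.false_of_sylow 11 84 (by norm_num) (by rw [h]) (by norm_num) (by norm_num)
      (by decide +kernel)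
  · exact Cfsg.Agent.Lib.Basic.SmallSimple.false_of_sylow 13 72 (by norm_num) (by rw [h]) (by norm_num) (by norm_num)
      (by decide +kernel)
  · haveI : Fact (Nat.Prime 7) := ⟨by norm_num⟩
    exact Order420.false_of_selfcent (p := 7) (m := 144) (by rw [h]) (by norm_num) (by norm_num)
      (fun S => Cfsg.Agent.S0904.result 2 3 7 4 2 (by norm_num) (by norm_num) (by norm_num) (by norm_num) (by norm_num)
        (by rw [h]; norm_num) S)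
      (by decide +kernel)
  · exact Cfsg.Agent.Lib.Basic.SmallSimple.false_of_sylow 17 60 (by norm_num) (by rw [h]) (by norm_num) (by norm_num)
      (by decide +kernel)
  · haveI : Fact (Nat.Prime 5) := ⟨by norm_num⟩
    exact Order420.false_of_selfcent (p := 5) (m := 216) (by rw [h]) (by norm_num) (by norm_num)
      (fun S => Cfsg.Agent.S0904.result 2 3 5 3 3 (by norm_num) (by norm_num) (by norm_num) (by norm_num) (by norm_num)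
        (by rw [h]; norm_num) S)
      (by decide +kernel)

/-- The soundness of a certificate. -/
theorem of_cert (hG : ¬ IsMulCommutative G) {w : Cert} {n : ℕ} (hv : valid w n = true) (h : Nat.card G = n) :
    okB n = true := by
  have hna : ∃ x y : G, x * y ≠ y * x := by
    by_contra hcon
    push Not at hcon
    exact hG (IsMulCommutative.of_comm hcon)
  have hnc : ¬ IsCyclic G := by
    intro hc
    obtain ⟨x, y, hxy⟩ := hna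
    obtain ⟨g, hg⟩ := hc.exists_generator
    obtain ⟨i, rfl⟩ := Subgroup.mem_zpowers_iff.1 (hg x)
    obtain ⟨j, rfl⟩ := Subgroup.mem_zpowers_iff.1 (hg y)
    exact hxy (Commute.zpow_zpow_self g i j).eq
  cases w with
  | ok => exact hv
  | sp => exact (of_special hnc h hv).elim
  | two =>
    exfalso
    simp only [valid, Bool.and_eq_true, beq_iff_eq, bne_iff_ne, ne_eq] at hv
    obtain ⟨h4, h2⟩ := hv
    obtain ⟨m, hm⟩ : ∃ m, n = 2 * m := ⟨n / 2, by omega⟩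
    subst hm
    exact Cfsg.Agent.Lib.Basic.SmallSimple.false_of_sylow 2 m Nat.prime_two h (by omega) (by omega)
      (fun d _ _ => Or.inr (by simp))
  | odd =>
    exfalso
    simp only [valid, beq_iff_eq] at hv
    have hodd : Odd (Nat.card G) := by
      rw [h]
      exact Nat.odd_iff.2 hv
    have hs := Cfsg.Agent.S0205.result hodd
    obtain ⟨x, y, hxy⟩ := hna
    exact hxy ((IsSimpleGroup.comm_iff_isSolvable (G := G)).2 hs x y)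
  | pq p a q b =>
    exfalso
    simp only [valid, Bool.and_eq_true, beq_iff_eq] at hv
    obtain ⟨⟨hp, hq⟩, hn⟩ := hv
    exact Cfsg.Agent.Lib.ThreePQ.two_primes_false hna (isPrimeB_sound hp) (isPrimeB_sound hq) (h.trans hn)
  | f4 p a q b =>
    exfalso
    simp only [valid, Bool.and_eq_true, beq_iff_eq, bne_iff_ne, ne_eq, decide_eq_true_eq] at hv
    obtain ⟨⟨⟨⟨⟨hp, hq⟩, hpq⟩, ha⟩, hn⟩, h60⟩ := hv
    obtain ⟨e⟩ := (Cfsg.Agent.S4501.result hna p q a b (isPrimeB_sound hp) (isPrimeB_sound hq) hpq ha).1 (h.trans hn)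
    apply h60
    rw [← h, Nat.card_congr e.toEquiv, Cfsg.Agent.Lib.ThreePQ.card_A5]
  | f3 p a q b =>
    exfalso
    simp only [valid, Bool.and_eq_true, beq_iff_eq, bne_iff_ne, ne_eq, decide_eq_true_eq] at hv
    obtain ⟨⟨⟨⟨⟨⟨hp, hq⟩, hpq⟩, ha⟩, hn⟩, h60⟩, h168⟩ := hv
    rcases (Cfsg.Agent.S4501.result hna p q a b (isPrimeB_sound hp) (isPrimeB_sound hq) hpq ha).2 (h.trans hn) with
      ⟨⟨e⟩⟩ | ⟨⟨e⟩⟩
    · apply h60
      rw [← h, Nat.card_congr e.toEquiv, Cfsg.Agent.Lib.ThreePQ.card_A5]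
    · apply h168
      haveI : Fact (Nat.Prime 7) := ⟨by norm_num⟩
      have h1 := card_psl (F := ZMod 7) (by rw [ZMod.card])
      rw [ZMod.card] at h1
      rw [← h, Nat.card_congr e.toEquiv]
      omega
  | pr p r q b =>
    exfalso
    simp only [valid, Bool.and_eq_true, beq_iff_eq, bne_iff_ne, ne_eq] at hv
    obtain ⟨⟨⟨⟨⟨⟨⟨⟨hp, hq⟩, hr⟩, hpq⟩, hpr⟩, hqr⟩, hn⟩, h60⟩, h168⟩ := hv
    rcases Cfsg.Agent.S0998.result hnc p q r b (isPrimeB_sound hp) (isPrimeB_sound hq) (isPrimeB_sound hr) hpq hpr hqr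
      (h.trans hn) with ⟨F, _, _, hF, ⟨e⟩⟩ | ⟨F, _, _, hF, ⟨e⟩⟩
    · apply h60
      have h1 := card_psl (F := F) (by rw [hF])
      rw [hF] at h1
      rw [← h, Nat.card_congr e.toEquiv]
      omega
    · apply h168
      have h1 := card_psl (F := F) (by rw [hF])
      rw [hF] at h1
      rw [← h, Nat.card_congr e.toEquiv]
      omega

/-- The main theorem. -/
theorem main (hG : ¬ IsMulCommutative G) (h : Nat.card G ≤ 1092) :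
    Nat.card G = 60 ∨ Nat.card G = 168 ∨ Nat.card G = 360 ∨ Nat.card G = 504 ∨ Nat.card G = 660 ∨
      Nat.card G = 1092 := by
  have hpos : 0 < Nat.card G := Nat.card_pos
  obtain ⟨w, hw⟩ := check_sound tbl 1 tbl_check (Nat.card G - 1) (by rw [tbl_length]; omega)
  have h1 : 1 + (Nat.card G - 1) = Nat.card G := by omega
  rw [h1] at hw
  have h2 := of_cert hG hw rfl
  simpa [okB, or_assoc] using h2

end Groups

end Cfsg.Agent.Lib.Perm.Order1092
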