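import Mathlib
import Cfsg.Agent.Lib.Perm.Basic

/-!
# Schur rings without characters

`K` is a group with a regular embedding `ι : K →* G` at a base point `o`, so that points of `Ω` are
named `ι x • o`.  Functions on `K` constant on orbits of the stabilizer of `o` (`HFun`) are closed
under convolution; for commutative `K` and coefficients in `ZMod p` they are also closed under the
Frobenius map.  From this we derive: if `K` is abelian and the solutions of `x ^ p = 1` form a
proper subgroup of prime order `p`, a primitive overgroup is doubly transitive.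
-/

namespace Cfsg.Agent.Lib.Perm.SchurRing

open MulAction

section General

variable {G Ω K : Type*} [Group G] [MulAction G Ω] [Group K]

/-- Functions on `K` constant on the orbits of the stabilizer of the base point. -/
def HFun {α : Type*} (ι : K →* G) (o : Ω) (f : K → α) : Prop :=
  ∀ h : G, h • o = o → ∀ x y : K, h • (ι x • o) = ι y • o → f x = f y

/-- Orbital form of `HFun`. -/
theorem HFun.orbital {α : Type*} {ι : K →* G} {o : Ω} {f : K → α} (hf : HFun ι o f) {g : G}
    {x x' y y' : K} (h1 : g • (ι x • o) = ι x' • o) (h2 : g • (ι y • o) = ι y' • o) :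
    f (x⁻¹ * y) = f (x'⁻¹ * y') := by
  refine hf ((ι x')⁻¹ * g * ι x) ?_ _ _ ?_
  · rw [mul_smul, mul_smul, h1, inv_smul_smul]
  · rw [mul_smul, mul_smul, smul_smul (ι x), ← map_mul, mul_inv_cancel_left, h2, smul_smul,
      ← map_inv, ← map_mul]

/-- A `G`-invariant equivalence relation on a primitive set is trivial or total. -/
theorem rel_trivial_or_total [IsPreprimitive G Ω] (r : Ω → Ω → Prop) (hr : Equivalence r)
    (hinv : ∀ (g : G) (u v : Ω), r u v → r (g • u) (g • v)) :
    (∀ u v, r u v → u = v) ∨ ∀ u v, r u v := by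
  by_cases hne : Nonempty Ω
  swap
  · left
    intro u
    exact (hne ⟨u⟩).elim
  obtain ⟨o⟩ := hne
  let B : Set Ω := {u | r o u}
  have hB : IsBlock G B := by
    rw [isBlock_iff_smul_eq_or_disjoint]
    intro g
    by_cases hg : r o (g • o)
    · left
      ext u
      constructor
      · rintro ⟨w, hw, rfl⟩
        exact hr.trans hg (hinv g _ _ hw)
      · intro hu
        refine ⟨g⁻¹ • u, ?_, smul_inv_smul g u⟩
        have := hinv g⁻¹ _ _ (hr.trans (hr.symm hg) hu)
        simpa [B] using this
    · right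
      rw [Set.disjoint_left]
      rintro _ ⟨w, hw, rfl⟩ h2
      apply hg
      exact hr.trans h2 (hr.symm (hinv g _ _ hw))
  have hoB : o ∈ B := hr.refl o
  rcases IsPreprimitive.isTrivialBlock_of_isBlock hB with h | h
  · left
    intro u v huv
    obtain ⟨g, rfl⟩ := exists_smul_eq G o u
    have h1 : r o (g⁻¹ • v) := by
      have := hinv g⁻¹ _ _ huv
      simpa using this
    have := h hoB h1
    rw [this, smul_inv_smul]
  · right
    intro u v
    obtain ⟨g, rfl⟩ := exists_smul_eq G o u
    have h1 : r o (g⁻¹ • v) := by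
      change (g⁻¹ • v) ∈ B
      rw [h]
      trivial
    have := hinv g _ _ h1
    simpa using this

/-- Relations on `K` invariant under `G`. -/
theorem relK_trivial_or_total [IsPreprimitive G Ω] {ι : K →* G} {o : Ω}
    (hbij : Function.Bijective fun x : K => ι x • o) (R : K → K → Prop) (hR : Equivalence R)
    (hinv : ∀ (g : G) (x x' y y' : K), g • (ι x • o) = ι x' • o → g • (ι y • o) = ι y' • o →
      R x y → R x' y') :
    (∀ x y, R x y → x = y) ∨ ∀ x y, R x y := by
  let e : K ≃ Ω := Equiv.ofBijective _ hbij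
  have he : ∀ x, e x = ι x • o := fun _ => rfl
  have := rel_trivial_or_total (G := G) (fun u v => R (e.symm u) (e.symm v))
    ⟨fun _ => hR.refl _, fun h => hR.symm h, fun h1 h2 => hR.trans h1 h2⟩ ?_
  · rcases this with h | h
    · left
      intro x y hxy
      have := h (e x) (e y) (by simpa using hxy)
      exact e.injective this
    · right
      intro x y
      have := h (e x) (e y)
      simpa using this
  · intro g u v huv
    refine hinv g _ _ _ _ ?_ ?_ huv
    · have h1 : ι (e.symm u) • o = u := by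
        rw [← he]; simp
      have h2 : ι (e.symm (g • u)) • o = g • u := by
        rw [← he]; simp
      rw [h1, h2]
    · have h1 : ι (e.symm v) • o = v := by
        rw [← he]; simp
      have h2 : ι (e.symm (g • v)) • o = g • v := by
        rw [← he]; simp
      rw [h1, h2]

/-- The generated subgroup of an `H`-invariant set gives a `G`-invariant relation. -/
theorem closure_step {ι : K →* G} {o : Ω}
    (hbij : Function.Bijective fun x : K => ι x • o) {T : Set K}
    (hT : HFun ι o (fun x => x ∈ T)) (g : G) {u : K} (hu : u ∈ Subgroup.closure T) :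
    ∀ x x' y' : K, g • (ι x • o) = ι x' • o → g • (ι (x * u) • o) = ι y' • o →
      x'⁻¹ * y' ∈ Subgroup.closure T := by
  induction hu using Subgroup.closure_induction with
  | mem u hu =>
    intro x x' y' h1 h2
    have := hT.orbital h1 h2
    simp only [inv_mul_cancel_left] at this
    rw [eq_iff_iff] at this
    exact Subgroup.subset_closure (this.mp hu)
  | one =>
    intro x x' y' h1 h2
    rw [mul_one, h1] at h2
    have := hbij.1 h2
    rw [this, inv_mul_cancel]
    exact one_mem _
  | mul u v _ _ ihu ihv =>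
    intro x x' y' h1 h2
    obtain ⟨z, hz⟩ := hbij.2 (g • (ι (x * u) • o))
    simp only at hz
    have h3 := ihu x x' z h1 hz.symm
    have h4 := ihv (x * u) z y' hz.symm (by rw [mul_assoc]; exact h2)
    have : x'⁻¹ * y' = (x'⁻¹ * z) * (z⁻¹ * y') := by group
    rw [this]
    exact mul_mem h3 h4
  | inv u _ ihu =>
    intro x x' y' h1 h2
    have h3 := ihu (x * u⁻¹) y' x' h2 (by rw [inv_mul_cancel_right]; exact h1)
    have := inv_mem h3
    simpa using this

/-- Primitive group: the subgroup generated by an `H`-invariant set is trivial or everything. -/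
theorem closure_eq_bot_or_top [IsPreprimitive G Ω] {ι : K →* G} {o : Ω}
    (hbij : Function.Bijective fun x : K => ι x • o) {T : Set K}
    (hT : HFun ι o (fun x => x ∈ T)) :
    Subgroup.closure T = ⊥ ∨ Subgroup.closure T = ⊤ := by
  have := relK_trivial_or_total hbij (fun x y => x⁻¹ * y ∈ Subgroup.closure T)
    ⟨fun x => by simp [one_mem], fun {x y} h => by simpa using inv_mem h,
      fun {x y z} h1 h2 => by
        have := mul_mem h1 h2
        have e : x⁻¹ * y * (y⁻¹ * z) = x⁻¹ * z := by group
        rwa [e] at this⟩ ?_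
  · rcases this with h | h
    · left
      rw [eq_bot_iff]
      intro u hu
      rw [Subgroup.mem_bot]
      have := h 1 u (by simpa using hu)
      exact this.symm
    · right
      rw [eq_top_iff]
      intro u _
      simpa using h 1 u
  · intro g x x' y y' h1 h2 hxy
    have hu := closure_step hbij hT g hxy x x' y' h1 (by rw [mul_inv_cancel_left]; exact h2)
    exact hu

/-- Primitive group: a nonempty proper `H`-invariant set has trivial translation stabilizer. -/
theorem eq_empty_or_univ_of_stable [IsPreprimitive G Ω] {ι : K →* G} {o : Ω}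
    (hbij : Function.Bijective fun x : K => ι x • o) {T : Set K}
    (hT : HFun ι o (fun x => x ∈ T)) {s : K} (hs : s ≠ 1) (hst : ∀ x, x ∈ T ↔ s * x ∈ T) :
    T = ∅ ∨ T = Set.univ := by
  have := relK_trivial_or_total hbij (fun u v => ∀ z, u⁻¹ * z ∈ T ↔ v⁻¹ * z ∈ T)
    ⟨fun _ _ => Iff.rfl, fun h z => (h z).symm, fun h1 h2 z => (h1 z).trans (h2 z)⟩ ?_
  · rcases this with h | h
    · exfalso
      have h0 := h 1 s⁻¹ (fun z => by
        simp only [inv_one, one_mul, inv_inv]
        exact hst z)
      apply hs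
      simpa using h0.symm
    · by_cases hne : T = ∅
      · exact Or.inl hne
      · right
        obtain ⟨t, ht⟩ := Set.nonempty_iff_ne_empty.mpr hne
        ext z
        simp only [Set.mem_univ, iff_true]
        have := h 1 (t * z⁻¹) t
        simp only [inv_one, one_mul, mul_inv_rev, inv_inv] at this
        rw [this] at ht
        have e : z * t⁻¹ * t = z := by group
        rwa [e] at ht
  · intro g x x' y y' h1 h2 hxy z'
    obtain ⟨z, hz⟩ := hbij.2 (g⁻¹ • (ι z' • o))
    simp only at hz
    have hz' : g • (ι z • o) = ι z' • o := by rw [hz, smul_inv_smul]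
    have e1 := hT.orbital h1 hz'
    have e2 := hT.orbital h2 hz'
    rw [eq_iff_iff] at e1 e2
    rw [← e1, ← e2]
    exact hxy z

/-- The permutation of `K` induced by `h`. -/
noncomputable def permOf {ι : K →* G} {o : Ω} (hbij : Function.Bijective fun x : K => ι x • o)
    (h : G) : Equiv.Perm K :=
  let e : K ≃ Ω := Equiv.ofBijective _ hbij
  e.trans ((MulAction.toPerm h).trans e.symm)

theorem permOf_spec {ι : K →* G} {o : Ω} (hbij : Function.Bijective fun x : K => ι x • o)
    (h : G) (x : K) : h • (ι x • o) = ι (permOf hbij h x) • o := by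
  have : (Equiv.ofBijective _ hbij) (permOf hbij h x) = h • (ι x • o) := by
    simp [permOf]
  exact this.symm

/-- The convolution count is constant on `H`-orbits, already in `ℕ`. -/
theorem card_conv_eq [Fintype K] [DecidableEq K] {ι : K →* G} {o : Ω}
    (hbij : Function.Bijective fun x : K => ι x • o) {T₁ T₂ : Set K}
    [DecidablePred (· ∈ T₁)] [DecidablePred (· ∈ T₂)]
    (h₁ : HFun ι o (fun x => x ∈ T₁)) (h₂ : HFun ι o (fun x => x ∈ T₂)) {h : G} (hh : h • o = o)
    {x y : K} (hxy : h • (ι x • o) = ι y • o) :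
    (Finset.univ.filter fun a => a ∈ T₁ ∧ a⁻¹ * x ∈ T₂).card =
      (Finset.univ.filter fun a => a ∈ T₁ ∧ a⁻¹ * y ∈ T₂).card := by
  refine Finset.card_equiv (permOf hbij h) ?_
  intro a
  have e1 : (a ∈ T₁) = (permOf hbij h a ∈ T₁) := h₁ h hh a _ (permOf_spec hbij h a)
  have e2 : (a⁻¹ * x ∈ T₂) = ((permOf hbij h a)⁻¹ * y ∈ T₂) :=
    h₂.orbital (permOf_spec hbij h a) hxy
  simp only [Finset.mem_filter, Finset.mem_univ, true_and]
  rw [e1, e2]

section Alg

open MonoidAlgebra

variable {R : Type*} [CommSemiring R]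

/-- The elements of the group algebra constant on `H`-orbits. -/
def HF (ι : K →* G) (o : Ω) (A : MonoidAlgebra R K) : Prop := HFun ι o fun x => A.coeff x

theorem HF.mul [Fintype K] {ι : K →* G} {o : Ω} (hbij : Function.Bijective fun x : K => ι x • o)
    {A B : MonoidAlgebra R K} (hA : HF ι o A) (hB : HF ι o B) : HF ι o (A * B) := by
  intro h hh x y hxy
  simp only
  rw [MonoidAlgebra.coeff_mul_apply_left, MonoidAlgebra.coeff_mul_apply_left,
    Finsupp.sum_fintype _ _ (fun _ => zero_mul _), Finsupp.sum_fintype _ _ (fun _ => zero_mul _)]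
  refine Fintype.sum_equiv (permOf hbij h) _ _ ?_
  intro a
  have e1 := hA h hh a _ (permOf_spec hbij h a)
  have e2 := hB.orbital (permOf_spec hbij h a) hxy
  simp only at e1 e2
  rw [e1, e2]

theorem HF.one {ι : K →* G} {o : Ω} (hbij : Function.Bijective fun x : K => ι x • o) :
    HF ι o (1 : MonoidAlgebra R K) := by
  classical
  intro h hh x y hxy
  simp only [MonoidAlgebra.one_def, MonoidAlgebra.coeff_single, Finsupp.single_apply]
  have : (1 : K) = x ↔ 1 = y := by
    constructor
    · rintro rfl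
      rw [map_one, one_smul, hh] at hxy
      have : ι y • o = ι 1 • o := by rw [← hxy, map_one, one_smul]
      exact (hbij.1 this).symm
    · rintro rfl
      rw [map_one, one_smul] at hxy
      have h2 : ι x • o = ι 1 • o := by
        have : h • (ι x • o) = h • (ι 1 • o) := by rw [hxy, map_one, one_smul, hh]
        exact smul_left_cancel h this
      exact (hbij.1 h2).symm
  simp only [this]

theorem HF.pow [Fintype K] {ι : K →* G} {o : Ω} (hbij : Function.Bijective fun x : K => ι x • o)
    {A : MonoidAlgebra R K} (hA : HF ι o A) (n : ℕ) : HF ι o (A ^ n) := by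
  induction n with
  | zero => simpa using HF.one hbij
  | succ n ih =>
    rw [pow_succ]
    exact HF.mul hbij ih hA

end Alg

end General

section Comm

variable {G Ω K : Type*} [Group G] [MulAction G Ω] [CommGroup K]

/-- Frobenius: the number (mod `p`) of elements of `T` with given `p`-th power is an `H`-function. -/
theorem frob_hfun [Fintype K] [DecidableEq K] {ι : K →* G} {o : Ω}
    (hbij : Function.Bijective fun x : K => ι x • o) {p : ℕ} [Fact p.Prime] {T : Set K}
    [DecidablePred (· ∈ T)] (hT : HFun ι o (fun x => x ∈ T)) :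
    HFun ι o fun x => (((Finset.univ.filter fun t => t ∈ T ∧ t ^ p = x).card : ℕ) : ZMod p) := by
  let A : MonoidAlgebra (ZMod p) K := ∑ t ∈ Finset.univ.filter (· ∈ T), MonoidAlgebra.single t 1
  have hAc : ∀ x, A.coeff x = if x ∈ T then 1 else 0 := by
    intro x
    simp only [A, MonoidAlgebra.coeff_sum, Finsupp.coe_finsetSum, Finset.sum_apply,
      MonoidAlgebra.coeff_single, Finsupp.single_apply]
    simp [Finset.sum_ite_eq']
  have hA : HF ι o A := by
    intro h hh x y hxy
    simp only [hAc]
    have := hT h hh x y hxy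
    rw [eq_iff_iff] at this
    simp only [this]
  have : CharP (MonoidAlgebra (ZMod p) K) p :=
    charP_of_injective_ringHom (f := MonoidAlgebra.singleOneRingHom)
      (fun a b hab => by
        have := congrArg (fun z => MonoidAlgebra.coeff z 1) hab
        simpa [MonoidAlgebra.singleOneRingHom] using this) p
  have hP : A ^ p = ∑ t ∈ Finset.univ.filter (· ∈ T), MonoidAlgebra.single (t ^ p) 1 := by
    simp only [A]
    rw [sum_pow_char]
    simp [MonoidAlgebra.single_pow]
  have hPc : ∀ x, (A ^ p).coeff x =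
      (((Finset.univ.filter fun t => t ∈ T ∧ t ^ p = x).card : ℕ) : ZMod p) := by
    intro x
    rw [hP]
    simp only [MonoidAlgebra.coeff_sum, Finsupp.coe_finsetSum, Finset.sum_apply,
      MonoidAlgebra.coeff_single, Finsupp.single_apply]
    rw [Finset.sum_ite, Finset.sum_const_zero, add_zero, Finset.sum_const, nsmul_eq_mul, mul_one,
      Finset.filter_filter]
  intro h hh x y hxy
  have := HF.pow hbij hA p h hh x y hxy
  simp only at this
  simp only
  rw [← hPc, ← hPc, this]

/-- A subset of `K` invariant under multiplication by a subgroup of order `p` has size divisible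
by `p`. -/
theorem dvd_card_of_invariant [Fintype K] {p : ℕ} [Fact p.Prime] {E : Subgroup K}
    (hEp : Nat.card E = p) (S : Finset K) (hS : ∀ a ∈ S, ∀ e ∈ E, e * a ∈ S) : p ∣ S.card := by
  classical
  by_contra hnd
  let S' : SubMulAction E K :=
    { carrier := (S : Set K)
      smul_mem' := fun e a ha => hS a ha e e.2 }
  have hPG : IsPGroup p E := IsPGroup.of_card (n := 1) (by simpa using hEp)
  have hcard : Nat.card S' = S.card := by
    change Nat.card (S : Set K) = _
    simp
  obtain ⟨a, ha⟩ := hPG.nonempty_fixed_point_of_prime_not_dvd_card (α := S') (by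
    rw [hcard]; exact hnd)
  have hall : ∀ e : E, e = 1 := by
    intro e
    have h1 : e • a = a := ha e
    have h2 : (e : K) * (a : K) = a := congrArg Subtype.val h1
    have : (e : K) = 1 := mul_right_cancel (b := (a : K)) (by rw [one_mul]; exact h2)
    exact Subtype.ext this
  have : Subsingleton E := ⟨fun a b => by rw [hall a, hall b]⟩
  have : Nat.card E = 1 := Nat.card_unique
  rw [hEp] at this
  exact (Fact.out : p.Prime).one_lt.ne' this

/-- The `E`-invariance of `H`-invariant sets outside `E`. -/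
theorem mul_mem_of_not_mem [Fintype K] [DecidableEq K] [IsPreprimitive G Ω] {ι : K →* G} {o : Ω}
    (hbij : Function.Bijective fun x : K => ι x • o) {p : ℕ} [Fact p.Prime] {E : Subgroup K}
    (hEp : Nat.card E = p) (hE : ∀ x : K, x ^ p = 1 ↔ x ∈ E) {T : Set K}
    (hT : HFun ι o (fun x => x ∈ T)) {y e : K} (hy : y ∉ E) (hyT : y ∈ T) (he : e ∈ E) :
    e * y ∈ T := by
  classical
  have hpp : p.Prime := Fact.out
  let W : Set K := {x | (((Finset.univ.filter fun t => t ∈ T ∧ t ^ p = x).card : ℕ) : ZMod p) ≠ 0}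
  have hW : HFun ι o (fun x => x ∈ W) := by
    intro h hh a b hab
    have e : (((Finset.univ.filter fun t => t ∈ T ∧ t ^ p = a).card : ℕ) : ZMod p) =
        (((Finset.univ.filter fun t => t ∈ T ∧ t ^ p = b).card : ℕ) : ZMod p) :=
      frob_hfun hbij hT h hh a b hab
    simp only [W, Set.mem_ofPred_eq]
    rw [e]
  have hWP : Subgroup.closure W ≤ (powMonoidHom p : K →* K).range := by
    rw [Subgroup.closure_le]
    intro x hx
    have hne : (Finset.univ.filter fun t => t ∈ T ∧ t ^ p = x) ≠ ∅ := by
      intro h0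
      apply hx
      rw [h0]
      simp
    obtain ⟨t, ht⟩ := Finset.nonempty_iff_ne_empty.mpr hne
    rw [Finset.mem_filter] at ht
    exact ⟨t, ht.2.2⟩
  have hnt : (powMonoidHom p : K →* K).range ≠ ⊤ := by
    intro htop
    have hsurj : Function.Surjective (powMonoidHom p : K →* K) := MonoidHom.range_eq_top.mp htop
    have hinj := Finite.injective_iff_surjective.mpr hsurj
    have hbot : E ≠ ⊥ := by
      intro h0
      rw [h0] at hEp
      have : Nat.card (⊥ : Subgroup K) = 1 := Subgroup.card_bot
      rw [this] at hEp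
      exact hpp.one_lt.ne hEp
    obtain ⟨e₀, he₀, hne₀⟩ := (Subgroup.ne_bot_iff_exists_ne_one.mp hbot) |>.elim fun x hx =>
      (⟨x, x.2, fun h => hx (Subtype.ext h)⟩ : ∃ e₀ : K, e₀ ∈ E ∧ e₀ ≠ 1)
    apply hne₀
    apply hinj
    simp [(hE e₀).mpr he₀]
  have hWb : Subgroup.closure W = ⊥ := by
    rcases closure_eq_bot_or_top hbij hW with h | h
    · exact h
    · exact absurd (top_le_iff.mp (h ▸ hWP)) hnt
  have hyp : y ^ p ≠ 1 := fun h => hy ((hE y).mp h)
  have hnW : y ^ p ∉ W := by
    intro h
    have : y ^ p ∈ Subgroup.closure W := Subgroup.subset_closure h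
    rw [hWb, Subgroup.mem_bot] at this
    exact hyp this
  have hC : (((Finset.univ.filter fun t => t ∈ T ∧ t ^ p = y ^ p).card : ℕ) : ZMod p) = 0 := by
    by_contra h
    exact hnW h
  rw [ZMod.natCast_eq_zero_iff] at hC
  -- the full fibre
  let D : Finset K := Finset.univ.filter fun t => t ^ p = y ^ p
  let C : Finset K := Finset.univ.filter fun t => t ∈ T ∧ t ^ p = y ^ p
  have hCD : C ⊆ D := by
    intro t ht
    simp only [C, Finset.mem_filter, Finset.mem_univ, true_and] at ht
    simp only [D, Finset.mem_filter, Finset.mem_univ, true_and]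
    exact ht.2
  have hD : D.card ≤ p := by
    have h1 : D ⊆ (Finset.univ.filter (· ∈ E)).image (fun e => e * y) := by
      intro t ht
      simp only [D, Finset.mem_filter, Finset.mem_univ, true_and] at ht
      simp only [Finset.mem_image, Finset.mem_filter, Finset.mem_univ, true_and]
      refine ⟨t * y⁻¹, ?_, by group⟩
      rw [← hE, mul_pow, ht, inv_pow, mul_inv_cancel]
    have h2 : (Finset.univ.filter (· ∈ E)).card = p := by
      rw [← hEp, Nat.card_eq_fintype_card, Fintype.card_subtype]
    calc D.card ≤ _ := Finset.card_le_card h1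
      _ ≤ _ := Finset.card_image_le
      _ = p := h2
  have hCpos : 0 < C.card := Finset.card_pos.mpr ⟨y, by
    simpa [C] using hyT⟩
  have hCge : p ≤ C.card := Nat.le_of_dvd hCpos hC
  have hCeq : C = D := Finset.eq_of_subset_of_card_le hCD (hD.trans hCge)
  have hey : e * y ∈ D := by
    simp only [D, Finset.mem_filter, Finset.mem_univ, true_and]
    rw [mul_pow, (hE e).mpr he, one_mul]
  rw [← hCeq] at hey
  simp only [C, Finset.mem_filter, Finset.mem_univ, true_and] at hey
  exact hey.1

/-- Step A: a nonempty `H`-invariant set avoiding `1` meets `E`. -/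
theorem exists_mem_inter [Fintype K] [DecidableEq K] [IsPreprimitive G Ω] {ι : K →* G} {o : Ω}
    (hbij : Function.Bijective fun x : K => ι x • o) {p : ℕ} [Fact p.Prime] {E : Subgroup K}
    (hEp : Nat.card E = p) (hE : ∀ x : K, x ^ p = 1 ↔ x ∈ E) {T : Set K}
    (hT : HFun ι o (fun x => x ∈ T)) (hne : T.Nonempty) (h1 : (1 : K) ∉ T) : ∃ a ∈ T, a ∈ E := by
  by_contra hcon
  push Not at hcon
  have hpp : p.Prime := Fact.out
  have hbot : E ≠ ⊥ := by
    intro h0
    rw [h0] at hEp
    have : Nat.card (⊥ : Subgroup K) = 1 := Subgroup.card_bot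
    rw [this] at hEp
    exact hpp.one_lt.ne hEp
  obtain ⟨e₀, he₀⟩ := Subgroup.ne_bot_iff_exists_ne_one.mp hbot
  have he₀' : (e₀ : K) ≠ 1 := fun h => he₀ (Subtype.ext h)
  have := eq_empty_or_univ_of_stable hbij hT he₀' (fun x => by
    constructor
    · intro hx
      exact mul_mem_of_not_mem hbij hEp hE hT (hcon x hx) hx e₀.2
    · intro hx
      have := mul_mem_of_not_mem hbij hEp hE hT (hcon _ hx) hx (inv_mem e₀.2)
      simpa using this)
  rcases this with h | h
  · rw [h] at hne
    exact Set.not_nonempty_empty hne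
  · rw [h] at h1
    exact h1 trivial

/-- Step A: an `H`-invariant nonempty set avoiding `1` is not contained in `E`. -/
theorem exists_mem_diff [IsPreprimitive G Ω] {ι : K →* G} {o : Ω}
    (hbij : Function.Bijective fun x : K => ι x • o) {E : Subgroup K} (hne' : E ≠ ⊤) {T : Set K}
    (hT : HFun ι o (fun x => x ∈ T)) (hne : T.Nonempty) (h1 : (1 : K) ∉ T) : ∃ a ∈ T, a ∉ E := by
  by_contra hcon
  push Not at hcon
  rcases closure_eq_bot_or_top hbij hT with h | h
  · obtain ⟨t, ht⟩ := hne
    have : t ∈ Subgroup.closure T := Subgroup.subset_closure ht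
    rw [h, Subgroup.mem_bot] at this
    exact h1 (this ▸ ht)
  · apply hne'
    rw [eq_top_iff, ← h, Subgroup.closure_le]
    exact hcon

/-- Step B: two disjoint nontrivial `H`-invariant sets, the second one an orbit, do not exist. -/
theorem step_B [Fintype K] [DecidableEq K] [IsPreprimitive G Ω] {ι : K →* G} {o : Ω}
    (hbij : Function.Bijective fun x : K => ι x • o) {p : ℕ} [Fact p.Prime] {E : Subgroup K}
    (hEp : Nat.card E = p) (hE : ∀ x : K, x ^ p = 1 ↔ x ∈ E) (hne' : E ≠ ⊤) {T₁ T₂ : Set K}
    (hT₁ : HFun ι o (fun x => x ∈ T₁)) (hT₂ : HFun ι o (fun x => x ∈ T₂))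
    (hne₁ : T₁.Nonempty) (hne₂ : T₂.Nonempty) (h1₁ : (1 : K) ∉ T₁) (h1₂ : (1 : K) ∉ T₂)
    (hdisj : ∀ a, a ∈ T₁ → a ∉ T₂)
    (horb : ∀ x z, x ∈ T₂ → z ∈ T₂ → ∃ h : G, h • o = o ∧ h • (ι x • o) = ι z • o) : False := by
  classical
  have hpp : p.Prime := Fact.out
  obtain ⟨a₀, ha₀, ha₀E⟩ := exists_mem_inter hbij hEp hE hT₁ hne₁ h1₁
  obtain ⟨z, hz, hzE⟩ := exists_mem_diff hbij hne' hT₂ hne₂ h1₂
  have key : ∀ x, x ∈ T₂ → x ∈ E → ∀ a, a ∈ T₁ → a ∈ E → a⁻¹ * x ∈ T₂ := by
    intro x hx hxE
    obtain ⟨h, hh, hxz⟩ := horb x z hx hz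
    have hN := card_conv_eq hbij hT₁ hT₂ hh hxz
    let A : Finset K := Finset.univ.filter fun a => a ∈ T₁ ∧ a ∈ E
    have hAlt : A.card < p := by
      have hsub : A ⊂ Finset.univ.filter (· ∈ E) := by
        refine Finset.ssubset_iff_of_subset ?_ |>.mpr ⟨1, ?_, ?_⟩
        · intro a ha
          simp only [A, Finset.mem_filter, Finset.mem_univ, true_and] at ha
          simp only [Finset.mem_filter, Finset.mem_univ, true_and]
          exact ha.2
        · simp [one_mem]
        · simp only [A, Finset.mem_filter, Finset.mem_univ, true_and]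
          exact fun h => h1₁ h.1
      have h2 : (Finset.univ.filter (· ∈ E)).card = p := by
        rw [← hEp, Nat.card_eq_fintype_card, Fintype.card_subtype]
      rw [← h2]
      exact Finset.card_lt_card hsub
    -- split the two counts
    have split : ∀ v : K, (Finset.univ.filter fun a => a ∈ T₁ ∧ a⁻¹ * v ∈ T₂).card =
        (Finset.univ.filter fun a => (a ∈ T₁ ∧ a⁻¹ * v ∈ T₂) ∧ a ∈ E).card +
        (Finset.univ.filter fun a => (a ∈ T₁ ∧ a⁻¹ * v ∈ T₂) ∧ a ∉ E).card := by
      intro v
      have := Finset.card_filter_add_card_filter_not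
        (s := Finset.univ.filter fun a => a ∈ T₁ ∧ a⁻¹ * v ∈ T₂) (· ∈ E)
      rw [Finset.filter_filter, Finset.filter_filter] at this
      exact this.symm
    -- counts outside `E` are divisible by `p`
    have hdx : p ∣ (Finset.univ.filter fun a => (a ∈ T₁ ∧ a⁻¹ * x ∈ T₂) ∧ a ∉ E).card := by
      refine dvd_card_of_invariant hEp _ ?_
      intro a ha e he
      simp only [Finset.mem_filter, Finset.mem_univ, true_and] at ha ⊢
      obtain ⟨⟨ha1, ha2⟩, ha3⟩ := ha
      have hnE : a⁻¹ * x ∉ E := by
        intro hmem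
        apply ha3
        have := mul_mem hxE (inv_mem hmem)
        have e1 : x * (a⁻¹ * x)⁻¹ = a := by group
        rwa [e1] at this
      refine ⟨⟨mul_mem_of_not_mem hbij hEp hE hT₁ ha3 ha1 he, ?_⟩, ?_⟩
      · have := mul_mem_of_not_mem hbij hEp hE hT₂ hnE ha2 (inv_mem he)
        have e1 : (e * a)⁻¹ * x = e⁻¹ * (a⁻¹ * x) := by
          rw [mul_inv, mul_assoc]
        rwa [e1]
      · intro hmem
        apply ha3
        have := mul_mem (inv_mem he) hmem
        simpa using this
    have hdz : p ∣ (Finset.univ.filter fun a => (a ∈ T₁ ∧ a⁻¹ * z ∈ T₂) ∧ a ∉ E).card := by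
      refine dvd_card_of_invariant hEp _ ?_
      intro a ha e he
      simp only [Finset.mem_filter, Finset.mem_univ, true_and] at ha ⊢
      obtain ⟨⟨ha1, ha2⟩, ha3⟩ := ha
      have hnE : a⁻¹ * z ∉ E := by
        intro hmem
        have h3 : (a⁻¹ * z)⁻¹ * z ∈ T₂ :=
          mul_mem_of_not_mem hbij hEp hE hT₂ hzE hz (inv_mem hmem)
        have e1 : (a⁻¹ * z)⁻¹ * z = a := by
          rw [mul_inv_rev, inv_inv, mul_comm z⁻¹ a, inv_mul_cancel_right]
        rw [e1] at h3
        exact hdisj a ha1 h3
      refine ⟨⟨mul_mem_of_not_mem hbij hEp hE hT₁ ha3 ha1 he, ?_⟩, ?_⟩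
      · have := mul_mem_of_not_mem hbij hEp hE hT₂ hnE ha2 (inv_mem he)
        have e1 : (e * a)⁻¹ * z = e⁻¹ * (a⁻¹ * z) := by
          rw [mul_inv, mul_assoc]
        rwa [e1]
      · intro hmem
        apply ha3
        have := mul_mem (inv_mem he) hmem
        simpa using this
    -- the parts inside `E`
    have hzA : (Finset.univ.filter fun a => (a ∈ T₁ ∧ a⁻¹ * z ∈ T₂) ∧ a ∈ E) = A := by
      ext a
      simp only [A, Finset.mem_filter, Finset.mem_univ, true_and]
      constructor
      · rintro ⟨⟨h1, _⟩, h3⟩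
        exact ⟨h1, h3⟩
      · rintro ⟨h1, h3⟩
        exact ⟨⟨h1, mul_mem_of_not_mem hbij hEp hE hT₂ hzE hz (inv_mem h3)⟩, h3⟩
    have hxA : (Finset.univ.filter fun a => (a ∈ T₁ ∧ a⁻¹ * x ∈ T₂) ∧ a ∈ E) ⊆ A := by
      intro a ha
      simp only [A, Finset.mem_filter, Finset.mem_univ, true_and] at ha ⊢
      exact ⟨ha.1.1, ha.2⟩
    rw [split x, split z, hzA] at hN
    set S := (Finset.univ.filter fun a => (a ∈ T₁ ∧ a⁻¹ * x ∈ T₂) ∧ a ∈ E) with hS
    have hSle : S.card ≤ A.card := Finset.card_le_card hxA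
    have hmod : S.card ≡ A.card [MOD p] := by
      have h1 : S.card + (Finset.univ.filter fun a => (a ∈ T₁ ∧ a⁻¹ * x ∈ T₂) ∧ a ∉ E).card
          ≡ S.card [MOD p] := by
        simpa using (Nat.ModEq.refl S.card).add ((Nat.modEq_zero_iff_dvd).mpr hdx)
      have h2 : A.card + (Finset.univ.filter fun a => (a ∈ T₁ ∧ a⁻¹ * z ∈ T₂) ∧ a ∉ E).card
          ≡ A.card [MOD p] := by
        simpa using (Nat.ModEq.refl A.card).add ((Nat.modEq_zero_iff_dvd).mpr hdz)
      rw [hN] at h1
      exact h1.symm.trans h2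
    have hcard : S.card = A.card :=
      Nat.ModEq.eq_of_lt_of_lt hmod (lt_of_le_of_lt hSle hAlt) hAlt
    have hSA : S = A := Finset.eq_of_subset_of_card_le hxA hcard.ge
    intro a ha haE
    have : a ∈ A := by
      simp only [A, Finset.mem_filter, Finset.mem_univ, true_and]
      exact ⟨ha, haE⟩
    rw [← hSA, hS] at this
    simp only [Finset.mem_filter, Finset.mem_univ, true_and] at this
    exact this.1.2
  -- iterate
  obtain ⟨x, hx, hxE⟩ := exists_mem_inter hbij hEp hE hT₂ hne₂ h1₂
  have hit : ∀ n : ℕ, a₀⁻¹ ^ n * x ∈ T₂ ∧ a₀⁻¹ ^ n * x ∈ E := by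
    intro n
    induction n with
    | zero => simpa using ⟨hx, hxE⟩
    | succ n ih =>
      have := key _ ih.1 ih.2 a₀ ha₀ ha₀E
      rw [pow_succ']
      rw [mul_assoc]
      refine ⟨this, mul_mem (inv_mem ha₀E) ih.2⟩
  have ha₀1 : a₀ ≠ 1 := fun h => h1₁ (h ▸ ha₀)
  have hord : orderOf a₀ = p := orderOf_eq_prime ((hE a₀).mpr ha₀E) ha₀1
  have hz : Subgroup.zpowers a₀ = E := by
    refine Subgroup.eq_of_le_of_card_ge ?_ ?_
    · rw [Subgroup.zpowers_le]
      exact ha₀E
    · rw [Nat.card_zpowers, hord, hEp]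
  rw [← hz, ← mem_powers_iff_mem_zpowers, Submonoid.mem_powers_iff] at hxE
  obtain ⟨n, rfl⟩ := hxE
  have := (hit n).1
  rw [inv_pow, inv_mul_cancel] at this
  exact h1₂ this

/-- **Schur--Wielandt, mod `p`.**  Let `K` be abelian, regular in `G`, and suppose that the
solutions of `x ^ p = 1` form a proper subgroup `E` of prime order `p`.  If `G` is primitive then
`G` is doubly transitive. -/
theorem isMultiplyPretransitive_two [Finite K] [IsPreprimitive G Ω] {ι : K →* G} {o : Ω}
    (hbij : Function.Bijective fun x : K => ι x • o) {p : ℕ} [Fact p.Prime] {E : Subgroup K}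
    (hEp : Nat.card E = p) (hE : ∀ x : K, x ^ p = 1 ↔ x ∈ E) (hne' : E ≠ ⊤) :
    IsMultiplyPretransitive G Ω 2 := by
  classical
  let _ := Fintype.ofFinite K
  refine Basic.isTwoPretransitive_of_stabilizer o ?_
  intro b c hb hc
  by_contra hno
  push Not at hno
  let T : Ω → Set K := fun w => {x | ∃ h : G, h • o = o ∧ h • w = ι x • o}
  have hTf : ∀ w, HFun ι o (fun x => x ∈ T w) := by
    intro w h hh x y hxy
    rw [eq_iff_iff]
    constructor
    · rintro ⟨h', hh', hw⟩
      exact ⟨h * h', by rw [mul_smul, hh', hh], by rw [mul_smul, hw, hxy]⟩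
    · rintro ⟨h', hh', hw⟩
      refine ⟨h⁻¹ * h', by rw [mul_smul, hh', inv_smul_eq_iff, hh], ?_⟩
      rw [mul_smul, hw, inv_smul_eq_iff, hxy]
  have hT1 : ∀ w, w ≠ o → (1 : K) ∉ T w := by
    rintro w hw ⟨h, hh, hw'⟩
    rw [map_one, one_smul] at hw'
    apply hw
    exact smul_left_cancel h (hw'.trans hh.symm)
  have hTne : ∀ w, (T w).Nonempty := by
    intro w
    obtain ⟨x, hx⟩ := hbij.2 w
    exact ⟨x, 1, one_smul _ _, by rw [one_smul]; exact hx.symm⟩
  refine step_B hbij hEp hE hne' (hTf b) (hTf c) (hTne b) (hTne c) (hT1 b hb) (hT1 c hc) ?_ ?_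
  · rintro a ⟨h1, hh1, h1b⟩ ⟨h2, hh2, h2c⟩
    refine hno (h2⁻¹ * h1) ?_ ?_
    · rw [mem_stabilizer_iff, mul_smul, hh1, inv_smul_eq_iff, hh2]
    · rw [mul_smul, h1b, inv_smul_eq_iff, h2c]
  · rintro x z ⟨h1, hh1, h1c⟩ ⟨h2, hh2, h2c⟩
    refine ⟨h2 * h1⁻¹, ?_, ?_⟩
    · rw [mul_smul, inv_smul_eq_iff.mpr hh1.symm, hh2]
    · rw [mul_smul, ← h1c, inv_smul_smul, h2c]

/-- Cyclic regular subgroups: composite order gives double transitivity in a primitive group. -/
theorem isMultiplyPretransitive_two_of_cyclic [Finite K] [IsCyclic K] [IsPreprimitive G Ω]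
    {ι : K →* G} {o : Ω} (hbij : Function.Bijective fun x : K => ι x • o) {p : ℕ} (hp : p.Prime)
    (hd : p ∣ Nat.card K) (hne : Nat.card K ≠ p) : IsMultiplyPretransitive G Ω 2 := by
  have : Fact p.Prime := ⟨hp⟩
  have hcard : Nat.card (powMonoidHom p : K →* K).ker = p := by
    rw [IsCyclic.card_powMonoidHom_ker, Nat.gcd_eq_right hd]
  refine isMultiplyPretransitive_two hbij hcard (fun x => ?_) ?_
  · simp [MonoidHom.mem_ker]
  · intro h
    rw [h, Subgroup.card_top] at hcard
    exact hne hcard

/-- In a cyclic group of order `p ^ m`, every nontrivial subgroup contains all solutions of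
`x ^ p = 1`. -/
theorem mem_of_pow_eq_one_of_ne_bot [Finite K] [IsCyclic K] {p m : ℕ} (hp : p.Prime)
    (hcard : Nat.card K = p ^ m) {U : Subgroup K} (hU : U ≠ ⊥) {x : K} (hx : x ^ p = 1) :
    x ∈ U := by
  have : Fact p.Prime := ⟨hp⟩
  have hdvd : Nat.card U ∣ p ^ m := hcard ▸ Subgroup.card_subgroup_dvd_card U
  obtain ⟨j, -, hj⟩ := (Nat.dvd_prime_pow hp).mp hdvd
  have hj0 : j ≠ 0 := by
    rintro rfl
    rw [pow_zero] at hj
    exact hU ((Subgroup.card_eq_one).mp hj)
  have hpU : p ∣ Nat.card U := by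
    rw [hj]
    exact dvd_pow_self p hj0
  obtain ⟨u, hu⟩ := exists_prime_orderOf_dvd_card' p hpU
  have hu' : orderOf (u : K) = p := by rwa [Subgroup.orderOf_coe]
  have hm0 : p ∣ Nat.card K := hpU.trans (Subgroup.card_subgroup_dvd_card U)
  have hE : Nat.card (powMonoidHom p : K →* K).ker = p := by
    rw [IsCyclic.card_powMonoidHom_ker, Nat.gcd_eq_right hm0]
  have hz : Subgroup.zpowers (u : K) = (powMonoidHom p : K →* K).ker := by
    refine Subgroup.eq_of_le_of_card_ge ?_ ?_
    · rw [Subgroup.zpowers_le, MonoidHom.mem_ker, powMonoidHom_apply, ← hu', pow_orderOf_eq_one]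
    · rw [Nat.card_zpowers, hu', hE]
  have hxz : x ∈ Subgroup.zpowers (u : K) := by
    rw [hz, MonoidHom.mem_ker, powMonoidHom_apply, hx]
  have hle : Subgroup.zpowers (u : K) ≤ U := by
    rw [Subgroup.zpowers_le]
    exact u.2
  exact hle hxz

end Comm

end Cfsg.Agent.Lib.Perm.SchurRing
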