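import Mathlib

/-!
# The Sylvester–Schur theorem

If `2 ≤ k` and `2 * k ≤ n`, then `n.choose k` has a prime divisor greater than `k`.
The proof is Erdős' one: bounds on prime powers dividing a binomial coefficient give the large `k`
case, kernel-checked prime chains give the rest.
-/

set_option autoImplicit false

namespace Cfsg.Agent.Lib.Perm.SylSchur

open Nat Finset

/-! ### Fast primality check -/

theorem blt_false {a b : ℕ} (h : ¬ a < b) : Nat.blt a b = false := by
  rw [← Bool.not_eq_true, Nat.blt_eq]; exact h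

theorem blt_true {a b : ℕ} (h : a < b) : Nat.blt a b = true := by
  rw [Nat.blt_eq]; exact h

/-- Trial division by `d, d + 2, d + 4, ...` -/
noncomputable def tdLoop (f d n : ℕ) : Bool :=
  Nat.rec (motive := fun _ => ℕ → Bool) (fun _ => false)
    (fun _ ih d => cond (Nat.blt n (d * d)) true (cond (Nat.beq (n % d) 0) false (ih (d + 2)))) f d

theorem tdLoop_zero (d n : ℕ) : tdLoop 0 d n = false := rfl

theorem tdLoop_succ (f d n : ℕ) : tdLoop (f + 1) d n =
    cond (Nat.blt n (d * d)) true (cond (Nat.beq (n % d) 0) false (tdLoop f (d + 2) n)) := rfl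

/-- Boolean primality check. -/
noncomputable def pb (n : ℕ) : Bool :=
  cond (Nat.blt n 2) false (cond (Nat.beq n 2) true
    (cond (Nat.beq (n % 2) 0) false (tdLoop n 3 n)))

theorem tdLoop_spec {n : ℕ} (hn : n % 2 = 1) : ∀ (f d : ℕ), d % 2 = 1 → tdLoop f d n = true →
    ∀ m, d ≤ m → m * m ≤ n → ¬ m ∣ n := by
  intro f
  induction f with
  | zero => intro d _ h; simp [tdLoop_zero] at h
  | succ f ih =>
    intro d hd h m hm hmn hdvd
    rw [tdLoop_succ] at h
    by_cases h1 : n < d * d
    · have : d * d ≤ m * m := Nat.mul_le_mul hm hm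
      omega
    · have h1' : Nat.blt n (d * d) = false := blt_false h1
      rw [h1'] at h
      simp only [cond_false] at h
      by_cases h2 : n % d = 0
      · have h2' : Nat.beq (n % d) 0 = true := by simpa [Nat.beq_eq] using h2
        rw [h2'] at h
        simp at h
      · have h2' : Nat.beq (n % d) 0 = false := by
          rw [← Bool.not_eq_true, Nat.beq_eq]; exact h2
        rw [h2'] at h
        simp only [cond_false] at h
        rcases Nat.lt_or_ge m (d + 2) with h3 | h3
        · have h4 : m = d ∨ m = d + 1 := by omega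
          rcases h4 with rfl | rfl
          · exact h2 (Nat.mod_eq_zero_of_dvd hdvd)
          · have : 2 ∣ d + 1 := by omega
            have h5 : 2 ∣ n := this.trans hdvd
            omega
        · exact ih (d + 2) (by omega) h m h3 hmn hdvd

theorem pb_sound {n : ℕ} (h : pb n = true) : n.Prime := by
  simp only [pb] at h
  by_cases h1 : n < 2
  · have h1' : Nat.blt n 2 = true := blt_true h1
    rw [h1'] at h; simp at h
  · have h1' : Nat.blt n 2 = false := blt_false h1
    rw [h1'] at h
    simp only [cond_false] at h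
    by_cases h2 : n = 2
    · subst h2; exact Nat.prime_two
    · have h2' : Nat.beq n 2 = false := by
        rw [← Bool.not_eq_true, Nat.beq_eq]; exact h2
      rw [h2'] at h
      simp only [cond_false] at h
      by_cases h3 : n % 2 = 0
      · have h3' : Nat.beq (n % 2) 0 = true := by simpa [Nat.beq_eq] using h3
        rw [h3'] at h; simp at h
      · have h3' : Nat.beq (n % 2) 0 = false := by
          rw [← Bool.not_eq_true, Nat.beq_eq]; exact h3
        rw [h3'] at h
        simp only [cond_false] at h
        rw [Nat.prime_def_le_sqrt]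
        refine ⟨by omega, fun m hm hms hd => ?_⟩
        have hmm : m * m ≤ n := Nat.le_sqrt.1 hms
        rcases Nat.lt_or_ge m 3 with h4 | h4
        · have : m = 2 := by omega
          subst this
          omega
        · exact tdLoop_spec (by omega) n 3 (by norm_num) h m h4 hmm hd

theorem tdLoop_complete {n : ℕ} (hp : n.Prime) : ∀ (f d : ℕ), 2 ≤ d →
    n < (d + 2 * f) * (d + 2 * f) → tdLoop (f + 1) d n = true := by
  intro f
  induction f with
  | zero =>
    intro d _ h
    have h' : Nat.blt n (d * d) = true := blt_true (by simpa using h)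
    rw [tdLoop_succ, h']; rfl
  | succ f ih =>
    intro d hd h
    rw [tdLoop_succ]
    by_cases h1 : n < d * d
    · have h1' : Nat.blt n (d * d) = true := blt_true h1
      rw [h1']; rfl
    · have h1' : Nat.blt n (d * d) = false := blt_false h1
      rw [h1']
      simp only [cond_false]
      have h2 : ¬ n % d = 0 := by
        intro h3
        have h4 := (Nat.dvd_prime hp).1 (Nat.dvd_of_mod_eq_zero h3)
        rcases h4 with h4 | h4
        · omega
        · subst h4
          have : d * 2 ≤ d * d := Nat.mul_le_mul_left _ hd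
          push Not at h1
          omega
      have h2' : Nat.beq (n % d) 0 = false := by
        rw [← Bool.not_eq_true, Nat.beq_eq]; exact h2
      rw [h2']
      simp only [cond_false]
      exact ih (d + 2) (by omega) (by
        have : d + 2 + 2 * f = d + 2 * (f + 1) := by ring
        rw [this]; exact h)

theorem pb_complete {n : ℕ} (hp : n.Prime) : pb n = true := by
  have h1 := hp.two_le
  simp only [pb]
  have h1' : Nat.blt n 2 = false := by
    rw [← Bool.not_eq_true, Nat.blt_eq]; omega
  rw [h1']
  simp only [cond_false]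
  by_cases h2 : n = 2
  · subst h2; rfl
  · have h2' : Nat.beq n 2 = false := by
      rw [← Bool.not_eq_true, Nat.beq_eq]; exact h2
    rw [h2']
    simp only [cond_false]
    have h3 : ¬ n % 2 = 0 := by
      intro h
      have h4 := (Nat.dvd_prime hp).1 (Nat.dvd_of_mod_eq_zero h)
      omega
    have h3' : Nat.beq (n % 2) 0 = false := by
      rw [← Bool.not_eq_true, Nat.beq_eq]; exact h3
    rw [h3']
    simp only [cond_false]
    obtain ⟨f, rfl⟩ : ∃ f, n = f + 1 := ⟨n - 1, by omega⟩
    apply tdLoop_complete hp f 3 (by norm_num)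
    nlinarith

/-! ### Prime chains -/

/-- `chainOK g hi a l`: starting at `a`, the elements of `l` are primes with gaps at most `g`,
and the last one is within `g` of `hi`. -/
noncomputable def chainOK (g hi : ℕ) : ℕ → List ℕ → Bool
  | a, [] => Nat.ble hi (a + g)
  | a, b :: l => cond (pb b) (cond (Nat.ble b (a + g)) (chainOK g hi b l) false) false

theorem chain_spec (g hi : ℕ) : ∀ (l : List ℕ) (a : ℕ), chainOK g hi a l = true → a.Prime →
    ∀ n, a ≤ n → n < hi → ∃ q, q.Prime ∧ q ≤ n ∧ n < q + g := by
  intro l
  induction l with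
  | nil =>
    intro a h ha n han hn
    have h' : hi ≤ a + g := Nat.le_of_ble_eq_true h
    exact ⟨a, ha, han, by omega⟩
  | cons b l ih =>
    intro a h ha n han hn
    simp only [chainOK] at h
    cases hb : pb b with
    | false => rw [hb] at h; simp at h
    | true =>
      rw [hb] at h
      simp only [cond_true] at h
      cases hb2 : Nat.ble b (a + g) with
      | false => rw [hb2] at h; simp at h
      | true =>
        rw [hb2] at h
        simp only [cond_true] at h
        have hb3 : b ≤ a + g := Nat.le_of_ble_eq_true hb2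
        rcases Nat.lt_or_ge n b with h1 | h1
        · exact ⟨a, ha, han, by omega⟩
        · exact ih b h (pb_sound hb) n h1 hn

/-! ### Counting primes: table for small arguments -/

/-- The property checked in the table of the prime counting function. -/
def piCond (k c : ℕ) : Bool :=
  cond (Nat.blt k 2) true
    (cond (Nat.blt k 128) (Nat.blt (k ^ k) ((cond (Nat.blt k 20) 200 700) ^ (k - c)))
      (cond (Nat.beq k 1024) (Nat.ble c 172) (Nat.ble c (k / 4))))

/-- Walk through `k, k + 1, ...` keeping the number `c` of primes below `k`. -/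
noncomputable def piTab : ℕ → ℕ → ℕ → Bool
  | 0, _, _ => true
  | f + 1, k, c =>
    let c' := cond (pb k) (c + 1) c
    cond (piCond k c') (piTab f (k + 1) c') false

theorem primeCounting_succ_eq (k : ℕ) :
    Nat.primeCounting' (k + 1) = cond (pb k) (Nat.primeCounting' k + 1) (Nat.primeCounting' k) := by
  have h : Nat.primeCounting' (k + 1) =
      Nat.primeCounting' k + if k.Prime then 1 else 0 := Nat.count_succ _ _
  rw [h]
  by_cases hk : k.Prime
  · rw [if_pos hk, pb_complete hk]; rfl
  · rw [if_neg hk]
    cases hb : pb k with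
    | true => exact absurd (pb_sound hb) hk
    | false => rfl

theorem piTab_spec : ∀ (f k : ℕ), piTab f k (Nat.primeCounting' k) = true →
    ∀ j, k ≤ j → j < k + f → piCond j (Nat.primeCounting' (j + 1)) = true := by
  intro f
  induction f with
  | zero => intro k _ j h1 h2; omega
  | succ f ih =>
    intro k h j h1 h2
    simp only [piTab] at h
    rw [← primeCounting_succ_eq] at h
    cases hc : piCond k (Nat.primeCounting' (k + 1)) with
    | false => rw [hc] at h; simp at h
    | true =>
      rw [hc] at h
      simp only [cond_true] at h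
      rcases Nat.eq_or_lt_of_le h1 with rfl | h3
      · exact hc
      · exact ih (k + 1) h j (by omega) (by omega)

theorem piTab_run : piTab 1025 0 0 = true := by decide +kernel

theorem piCond_all {j : ℕ} (hj : j ≤ 1024) : piCond j (Nat.primeCounting j) = true := by
  have h := piTab_spec 1025 0 (by
    have : Nat.primeCounting' 0 = 0 := rfl
    rw [this]; exact piTab_run) j (Nat.zero_le _) (by omega)
  exact h

theorem pow_lt_of_small {k : ℕ} (h2 : 2 ≤ k) (h : k < 128) :
    k ^ k < (cond (Nat.blt k 20) 200 700) ^ (k - Nat.primeCounting k) := by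
  have h1 := piCond_all (j := k) (by omega)
  simp only [piCond] at h1
  have h3 : Nat.blt k 2 = false := by
    rw [← Bool.not_eq_true, Nat.blt_eq]; omega
  have h4 : Nat.blt k 128 = true := blt_true h
  rw [h3, h4] at h1
  simp only [cond_false, cond_true] at h1
  rwa [Nat.blt_eq] at h1

theorem primeCounting_1024 (K : ℕ) (hK : K = 1024) : Nat.primeCounting K ≤ 172 := by
  have h1 := piCond_all (j := K) hK.le
  simp only [piCond] at h1
  have h3 : Nat.blt K 2 = false := blt_false (by omega)
  have h4 : Nat.blt K 128 = false := blt_false (by omega)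
  have h5 : Nat.beq K 1024 = true := by rw [Nat.beq_eq]; exact hK
  rw [h3, h4, h5] at h1
  simp only [cond_false, cond_true] at h1
  generalize Nat.primeCounting K = c at h1 ⊢
  exact Nat.le_of_ble_eq_true h1

theorem primeCounting_le_div_four {k : ℕ} (h : 128 ≤ k) : Nat.primeCounting k ≤ k / 4 := by
  rcases Nat.lt_or_ge k 1024 with h1 | h1
  · have h2 := piCond_all (j := k) (by omega)
    simp only [piCond] at h2
    have h3 : Nat.blt k 2 = false := blt_false (by omega)
    have h4 : Nat.blt k 128 = false := blt_false (by omega)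
    have h5 : Nat.beq k 1024 = false := by
      rw [← Bool.not_eq_true, Nat.beq_eq]; omega
    rw [h3, h4, h5] at h2
    simp only [cond_false] at h2
    exact Nat.le_of_ble_eq_true h2
  · obtain ⟨x, K, hK, rfl⟩ : ∃ x K, K = 1024 ∧ k = K + x := ⟨k - 1024, 1024, rfl, by omega⟩
    have h2 := Nat.primeCounting'_add_le (a := 210) (k := K + 1) (by norm_num) (by omega) x
    have h3 : Nat.totient 210 = 48 := by decide +kernel
    have h4 := primeCounting_1024 K hK
    have h5 : Nat.primeCounting (K + x) = Nat.primeCounting' (K + 1 + x) := by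
      have : K + x + 1 = K + 1 + x := by omega
      simp only [Nat.primeCounting, this]
    have h6 : Nat.primeCounting' (K + 1) = Nat.primeCounting K := rfl
    rw [h5]
    rw [h3, h6] at h2
    omega

/-! ### Binomial coefficient facts -/

theorem dvd_choose_of_dvd_sub {n k q i : ℕ} (hq : q.Prime) (hkq : k < q) (hi : i < k)
    (hd : q ∣ n - i) : q ∣ n.choose k := by
  have h1 : n - i ∣ n.descFactorial k := by
    rw [Nat.descFactorial_eq_prod_range]
    exact Finset.dvd_prod_of_mem _ (Finset.mem_range.2 hi)
  have h2 : q ∣ k ! * n.choose k := by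
    rw [← Nat.descFactorial_eq_factorial_mul_choose]
    exact hd.trans h1
  rcases (Nat.Prime.dvd_mul hq).1 h2 with h3 | h3
  · have := (Nat.Prime.dvd_factorial hq).1 h3
    omega
  · exact h3

theorem choose_le_pow_primeCounting {n k : ℕ} (hn : 0 < n) (hkn : k ≤ n)
    (h : ∀ p, p.Prime → p ∣ n.choose k → p ≤ k) :
    n.choose k ≤ n ^ Nat.primeCounting k := by
  set S := (Finset.range (k + 1)).filter Nat.Prime with hS
  have hcard : S.card = Nat.primeCounting k := by
    rw [hS, Nat.primeCounting, Nat.primeCounting', Nat.count_eq_card_filter_range]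
  have hC0 : n.choose k ≠ 0 := (Nat.choose_pos hkn).ne'
  have h1 : ∏ p ∈ S, p ^ (n.choose k).factorization p = n.choose k := by
    refine Eq.trans ?_ (Nat.prod_pow_factorization_choose n k hkn)
    apply Finset.prod_subset
    · intro p hp
      have := Finset.mem_filter.1 hp
      have := Finset.mem_range.1 this.1
      exact Finset.mem_range.2 (by omega)
    · intro p _ hp2
      by_cases hp : p.Prime
      · have h3 : ¬ p ≤ k := fun h4 => hp2 (Finset.mem_filter.2 ⟨Finset.mem_range.2 (by omega), hp⟩)
        have h4 : ¬ p ∣ n.choose k := fun h5 => h3 (h p hp h5)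
        rw [Nat.factorization_eq_zero_of_not_dvd h4, pow_zero]
      · rw [Nat.factorization_eq_zero_of_not_prime _ hp, pow_zero]
  calc n.choose k = ∏ p ∈ S, p ^ (n.choose k).factorization p := h1.symm
    _ ≤ ∏ _p ∈ S, n := Finset.prod_le_prod' fun p _ => Nat.pow_factorization_choose_le hn
    _ = n ^ Nat.primeCounting k := by rw [Finset.prod_const, hcard]

theorem choose_le_sqrt_mul {n k M : ℕ} (hn : 0 < n) (hkn : k ≤ n) (hMn : M ≤ n)
    (h : ∀ p, p.Prime → p ∣ n.choose k → p ≤ M) :
    n.choose k ≤ n ^ Nat.primeCounting (Nat.sqrt n) * 4 ^ M := by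
  set S := (Finset.range (M + 1)).filter Nat.Prime with hS
  let f : ℕ → ℕ := fun p => p ^ (n.choose k).factorization p
  have h1 : ∏ p ∈ S, f p = n.choose k := by
    refine Eq.trans ?_ (Nat.prod_pow_factorization_choose n k hkn)
    apply Finset.prod_subset
    · intro p hp
      have := Finset.mem_filter.1 hp
      have := Finset.mem_range.1 this.1
      exact Finset.mem_range.2 (by omega)
    · intro p _ hp2
      by_cases hp : p.Prime
      · have h3 : ¬ p ≤ M := fun h4 => hp2 (Finset.mem_filter.2 ⟨Finset.mem_range.2 (by omega), hp⟩)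
        have h4 : ¬ p ∣ n.choose k := fun h5 => h3 (h p hp h5)
        simp only [f]
        rw [Nat.factorization_eq_zero_of_not_dvd h4, pow_zero]
      · simp only [f]
        rw [Nat.factorization_eq_zero_of_not_prime _ hp, pow_zero]
  rw [← h1, ← Finset.prod_filter_mul_prod_filter_not S (· ≤ Nat.sqrt n)]
  apply Nat.mul_le_mul
  · refine (Finset.prod_le_prod' fun p _ => (?_ : f p ≤ n)).trans ?_
    · exact Nat.pow_factorization_choose_le hn
    · have hc : ((Finset.range (Nat.sqrt n + 1)).filter Nat.Prime).card =
          Nat.primeCounting (Nat.sqrt n) := by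
        rw [Nat.primeCounting, Nat.primeCounting', Nat.count_eq_card_filter_range]
      rw [Finset.prod_const]
      refine Nat.pow_le_pow_right hn ((Finset.card_le_card fun x hx => ?_).trans hc.le)
      obtain ⟨h3, h4⟩ := Finset.mem_filter.1 hx
      exact Finset.mem_filter.2 ⟨Finset.mem_range.2 (by omega), (Finset.mem_filter.1 h3).2⟩
  · refine le_trans ?_ (primorial_le_four_pow M)
    refine (Finset.prod_le_prod' fun p hp => (?_ : f p ≤ p)).trans ?_
    · obtain ⟨h3, h4⟩ := Finset.mem_filter.1 hp
      have hp1 := (Finset.mem_filter.1 h3).2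
      refine (Nat.pow_le_pow_right hp1.pos ?_).trans (pow_one p).le
      exact Nat.factorization_choose_le_one (Nat.sqrt_lt'.mp (not_le.1 h4))
    · exact Finset.prod_le_prod_of_subset_of_one_le' (Finset.filter_subset _ _)
        fun p hp _ => (Finset.mem_filter.1 hp).2.one_lt.le

theorem pow_le_choose_mul : ∀ (k n : ℕ), k ≤ n → n ^ k ≤ n.choose k * k ^ k := by
  intro k
  induction k with
  | zero => intro n _; simp
  | succ k ih =>
    intro n hn
    obtain ⟨n, rfl⟩ : ∃ n', n = n' + 1 := ⟨n - 1, by omega⟩
    have h1 := ih n (by omega)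
    have h2 : (n + 1) * n.choose k = (n + 1).choose (k + 1) * (k + 1) :=
      Nat.add_one_mul_choose_eq n k
    have h3 : (n + 1) ^ k ≤ n.choose k * (k + 1) ^ k := by
      rcases Nat.eq_zero_or_pos k with rfl | hk
      · simp
      · have h4 : (n + 1) * k ≤ n * (k + 1) := by nlinarith
        have h5 : ((n + 1) * k) ^ k ≤ (n * (k + 1)) ^ k := Nat.pow_le_pow_left h4 k
        rw [mul_pow, mul_pow] at h5
        have h6 : (n + 1) ^ k * k ^ k ≤ n.choose k * (k + 1) ^ k * k ^ k := by
          calc (n + 1) ^ k * k ^ k ≤ n ^ k * (k + 1) ^ k := h5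
            _ ≤ (n.choose k * k ^ k) * (k + 1) ^ k := Nat.mul_le_mul_right _ h1
            _ = n.choose k * (k + 1) ^ k * k ^ k := by ring
        exact Nat.le_of_mul_le_mul_right h6 (by positivity)
    calc (n + 1) ^ (k + 1) = (n + 1) * (n + 1) ^ k := by ring
      _ ≤ (n + 1) * (n.choose k * (k + 1) ^ k) := Nat.mul_le_mul_left _ h3
      _ = ((n + 1) * n.choose k) * (k + 1) ^ k := by ring
      _ = (n + 1).choose (k + 1) * (k + 1) ^ (k + 1) := by rw [h2]; ring

theorem five_pow_mul_choose_le (k : ℕ) : ∀ t, 2 * t ≤ k →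
    5 ^ t * (2 * k).choose k ≤ 3 ^ t * (2 * k + t).choose k := by
  intro t
  induction t with
  | zero => intro _; simp
  | succ t ih =>
    intro ht
    have h1 := ih (by omega)
    have h2 : (2 * k + t).choose k * (2 * k + t + 1) =
        (2 * k + t + 1).choose k * (2 * k + t + 1 - k) := Nat.choose_mul_succ_eq _ _
    have h3 : 2 * k + t + 1 - k = k + t + 1 := by omega
    rw [h3] at h2
    have h4 : 5 * (2 * k + t).choose k ≤ 3 * (2 * k + t + 1).choose k := by
      have h5 : 0 < k + t + 1 := by omega
      refine Nat.le_of_mul_le_mul_right ?_ h5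
      calc 5 * (2 * k + t).choose k * (k + t + 1)
          = (2 * k + t).choose k * (5 * (k + t + 1)) := by ring
        _ ≤ (2 * k + t).choose k * (3 * (2 * k + t + 1)) :=
            Nat.mul_le_mul_left _ (by omega)
        _ = 3 * ((2 * k + t).choose k * (2 * k + t + 1)) := by ring
        _ = 3 * (2 * k + t + 1).choose k * (k + t + 1) := by rw [h2]; ring
    calc 5 ^ (t + 1) * (2 * k).choose k = 5 * (5 ^ t * (2 * k).choose k) := by ring
      _ ≤ 5 * (3 ^ t * (2 * k + t).choose k) := Nat.mul_le_mul_left _ h1
      _ = 3 ^ t * (5 * (2 * k + t).choose k) := by ring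
      _ ≤ 3 ^ t * (3 * (2 * k + t + 1).choose k) := Nat.mul_le_mul_left _ h4
      _ = 3 ^ (t + 1) * (2 * k + (t + 1)).choose k := by
          have : 2 * k + (t + 1) = 2 * k + t + 1 := by omega
          rw [this]; ring

/-! ### Inequalities for large `k` -/

theorem small_log_bound : ∀ b, 16 ≤ b → 65 * (b + 6) ^ 2 ≤ 2 ^ b ∧ (b + 1) ^ 3 ≤ 2 ^ b := by
  intro b hb
  induction b, hb using Nat.le_induction with
  | base => norm_num
  | succ b hb ih =>
    obtain ⟨h1, h2⟩ := ih
    constructor
    · have : 2 ^ (b + 1) = 2 * 2 ^ b := by ring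
      rw [this]
      nlinarith
    · have : 2 ^ (b + 1) = 2 * 2 ^ b := by ring
      rw [this]
      nlinarith

theorem large_ineq {k n : ℕ} (hk : 2 ^ 16 ≤ k) (hn2 : 2 * k ≤ n) (hn : n ≤ 32 * k) :
    k * n ^ Nat.primeCounting (Nat.sqrt n) < 2 ^ (k / 4) := by
  have hkbig : 65536 ≤ k := by simpa using hk
  have hk0 : k ≠ 0 := by omega
  set b := Nat.log 2 k with hb
  have hb1 : 2 ^ b ≤ k := Nat.pow_log_le_self 2 hk0
  have hb2 : k < 2 ^ (b + 1) := Nat.lt_pow_succ_log_self (by norm_num) k
  have hb3 : 16 ≤ b := Nat.le_log_of_pow_le (by norm_num) hk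
  have hb4 := (small_log_bound b hb3).1
  set u := Nat.sqrt (32 * k) with hu
  have hu1 : u * u ≤ 32 * k := Nat.sqrt_le _
  have hsn : Nat.sqrt n ≤ u := Nat.sqrt_le_sqrt hn
  have hs128 : 128 ≤ Nat.sqrt n := by
    rw [Nat.le_sqrt]
    omega
  have hpi := primeCounting_le_div_four hs128
  have hpiu : Nat.primeCounting (Nat.sqrt n) ≤ u / 4 := hpi.trans (Nat.div_le_div_right hsn)
  have h32 : 32 * k < 2 ^ (b + 6) := by
    have : 2 ^ (b + 6) = 32 * 2 ^ (b + 1) := by ring
    rw [this]; omega
  have h1 : n ^ Nat.primeCounting (Nat.sqrt n) ≤ 2 ^ ((b + 6) * (u / 4)) := by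
    calc n ^ Nat.primeCounting (Nat.sqrt n) ≤ (32 * k) ^ Nat.primeCounting (Nat.sqrt n) :=
          Nat.pow_le_pow_left hn _
      _ ≤ (32 * k) ^ (u / 4) := Nat.pow_le_pow_right (by omega) hpiu
      _ ≤ (2 ^ (b + 6)) ^ (u / 4) := Nat.pow_le_pow_left h32.le _
      _ = 2 ^ ((b + 6) * (u / 4)) := by rw [pow_mul]
  have h2 : k * n ^ Nat.primeCounting (Nat.sqrt n) < 2 ^ (b + 1 + (b + 6) * (u / 4)) := by
    calc k * n ^ Nat.primeCounting (Nat.sqrt n) ≤ k * 2 ^ ((b + 6) * (u / 4)) :=
          Nat.mul_le_mul_left _ h1
      _ < 2 ^ (b + 1) * 2 ^ ((b + 6) * (u / 4)) := Nat.mul_lt_mul_of_pos_right hb2 (by positivity)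
      _ = 2 ^ (b + 1 + (b + 6) * (u / 4)) := (pow_add _ _ _).symm
  refine lt_of_lt_of_le h2 (Nat.pow_le_pow_right (by norm_num) ?_)
  -- `b + 1 + (b + 6) * (u / 4) ≤ k / 4`
  have hw : (b + 6) * (u + 4) ≤ k := by
    by_contra hcon
    push Not at hcon
    have h3 : k * k < ((b + 6) * (u + 4)) * ((b + 6) * (u + 4)) :=
      Nat.mul_self_lt_mul_self hcon
    have h4 : (u + 4) * (u + 4) ≤ 65 * k := by
      have h5 : (u + 4) * (u + 4) ≤ 2 * (u * u) + 32 := by nlinarith [sq_nonneg ((u : ℤ) - 4)]
      omega
    have h7 : ((b + 6) * (u + 4)) * ((b + 6) * (u + 4))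
        = (b + 6) ^ 2 * ((u + 4) * (u + 4)) := by ring
    rw [h7] at h3
    have h8 : (b + 6) ^ 2 * ((u + 4) * (u + 4)) ≤ (b + 6) ^ 2 * (65 * k) :=
      Nat.mul_le_mul_left _ h4
    have h9 : (b + 6) ^ 2 * (65 * k) = (65 * (b + 6) ^ 2) * k := by ring
    have h10 : (65 * (b + 6) ^ 2) * k ≤ k * k := Nat.mul_le_mul_right _ (hb4.trans hb1)
    omega
  have h12 : 4 * (u / 4) ≤ u := Nat.mul_div_le u 4
  have h13 : (b + 6) * (4 * (u / 4)) ≤ (b + 6) * u := Nat.mul_le_mul_left _ h12
  have h11 : (b + 1 + (b + 6) * (u / 4)) * 4 ≤ k := by nlinarith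
  exact (Nat.le_div_iff_mul_le (by norm_num)).2 h11

theorem large_ineq2 {k n : ℕ} (hk : 2 ^ 16 ≤ k) (hc : n ^ 3 ≤ k ^ 4) :
    n ^ Nat.sqrt n < 8 ^ k := by
  have hk0 : k ≠ 0 := by
    have : 0 < 2 ^ 16 := by positivity
    omega
  have hkpos : 0 < k := Nat.pos_of_ne_zero hk0
  set b := Nat.log 2 k with hb
  have hb1 : 2 ^ b ≤ k := Nat.pow_log_le_self 2 hk0
  have hb2 : k < 2 ^ (b + 1) := Nat.lt_pow_succ_log_self (by norm_num) k
  have hb3 : 16 ≤ b := Nat.le_log_of_pow_le (by norm_num) hk
  have hb4 := (small_log_bound b hb3).2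
  have hnk : n ≤ k * k := by
    by_contra hcon
    push Not at hcon
    have h1 : (k * k) ^ 3 < n ^ 3 := Nat.pow_lt_pow_left hcon (by norm_num)
    have h2 : k ^ 4 ≤ (k * k) ^ 3 := by
      have : (k * k) ^ 3 = k ^ 4 * (k * k) := by ring
      rw [this]
      exact Nat.le_mul_of_pos_right _ (by positivity)
    omega
  have hk2 : k * k < 2 ^ (2 * b + 2) := by
    have : 2 ^ (2 * b + 2) = 2 ^ (b + 1) * 2 ^ (b + 1) := by rw [← pow_add]; congr 1; omega
    rw [this]
    exact Nat.mul_lt_mul'' hb2 hb2
  set s := Nat.sqrt n with hs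
  have hs1 : s * s ≤ n := Nat.sqrt_le _
  have hs3 : s ^ 3 ≤ k ^ 2 := by
    have h1 : (s ^ 3) ^ 2 ≤ (k ^ 2) ^ 2 := by
      calc (s ^ 3) ^ 2 = (s * s) ^ 3 := by ring
        _ ≤ n ^ 3 := Nat.pow_le_pow_left hs1 3
        _ ≤ k ^ 4 := hc
        _ = (k ^ 2) ^ 2 := by ring
    exact (Nat.pow_le_pow_iff_left (by norm_num)).1 h1
  have h3 : (2 * b + 2) * s < 3 * k := by
    by_contra hcon
    push Not at hcon
    have h4 : (3 * k) ^ 3 ≤ ((2 * b + 2) * s) ^ 3 := Nat.pow_le_pow_left hcon 3
    have h5 : ((2 * b + 2) * s) ^ 3 = 8 * (b + 1) ^ 3 * s ^ 3 := by ring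
    have h6 : 8 * (b + 1) ^ 3 * s ^ 3 ≤ 8 * k * k ^ 2 := by
      calc 8 * (b + 1) ^ 3 * s ^ 3 ≤ 8 * k * s ^ 3 :=
            Nat.mul_le_mul_right _ (Nat.mul_le_mul_left _ (hb4.trans hb1))
        _ ≤ 8 * k * k ^ 2 := Nat.mul_le_mul_left _ hs3
    have h7 : (3 * k) ^ 3 = 27 * k * k ^ 2 := by ring
    rw [h5, h7] at h4
    have h8 : 27 * k * k ^ 2 ≤ 8 * k * k ^ 2 := h4.trans h6
    have h9 : 27 * k ≤ 8 * k := Nat.le_of_mul_le_mul_right h8 (by positivity)
    omega
  calc n ^ s ≤ (2 ^ (2 * b + 2)) ^ s := Nat.pow_le_pow_left (hnk.trans hk2.le) _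
    _ = 2 ^ ((2 * b + 2) * s) := by rw [pow_mul]
    _ < 2 ^ (3 * k) := Nat.pow_lt_pow_right (by norm_num) h3
    _ = 8 ^ k := by rw [pow_mul]; norm_num

/-- The large case. -/
theorem large_case {k n : ℕ} (hk : 2 ^ 16 ≤ k) (h2k : 2 * k ≤ n) (hc : n ^ 3 ≤ k ^ 4)
    (h : ∀ p, p.Prime → p ∣ n.choose k → p ≤ k) : False := by
  have hkbig : 65536 ≤ k := by simpa using hk
  have hnpos : 0 < n := by omega
  have hkn : k ≤ n := by omega
  have hUk := choose_le_sqrt_mul hnpos hkn hkn h
  have hcentral : 4 ^ k < k * (2 * k).choose k := by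
    have := Nat.four_pow_lt_mul_centralBinom k (by omega)
    rwa [Nat.centralBinom_eq_two_mul_choose] at this
  rcases Nat.lt_or_ge (5 * k) (2 * n) with hcase | hcase
  · -- `5 * k < 2 * n`
    rcases Nat.lt_or_ge n (5 * k) with hcase2 | hcase2
    · -- case B
      set t := k / 2 with ht
      have h1 := five_pow_mul_choose_le k t (by omega)
      have h2 : (2 * k + t).choose k ≤ n.choose k := Nat.choose_le_choose k (by omega)
      have h3 : 5 ^ t * 4 ^ k < k * 3 ^ t * n ^ Nat.primeCounting (Nat.sqrt n) * 4 ^ k := by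
        calc 5 ^ t * 4 ^ k < 5 ^ t * (k * (2 * k).choose k) :=
              Nat.mul_lt_mul_of_pos_left hcentral (by positivity)
          _ = k * (5 ^ t * (2 * k).choose k) := by ring
          _ ≤ k * (3 ^ t * (2 * k + t).choose k) := Nat.mul_le_mul_left _ h1
          _ ≤ k * (3 ^ t * n.choose k) := Nat.mul_le_mul_left _ (Nat.mul_le_mul_left _ h2)
          _ ≤ k * (3 ^ t * (n ^ Nat.primeCounting (Nat.sqrt n) * 4 ^ k)) :=
              Nat.mul_le_mul_left _ (Nat.mul_le_mul_left _ hUk)
          _ = k * 3 ^ t * n ^ Nat.primeCounting (Nat.sqrt n) * 4 ^ k := by ring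
      have h4 : 5 ^ t < k * 3 ^ t * n ^ Nat.primeCounting (Nat.sqrt n) := Nat.lt_of_mul_lt_mul_right h3
      have h5 : 2 ^ (t / 2) * 3 ^ t ≤ 5 ^ t := by
        have h6 : t = 2 * (t / 2) + t % 2 := (Nat.div_add_mod t 2).symm
        generalize t / 2 = i at h6
        generalize hr : t % 2 = e at h6
        rw [h6, pow_add, pow_add, pow_mul, pow_mul]
        have h7 : 2 ^ i * (3 ^ 2) ^ i ≤ (5 ^ 2) ^ i := by
          rw [← mul_pow]
          exact Nat.pow_le_pow_left (by norm_num) i
        have h8 : 3 ^ e ≤ 5 ^ e := Nat.pow_le_pow_left (by norm_num) e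
        calc 2 ^ i * ((3 ^ 2) ^ i * 3 ^ e) = (2 ^ i * (3 ^ 2) ^ i) * 3 ^ e := by ring
          _ ≤ (5 ^ 2) ^ i * 5 ^ e := Nat.mul_le_mul h7 h8
      have h9 : 2 ^ (t / 2) * 3 ^ t < (k * n ^ Nat.primeCounting (Nat.sqrt n)) * 3 ^ t := by
        calc 2 ^ (t / 2) * 3 ^ t ≤ 5 ^ t := h5
          _ < k * 3 ^ t * n ^ Nat.primeCounting (Nat.sqrt n) := h4
          _ = (k * n ^ Nat.primeCounting (Nat.sqrt n)) * 3 ^ t := by ring
      have h10 : 2 ^ (t / 2) < k * n ^ Nat.primeCounting (Nat.sqrt n) := Nat.lt_of_mul_lt_mul_right h9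
      have h11 := large_ineq hk h2k (n := n) (by omega)
      have h12 : t / 2 = k / 4 := by omega
      rw [h12] at h10
      omega
    · -- `5 * k ≤ n`
      have hpow := pow_le_choose_mul k n hkn
      have h1 : n ^ k ≤ n ^ Nat.primeCounting (Nat.sqrt n) * 4 ^ k * k ^ k :=
        hpow.trans (Nat.mul_le_mul_right _ hUk)
      rcases Nat.lt_or_ge n (32 * k) with hcase3 | hcase3
      · -- case C
        have h2 : (5 * k) ^ k ≤ n ^ k := Nat.pow_le_pow_left hcase2 k
        rw [mul_pow] at h2
        have h3 : 5 ^ k ≤ n ^ Nat.primeCounting (Nat.sqrt n) * 4 ^ k :=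
          Nat.le_of_mul_le_mul_right (h2.trans h1) (by positivity)
        have h4 : 2 ^ (k / 4) * 4 ^ k ≤ 5 ^ k := by
          have h6 : k = 4 * (k / 4) + k % 4 := (Nat.div_add_mod k 4).symm
          generalize k / 4 = i at h6
          generalize k % 4 = e at h6
          rw [h6, pow_add, pow_add, pow_mul, pow_mul]
          have h7 : 2 ^ i * (4 ^ 4) ^ i ≤ (5 ^ 4) ^ i := by
            rw [← mul_pow]
            exact Nat.pow_le_pow_left (by norm_num) i
          have h8 : 4 ^ e ≤ 5 ^ e := Nat.pow_le_pow_left (by norm_num) e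
          calc 2 ^ i * ((4 ^ 4) ^ i * 4 ^ e) = (2 ^ i * (4 ^ 4) ^ i) * 4 ^ e := by ring
            _ ≤ (5 ^ 4) ^ i * 5 ^ e := Nat.mul_le_mul h7 h8
        have h5 : 2 ^ (k / 4) ≤ n ^ Nat.primeCounting (Nat.sqrt n) :=
          Nat.le_of_mul_le_mul_right (h4.trans h3) (by positivity)
        have h11 := large_ineq hk h2k (n := n) (by omega)
        have h12 : n ^ Nat.primeCounting (Nat.sqrt n) ≤ k * n ^ Nat.primeCounting (Nat.sqrt n) := Nat.le_mul_of_pos_left _ (by omega)
        omega
      · -- case D
        have h2 : (32 * k) ^ k ≤ n ^ k := Nat.pow_le_pow_left hcase3 k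
        rw [mul_pow] at h2
        have h3 : 32 ^ k ≤ n ^ Nat.primeCounting (Nat.sqrt n) * 4 ^ k :=
          Nat.le_of_mul_le_mul_right (h2.trans h1) (by positivity)
        have h4 : 8 ^ k * 4 ^ k = 32 ^ k := by rw [← mul_pow]; norm_num
        rw [← h4] at h3
        have h5 : 8 ^ k ≤ n ^ Nat.primeCounting (Nat.sqrt n) := Nat.le_of_mul_le_mul_right h3 (by positivity)
        have h6 := large_ineq2 hk hc
        have h7 : Nat.primeCounting (Nat.sqrt n) ≤ Nat.sqrt n := by
          have h8 : Nat.primeCounting (Nat.sqrt n) ≤ Nat.sqrt n := by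
            rw [Nat.primeCounting, Nat.primeCounting', Nat.count_eq_card_filter_range]
            calc ((Finset.range (Nat.sqrt n + 1)).filter Nat.Prime).card
                ≤ ((Finset.range (Nat.sqrt n + 1)).erase 0).card := by
                  apply Finset.card_le_card
                  intro x hx
                  obtain ⟨hx1, hx2⟩ := Finset.mem_filter.1 hx
                  exact Finset.mem_erase.2 ⟨hx2.ne_zero, hx1⟩
              _ = Nat.sqrt n := by
                  rw [Finset.card_erase_of_mem (Finset.mem_range.2 (by omega)), Finset.card_range]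
                  omega
          exact h8
        have h9 : n ^ Nat.primeCounting (Nat.sqrt n) ≤ n ^ Nat.sqrt n :=
          Nat.pow_le_pow_right hnpos h7
        omega
  · -- case A: `2 * n ≤ 5 * k`
    have hM : ∀ p, p.Prime → p ∣ n.choose k → p ≤ n / 3 := by
      intro p hp hd
      have hpk := h p hp hd
      by_contra hcon
      have h3p : n < 3 * p := by omega
      by_cases hp2 : p = 2
      · omega
      · have h0 := Nat.factorization_choose_of_lt_three_mul hp2 hpk (by omega) h3p
        have hne : n.choose k ≠ 0 := (Nat.choose_pos hkn).ne'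
        have := hp.factorization_pos_of_dvd hne hd
        omega
    have hU := choose_le_sqrt_mul hnpos hkn (Nat.div_le_self n 3) hM
    have h1 : (2 * k).choose k ≤ n.choose k := Nat.choose_le_choose k h2k
    set e := k - n / 3 with he
    have hk3 : k = n / 3 + e := by omega
    have h2 : 4 ^ e * 4 ^ (n / 3) < (k * n ^ Nat.primeCounting (Nat.sqrt n)) * 4 ^ (n / 3) := by
      calc 4 ^ e * 4 ^ (n / 3) = 4 ^ k := by
            rw [← pow_add]; congr 1; omega
        _ < k * (2 * k).choose k := hcentral
        _ ≤ k * n.choose k := Nat.mul_le_mul_left _ h1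
        _ ≤ k * (n ^ Nat.primeCounting (Nat.sqrt n) * 4 ^ (n / 3)) := Nat.mul_le_mul_left _ hU
        _ = (k * n ^ Nat.primeCounting (Nat.sqrt n)) * 4 ^ (n / 3) := by ring
    have h3 : 4 ^ e < k * n ^ Nat.primeCounting (Nat.sqrt n) := Nat.lt_of_mul_lt_mul_right h2
    have h4 : 2 ^ (k / 4) ≤ 4 ^ e := by
      have : (4 : ℕ) ^ e = 2 ^ (2 * e) := by rw [pow_mul]; norm_num
      rw [this]
      exact Nat.pow_le_pow_right (by norm_num) (by omega)
    have h11 := large_ineq hk h2k (n := n) (by omega)
    omega

/-! ### Prime chains: tables -/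

/-- Prime chain with gaps at most `20` from `37` up to `700`. -/
def chain0List : List ℕ := [53,73,89,109,127,139,157,173,193,211,229,241,257,277,293,313,331,349,367,383,401,421,439,457,467,487,503,523,541,557,577,593,613,631,647,661,677,691]

theorem chain0_ok : chainOK 20 700 37 chain0List = true := by decide +kernel

theorem chain0_start : (37 : ℕ).Prime := pb_sound (by decide +kernel)

theorem chain0_spec {n : ℕ} (h1 : 40 ≤ n) (h2 : n < 700) :
    ∃ q, q.Prime ∧ q ≤ n ∧ n < q + 20 :=
  chain_spec 20 700 chain0List 37 chain0_ok chain0_start n (by omega) h2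

/-- Prime chain with gaps at most `128` from `251` up to `16384`. -/
def chain1List : List ℕ := [379,503,631,757,883,1009,1129,1249,1373,1499,1627,1753,1879,2003,2131,2251,2377,2503,2621,2749,2861,2971,3089,3217,3343,3469,3593,3719,3847,3967,4093,4219,4339,4463,4591,4703,4831,4957,5081,5209,5333,5449,5573,5701,5827,5953,6079,6203,6329,6451,6577,6703,6829,6949,7069,7193,7321,7433,7561,7687,7793,7919,8039,8167,8293,8419,8543,8669,8783,8893,9013,9137,9257,9377,9497,9623,9749,9871,9973,10099,10223,10343,10463,10589,10711,10837,10957,11083,11197,11321,11447,11551,11677,11801,11927,12049,12163,12289,12413,12541,12659,12781,12907,13033,13159,13267,13381,13499,13627,13751,13879,13999,14107,14221,14347,14461,14563,14683,14797,14923,15031,15149,15277,15401,15527,15649,15773,15901,16007,16127,16253,16381]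

theorem chain1_ok : chainOK 128 16384 251 chain1List = true := by decide +kernel

theorem chain1_start : (251 : ℕ).Prime := pb_sound (by decide +kernel)

theorem chain1_spec {n : ℕ} (h1 : 256 ≤ n) (h2 : n < 16384) :
    ∃ q, q.Prime ∧ q ≤ n ∧ n < q + 128 :=
  chain_spec 128 16384 chain1List 251 chain1_ok chain1_start n (by omega) h2

/-- Prime chain with gaps at most `1024` from `2039` up to `262144`. -/
def chain2List : List ℕ := [3061,4079,5101,6121,7129,8147,9161,10181,11197,12211,13229,14251,15271,16273,17293,18313,19333,20357,21379,22397,23417,24439,25463,26479,27487,28499,29501,30517,31541,32563,33587,34607,35617,36637,37657,38677,39679,40699,41719,42743,43759,44777,45779,46771,47791,48809,49831,50849,51871,52889,53899,54919,55933,56957,57977,58997,60017,61031,62053,63073,64091,65111,66109,67129,68147,69163,70183,71191,72211,73189,74209,75227,76249,77269,78283,79301,80317,81331,82351,83357,84377,85381,86399,87421,88427,89449,90473,91493,92507,93529,94547,95569,96589,97613,98627,99643,100649,101663,102679,103703,104723,105733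,106753,107777,108799,109819,110821,111833,112843,113843,114859,115883,116903,117917,118931,119953,120977,121997,123017,124021,125029,126047,127051,128053,129061,130079,131101,132113,133121,134129,135151,136163,137183,138197,139201,140221,141241,142237,143261,144271,145289,146309,147331,148339,149351,150373,151397,152419,153443,154459,155473,156493,157513,158537,159553,160553,161573,162593,163613,164627,165617,166631,167641,168643,169667,170689,171713,172721,173743,174767,175783,176807,177823,178831,179849,180871,181891,182899,183919,184913,185923,186947,187963,188983,189997,191021,192043,193057,194071,195089,196111,197123,198139,199153,200177,201193,202201,203221,204233,205253,206273,207293,208309,209333,210347,211369,212383,213407,214399,215417,216431,217439,218461,219467,220471,221489,222511,223529,224527,225529,226553,227569,228593,229613,230611,231631,232643,233663,234683,235699,236723,237737,238759,239783,240797,241817,242819,243839,244861,245881,246899,247913,248909,249923,250919,251941,252949,253969,254993,255989,257003,258023,259033,260047,261071,262079]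

theorem chain2_ok : chainOK 1024 262144 2039 chain2List = true := by decide +kernel

theorem chain2_start : (2039 : ℕ).Prime := pb_sound (by decide +kernel)

theorem chain2_spec {n : ℕ} (h1 : 2048 ≤ n) (h2 : n < 262144) :
    ∃ q, q.Prime ∧ q ≤ n ∧ n < q + 1024 :=
  chain_spec 1024 262144 chain2List 2039 chain2_ok chain2_start n (by omega) h2

/-- Prime chain with gaps at most `8192` from `16381` up to `1048576`. -/
def chain3List : List ℕ := [24571,32749,40939,49123,57301,65479,73651,81839,90031,98221,106411,114601,122789,130981,139169,147353,155539,163729,171917,180097,188281,196459,204641,212827,220973,229157,237343,245533,253717,261887,270073,278261,286453,294641,302833,311021,319211,327401,335591,343771,351959,360091,368279,376471,384641,392831,401017,409187,417379,425563,433747,441937,450127,458317,466483,474671,482863,491041,499229,507421,515611,523801,531989,540181,548371,556559,564713,572903,581089,589273,597451,605641,613829,622019,630197,638371,646549,654739,662917,671093,679279,687461,695641,703819,712007,720197,728383,736511,744701,752891,761069,769261,777451,785641,793813,801989,810151,818341,826499,834671,842857,851041,859223,867413,875593,883783,891967,900157,908321,916511,924697,932887,941041,949213,957403,965567,973759,981949,990137,998329,1006513,1014697,1022881,1031057,1039249,1047419]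

theorem chain3_ok : chainOK 8192 1048576 16381 chain3List = true := by decide +kernel

theorem chain3_start : (16381 : ℕ).Prime := pb_sound (by decide +kernel)

theorem chain3_spec {n : ℕ} (h1 : 16384 ≤ n) (h2 : n < 1048576) :
    ∃ q, q.Prime ∧ q ≤ n ∧ n < q + 8192 :=
  chain_spec 8192 1048576 chain3List 16381 chain3_ok chain3_start n (by omega) h2

/-- Prime chain with gaps at most `32768` from `65521` up to `4194304`. -/
def chain4List : List ℕ := [98269,131023,163789,196549,229309,262069,294829,327583,360337,393103,425869,458629,491377,524123,556891,589643,622399,655157,687923,720683,753439,786197,818963,851731,884497,917251,950009,982777,1015541,1048309,1081061,1113809,1146569,1179337,1212103,1244863,1277629,1310389,1343113,1375879,1408633,1441381,1474141,1506907,1539661,1572427,1605187,1637927,1670687,1703453,1736221,1768973,1801733,1834501,1867259,1900009,1932761,1965527,1998289,2031053,2063819,2096569,2129333,2162089,2194847,2227609,2260369,2293127,2325881,2358637,2391401,2424161,2456917,2489671,2522431,2555197,2587957,2620663,2653429,2686141,2718907,2751667,2784373,2817137,2849893,2882657,2915413,2948177,2980931,3013697,3046453,3079207,3111973,3144737,3177497,3210257,3243007,3275749,3308509,3341269,3374029,3406763,3439529,3472291,3505031,3537773,3570517,3603277,3636043,3668807,3701557,3734323,3767087,3799837,3832603,3865363,3898123,3930887,3963649,3996413,4029161,4061927,4094693,4127407,4160173,4192919]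

theorem chain4_ok : chainOK 32768 4194304 65521 chain4List = true := by decide +kernel

theorem chain4_start : (65521 : ℕ).Prime := pb_sound (by decide +kernel)

theorem chain4_spec {n : ℕ} (h1 : 65536 ≤ n) (h2 : n < 4194304) :
    ∃ q, q.Prime ∧ q ≤ n ∧ n < q + 32768 :=
  chain_spec 32768 4194304 chain4List 65521 chain4_ok chain4_start n (by omega) h2

/-- The primes below 200. -/
def primesSmall : List ℕ := [2,3,5,7,11,13,17,19,23,29,31,37,41,43,47,53,59,61,67,71,73,79,83,89,97,101,103,107,109,113,127,131,137,139,149,151,157,163,167,173,179,181,191,193,197,199]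

theorem primesSmall_ok : primesSmall.all pb = true := by decide +kernel

/-- The table for `k < 20`, `n < 200`. -/
def smallOK : Bool :=
  (List.range 20).all fun k => (List.range 200).all fun n =>
    cond (Nat.blt k 2) true (cond (Nat.blt n (2 * k)) true
      (primesSmall.any fun q => cond (Nat.blt k q) (Nat.blt (n % q) k) false))

theorem smallOK_run : smallOK = true := by decide +kernel

theorem small_exists {k n : ℕ} (hk : 2 ≤ k) (hk2 : k < 20) (hn : 2 * k ≤ n) (hn2 : n < 200) :
    ∃ q, q.Prime ∧ k < q ∧ n % q < k := by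
  have h := smallOK_run
  simp only [smallOK, List.all_eq_true, List.mem_range] at h
  have h1 := h k hk2 n hn2
  rw [blt_false (by omega : ¬ k < 2), blt_false (by omega : ¬ n < 2 * k)] at h1
  simp only [cond_false, List.any_eq_true] at h1
  obtain ⟨q, hq, hq2⟩ := h1
  have hq3 : q.Prime := by
    have := primesSmall_ok
    rw [List.all_eq_true] at this
    exact pb_sound (this q hq)
  cases hb : Nat.blt k q with
  | false => rw [hb] at hq2; simp at hq2
  | true =>
    rw [hb] at hq2
    simp only [cond_true] at hq2
    exact ⟨q, hq3, by rwa [Nat.blt_eq] at hb, by rwa [Nat.blt_eq] at hq2⟩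

/-- **Sylvester–Schur**: if `2 ≤ k` and `2 * k ≤ n`, then `n.choose k` has a prime divisor
greater than `k`. -/
theorem sylvester_schur {n k : ℕ} (hk : 2 ≤ k) (h2k : 2 * k ≤ n) :
    ∃ q, q.Prime ∧ k < q ∧ q ∣ n.choose k := by
  by_contra hcon
  push Not at hcon
  have h : ∀ p, p.Prime → p ∣ n.choose k → p ≤ k := by
    intro p hp hd
    by_contra hlt
    exact hcon p hp (by omega) hd
  have hnpos : 0 < n := by omega
  have hkn : k ≤ n := by omega
  have hH := choose_le_pow_primeCounting hnpos hkn h
  have hL := pow_le_choose_mul k n hkn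
  have hHL : n ^ k ≤ n ^ Nat.primeCounting k * k ^ k :=
    hL.trans (Nat.mul_le_mul_right _ hH)
  -- a prime from a chain gives a contradiction
  have hchain : ∀ g, g ≤ k → (∃ q, q.Prime ∧ q ≤ n ∧ n < q + g) → False := by
    rintro g hg ⟨q, hq, hqn, hnq⟩
    have hd : q ∣ n.choose k := by
      apply dvd_choose_of_dvd_sub (i := n - q) hq (by omega) (by omega)
      have : n - (n - q) = q := by omega
      rw [this]
    have := h q hq hd
    omega
  have hdiv : Nat.primeCounting k ≤ k → n ^ (k - Nat.primeCounting k) ≤ k ^ k := by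
    intro hle
    have h1 : n ^ (k - Nat.primeCounting k) * n ^ Nat.primeCounting k = n ^ k := by
      rw [← pow_add]; congr 1; omega
    have h3 : n ^ (k - Nat.primeCounting k) * n ^ Nat.primeCounting k
        ≤ k ^ k * n ^ Nat.primeCounting k := by
      rw [h1, mul_comm (k ^ k)]; exact hHL
    exact Nat.le_of_mul_le_mul_right h3 (by positivity)
  have hBig : ∀ B, k ^ k < B ^ (k - Nat.primeCounting k) → B ≤ n → False := by
    intro B hB hBn
    have hle : Nat.primeCounting k ≤ k := by
      by_contra hh
      push Not at hh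
      have h3 : k - Nat.primeCounting k = 0 := by omega
      rw [h3, pow_zero] at hB
      have : 0 < k ^ k := by positivity
      omega
    have h2 := hdiv hle
    have h3 : B ^ (k - Nat.primeCounting k) ≤ n ^ (k - Nat.primeCounting k) :=
      Nat.pow_le_pow_left hBn _
    omega
  rcases Nat.lt_or_ge k 128 with hk128 | hk128
  · -- small `k`
    have hpi := pow_lt_of_small hk hk128
    rcases Nat.lt_or_ge k 20 with hk20 | hk20
    · rw [blt_true hk20] at hpi
      simp only [cond_true] at hpi
      rcases Nat.lt_or_ge n 200 with hn7 | hn7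
      · obtain ⟨q, hq, hkq, hmod⟩ := small_exists hk hk20 h2k hn7
        have hd : q ∣ n.choose k :=
          dvd_choose_of_dvd_sub (i := n % q) hq hkq hmod (Nat.dvd_sub_mod n)
        have := h q hq hd
        omega
      · exact hBig 200 hpi hn7
    · rw [blt_false (by omega : ¬ k < 20)] at hpi
      simp only [cond_false] at hpi
      rcases Nat.lt_or_ge n 700 with hn7 | hn7
      · exact hchain 20 hk20 (chain0_spec (by omega) hn7)
      · exact hBig 700 hpi hn7
  · -- `128 ≤ k`
    have hpi := primeCounting_le_div_four hk128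
    have hcube : n ^ 3 ≤ k ^ 4 := by
      have h2 := hdiv (by omega)
      have h3 : (n ^ 3) ^ k ≤ (k ^ 4) ^ k := by
        calc (n ^ 3) ^ k = n ^ (3 * k) := by rw [pow_mul]
          _ ≤ n ^ (4 * (k - Nat.primeCounting k)) :=
              Nat.pow_le_pow_right hnpos (by omega)
          _ = (n ^ (k - Nat.primeCounting k)) ^ 4 := by rw [mul_comm, pow_mul]
          _ ≤ (k ^ k) ^ 4 := Nat.pow_le_pow_left h2 4
          _ = (k ^ 4) ^ k := by rw [← pow_mul, ← pow_mul, mul_comm]
      exact (Nat.pow_le_pow_iff_left (by omega)).1 h3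
    have hbound : ∀ K, k < K → n ^ 3 < K ^ 4 := by
      intro K hK
      exact lt_of_le_of_lt hcube (Nat.pow_lt_pow_left hK (by norm_num))
    have hcubelt : ∀ K M, M ^ 3 ≥ K ^ 4 → k < K → n < M := by
      intro K M hM hK
      have h1 := hbound K hK
      by_contra hh
      push Not at hh
      have : M ^ 3 ≤ n ^ 3 := Nat.pow_le_pow_left hh 3
      omega
    rcases Nat.lt_or_ge k 1024 with h12 | h12
    · have h2 : n < 16384 := hcubelt 1024 16384 (by norm_num) h12
      exact hchain 128 hk128 (chain1_spec (by omega) h2)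
    rcases Nat.lt_or_ge k 8192 with h15 | h15
    · have h2 : n < 262144 := hcubelt 8192 262144 (by norm_num) h15
      exact hchain 1024 h12 (chain2_spec (by omega) h2)
    rcases Nat.lt_or_ge k 32768 with h18 | h18
    · have h2 : n < 1048576 := hcubelt 32768 1048576 (by norm_num) h18
      exact hchain 8192 h15 (chain3_spec (by omega) h2)
    rcases Nat.lt_or_ge k 65536 with h20 | h20
    · have h2 : n < 4194304 := hcubelt 65536 4194304 (by norm_num) h20
      exact hchain 32768 h18 (chain4_spec (by omega) h2)
    · exact large_case (by simpa using h20) h2k hcube h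

end Cfsg.Agent.Lib.Perm.SylSchur
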