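import Mathlib

/-!
# Sylow 2-subgroups of symmetric groups, intrinsically

For `R` a Sylow 2-subgroup of `Perm Ω`:
* every point moved by `R` lies in a transposition belonging to `R` (`exists_swap_mem`);
* `R` fixes at most one point (`eq_of_fixed_of_fixed`);
* transpositions of `R` are pairwise disjoint (`swap_overlap`);
* an element of odd order normalizing `R` is trivial (`eq_one_of_mem_normalizer_of_odd`), hence
  `N(R) = R`.
-/

namespace Cfsg.Agent.Lib.Perm.SylowSym

open Equiv Equiv.Perm

variable {Ω : Type*} [Finite Ω]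

/-- A set of pairwise commuting involutions generates a group of exponent 2, hence a 2-group. -/
theorem isPGroup_closure_of_comm_invol {G : Type*} [Group G] (T : Set G)
    (hcomm : ∀ x ∈ T, ∀ y ∈ T, x * y = y * x) (h2 : ∀ t ∈ T, t * t = 1) :
    IsPGroup 2 (Subgroup.closure T) := by
  letI := Subgroup.closureCommGroupOfComm hcomm
  have key : ∀ x ∈ Subgroup.closure T, x * x = 1 := by
    intro x hx
    induction hx using Subgroup.closure_induction with
    | mem x hx => exact h2 x hx
    | one => simp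
    | mul x y hx hy ihx ihy =>
      have hc : x * y = y * x := by
        have := mul_comm (⟨x, hx⟩ : Subgroup.closure T) ⟨y, hy⟩
        exact congrArg Subtype.val this
      calc x * y * (x * y) = x * (y * x) * y := by group
        _ = x * (x * y) * y := by rw [hc]
        _ = (x * x) * (y * y) := by group
        _ = 1 := by rw [ihx, ihy, one_mul]
    | inv x hx ihx =>
      calc x⁻¹ * x⁻¹ = (x * x)⁻¹ := by group
        _ = 1 := by rw [ihx, inv_one]
  intro g
  refine ⟨1, ?_⟩
  apply Subtype.ext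
  simpa [pow_two] using key g.1 g.2

variable [DecidableEq Ω]

/-- Every point moved by a Sylow 2-subgroup `R` of `Perm Ω` lies in a transposition of `R`. -/
theorem exists_swap_mem (R : Sylow 2 (Perm Ω)) (a : Ω) (h : ∃ r ∈ (R : Subgroup (Perm Ω)), r a ≠ a) :
    ∃ b, b ≠ a ∧ swap a b ∈ (R : Subgroup (Perm Ω)) := by
  classical
  have hfact : Fact (Nat.Prime 2) := ⟨Nat.prime_two⟩
  -- the action of `R` on the orbit of `a`
  let O := MulAction.orbit (R : Subgroup (Perm Ω)) a
  let φ : (R : Subgroup (Perm Ω)) →* Perm O := MulAction.toPermHom (R : Subgroup (Perm Ω)) O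
  let H := φ.range
  have hHp : IsPGroup 2 H := R.isPGroup'.of_surjective φ.rangeRestrict φ.rangeRestrict_surjective
  obtain ⟨r₀, hr₀, hr₀a⟩ := h
  let a' : O := ⟨a, MulAction.mem_orbit_self a⟩
  have hHnt : Nontrivial H := by
    refine ⟨⟨⟨φ ⟨r₀, hr₀⟩, ⟨⟨r₀, hr₀⟩, rfl⟩⟩, 1, fun he => ?_⟩⟩
    have h1 : φ ⟨r₀, hr₀⟩ = 1 := congrArg Subtype.val he
    have h2 : φ ⟨r₀, hr₀⟩ a' = a' := by rw [h1]; rfl
    exact hr₀a (congrArg Subtype.val h2)
  have hZnt := hHp.center_nontrivial
  have hZp : IsPGroup 2 (Subgroup.center H) := hHp.to_subgroup _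
  obtain ⟨n, hn, hcard⟩ := hZp.nontrivial_iff_card.mp hZnt
  obtain ⟨z, hz⟩ := exists_prime_orderOf_dvd_card' (G := Subgroup.center H) 2
    (by rw [hcard]; exact dvd_pow_self 2 hn.ne')
  -- the central involution, on `O`
  let zb : Perm O := ((z : H) : Perm O)
  have hz2 : zb * zb = 1 := by
    have : z ^ 2 = 1 := by rw [← hz]; exact pow_orderOf_eq_one z
    have h1 := congrArg (fun w : Subgroup.center H => ((w : H) : Perm O)) this
    simpa [pow_two] using h1
  have hzcomm : ∀ r : (R : Subgroup (Perm Ω)), zb * φ r = φ r * zb := by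
    intro r
    have := (Subgroup.mem_center_iff.mp z.2) ⟨φ r, ⟨r, rfl⟩⟩
    exact (congrArg Subtype.val this).symm
  have hzne : zb ≠ 1 := by
    intro h1
    have : z = 1 := by
      apply Subtype.ext
      apply Subtype.ext
      exact h1
    rw [this, orderOf_one] at hz
    omega
  -- `zb` acts without fixed points
  have hzfp : ∀ c : O, zb c ≠ c := by
    intro c hc
    apply hzne
    ext d
    obtain ⟨r, hr⟩ := MulAction.exists_smul_eq (R : Subgroup (Perm Ω)) c d
    have h1 : zb (φ r c) = φ r (zb c) := by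
      have := congrArg (fun w : Perm O => w c) (hzcomm r)
      simpa using this
    have h2 : φ r c = d := hr
    rw [hc, h2] at h1
    rw [h1]
    rfl
  -- the transpositions
  let T : Set (Perm Ω) := {t | ∃ c : O, t = swap (c : Ω) (zb c : Ω)}
  have hne : ∀ c : O, (c : Ω) ≠ (zb c : Ω) := fun c he => hzfp c (Subtype.ext he.symm)
  have hzz : ∀ c : O, zb (zb c) = c := fun c => by
    have := congrArg (fun w : Perm O => w c) hz2
    simpa using this
  have hTcomm : ∀ x ∈ T, ∀ y ∈ T, x * y = y * x := by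
    rintro _ ⟨c, rfl⟩ _ ⟨d, rfl⟩
    by_cases h1 : d = c
    · rw [h1]
    by_cases h2 : d = zb c
    · rw [h2, hzz, swap_comm]
    · have hdisj : Disjoint (swap (c : Ω) (zb c : Ω)) (swap (d : Ω) (zb d : Ω)) := by
        intro x
        by_cases hx1 : x = c
        · right
          apply swap_apply_of_ne_of_ne
          · rw [hx1]; exact fun he => h1 (Subtype.ext he).symm
          · rw [hx1]
            intro he
            apply h2
            have : c = zb d := Subtype.ext he
            rw [this, hzz]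
        by_cases hx2 : x = zb c
        · right
          apply swap_apply_of_ne_of_ne
          · rw [hx2]; exact fun he => h2 (Subtype.ext he).symm
          · rw [hx2]
            intro he
            apply h1
            have : zb c = zb d := Subtype.ext he
            exact (zb.injective this).symm
        · left
          exact swap_apply_of_ne_of_ne hx1 hx2
      exact hdisj.commute
  have hT2 : ∀ t ∈ T, t * t = 1 := by
    rintro _ ⟨c, rfl⟩
    exact swap_mul_self _ _
  have hKp := isPGroup_closure_of_comm_invol T hTcomm hT2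
  -- `R` normalizes the closure
  have hRnorm : (R : Subgroup (Perm Ω)) ≤ Subgroup.normalizer (Subgroup.closure T : Set (Perm Ω)) := by
    rw [Subgroup.le_normalizer_closure_iff]
    rintro r hr _ ⟨c, rfl⟩
    apply Subgroup.subset_closure
    refine ⟨φ ⟨r, hr⟩ c, ?_⟩
    rw [← swap_apply_apply]
    have h1 : zb (φ ⟨r, hr⟩ c) = φ ⟨r, hr⟩ (zb c) := by
      have := congrArg (fun w : Perm O => w c) (hzcomm ⟨r, hr⟩)
      simpa using this
    rw [h1]
    rfl
  have hmax := R.is_maximal' (R.isPGroup'.to_sup_of_normal_right' hKp hRnorm) le_sup_left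
  have hle : Subgroup.closure T ≤ (R : Subgroup (Perm Ω)) := by
    rw [← hmax]
    exact le_sup_right
  refine ⟨(zb a' : Ω), (hne a').symm, hle (Subgroup.subset_closure ⟨a', rfl⟩)⟩

/-- Two distinct points cannot both be fixed by a Sylow 2-subgroup of `Perm Ω`. -/
theorem eq_of_fixed_of_fixed (R : Sylow 2 (Perm Ω)) {a b : Ω}
    (ha : ∀ r ∈ (R : Subgroup (Perm Ω)), r a = a) (hb : ∀ r ∈ (R : Subgroup (Perm Ω)), r b = b) :
    a = b := by
  by_contra hab
  have hP : IsPGroup 2 (Subgroup.closure ({swap a b} : Set (Perm Ω))) := by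
    apply isPGroup_closure_of_comm_invol
    · rintro _ rfl _ rfl
      rfl
    · rintro _ rfl
      exact swap_mul_self _ _
  have hnorm : (R : Subgroup (Perm Ω)) ≤
      Subgroup.normalizer (Subgroup.closure ({swap a b} : Set (Perm Ω)) : Set (Perm Ω)) := by
    rw [Subgroup.le_normalizer_closure_iff]
    rintro r hr _ rfl
    apply Subgroup.subset_closure
    rw [← swap_apply_apply, ha r hr, hb r hr]
    rfl
  have hmax := R.is_maximal' (R.isPGroup'.to_sup_of_normal_right' hP hnorm) le_sup_left
  have hle : Subgroup.closure ({swap a b} : Set (Perm Ω)) ≤ (R : Subgroup (Perm Ω)) := by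
    rw [← hmax]
    exact le_sup_right
  have hmem : swap a b ∈ (R : Subgroup (Perm Ω)) := hle (Subgroup.subset_closure rfl)
  have := ha _ hmem
  rw [swap_apply_left] at this
  exact hab this.symm

/-- Transpositions of a 2-subgroup do not overlap. -/
theorem swap_overlap (R : Sylow 2 (Perm Ω)) {a b c : Ω} (hb : b ≠ a) (hc : c ≠ a)
    (h1 : swap a b ∈ (R : Subgroup (Perm Ω))) (h2 : swap a c ∈ (R : Subgroup (Perm Ω))) :
    b = c := by
  have := Fintype.ofFinite Ω
  by_contra hbc
  have h3 := Equiv.Perm.isThreeCycle_swap_mul_swap_same hb.symm hc.symm hbc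
  have hmem : swap a b * swap a c ∈ (R : Subgroup (Perm Ω)) := mul_mem h1 h2
  obtain ⟨k, hk⟩ := R.isPGroup' ⟨_, hmem⟩
  have hk' : (swap a b * swap a c) ^ (2 ^ k) = 1 := by
    simpa using congrArg Subtype.val hk
  have h4 := orderOf_dvd_of_pow_eq_one hk'
  rw [h3.orderOf] at h4
  have := (Nat.prime_dvd_prime_iff_eq Nat.prime_three Nat.prime_two).mp
    (Nat.Prime.dvd_of_dvd_pow Nat.prime_three h4)
  omega

omit [DecidableEq Ω] in
/-- A bijection-free fact: the transpositions in `R`. -/
def swapSet (R : Subgroup (Perm Ω)) : Set (Perm Ω) := {t | t ∈ R ∧ t.IsSwap}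

/-- First point of a transposition of `R`. -/
noncomputable def fstPt {R : Subgroup (Perm Ω)} (t : swapSet R) : Ω := t.2.2.choose

/-- Second point of a transposition of `R`. -/
noncomputable def sndPt {R : Subgroup (Perm Ω)} (t : swapSet R) : Ω := t.2.2.choose_spec.choose

theorem fstPt_ne_sndPt {R : Subgroup (Perm Ω)} (t : swapSet R) : fstPt t ≠ sndPt t :=
  t.2.2.choose_spec.choose_spec.1

theorem eq_swap_pts {R : Subgroup (Perm Ω)} (t : swapSet R) : t.1 = swap (fstPt t) (sndPt t) :=
  t.2.2.choose_spec.choose_spec.2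

/-- Two transpositions of a Sylow 2-subgroup sharing a point are equal. -/
theorem swap_eq_of_common (R : Sylow 2 (Perm Ω)) {a b c d : Ω} (hab : a ≠ b) (hcd : c ≠ d)
    (h1 : swap a b ∈ (R : Subgroup (Perm Ω))) (h2 : swap c d ∈ (R : Subgroup (Perm Ω)))
    (hcommon : a = c ∨ a = d ∨ b = c ∨ b = d) : swap a b = swap c d := by
  rcases hcommon with rfl | rfl | rfl | rfl
  · rw [swap_overlap R hab.symm hcd.symm h1 h2]
  · rw [swap_comm c a] at h2 ⊢
    rw [swap_overlap R hab.symm hcd h1 h2]
  · rw [swap_comm a b] at h1 ⊢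
    rw [swap_overlap R hab hcd.symm h1 h2]
  · rw [swap_comm a b] at h1 ⊢
    rw [swap_comm c b] at h2 ⊢
    rw [swap_overlap R hab hcd h1 h2]

/-- The coordinates: `Ω` is (transpositions of `R`) × Bool plus the fixed points. -/
noncomputable def coordFun (R : Subgroup (Perm Ω)) :
    (swapSet R × Bool) ⊕ {ω : Ω // ∀ r ∈ R, r ω = ω} → Ω
  | Sum.inl (t, false) => fstPt t
  | Sum.inl (t, true) => sndPt t
  | Sum.inr u => u.1

theorem coordFun_bijective (R : Sylow 2 (Perm Ω)) : Function.Bijective (coordFun (R : Subgroup (Perm Ω))) := by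
  have hmoved : ∀ t : swapSet (R : Subgroup (Perm Ω)), ∀ u : {ω : Ω // ∀ r ∈ (R : Subgroup (Perm Ω)), r ω = ω},
      fstPt t ≠ u.1 ∧ sndPt t ≠ u.1 := by
    intro t u
    have h := u.2 t.1 t.2.1
    rw [eq_swap_pts t] at h
    constructor
    · rintro he
      rw [← he, swap_apply_left] at h
      exact fstPt_ne_sndPt t h.symm
    · rintro he
      rw [← he, swap_apply_right] at h
      exact fstPt_ne_sndPt t h
  constructor
  · rintro (⟨t, _ | _⟩ | u) (⟨t', _ | _⟩ | u') he <;> simp only [coordFun] at he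
    · have := swap_eq_of_common R (fstPt_ne_sndPt t) (fstPt_ne_sndPt t')
        (eq_swap_pts t ▸ t.2.1) (eq_swap_pts t' ▸ t'.2.1) (Or.inl he)
      have ht : t = t' := Subtype.ext (by rw [eq_swap_pts t, eq_swap_pts t', this])
      rw [ht]
    · have := swap_eq_of_common R (fstPt_ne_sndPt t) (fstPt_ne_sndPt t')
        (eq_swap_pts t ▸ t.2.1) (eq_swap_pts t' ▸ t'.2.1) (Or.inr (Or.inl he))
      have ht : t = t' := Subtype.ext (by rw [eq_swap_pts t, eq_swap_pts t', this])
      subst ht
      exact absurd he (fstPt_ne_sndPt t)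
    · exact absurd he (hmoved t u').1
    · have := swap_eq_of_common R (fstPt_ne_sndPt t) (fstPt_ne_sndPt t')
        (eq_swap_pts t ▸ t.2.1) (eq_swap_pts t' ▸ t'.2.1) (Or.inr (Or.inr (Or.inl he)))
      have ht : t = t' := Subtype.ext (by rw [eq_swap_pts t, eq_swap_pts t', this])
      subst ht
      exact absurd he.symm (fstPt_ne_sndPt t)
    · have := swap_eq_of_common R (fstPt_ne_sndPt t) (fstPt_ne_sndPt t')
        (eq_swap_pts t ▸ t.2.1) (eq_swap_pts t' ▸ t'.2.1) (Or.inr (Or.inr (Or.inr he)))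
      have ht : t = t' := Subtype.ext (by rw [eq_swap_pts t, eq_swap_pts t', this])
      rw [ht]
    · exact absurd he (hmoved t u').2
    · exact absurd he.symm (hmoved t' u).1
    · exact absurd he.symm (hmoved t' u).2
    · exact congrArg Sum.inr (Subtype.ext he)
  · intro ω
    by_cases hω : ∀ r ∈ (R : Subgroup (Perm Ω)), r ω = ω
    · exact ⟨Sum.inr ⟨ω, hω⟩, rfl⟩
    · push_neg at hω
      obtain ⟨b, hb, hmem⟩ := exists_swap_mem R ω hω
      let t : swapSet (R : Subgroup (Perm Ω)) := ⟨swap ω b, hmem, ω, b, hb.symm, rfl⟩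
      have ht : swap ω b = swap (fstPt t) (sndPt t) := eq_swap_pts t
      have hmove : swap (fstPt t) (sndPt t) ω ≠ ω := by
        rw [← ht, swap_apply_left]
        exact hb
      by_cases h1 : ω = fstPt t
      · exact ⟨Sum.inl (t, false), h1.symm⟩
      by_cases h2 : ω = sndPt t
      · exact ⟨Sum.inl (t, true), h2.symm⟩
      · exact absurd (swap_apply_of_ne_of_ne h1 h2) hmove

/-- The equivalence given by `coordFun`. -/
noncomputable def coordEquiv (R : Sylow 2 (Perm Ω)) :
    (swapSet (R : Subgroup (Perm Ω)) × Bool) ⊕ {ω : Ω // ∀ r ∈ (R : Subgroup (Perm Ω)), r ω = ω} ≃ Ω :=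
  Equiv.ofBijective _ (coordFun_bijective R)

/-- The lift to `Ω` of a permutation of the transpositions of `R`. -/
noncomputable def liftPerm (R : Sylow 2 (Perm Ω)) (s : Perm (swapSet (R : Subgroup (Perm Ω)))) : Perm Ω :=
  (coordEquiv R).permCongr (Equiv.sumCongr (Equiv.prodCongr s (Equiv.refl Bool)) (Equiv.refl _))

theorem liftPerm_fst (R : Sylow 2 (Perm Ω)) (s : Perm (swapSet (R : Subgroup (Perm Ω))))
    (t : swapSet (R : Subgroup (Perm Ω))) : liftPerm R s (fstPt t) = fstPt (s t) := by
  have h : (coordEquiv R).symm (fstPt t) = Sum.inl (t, false) :=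
    (coordEquiv R).symm_apply_apply (Sum.inl (t, false))
  simp only [liftPerm, Equiv.permCongr_apply, h]
  rfl

theorem liftPerm_snd (R : Sylow 2 (Perm Ω)) (s : Perm (swapSet (R : Subgroup (Perm Ω))))
    (t : swapSet (R : Subgroup (Perm Ω))) : liftPerm R s (sndPt t) = sndPt (s t) := by
  have h : (coordEquiv R).symm (sndPt t) = Sum.inl (t, true) :=
    (coordEquiv R).symm_apply_apply (Sum.inl (t, true))
  simp only [liftPerm, Equiv.permCongr_apply, h]
  rfl

theorem liftPerm_conj (R : Sylow 2 (Perm Ω)) (s : Perm (swapSet (R : Subgroup (Perm Ω))))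
    (t : swapSet (R : Subgroup (Perm Ω))) :
    liftPerm R s * t.1 * (liftPerm R s)⁻¹ = (s t).1 := by
  rw [eq_swap_pts t, ← swap_apply_apply, liftPerm_fst, liftPerm_snd, ← eq_swap_pts]

/-- The conjugation action of the setwise stabilizer of the transpositions on them. -/
def conjHom (R : Subgroup (Perm Ω)) :
    Subgroup.normalizer (swapSet R) →* Perm (swapSet R) where
  toFun g :=
    { toFun := fun t => ⟨(g : Perm Ω) * t * (g : Perm Ω)⁻¹, (Subgroup.mem_set_normalizer_iff.mp g.2 t).mp t.2⟩
      invFun := fun t => ⟨(g : Perm Ω)⁻¹ * t * g, by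
        have := (Subgroup.mem_set_normalizer_iff.mp g.2 ((g : Perm Ω)⁻¹ * t * g))
        rw [this]
        have e : (g : Perm Ω) * ((g : Perm Ω)⁻¹ * t * g) * (g : Perm Ω)⁻¹ = t := by group
        rw [e]
        exact t.2⟩
      left_inv := fun t => Subtype.ext (by simp [mul_assoc])
      right_inv := fun t => Subtype.ext (by simp [mul_assoc]) }
  map_one' := by
    ext t
    simp
  map_mul' g h := by
    ext t
    simp [mul_assoc]

theorem conjHom_apply_coe (R : Subgroup (Perm Ω)) (g : Subgroup.normalizer (swapSet R))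
    (t : swapSet R) : ((conjHom R g t : swapSet R) : Perm Ω) = (g : Perm Ω) * t * (g : Perm Ω)⁻¹ := rfl

/-- Elements acting trivially on the transpositions of `R` are involutions. -/
theorem mul_self_eq_one_of_ker (R : Sylow 2 (Perm Ω)) (g : Perm Ω)
    (hg : ∀ t ∈ swapSet (R : Subgroup (Perm Ω)), g * t * g⁻¹ = t) : g * g = 1 := by
  ext a
  rw [Perm.mul_apply, Perm.one_apply]
  have hcomm : ∀ t ∈ swapSet (R : Subgroup (Perm Ω)), t * g = g * t := by
    intro t ht
    have h1 := hg t ht
    rw [mul_inv_eq_iff_eq_mul] at h1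
    exact h1.symm
  by_cases hfix : ∀ r ∈ (R : Subgroup (Perm Ω)), r a = a
  · -- `a` is the fixed point
    have hga : g a = a := by
      by_contra hne
      have hmoved : ¬ ∀ r ∈ (R : Subgroup (Perm Ω)), r (g a) = g a := fun h =>
        hne (eq_of_fixed_of_fixed R h hfix)
      push Not at hmoved
      obtain ⟨c, hc, hmem⟩ := exists_swap_mem R (g a) hmoved
      have ht : swap (g a) c ∈ swapSet (R : Subgroup (Perm Ω)) := ⟨hmem, g a, c, hc.symm, rfl⟩
      have h1 := congrArg (fun w : Perm Ω => w a) (hcomm _ ht)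
      simp only [Perm.mul_apply, swap_apply_left] at h1
      rw [hfix _ hmem] at h1
      exact hc h1
    rw [hga, hga]
  · push Not at hfix
    obtain ⟨b, hb, hmem⟩ := exists_swap_mem R a hfix
    have ht : swap a b ∈ swapSet (R : Subgroup (Perm Ω)) := ⟨hmem, a, b, hb.symm, rfl⟩
    have h1 := congrArg (fun w : Perm Ω => w a) (hcomm _ ht)
    have h1' := congrArg (fun w : Perm Ω => w b) (hcomm _ ht)
    simp only [Perm.mul_apply, swap_apply_left, swap_apply_right] at h1 h1'
    have h2 : g a = a ∨ g a = b := by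
      by_contra hcon
      push Not at hcon
      rw [swap_apply_of_ne_of_ne hcon.1 hcon.2] at h1
      exact hb (g.injective h1).symm
    have h2' : g b = a ∨ g b = b := by
      by_contra hcon
      push Not at hcon
      rw [swap_apply_of_ne_of_ne hcon.1 hcon.2] at h1'
      exact hb (g.injective h1')
    rcases h2 with h2 | h2
    · rw [h2, h2]
    · rw [h2]
      rcases h2' with h2' | h2'
      · exact h2'
      · exact absurd (g.injective (h2.trans h2'.symm)) hb.symm

/-- The normalizer of the set of transpositions contains `R`. -/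
theorem le_normalizer_swapSet (R : Subgroup (Perm Ω)) : R ≤ Subgroup.normalizer (swapSet R) := by
  intro r hr
  rw [Subgroup.mem_set_normalizer_iff]
  intro t
  constructor
  · rintro ⟨htR, x, y, hxy, rfl⟩
    refine ⟨mul_mem (mul_mem hr htR) (inv_mem hr), r x, r y, ?_, ?_⟩
    · exact fun h => hxy (r.injective h)
    · exact (swap_apply_apply r x y).symm
  · rintro ⟨htR, x, y, hxy, he⟩
    refine ⟨?_, r⁻¹ x, r⁻¹ y, fun h => hxy (r⁻¹.injective h), ?_⟩
    · have := mul_mem (mul_mem (inv_mem hr) htR) hr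
      simpa [mul_assoc] using this
    · have h1 : t = r⁻¹ * swap x y * r := by
        rw [← he]
        group
      rw [h1]
      have := swap_apply_apply r⁻¹ x y
      rw [inv_inv] at this
      exact this.symm

/-- The image of a Sylow 2-subgroup acting on its own transpositions. -/
def imageHom (R : Subgroup (Perm Ω)) : R →* Perm (swapSet R) :=
  (conjHom R).comp (Subgroup.inclusion (le_normalizer_swapSet R))

/-- The image of `R` on its transpositions is a Sylow 2-subgroup. -/
noncomputable def imageSylow (R : Sylow 2 (Perm Ω)) : Sylow 2 (Perm (swapSet (R : Subgroup (Perm Ω)))) where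
  toSubgroup := (imageHom (R : Subgroup (Perm Ω))).range
  isPGroup' := R.isPGroup'.of_surjective _ (imageHom (R : Subgroup (Perm Ω))).rangeRestrict_surjective
  is_maximal' := by
    intro Q hQ hle
    have hker : IsPGroup 2 (conjHom (R : Subgroup (Perm Ω))).ker := by
      intro g
      refine ⟨1, ?_⟩
      apply Subtype.ext
      apply Subtype.ext
      have h1 : ∀ t ∈ swapSet (R : Subgroup (Perm Ω)), (g : Perm Ω) * t * (g : Perm Ω)⁻¹ = t := by
        intro t ht
        have h2 : conjHom _ (g : Subgroup.normalizer (swapSet (R : Subgroup (Perm Ω)))) ⟨t, ht⟩ = ⟨t, ht⟩ := by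
          rw [MonoidHom.mem_ker.mp g.2]
          rfl
        have h4 := congrArg Subtype.val h2
        exact h4
      have h3 := mul_self_eq_one_of_ker R _ h1
      simpa [pow_two] using h3
    have hP := (hQ.comap_of_ker_isPGroup (conjHom (R : Subgroup (Perm Ω))) hker).map
      (Subgroup.normalizer (swapSet (R : Subgroup (Perm Ω)))).subtype
    have hRle : (R : Subgroup (Perm Ω)) ≤ (Q.comap (conjHom (R : Subgroup (Perm Ω)))).map
        (Subgroup.normalizer (swapSet (R : Subgroup (Perm Ω)))).subtype := by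
      intro r hr
      refine ⟨⟨r, le_normalizer_swapSet _ hr⟩, ?_, rfl⟩
      exact hle ⟨⟨r, hr⟩, rfl⟩
    have hmax := R.is_maximal' hP hRle
    apply le_antisymm _ hle
    intro s hs
    -- lift `s`
    have hlift : liftPerm R s ∈ Subgroup.normalizer (swapSet (R : Subgroup (Perm Ω))) := by
      rw [Subgroup.mem_set_normalizer_iff]
      intro t
      constructor
      · intro ht
        have := liftPerm_conj R s ⟨t, ht⟩
        simp only at this
        rw [this]
        exact (s ⟨t, ht⟩).2
      · intro ht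
        have h1 := liftPerm_conj R s (s⁻¹ ⟨_, ht⟩)
        have e : s (s⁻¹ ⟨_, ht⟩) = ⟨_, ht⟩ := by simp
        rw [e] at h1
        have h2 : t = ((s⁻¹ ⟨_, ht⟩ : swapSet (R : Subgroup (Perm Ω))) : Perm Ω) := by
          exact mul_left_cancel (a := liftPerm R s) (mul_right_cancel (b := (liftPerm R s)⁻¹) h1.symm)
        rw [h2]
        exact (s⁻¹ ⟨_, ht⟩).2
    have hϕ : conjHom (R : Subgroup (Perm Ω)) ⟨liftPerm R s, hlift⟩ = s := by
      ext1 t
      apply Subtype.ext
      exact liftPerm_conj R s t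
    have hmemR : liftPerm R s ∈ (R : Subgroup (Perm Ω)) := by
      rw [← hmax]
      refine ⟨⟨liftPerm R s, hlift⟩, ?_, rfl⟩
      change conjHom _ _ ∈ Q
      rw [hϕ]
      exact hs
    refine ⟨⟨liftPerm R s, hmemR⟩, ?_⟩
    exact hϕ

/-- The set of transpositions of `R` has fewer elements than `Ω` (when `Ω` is nonempty). -/
theorem card_swapSet_lt (R : Sylow 2 (Perm Ω)) [Nonempty Ω] :
    Nat.card (swapSet (R : Subgroup (Perm Ω))) < Nat.card Ω := by
  have := Fintype.ofFinite Ω
  have hc := Nat.card_congr (coordEquiv R)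
  rw [Nat.card_sum, Nat.card_prod, Nat.card_eq_fintype_card (α := Bool), Fintype.card_bool] at hc
  by_cases hM : Nonempty (swapSet (R : Subgroup (Perm Ω)))
  · have : 0 < Nat.card (swapSet (R : Subgroup (Perm Ω))) := Nat.card_pos
    omega
  · rw [not_nonempty_iff] at hM
    rw [Nat.card_of_isEmpty]
    exact Nat.card_pos

/-- **Key theorem**: an element of odd order normalizing a Sylow 2-subgroup of `Perm Ω` is trivial. -/
theorem eq_one_of_mem_normalizer_of_odd_aux (n : ℕ) :
    ∀ (Ω : Type*) [Finite Ω] [DecidableEq Ω], Nat.card Ω = n → ∀ (R : Sylow 2 (Perm Ω)) (x : Perm Ω),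
      x ∈ Subgroup.normalizer ((R : Subgroup (Perm Ω)) : Set (Perm Ω)) → Odd (orderOf x) → x = 1 := by
  induction n using Nat.strong_induction_on with
  | _ n ih =>
    intro Ω _ _ hn R x hx hodd
    classical
    by_cases hΩ : Nonempty Ω
    swap
    · rw [not_nonempty_iff] at hΩ
      ext a
      exact isEmptyElim a
    have hlt := card_swapSet_lt R
    -- `x` normalizes the set of transpositions
    have hxM : x ∈ Subgroup.normalizer (swapSet (R : Subgroup (Perm Ω))) := by
      rw [Subgroup.mem_set_normalizer_iff]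
      intro t
      constructor
      · rintro ⟨htR, a, b, hab, rfl⟩
        refine ⟨(Subgroup.mem_normalizer_iff.mp hx _).mp htR, x a, x b, fun h => hab (x.injective h), ?_⟩
        exact (swap_apply_apply x a b).symm
      · rintro ⟨htR, a, b, hab, he⟩
        refine ⟨(Subgroup.mem_normalizer_iff.mp hx _).mpr htR, x⁻¹ a, x⁻¹ b, fun h => hab (x⁻¹.injective h), ?_⟩
        have h1 : t = x⁻¹ * swap a b * x := by
          rw [← he]
          group
        rw [h1]
        have := swap_apply_apply x⁻¹ a b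
        rw [inv_inv] at this
        exact this.symm
    let X : Subgroup.normalizer (swapSet (R : Subgroup (Perm Ω))) := ⟨x, hxM⟩
    let ϕ := conjHom (R : Subgroup (Perm Ω))
    -- `ϕ X` normalizes the image of `R` and has odd order
    have hX1 : ϕ X = 1 := by
      refine ih _ (hn ▸ hlt) (swapSet (R : Subgroup (Perm Ω))) rfl (imageSylow R) (ϕ X) ?_ ?_
      · rw [Subgroup.mem_normalizer_iff]
        intro s
        have key : ∀ y ∈ Subgroup.normalizer ((R : Subgroup (Perm Ω)) : Set (Perm Ω)),
            ∀ (hy : y ∈ Subgroup.normalizer (swapSet (R : Subgroup (Perm Ω)))) (s : Perm (swapSet (R : Subgroup (Perm Ω)))),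
            s ∈ (imageSylow R : Subgroup _) → ϕ ⟨y, hy⟩ * s * (ϕ ⟨y, hy⟩)⁻¹ ∈ (imageSylow R : Subgroup _) := by
          rintro y hy hy' _ ⟨⟨r, hr⟩, rfl⟩
          refine ⟨⟨y * r * y⁻¹, (Subgroup.mem_normalizer_iff.mp hy r).mp hr⟩, ?_⟩
          have h1 : imageHom (R : Subgroup (Perm Ω)) ⟨y * r * y⁻¹, (Subgroup.mem_normalizer_iff.mp hy r).mp hr⟩ =
              ϕ (⟨y, hy'⟩ * ⟨r, le_normalizer_swapSet _ hr⟩ * ⟨y, hy'⟩⁻¹) := rfl
          rw [h1, map_mul, map_mul, map_inv]
          rfl
        constructor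
        · exact key x hx hxM s
        · intro hs
          have hxinv : x⁻¹ ∈ Subgroup.normalizer ((R : Subgroup (Perm Ω)) : Set (Perm Ω)) := inv_mem hx
          have hxM' : x⁻¹ ∈ Subgroup.normalizer (swapSet (R : Subgroup (Perm Ω))) := inv_mem hxM
          have h2 := key x⁻¹ hxinv hxM' _ hs
          have h3 : (⟨x⁻¹, hxM'⟩ : Subgroup.normalizer (swapSet (R : Subgroup (Perm Ω)))) = X⁻¹ := rfl
          rw [h3, map_inv] at h2
          simpa [mul_assoc] using h2
      · have h1 : orderOf (ϕ X) ∣ orderOf X := orderOf_map_dvd ϕ X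
        have h2 : orderOf X = orderOf x := Subgroup.orderOf_mk x hxM
        rw [h2] at h1
        exact hodd.of_dvd_nat h1
    -- so `x` is an involution of odd order
    have h2 : x * x = 1 := by
      apply mul_self_eq_one_of_ker R x
      intro t ht
      have h3 : ϕ X ⟨t, ht⟩ = ⟨t, ht⟩ := by rw [hX1]; rfl
      exact congrArg Subtype.val h3
    have h3 : orderOf x ∣ 2 := orderOf_dvd_of_pow_eq_one (by rw [pow_two]; exact h2)
    rcases (Nat.dvd_prime Nat.prime_two).mp h3 with h4 | h4
    · exact orderOf_eq_one_iff.mp h4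
    · rw [h4] at hodd
      exact absurd hodd (by decide)

/-- An element of odd order normalizing a Sylow 2-subgroup of `Perm Ω` is trivial. -/
theorem eq_one_of_mem_normalizer_of_odd {Ω : Type*} [Finite Ω] (R : Sylow 2 (Perm Ω)) (x : Perm Ω)
    (hx : x ∈ Subgroup.normalizer ((R : Subgroup (Perm Ω)) : Set (Perm Ω))) (hodd : Odd (orderOf x)) :
    x = 1 := by
  classical
  exact eq_one_of_mem_normalizer_of_odd_aux _ Ω rfl R x hx hodd

/-- In a finite group, a Sylow 2-subgroup whose normalizer has no nontrivial odd-order element is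
self-normalizing. -/
theorem mem_of_mem_normalizer_of_no_odd {G : Type*} [Group G] [Finite G] (R : Sylow 2 G)
    (h : ∀ x ∈ Subgroup.normalizer ((R : Subgroup G) : Set G), Odd (orderOf x) → x = 1)
    {x : G} (hx : x ∈ Subgroup.normalizer ((R : Subgroup G) : Set G)) : x ∈ (R : Subgroup G) := by
  obtain ⟨i, o, ho, hord⟩ := Nat.exists_eq_two_pow_mul_odd (orderOf_pos x).ne'
  -- the `2'`-part is trivial
  have hw : x ^ (2 ^ i) = 1 := by
    apply h _ (Subgroup.pow_mem _ hx _)
    have h1 : orderOf (x ^ (2 ^ i)) = o := by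
      rw [orderOf_pow' x (by positivity), hord, Nat.gcd_eq_right (dvd_mul_right _ _)]
      exact Nat.mul_div_cancel_left _ (by positivity)
    rw [h1]
    exact ho
  have hP : IsPGroup 2 (Subgroup.zpowers x) :=
    IsPGroup.of_card_dvd_pow (n := i) (by
      rw [Nat.card_zpowers]
      exact orderOf_dvd_of_pow_eq_one hw)
  have hsup := R.is_maximal' (hP.to_sup_of_normal_right' R.isPGroup'
    (Subgroup.zpowers_le.mpr hx)) le_sup_right
  rw [← hsup]
  exact Subgroup.mem_sup_left (Subgroup.mem_zpowers x)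

/-- A Sylow 2-subgroup of a finite symmetric group is self-normalizing. -/
theorem normalizer_sylow_perm_le {Ω : Type*} [Finite Ω] (R : Sylow 2 (Perm Ω)) :
    Subgroup.normalizer ((R : Subgroup (Perm Ω)) : Set (Perm Ω)) ≤ (R : Subgroup (Perm Ω)) := fun _ hx =>
  mem_of_mem_normalizer_of_no_odd R (fun y hy hodd => eq_one_of_mem_normalizer_of_odd R y hy hodd) hx

/-- Double transpositions in a Sylow 2-subgroup. -/
theorem swap_mul_swap_mem (R : Sylow 2 (Perm Ω)) {p q u v : Ω} (hpq : p ≠ q) (hpu : p ≠ u) (hpv : p ≠ v)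
    (hqu : q ≠ u) (hqv : q ≠ v) (huv : u ≠ v)
    (hd : swap p q * swap u v ∈ (R : Subgroup (Perm Ω))) :
    swap p q ∈ (R : Subgroup (Perm Ω)) ∨
      (swap p u ∈ (R : Subgroup (Perm Ω)) ∧ swap q v ∈ (R : Subgroup (Perm Ω))) ∨
      (swap p v ∈ (R : Subgroup (Perm Ω)) ∧ swap q u ∈ (R : Subgroup (Perm Ω))) := by
  set d := swap p q * swap u v with hddef
  have hdp : d p = q := by
    simp [hddef, swap_apply_of_ne_of_ne hpu hpv]
  have hdq : d q = p := by
    simp [hddef, swap_apply_of_ne_of_ne hqu hqv]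
  have hdu : d u = v := by
    simp [hddef, swap_apply_of_ne_of_ne hpv.symm hqv.symm]
  have hdv : d v = u := by
    simp [hddef, swap_apply_of_ne_of_ne hpu.symm hqu.symm]
  obtain ⟨p', hp', hmem⟩ := exists_swap_mem R p ⟨d, hd, by rw [hdp]; exact hpq.symm⟩
  have hconj : swap (d p) (d p') ∈ (R : Subgroup (Perm Ω)) := by
    rw [swap_apply_apply]
    exact mul_mem (mul_mem hd hmem) (inv_mem hd)
  rw [hdp] at hconj
  by_cases h1 : p' = q
  · left
    rwa [h1] at hmem
  by_cases h2 : p' = u
  · right; left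
    rw [h2] at hmem hconj
    rw [hdu] at hconj
    exact ⟨hmem, hconj⟩
  by_cases h3 : p' = v
  · right; right
    rw [h3] at hmem hconj
    rw [hdv] at hconj
    exact ⟨hmem, hconj⟩
  · exfalso
    have hdp' : d p' = p' := by
      simp [hddef, swap_apply_of_ne_of_ne h2 h3, swap_apply_of_ne_of_ne hp' h1]
    rw [hdp'] at hconj
    have := swap_overlap R (a := p') (b := p) (c := q) hp'.symm (Ne.symm h1) (by rwa [swap_comm]) (by rwa [swap_comm])
    exact hpq this

/-- Outside any finite set leaving at least two points there is a point moved by `R`. -/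
theorem exists_moved_notMem (R : Sylow 2 (Perm Ω)) [Fintype Ω] (S : Finset Ω)
    (h : S.card + 2 ≤ Fintype.card Ω) : ∃ c, c ∉ S ∧ ∃ r ∈ (R : Subgroup (Perm Ω)), r c ≠ c := by
  have h1 : 1 < (Sᶜ).card := by
    rw [Finset.card_compl]
    omega
  obtain ⟨u, hu, v, hv, huv⟩ := Finset.one_lt_card.mp h1
  by_cases hufix : ∀ r ∈ (R : Subgroup (Perm Ω)), r u = u
  · by_cases hvfix : ∀ r ∈ (R : Subgroup (Perm Ω)), r v = v
    · exact absurd (eq_of_fixed_of_fixed R hufix hvfix) huv
    · push Not at hvfix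
      exact ⟨v, Finset.mem_compl.mp hv, hvfix⟩
  · push Not at hufix
    exact ⟨u, Finset.mem_compl.mp hu, hufix⟩

section Alternating

variable [Fintype Ω]

/-- If `P̃ = R ∩ A_n` for a Sylow 2-subgroup `R` of `S_n`, `n ≥ 6`, and `x` normalizes `P̃`, then `x`
conjugates the transpositions of `R` to transpositions of `R`. -/
theorem swap_conj_mem (R : Sylow 2 (Perm Ω)) (hcard : 6 ≤ Fintype.card Ω) (P : Subgroup (Perm Ω))
    (hPR : ∀ r ∈ (R : Subgroup (Perm Ω)), sign r = 1 → r ∈ P) (hPle : P ≤ (R : Subgroup (Perm Ω)))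
    (x : Perm Ω) (hx : x ∈ Subgroup.normalizer (P : Set (Perm Ω))) {a b : Ω} (hab : a ≠ b)
    (hmem : swap a b ∈ (R : Subgroup (Perm Ω))) : swap (x a) (x b) ∈ (R : Subgroup (Perm Ω)) := by
  -- a second transposition
  obtain ⟨c, hcS, hcm⟩ := exists_moved_notMem R {a, b} (by
    have := Finset.card_le_two (a := a) (b := b)
    omega)
  simp only [Finset.mem_insert, Finset.mem_singleton, not_or] at hcS
  obtain ⟨c', hc', hcmem⟩ := exists_swap_mem R c hcm
  have hca' : c' ≠ a := by
    rintro rfl
    exact hcS.2 (swap_overlap R (a := c') (b := c) (c := b) hcS.1 hab.symm (by rwa [swap_comm]) hmem)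
  have hcb' : c' ≠ b := by
    rintro rfl
    exact hcS.1 (swap_overlap R (a := c') (b := c) (c := a) hcS.2 hab (by rwa [swap_comm]) (by rwa [swap_comm]))
  -- a third transposition
  obtain ⟨e, heS, hem⟩ := exists_moved_notMem R {a, b, c, c'} (by
    have h1 : ({a, b, c, c'} : Finset Ω).card ≤ 4 := Finset.card_le_four
    omega)
  simp only [Finset.mem_insert, Finset.mem_singleton, not_or] at heS
  obtain ⟨hea, heb, hec, hec'⟩ := heS
  obtain ⟨e', he', hemem⟩ := exists_swap_mem R e hem
  have hea' : e' ≠ a := by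
    rintro rfl
    exact heb (swap_overlap R (a := e') (b := e) (c := b) hea hab.symm (by rwa [swap_comm]) hmem)
  have heb' : e' ≠ b := by
    rintro rfl
    exact hea (swap_overlap R (a := e') (b := e) (c := a) heb hab (by rwa [swap_comm]) (by rwa [swap_comm]))
  have hec'' : e' ≠ c := by
    rintro rfl
    exact hec' (swap_overlap R (a := e') (b := e) (c := c') hec hc' (by rwa [swap_comm]) hcmem)
  have hecc : e' ≠ c' := by
    rintro rfl
    exact hec (swap_overlap R (a := e') (b := e) (c := c) hec' hc'.symm (by rwa [swap_comm]) (by rwa [swap_comm]))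
  -- conjugate the double transpositions
  have hconj : ∀ {p q u v : Ω}, p ≠ q → u ≠ v → swap p q ∈ (R : Subgroup (Perm Ω)) →
      swap u v ∈ (R : Subgroup (Perm Ω)) →
      swap (x p) (x q) * swap (x u) (x v) ∈ (R : Subgroup (Perm Ω)) := by
    intro p q u v hpq huv hm1 hm2
    have h1 : swap p q * swap u v ∈ P := hPR _ (mul_mem hm1 hm2) (by
      rw [map_mul, sign_swap hpq, sign_swap huv]
      rfl)
    have h2 := (Subgroup.mem_normalizer_iff.mp hx _).mp h1
    have h3 : swap (x p) (x q) * swap (x u) (x v) = x * (swap p q * swap u v) * x⁻¹ := by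
      rw [swap_apply_apply, swap_apply_apply]
      group
    rw [h3]
    exact hPle h2
  have hxne : ∀ {p q : Ω}, p ≠ q → x p ≠ x q := fun h he => h (x.injective he)
  have hd1 := swap_mul_swap_mem R (hxne hab) (hxne (Ne.symm hcS.1)) (hxne hca'.symm) (hxne (Ne.symm hcS.2))
    (hxne hcb'.symm) (hxne hc'.symm) (hconj hab hc'.symm hmem hcmem)
  have hd2 := swap_mul_swap_mem R (hxne hab) (hxne (Ne.symm hea)) (hxne hea'.symm) (hxne (Ne.symm heb))
    (hxne heb'.symm) (hxne he'.symm) (hconj hab he'.symm hmem hemem)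
  rcases hd1 with hd1 | ⟨hd1, -⟩ | ⟨hd1, -⟩
  · exact hd1
  · rcases hd2 with hd2 | ⟨hd2, -⟩ | ⟨hd2, -⟩
    · exact hd2
    · exact absurd (x.injective (swap_overlap R (hxne hcS.1) (hxne hea) hd1 hd2)) (Ne.symm hec)
    · exact absurd (x.injective (swap_overlap R (hxne hcS.1) (hxne hea') hd1 hd2)) (Ne.symm hec'')
  · rcases hd2 with hd2 | ⟨hd2, -⟩ | ⟨hd2, -⟩
    · exact hd2
    · exact absurd (x.injective (swap_overlap R (hxne hca') (hxne hea) hd1 hd2)) (Ne.symm hec')
    · exact absurd (x.injective (swap_overlap R (hxne hca') (hxne hea') hd1 hd2)) (Ne.symm hecc)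

/-- Under the same hypotheses, `x` normalizes `R`. -/
theorem mem_normalizer_of_mem_normalizer (R : Sylow 2 (Perm Ω)) (hcard : 6 ≤ Fintype.card Ω)
    (P : Subgroup (Perm Ω))
    (hPR : ∀ r ∈ (R : Subgroup (Perm Ω)), sign r = 1 → r ∈ P) (hPle : P ≤ (R : Subgroup (Perm Ω)))
    (x : Perm Ω) (hx : x ∈ Subgroup.normalizer (P : Set (Perm Ω))) :
    x ∈ Subgroup.normalizer ((R : Subgroup (Perm Ω)) : Set (Perm Ω)) := by
  -- a transposition in `R`
  obtain ⟨c, -, hcm⟩ := exists_moved_notMem R ∅ (by simp; omega)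
  obtain ⟨c', hc', hcmem⟩ := exists_swap_mem R c hcm
  have key : ∀ y ∈ Subgroup.normalizer (P : Set (Perm Ω)), ∀ r ∈ (R : Subgroup (Perm Ω)),
      y * r * y⁻¹ ∈ (R : Subgroup (Perm Ω)) := by
    intro y hy r hr
    rcases Int.units_eq_one_or (sign r) with hs | hs
    · exact hPle ((Subgroup.mem_normalizer_iff.mp hy _).mp (hPR r hr hs))
    · have h1 : swap c c' * r ∈ P := hPR _ (mul_mem hcmem hr) (by
        rw [map_mul, sign_swap hc'.symm, hs]
        rfl)
      have h2 := hPle ((Subgroup.mem_normalizer_iff.mp hy _).mp h1)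
      have h3 := swap_conj_mem R hcard P hPR hPle y hy hc'.symm hcmem
      have h4 : y * r * y⁻¹ = (swap (y c) (y c'))⁻¹ * (y * (swap c c' * r) * y⁻¹) := by
        rw [swap_apply_apply]
        group
      rw [h4]
      exact mul_mem (inv_mem h3) h2
  rw [Subgroup.mem_normalizer_iff]
  intro r
  refine ⟨key x hx r, fun hr => ?_⟩
  have := key x⁻¹ (inv_mem hx) _ hr
  simpa [mul_assoc] using this

/-- **Sylow 2-subgroups of `A_n`, `n ≥ 6`, are self-normalizing.** -/
theorem normalizer_sylow_alternating_le (hcard : 6 ≤ Fintype.card Ω)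
    (P : Sylow 2 (alternatingGroup Ω)) :
    Subgroup.normalizer ((P : Subgroup (alternatingGroup Ω)) : Set (alternatingGroup Ω)) ≤
      (P : Subgroup (alternatingGroup Ω)) := by
  have hfact : Fact (Nat.Prime 2) := ⟨Nat.prime_two⟩
  set Pt : Subgroup (Perm Ω) := (P : Subgroup (alternatingGroup Ω)).map (alternatingGroup Ω).subtype with hPt
  obtain ⟨R, hR⟩ := (P.isPGroup'.map (alternatingGroup Ω).subtype).exists_le_sylow
  have hQ : (R : Subgroup (Perm Ω)).subgroupOf (alternatingGroup Ω) = (P : Subgroup (alternatingGroup Ω)) := by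
    apply P.is_maximal' R.isPGroup'.comap_subtype
    intro y hy
    exact hR ⟨y, hy, rfl⟩
  have hPR : ∀ r ∈ (R : Subgroup (Perm Ω)), sign r = 1 → r ∈ Pt := by
    intro r hr hs
    have hrA : r ∈ alternatingGroup Ω := Equiv.Perm.mem_alternatingGroup.mpr hs
    have h1 : (⟨r, hrA⟩ : alternatingGroup Ω) ∈ (R : Subgroup (Perm Ω)).subgroupOf (alternatingGroup Ω) := hr
    rw [hQ] at h1
    exact ⟨⟨r, hrA⟩, h1, rfl⟩
  intro x hx
  have hxPt : (x : Perm Ω) ∈ Subgroup.normalizer (Pt : Set (Perm Ω)) := by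
    rw [Subgroup.mem_normalizer_iff]
    intro y
    constructor
    · rintro ⟨z, hz, rfl⟩
      exact ⟨x * z * x⁻¹, (Subgroup.mem_normalizer_iff.mp hx z).mp hz, rfl⟩
    · rintro ⟨z, hz, he⟩
      refine ⟨x⁻¹ * z * x, ?_, ?_⟩
      · have := (Subgroup.mem_normalizer_iff''.mp hx z).mp hz
        exact this
      · have he' : (z : Perm Ω) = x * y * (x : Perm Ω)⁻¹ := he
        simp [he', mul_assoc]
  have hxR := mem_normalizer_of_mem_normalizer R hcard Pt hPR hR _ hxPt
  have hxR' := normalizer_sylow_perm_le R hxR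
  have hs : sign (x : Perm Ω) = 1 := Equiv.Perm.mem_alternatingGroup.mp x.2
  obtain ⟨z, hz, he⟩ := hPR _ hxR' hs
  have : z = x := Subtype.ext he
  rwa [← this]

end Alternating

end Cfsg.Agent.Lib.Perm.SylowSym




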