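import Mathlib

/-!
# Sylow `2`-subgroups of symmetric and alternating groups

`P` a Sylow `2`-subgroup of `Sym(α)`:
* `exists_matching_of_sylow`, `eq_matching_of_swap_mem`, `apply_matching_of_normalizes`: the
  transpositions of `P` form a matching `σ` (an involution with at most one fixed point), and
  `N(P)` commutes with `σ`.
* `exists_sylow_of_sylow_alternating`: every Sylow `2`-subgroup of `A_n` is the even part of one
  of `S_n`.
* `exists_mem_apply_eq_of_card_pow`, `exists_mem_apply_eq_of_card_pow_add_one`, `exists_even_apply_eq`: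
  transitivity in degree `2 ^ k` and on the complement of the fixed point in degree `2 ^ k + 1`.
* `exists_half_block`: partition in two halves in degree `2 ^ k`.
* `existsUnique_coatom_perm`, `existsUnique_coatom_alternating`,
  `exists_pow_of_existsUnique_coatom_perm`, `exists_pow_of_existsUnique_coatom_alternating`:
  the Sylow `2`-subgroup lies in a unique maximal subgroup iff `n = 2 ^ k + 1`.
-/

namespace Cfsg.Agent.Lib.Perm.SylowTwoSym

open Equiv Equiv.Perm MulAction
open scoped Pointwise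

variable {α : Type*} [Fintype α] [DecidableEq α]

/-- Conjugate of a swap. -/
theorem conj_swap (g : Perm α) (x y : α) : g * swap x y * g⁻¹ = swap (g x) (g y) :=
  (Equiv.swap_apply_apply g x y).symm ▸ rfl

/-- Two swaps with a common point in a 2-group coincide. -/
theorem swap_eq_of_isPGroup {P : Subgroup (Perm α)} (hP : IsPGroup 2 P) {x y z : α}
    (hxy : x ≠ y) (hxz : x ≠ z) (h1 : swap x y ∈ P) (h2 : swap x z ∈ P) : y = z := by
  by_contra hne
  have h3 := isThreeCycle_swap_mul_swap_same hxy hxz hne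
  have hmem := P.mul_mem h1 h2
  obtain ⟨k, hk⟩ := hP ⟨_, hmem⟩
  have hk' : (swap x y * swap x z) ^ 2 ^ k = 1 := by
    simpa [Subtype.ext_iff] using hk
  have := orderOf_dvd_of_pow_eq_one hk'
  rw [h3.orderOf] at this
  have h4 := Nat.Prime.dvd_of_dvd_pow Nat.prime_three this
  omega

/-- Conjugating a `p`-subgroup into a given Sylow subgroup. -/
theorem exists_conj_mem_sylow {G : Type*} [Group G] [Finite G] {p : ℕ} [Fact p.Prime]
    (P : Sylow p G) {E : Subgroup G} (hE : IsPGroup p E) :
    ∃ g : G, ∀ w ∈ E, g * w * g⁻¹ ∈ P := by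
  obtain ⟨Q, hQ⟩ := hE.exists_le_sylow
  obtain ⟨g, hg⟩ := MulAction.exists_smul_eq G Q P
  refine ⟨g, fun w hw => ?_⟩
  rw [← hg]
  change _ ∈ ((g • Q : Sylow p G) : Subgroup G)
  rw [Sylow.coe_subgroup_smul]
  exact ⟨w, hQ hw, by simp [MulAut.conj_apply]⟩

/-- An involution with at most one fixed point; fixed points occur only in odd degree. -/
structure IsMatching (σ : Perm α) : Prop where
  invol : ∀ x, σ (σ x) = x
  fix : ∀ x y, σ x = x → σ y = y → x = y
  even_free : Even (Fintype.card α) → ∀ x, σ x ≠ x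

theorem exists_isMatching (α : Type*) [Fintype α] [DecidableEq α] :
    ∃ σ : Perm α, IsMatching σ := by
  let e := Fintype.equivFin α
  refine ⟨e.trans (Fin.revPerm.trans e.symm), ?_, ?_, ?_⟩
  · intro x
    simp
  · intro x y hx hy
    have hx' : Fin.rev (e x) = e x := by
      have := congrArg e hx
      simpa using this
    have hy' : Fin.rev (e y) = e y := by
      have := congrArg e hy
      simpa using this
    apply e.injective
    apply Fin.ext
    have h1 := congrArg Fin.val hx'
    have h2 := congrArg Fin.val hy'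
    simp only [Fin.val_rev] at h1 h2
    omega
  · intro hev x hx
    have hx' : Fin.rev (e x) = e x := by
      have := congrArg e hx
      simpa using this
    have h1 := congrArg Fin.val hx'
    simp only [Fin.val_rev] at h1
    obtain ⟨c, hc⟩ := hev
    omega

/-- The elementary abelian subgroup of permutations moving points along `σ`. -/
def matchingGroup (σ : Perm α) (hσ : IsMatching σ) : Subgroup (Perm α) where
  carrier := {w | ∀ x, w x = x ∨ w x = σ x}
  one_mem' := fun x => Or.inl rfl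
  mul_mem' := by
    intro a b ha hb x
    rcases hb x with h | h
    · simp only [Perm.mul_apply, h]
      exact ha x
    · simp only [Perm.mul_apply, h]
      rcases ha (σ x) with h' | h'
      · exact Or.inr h'
      · left
        rw [h', hσ.invol]
  inv_mem' := by
    intro a ha x
    have hself : a (a⁻¹ x) = x := by simp
    rcases ha (a⁻¹ x) with h | h
    · left
      rw [hself] at h
      exact h.symm
    · right
      rw [hself] at h
      have h2 : σ x = a⁻¹ x := by
        conv_lhs => rw [h]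
        exact hσ.invol _
      exact h2.symm

theorem isPGroup_matchingGroup (σ : Perm α) (hσ : IsMatching σ) :
    IsPGroup 2 (matchingGroup σ hσ) := by
  rintro ⟨w, hw⟩
  refine ⟨1, ?_⟩
  apply Subtype.ext
  ext x
  show w (w x) = x
  rcases hw x with h | h
  · rw [h, h]
  · rw [h]
    rcases hw (σ x) with h' | h'
    · have : w x = w (σ x) := by rw [h, h']
      have h2 := w.injective this
      rw [h']
      exact h2.symm
    · rw [h', hσ.invol]

/-- A Sylow 2-subgroup contains the transpositions of a matching. -/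
theorem exists_matching_of_sylow (P : Sylow 2 (Perm α)) :
    ∃ σ : Perm α, IsMatching σ ∧ ∀ x, σ x ≠ x → swap x (σ x) ∈ P := by
  obtain ⟨σ₀, h₀⟩ := exists_isMatching α
  obtain ⟨g, hg⟩ := exists_conj_mem_sylow P (isPGroup_matchingGroup σ₀ h₀)
  have hconj : ∀ x, (g * σ₀ * g⁻¹) x = g (σ₀ (g⁻¹ x)) := fun x => rfl
  refine ⟨g * σ₀ * g⁻¹, ⟨?_, ?_, ?_⟩, ?_⟩
  · intro x
    simp [hconj, h₀.invol]
  · intro x y hx hy
    rw [hconj] at hx hy
    have hx' : σ₀ (g⁻¹ x) = g⁻¹ x := by
      rw [Perm.eq_inv_iff_eq]; exact hx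
    have hy' : σ₀ (g⁻¹ y) = g⁻¹ y := by
      rw [Perm.eq_inv_iff_eq]; exact hy
    exact (g⁻¹).injective (h₀.fix _ _ hx' hy')
  · intro hev x hx
    rw [hconj] at hx
    have hx' : σ₀ (g⁻¹ x) = g⁻¹ x := by
      rw [Perm.eq_inv_iff_eq]; exact hx
    exact h₀.even_free hev _ hx'
  · intro x hx
    rw [hconj] at hx ⊢
    set y := g⁻¹ x with hy
    have hxy : x = g y := by simp [hy]
    have hne : σ₀ y ≠ y := by
      intro h
      apply hx
      rw [h, hxy]
    have hmem : swap y (σ₀ y) ∈ matchingGroup σ₀ h₀ := by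
      intro z
      by_cases hz1 : z = y
      · subst hz1
        right
        simp
      by_cases hz2 : z = σ₀ y
      · subst hz2
        right
        simp [h₀.invol]
      · left
        exact swap_apply_of_ne_of_ne hz1 hz2
    have := hg _ hmem
    rw [conj_swap] at this
    rw [hxy]
    exact this

/-- All transpositions in `P` lie along the matching. -/
theorem eq_matching_of_swap_mem {P : Sylow 2 (Perm α)} {σ : Perm α} (hσ : IsMatching σ)
    (hP : ∀ x, σ x ≠ x → swap x (σ x) ∈ P) {x y : α} (hxy : x ≠ y) (h : swap x y ∈ P) :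
    y = σ x := by
  by_cases hx : σ x = x
  · have hy : σ y ≠ y := fun hy => hxy (hσ.fix _ _ hx hy)
    have h1 := hP y hy
    have h2 : swap y x ∈ P := by rwa [swap_comm]
    have := swap_eq_of_isPGroup P.isPGroup' hy.symm hxy.symm h1 h2
    rw [← this, hσ.invol] at hx
    exact absurd hx.symm hy
  · exact swap_eq_of_isPGroup P.isPGroup' hxy (Ne.symm hx) h (hP x hx)

/-- Elements normalizing `P` commute with the matching. -/
theorem apply_matching_of_normalizes {P : Sylow 2 (Perm α)} {σ : Perm α} (hσ : IsMatching σ)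
    (hP : ∀ x, σ x ≠ x → swap x (σ x) ∈ P) {g : Perm α}
    (hg : g ∈ Subgroup.normalizer ((P : Subgroup (Perm α)) : Set (Perm α))) (x : α) :
    g (σ x) = σ (g x) := by
  have key : ∀ (h : Perm α), h ∈ Subgroup.normalizer ((P : Subgroup (Perm α)) : Set (Perm α)) →
      ∀ x, σ x ≠ x → h (σ x) = σ (h x) := by
    intro h hh x hx
    have h1 := hP x hx
    have h2 : h * swap x (σ x) * h⁻¹ ∈ (P : Subgroup (Perm α)) :=
      (Subgroup.mem_normalizer_iff.mp hh _).mp h1
    rw [conj_swap] at h2
    exact eq_matching_of_swap_mem hσ hP (fun e => hx (h.injective e).symm) h2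
  by_cases hx : σ x = x
  · rw [hx]
    by_contra hne
    have hne' : σ (g x) ≠ g x := Ne.symm hne
    have h1 := key g⁻¹ (Subgroup.inv_mem _ hg) (g x) hne'
    have hself : g⁻¹ (g x) = x := by simp
    rw [hself, hx] at h1
    apply hne
    have := congrArg g h1
    simpa using this.symm
  · exact key g hg x hx


/-- If `H ≤ G` has index prime to `p` and the `G`-orbit of `a` has size `p ^ m`, then `H` has the
same orbit. -/
theorem exists_mem_smul_eq_of_orbit_pow {G β : Type*} [Group G] [Finite G] [MulAction G β] {p m : ℕ}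
    [hp : Fact p.Prime] (H : Subgroup G) (hH : ¬ p ∣ H.index) (a : β)
    (hcard : (orbit G a).ncard = p ^ m) {x : β} (hx : x ∈ orbit G a) : ∃ h ∈ H, h • a = x := by
  set S := stabilizer G a with hS
  have h1 : S.index = p ^ m := by rw [hS, index_stabilizer, hcard]
  have h2 : S.relIndex H = (orbit H a).ncard := by
    rw [← index_stabilizer]
    rfl
  have h3 : (H ⊓ S).relIndex H * H.index = (H ⊓ S).index :=
    Subgroup.relIndex_mul_index inf_le_left
  have h4 : (H ⊓ S).relIndex S * S.index = (H ⊓ S).index :=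
    Subgroup.relIndex_mul_index inf_le_right
  rw [Subgroup.inf_relIndex_left] at h3
  have h5 : p ^ m ∣ S.relIndex H * H.index := by
    rw [h3, ← h4, h1]
    exact dvd_mul_left _ _
  have hcop : Nat.Coprime (p ^ m) H.index :=
    Nat.Coprime.pow_left m ((Nat.Prime.coprime_iff_not_dvd hp.out).mpr hH)
  have h6 : p ^ m ∣ S.relIndex H := hcop.dvd_of_dvd_mul_right h5
  have hsub : orbit H a ⊆ orbit G a := by
    rintro _ ⟨h, rfl⟩
    exact ⟨h.1, rfl⟩
  have hfin : (orbit G a).Finite := Set.finite_range _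
  have hpos : 0 < S.relIndex H := by
    rw [h2]
    exact (Set.ncard_pos (hfin.subset hsub)).mpr ⟨a, mem_orbit_self a⟩
  have hle : p ^ m ≤ (orbit H a).ncard := by
    rw [← h2]
    exact Nat.le_of_dvd hpos h6
  have heq : orbit H a = orbit G a :=
    Set.eq_of_subset_of_ncard_le hsub (by rw [hcard]; exact hle) hfin
  rw [← heq] at hx
  obtain ⟨h, rfl⟩ := hx
  exact ⟨h.1, h.2, rfl⟩

variable {α : Type*} [Fintype α] [DecidableEq α]

theorem exists_fixed_of_odd (P : Sylow 2 (Perm α)) (hodd : Odd (Fintype.card α)) :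
    ∃ f : α, ∀ g ∈ (P : Subgroup (Perm α)), g f = f := by
  have h := P.isPGroup'.nonempty_fixed_point_of_prime_not_dvd_card (p := 2) α (by
    rw [Nat.card_eq_fintype_card]
    exact hodd.not_two_dvd_nat)
  obtain ⟨f, hf⟩ := h
  exact ⟨f, fun g hg => hf ⟨g, hg⟩⟩

/-- `P` is transitive on `α` if `|α|` is a power of `2`. -/
theorem exists_mem_apply_eq_of_card_pow (P : Sylow 2 (Perm α)) {k : ℕ}
    (hn : Fintype.card α = 2 ^ k) (x y : α) : ∃ u ∈ (P : Subgroup (Perm α)), u x = y := by
  have htop : orbit (Perm α) x = Set.univ := orbit_eq_univ _ _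
  refine exists_mem_smul_eq_of_orbit_pow (p := 2) (m := k) (P : Subgroup (Perm α))
    P.not_dvd_index x (by rw [htop, Set.ncard_univ, Nat.card_eq_fintype_card, hn]) (by rw [htop]; trivial)

/-- `P` is transitive on the complement of a fixed point if this has size a power of `2`. -/
theorem exists_mem_apply_eq_of_card_pow_add_one (P : Sylow 2 (Perm α)) {k : ℕ}
    (hn : Fintype.card α = 2 ^ k + 1) {f : α} (hf : ∀ g ∈ (P : Subgroup (Perm α)), g f = f)
    {x y : α} (hx : x ≠ f) (hy : y ≠ f) : ∃ u ∈ (P : Subgroup (Perm α)), u x = y := by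
  set G := stabilizer (Perm α) f with hG
  have hPG : (P : Subgroup (Perm α)) ≤ G := fun g hg => hf g hg
  have hindex : ¬ 2 ∣ ((P : Subgroup (Perm α)).subgroupOf G).index := by
    intro h
    apply P.not_dvd_index
    rw [← Subgroup.relIndex_mul_index hPG]
    exact h.trans (dvd_mul_right _ _)
  have horb : orbit G x = {z | z ≠ f} := by
    ext z
    constructor
    · rintro ⟨g, rfl⟩
      intro h
      have h1 : (g : Perm α) f = f := g.2
      have h2 : (g : Perm α) x = f := h
      exact hx (g.1.injective (h2.trans h1.symm))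
    · intro hz
      by_cases hxz : x = z
      · subst hxz
        exact mem_orbit_self _
      · refine ⟨⟨swap x z, ?_⟩, ?_⟩
        · exact swap_apply_of_ne_of_ne (Ne.symm hx) (Ne.symm hz)
        · change swap x z x = z
          simp
  have hcard : (orbit G x).ncard = 2 ^ k := by
    rw [horb]
    have h1 := Set.ncard_add_ncard_compl ({f} : Set α)
    rw [Set.ncard_singleton, Nat.card_eq_fintype_card, hn] at h1
    have h2 : ({f} : Set α)ᶜ = {z | z ≠ f} := by ext z; simp
    rw [← h2]
    omega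
  obtain ⟨h, hh, hxy⟩ := exists_mem_smul_eq_of_orbit_pow (p := 2) (m := k)
    ((P : Subgroup (Perm α)).subgroupOf G) hindex x hcard (by rw [horb]; exact hy)
  exact ⟨h.1, hh, hxy⟩

/-- Two-transitivity from transitivity of a point stabilizer on the remaining points. -/
theorem isMultiplyPretransitive_two_of_moves (K : Subgroup (Perm α)) (f : α)
    (htrans : ∀ x y, x ≠ f → y ≠ f → ∃ u ∈ K, u f = f ∧ u x = y) (hmove : ∃ g ∈ K, g f ≠ f) :
    IsMultiplyPretransitive K α 2 := by
  obtain ⟨g, hg, hgf⟩ := hmove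
  -- every point can be moved to `f`
  have hto : ∀ x, ∃ h ∈ K, h x = f := by
    intro x
    by_cases hx : x = f
    · exact ⟨1, K.one_mem, by simp [hx]⟩
    · obtain ⟨u, hu, huf, hux⟩ := htrans x (g f) hx hgf
      refine ⟨g⁻¹ * u, K.mul_mem (K.inv_mem hg) hu, ?_⟩
      simp [hux]
  rw [is_two_pretransitive_iff]
  intro a b c d hab hcd
  obtain ⟨h₁, hh₁, h₁a⟩ := hto a
  obtain ⟨h₂, hh₂, h₂c⟩ := hto c
  have hb : h₁ b ≠ f := fun e => hab (h₁.injective (h₁a.trans e.symm))
  have hd : h₂ d ≠ f := fun e => hcd (h₂.injective (h₂c.trans e.symm))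
  obtain ⟨u, hu, huf, hub⟩ := htrans _ _ hb hd
  refine ⟨⟨h₂⁻¹ * u * h₁, K.mul_mem (K.mul_mem (K.inv_mem hh₂) hu) hh₁⟩, ?_, ?_⟩
  · change (h₂⁻¹ * u * h₁) a = c
    have hc : h₂⁻¹ f = c := by rw [← h₂c]; simp
    change h₂⁻¹ (u (h₁ a)) = c
    rw [h₁a, huf, hc]
  · change (h₂⁻¹ * u * h₁) b = d
    simp [hub]

theorem exists_swap_mem {P : Sylow 2 (Perm α)} {σ : Perm α} (hσ : IsMatching σ)
    (hP : ∀ x, σ x ≠ x → swap x (σ x) ∈ P) (h2 : 2 ≤ Fintype.card α) :
    ∃ x, σ x ≠ x ∧ IsSwap (swap x (σ x)) ∧ swap x (σ x) ∈ P := by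
  obtain ⟨a, b, hab⟩ := Fintype.exists_pair_of_one_lt_card (α := α) (by omega)
  have : ∃ x, σ x ≠ x := by
    by_contra hcon
    simp only [not_exists, not_not] at hcon
    exact hab (hσ.fix _ _ (hcon a) (hcon b))
  obtain ⟨x, hx⟩ := this
  exact ⟨x, hx, ⟨x, σ x, Ne.symm hx, rfl⟩, hP x hx⟩

/-- Membership in the stabilizer of a set, elementwise. -/
theorem mem_stabilizer_set_iff' {G : Type*} [Group G] [MulAction G α] {g : G} {s : Set α} :
    g ∈ stabilizer G s ↔ ∀ x, g • x ∈ s ↔ x ∈ s := by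
  rw [mem_stabilizer_iff]
  constructor
  · intro h x
    constructor
    · intro hx
      rw [← h] at hx
      exact Set.smul_mem_smul_set_iff.mp hx
    · intro hx
      rw [← h]
      exact Set.smul_mem_smul_set_iff.mpr hx
  · intro h
    ext y
    rw [Set.mem_smul_set_iff_inv_smul_mem, ← h (g⁻¹ • y), smul_inv_smul]


theorem odd_card_of_eq_pow_add_one {k : ℕ} (hk : 1 ≤ k) (hn : Fintype.card α = 2 ^ k + 1) :
    Odd (Fintype.card α) := by
  rw [hn]
  exact Even.add_one ((Nat.even_pow' (by omega)).mpr (by decide))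

theorem four_le_pow {k : ℕ} (hk : 2 ≤ k) : 4 ≤ 2 ^ k := by
  calc 4 = 2 ^ 2 := rfl
    _ ≤ 2 ^ k := Nat.pow_le_pow_right (by norm_num) hk

theorem eight_le_pow {k : ℕ} (hk : 3 ≤ k) : 8 ≤ 2 ^ k := by
  calc 8 = 2 ^ 3 := rfl
    _ ≤ 2 ^ k := Nat.pow_le_pow_right (by norm_num) hk

theorem coatom_eq_of_le {L : Type*} [PartialOrder L] [OrderTop L] {a b : L} (ha : IsCoatom a)
    (hb : b ≠ ⊤) (h : a ≤ b) : a = b := by
  by_contra hne
  exact hb (ha.2 b (lt_of_le_of_ne h hne))

theorem isCoatom_stabilizer_singleton_perm {f : α} (h3 : 3 ≤ Fintype.card α) :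
    IsCoatom (stabilizer (Perm α) ({f} : Set α)) := by
  apply Equiv.Perm.isCoatom_stabilizer_of_ncard_lt_ncard_compl (by simp)
  have h1 := Set.ncard_add_ncard_compl ({f} : Set α)
  rw [Set.ncard_singleton, Nat.card_eq_fintype_card] at h1
  rw [Set.ncard_singleton]
  omega

/-- A Sylow `2`-subgroup of `Sym(2^k+1)` lies in a unique maximal subgroup. -/
theorem existsUnique_coatom_perm (P : Sylow 2 (Perm α)) {k : ℕ} (hk : 2 ≤ k)
    (hn : Fintype.card α = 2 ^ k + 1) :
    ∃! M : Subgroup (Perm α), IsCoatom M ∧ (P : Subgroup (Perm α)) ≤ M := by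
  obtain ⟨f, hf⟩ := exists_fixed_of_odd P (odd_card_of_eq_pow_add_one (by omega) hn)
  obtain ⟨σ, hσ, hσP⟩ := exists_matching_of_sylow P
  have h4 := four_le_pow hk
  refine ⟨stabilizer (Perm α) ({f} : Set α), ⟨isCoatom_stabilizer_singleton_perm (by omega), ?_⟩, ?_⟩
  · intro g hg
    rw [stabilizer_singleton]
    exact hf g hg
  · rintro K ⟨hK, hPK⟩
    by_cases hfix : ∀ g ∈ K, g f = f
    · have hle : K ≤ stabilizer (Perm α) ({f} : Set α) := by
        intro g hg
        rw [stabilizer_singleton]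
        exact hfix g hg
      exact coatom_eq_of_le hK (isCoatom_stabilizer_singleton_perm (by omega)).1 hle
    · simp only [not_forall] at hfix
      obtain ⟨g, hg, hgf⟩ := hfix
      have h2 := isMultiplyPretransitive_two_of_moves K f (fun x y hx hy => by
          obtain ⟨u, hu, hxy⟩ := exists_mem_apply_eq_of_card_pow_add_one P hn hf hx hy
          exact ⟨u, hPK hu, hf u hu, hxy⟩) ⟨g, hg, hgf⟩
      have hprim := isPreprimitive_of_is_two_pretransitive h2
      obtain ⟨x, -, hsw, hmem⟩ := exists_swap_mem hσ hσP (by omega)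
      have := subgroup_eq_top_of_isPreprimitive_of_isSwap_mem hprim _ hsw (hPK hmem)
      exact absurd this hK.1

theorem exists_not_mem_list (l : List α) (h : l.length < Fintype.card α) : ∃ z, z ∉ l := by
  by_contra hcon
  simp only [not_exists, not_not] at hcon
  have h1 : (Finset.univ : Finset α) ⊆ l.toFinset := fun x _ => List.mem_toFinset.mpr (hcon x)
  have h2 := Finset.card_le_card h1
  have h3 := List.toFinset_card_le l
  rw [Finset.card_univ] at h2
  omega

theorem conj_swap_mul_swap (u : Perm α) (p q r s : α) :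
    u * (swap p q * swap r s) * u⁻¹ = swap (u p) (u q) * swap (u r) (u s) := by
  rw [← conj_swap, ← conj_swap]
  group

theorem sign_swap_mul_swap {p q r s : α} (h1 : p ≠ q) (h2 : r ≠ s) :
    swap p q * swap r s ∈ alternatingGroup α := by
  rw [mem_alternatingGroup, Perm.sign_mul, sign_swap h1, sign_swap h2]
  rfl

theorem swap_mul_swap_cancel_of_disjoint {a b r s : α} (h1 : a ≠ r) (h2 : a ≠ s) (h3 : b ≠ r)
    (h4 : b ≠ s) : Commute (swap a b) (swap r s) := by
  apply Disjoint.commute
  intro x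
  by_cases hxa : x = a
  · right
    subst hxa
    exact swap_apply_of_ne_of_ne h1 h2
  by_cases hxb : x = b
  · right
    subst hxb
    exact swap_apply_of_ne_of_ne h3 h4
  · left
    exact swap_apply_of_ne_of_ne hxa hxb

/-- Case A: a `3`-cycle from `swap a f * swap r s` -/
theorem threeCycle_caseA {K : Subgroup (Perm α)} {σ : Perm α} (hσ : IsMatching σ) {f : α}
    (hσf : σ f = f) (hE : ∀ x z, x ≠ f → z ≠ f → swap x (σ x) * swap z (σ z) ∈ K)
    (hbig : 7 < Fintype.card α)
    {a r s : α} (haf : a ≠ f) (har : a ≠ r) (has : a ≠ s) (hrf : r ≠ f) (hsf : s ≠ f) (hrs : r ≠ s)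
    (hr : σ a ≠ r) (hs : σ a ≠ s) (hy : swap a f * swap r s ∈ K) :
    ∃ c ∈ K, IsThreeCycle c := by
  have hσinj := σ.injective
  have hσa : σ a ≠ a := fun h => haf (hσ.fix _ _ h hσf)
  have hσaf : σ a ≠ f := fun h => haf (hσinj (h.trans hσf.symm))
  obtain ⟨z, hz⟩ := exists_not_mem_list [f, a, σ a, r, s, σ r, σ s] (by simpa using hbig)
  simp only [List.mem_cons, List.not_mem_nil, or_false, not_or] at hz
  obtain ⟨hzf, hza, hzσa, hzr, hzs, hzσr, hzσs⟩ := hz
  have hσzf : σ z ≠ f := fun h => hzf (hσinj (h.trans hσf.symm))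
  have hσz : ∀ w, z ≠ σ w → σ z ≠ w := fun w h e => h (by rw [← e, hσ.invol])
  have hσz' : ∀ w, z ≠ w → σ z ≠ σ w := fun w h e => h (hσinj e)
  have hu := hE a z haf hzf
  set u := swap a (σ a) * swap z (σ z) with hudef
  have hua : u a = σ a := by
    simp only [hudef, Perm.mul_apply]
    rw [swap_apply_of_ne_of_ne (Ne.symm hza) (Ne.symm (hσz a hzσa))]
    simp
  have huf : u f = f := by
    simp only [hudef, Perm.mul_apply]
    rw [swap_apply_of_ne_of_ne (Ne.symm hzf) (Ne.symm hσzf),
      swap_apply_of_ne_of_ne (Ne.symm haf) (Ne.symm hσaf)]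
  have hur : u r = r := by
    simp only [hudef, Perm.mul_apply]
    rw [swap_apply_of_ne_of_ne (Ne.symm hzr) (Ne.symm (hσz r hzσr)),
      swap_apply_of_ne_of_ne (Ne.symm har) (Ne.symm hr)]
  have hus : u s = s := by
    simp only [hudef, Perm.mul_apply]
    rw [swap_apply_of_ne_of_ne (Ne.symm hzs) (Ne.symm (hσz s hzσs)),
      swap_apply_of_ne_of_ne (Ne.symm has) (Ne.symm hs)]
  have hy1 : u * (swap a f * swap r s) * u⁻¹ ∈ K := K.mul_mem (K.mul_mem hu hy) (K.inv_mem hu)
  rw [conj_swap_mul_swap, hua, huf, hur, hus] at hy1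
  refine ⟨swap a f * swap (σ a) f, ?_, ?_⟩
  · have hmul := K.mul_mem hy hy1
    have hcomm := swap_mul_swap_cancel_of_disjoint (a := σ a) (b := f) (r := r) (s := s) hr hs
      (Ne.symm hrf) (Ne.symm hsf)
    have e : swap a f * swap r s * (swap (σ a) f * swap r s) = swap a f * swap (σ a) f := by
      rw [mul_assoc, ← mul_assoc (swap r s), ← hcomm.eq, mul_assoc (swap (σ a) f), swap_mul_self,
        mul_one]
    rwa [e] at hmul
  · rw [swap_comm a f, swap_comm (σ a) f]
    exact isThreeCycle_swap_mul_swap_same (Ne.symm haf) (Ne.symm hσaf) (Ne.symm hσa)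

/-- Case B: a `3`-cycle from `swap a f * swap (σ a) s` -/
theorem threeCycle_caseB {K : Subgroup (Perm α)} {σ : Perm α} (hσ : IsMatching σ) {f : α}
    (hσf : σ f = f) (hE : ∀ x z, x ≠ f → z ≠ f → swap x (σ x) * swap z (σ z) ∈ K)
    (hbig : 5 < Fintype.card α)
    {a s : α} (haf : a ≠ f) (has : a ≠ s) (hsf : s ≠ f) (hs : σ a ≠ s)
    (hy : swap a f * swap (σ a) s ∈ K) :
    ∃ c ∈ K, IsThreeCycle c := by
  have hσinj := σ.injective
  have hσa : σ a ≠ a := fun h => haf (hσ.fix _ _ h hσf)
  have hσaf : σ a ≠ f := fun h => haf (hσinj (h.trans hσf.symm))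
  have hσs : σ s ≠ s := fun h => hsf (hσ.fix _ _ h hσf)
  have hσsf : σ s ≠ f := fun h => hsf (hσinj (h.trans hσf.symm))
  obtain ⟨z, hz⟩ := exists_not_mem_list [f, a, σ a, s, σ s] (by simpa using hbig)
  simp only [List.mem_cons, List.not_mem_nil, or_false, not_or] at hz
  obtain ⟨hzf, hza, hzσa, hzs, hzσs⟩ := hz
  have hσzf : σ z ≠ f := fun h => hzf (hσinj (h.trans hσf.symm))
  have hσz : ∀ w, z ≠ σ w → σ z ≠ w := fun w h e => h (by rw [← e, hσ.invol])
  have hσz' : ∀ w, z ≠ w → σ z ≠ σ w := fun w h e => h (hσinj e)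
  have hu := hE s z hsf hzf
  set u := swap s (σ s) * swap z (σ z) with hudef
  have hus : u s = σ s := by
    simp only [hudef, Perm.mul_apply]
    rw [swap_apply_of_ne_of_ne (Ne.symm hzs) (Ne.symm (hσz s hzσs))]
    simp
  have huf : u f = f := by
    simp only [hudef, Perm.mul_apply]
    rw [swap_apply_of_ne_of_ne (Ne.symm hzf) (Ne.symm hσzf),
      swap_apply_of_ne_of_ne (Ne.symm hsf) (Ne.symm hσsf)]
  have hua : u a = a := by
    have h1 : a ≠ σ s := fun e => hs (by rw [e, hσ.invol])
    simp only [hudef, Perm.mul_apply]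
    rw [swap_apply_of_ne_of_ne (Ne.symm hza) (Ne.symm (hσz a hzσa)),
      swap_apply_of_ne_of_ne has h1]
  have huσa : u (σ a) = σ a := by
    have h1 : σ a ≠ σ s := fun e => has (hσinj e)
    simp only [hudef, Perm.mul_apply]
    rw [swap_apply_of_ne_of_ne (Ne.symm hzσa) (Ne.symm (hσz' a hza)),
      swap_apply_of_ne_of_ne hs h1]
  have hy1 : u * (swap a f * swap (σ a) s) * u⁻¹ ∈ K := K.mul_mem (K.mul_mem hu hy) (K.inv_mem hu)
  rw [conj_swap_mul_swap, hua, huf, huσa, hus] at hy1
  refine ⟨swap (σ a) s * swap (σ a) (σ s), ?_, ?_⟩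
  · have hmul := K.mul_mem hy hy1
    have hcomm := swap_mul_swap_cancel_of_disjoint (a := a) (b := f) (r := σ a) (s := s)
      (Ne.symm hσa) has (Ne.symm hσaf) (Ne.symm hsf)
    have e : swap a f * swap (σ a) s * (swap a f * swap (σ a) (σ s))
        = swap (σ a) s * swap (σ a) (σ s) := by
      rw [hcomm.eq, mul_assoc, ← mul_assoc (swap a f), swap_mul_self, one_mul]
    rwa [e] at hmul
  · exact isThreeCycle_swap_mul_swap_same hs (fun e => has (hσinj e)) (Ne.symm hσs)


/-- A subgroup containing the even part of `P` that moves the fixed point contains `A_n`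
(`n = 2 ^ k + 1 ≥ 9`). -/
theorem alternatingGroup_le_of_moves (P : Sylow 2 (Perm α)) {k : ℕ} (hk : 3 ≤ k)
    (hn : Fintype.card α = 2 ^ k + 1) {f : α} (hf : ∀ g ∈ (P : Subgroup (Perm α)), g f = f)
    (K : Subgroup (Perm α)) (hK : ∀ g ∈ (P : Subgroup (Perm α)), g ∈ alternatingGroup α → g ∈ K)
    (hmove : ∃ g ∈ K, g f ≠ f) : alternatingGroup α ≤ K := by
  have h8 := eight_le_pow hk
  obtain ⟨σ, hσ, hσP⟩ := exists_matching_of_sylow P
  have hσf : σ f = f := by
    by_contra hne
    have := hf _ (hσP f hne)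
    rw [swap_apply_left] at this
    exact hne this
  have hσinj := σ.injective
  have hσne : ∀ x, x ≠ f → σ x ≠ x := fun x hx h => hx (hσ.fix _ _ h hσf)
  have hE : ∀ x z, x ≠ f → z ≠ f → swap x (σ x) * swap z (σ z) ∈ K := by
    intro x z hx hz
    apply hK _ (mul_mem (hσP x (hσne x hx)) (hσP z (hσne z hz)))
    exact sign_swap_mul_swap (Ne.symm (hσne x hx)) (Ne.symm (hσne z hz))
  -- transitivity on the remaining points
  have htrans : ∀ x y, x ≠ f → y ≠ f → ∃ u ∈ K, u f = f ∧ u x = y := by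
    intro x y hx hy
    obtain ⟨u, hu, hxy⟩ := exists_mem_apply_eq_of_card_pow_add_one P hn hf hx hy
    by_cases hsign : u ∈ alternatingGroup α
    · exact ⟨u, hK u hu hsign, hf u hu, hxy⟩
    · obtain ⟨z, hz⟩ := exists_not_mem_list [f, x, σ x] (by simp; omega)
      simp only [List.mem_cons, List.not_mem_nil, or_false, not_or] at hz
      obtain ⟨hzf, hzx, hzσx⟩ := hz
      have hσzf : σ z ≠ f := fun h => hzf (hσinj (h.trans hσf.symm))
      have hσzx : σ z ≠ x := fun e => hzσx (by rw [← e, hσ.invol])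
      refine ⟨u * swap z (σ z), hK _ (mul_mem hu (hσP z (hσne z hzf))) ?_, ?_, ?_⟩
      · rw [mem_alternatingGroup, Perm.sign_mul, sign_swap (Ne.symm (hσne z hzf))]
        rw [mem_alternatingGroup] at hsign
        rcases Int.units_eq_one_or (sign u) with h | h
        · exact absurd h hsign
        · rw [h]; rfl
      · rw [Perm.mul_apply, swap_apply_of_ne_of_ne (Ne.symm hzf) (Ne.symm hσzf), hf u hu]
      · rw [Perm.mul_apply, swap_apply_of_ne_of_ne (Ne.symm hzx) (Ne.symm hσzx), hxy]
  have h2 := isMultiplyPretransitive_two_of_moves K f htrans hmove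
  have hprim := isPreprimitive_of_is_two_pretransitive h2
  -- a 3-cycle in `K`
  obtain ⟨a, ha⟩ := exists_not_mem_list [f] (by simp; omega)
  simp only [List.mem_cons, List.not_mem_nil, or_false] at ha
  have hσa := hσne a ha
  have hσaf : σ a ≠ f := fun h => ha (hσinj (h.trans hσf.symm))
  obtain ⟨c, hc⟩ := exists_not_mem_list [f, a, σ a] (by simp; omega)
  simp only [List.mem_cons, List.not_mem_nil, or_false, not_or] at hc
  obtain ⟨hcf, hca, hcσa⟩ := hc
  have h2'' : ∀ {a b c d : α}, a ≠ b → c ≠ d → ∃ g : K, g • a = c ∧ g • b = d :=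
    is_two_pretransitive_iff.mp h2
  obtain ⟨g, hga, hgb⟩ := @h2'' a (σ a) a f (Ne.symm hσa) ha
  change (g : Perm α) a = a at hga
  change (g : Perm α) (σ a) = f at hgb
  have hginj := (g : Perm α).injective
  have hy : swap a f * swap ((g : Perm α) c) ((g : Perm α) (σ c)) ∈ K := by
    have := K.mul_mem (K.mul_mem g.2 (hE a c ha hcf)) (K.inv_mem g.2)
    rwa [conj_swap_mul_swap, hga, hgb] at this
  set r := (g : Perm α) c with hr
  set s := (g : Perm α) (σ c) with hs
  have hσc := hσne c hcf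
  have hrf : r ≠ f := fun e => hcσa (hginj (e.trans hgb.symm))
  have hsf : s ≠ f := fun e => hca (hσinj (hginj (e.trans hgb.symm)))
  have hra : a ≠ r := fun e => hca (hginj (e.symm.trans hga.symm))
  have hsa : a ≠ s := fun e => by
    have h1 : σ c = a := hginj (e.symm.trans hga.symm)
    exact hcσa (by rw [← h1, hσ.invol])
  have hrs : r ≠ s := fun e => hσc (hginj e).symm
  have h3 : ∃ c ∈ K, IsThreeCycle c := by
    by_cases h1 : σ a = r
    · rw [← h1] at hy
      exact threeCycle_caseB hσ hσf hE (by omega) ha hsa hsf (by rw [h1]; exact hrs) hy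
    by_cases h2' : σ a = s
    · rw [← h2', swap_comm (r) (σ a)] at hy
      exact threeCycle_caseB hσ hσf hE (by omega) ha hra hrf (by rw [h2']; exact hrs.symm) hy
    exact threeCycle_caseA hσ hσf hE (by omega) ha hra hsa hrf hsf hrs h1 h2' hy
  obtain ⟨c', hc', h3c⟩ := h3
  exact alternatingGroup_le_of_isPreprimitive_of_isThreeCycle_mem hprim h3c hc'

/-- The centralizer of a matching. -/
theorem mem_centralizer_matching_iff {σ g : Perm α} :
    g ∈ Subgroup.centralizer ({σ} : Set (Perm α)) ↔ ∀ x, g (σ x) = σ (g x) := by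
  rw [Subgroup.mem_centralizer_singleton_iff]
  constructor
  · intro h x
    have := congrArg (fun p : Perm α => p x) h
    exact this
  · intro h
    ext x
    exact h x

theorem mem_centralizer_of_conj {σ g : Perm α} (h : σ * g * σ⁻¹ = g) :
    g ∈ Subgroup.centralizer ({σ} : Set (Perm α)) :=
  Subgroup.mem_centralizer_singleton_iff.mpr (mul_inv_eq_iff_eq_mul.mp h).symm

theorem swap_edge_mem_centralizer {σ : Perm α} (hσ : IsMatching σ) (x : α) :
    swap x (σ x) ∈ Subgroup.centralizer ({σ} : Set (Perm α)) :=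
  mem_centralizer_of_conj (by rw [conj_swap, hσ.invol, swap_comm])

/-- A "double transposition" exchanging two edges of the matching commutes with it. -/
theorem swap_mul_swap_mem_centralizer {σ : Perm α} (hσ : IsMatching σ) {x y : α}
    (hx : σ x ≠ x) (hy : σ y ≠ y) (hxy : y ≠ σ x) :
    swap x y * swap (σ x) (σ y) ∈ Subgroup.centralizer ({σ} : Set (Perm α)) := by
  apply mem_centralizer_of_conj
  rw [conj_swap_mul_swap, hσ.invol, hσ.invol]
  have h1 : x ≠ σ y := fun e => hxy (by rw [e, hσ.invol])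
  exact (swap_mul_swap_cancel_of_disjoint (a := x) (b := y) (r := σ x) (s := σ y)
    (Ne.symm hx) h1 hxy (Ne.symm hy)).eq.symm

/-- The even part of the centralizer of a fixed point free matching is transitive. -/
theorem exists_even_centralizer_apply_eq {σ : Perm α} (hσ : IsMatching σ) (hfree : ∀ x, σ x ≠ x)
    (h4 : 3 ≤ Fintype.card α) (x y : α) :
    ∃ w ∈ alternatingGroup α, w ∈ Subgroup.centralizer ({σ} : Set (Perm α)) ∧ w x = y := by
  by_cases h1 : y = x
  · subst h1
    exact ⟨1, one_mem _, one_mem _, rfl⟩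
  by_cases h2 : y = σ x
  · obtain ⟨z, hz⟩ := exists_not_mem_list [x, σ x] (by simpa using by omega)
    simp only [List.mem_cons, List.not_mem_nil, or_false, not_or] at hz
    obtain ⟨hzx, hzσx⟩ := hz
    have hσzx : σ z ≠ x := fun e => hzσx (by rw [← e, hσ.invol])
    refine ⟨swap x (σ x) * swap z (σ z), sign_swap_mul_swap (Ne.symm (hfree x)) (Ne.symm (hfree z)),
      mul_mem (swap_edge_mem_centralizer hσ x) (swap_edge_mem_centralizer hσ z), ?_⟩
    rw [Perm.mul_apply, swap_apply_of_ne_of_ne (Ne.symm hzx) (Ne.symm hσzx), swap_apply_left, h2]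
  · have h3 : x ≠ σ y := fun e => h2 (by rw [e, hσ.invol])
    refine ⟨swap x y * swap (σ x) (σ y), sign_swap_mul_swap (Ne.symm h1)
      (fun e => h1 (σ.injective e).symm), swap_mul_swap_mem_centralizer hσ (hfree x) (hfree y) h2, ?_⟩
    rw [Perm.mul_apply, swap_apply_of_ne_of_ne (Ne.symm (hfree x)) h3, swap_apply_left]

/-- There is a `3`-cycle not commuting with a fixed point free matching. -/
theorem exists_threeCycle_not_mem_centralizer {σ : Perm α} (hσ : IsMatching σ)
    (hfree : ∀ x, σ x ≠ x) (h4 : 3 ≤ Fintype.card α) :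
    ∃ c : Perm α, IsThreeCycle c ∧ c ∉ Subgroup.centralizer ({σ} : Set (Perm α)) := by
  obtain ⟨x, -⟩ := exists_not_mem_list ([] : List α) (by simpa using by omega)
  obtain ⟨z, hz⟩ := exists_not_mem_list [x, σ x] (by simpa using by omega)
  simp only [List.mem_cons, List.not_mem_nil, or_false, not_or] at hz
  obtain ⟨hzx, hzσx⟩ := hz
  refine ⟨swap x (σ x) * swap x z, isThreeCycle_swap_mul_swap_same (Ne.symm (hfree x)) (Ne.symm hzx)
    (Ne.symm hzσx), ?_⟩
  rw [mem_centralizer_matching_iff]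
  intro h
  have h1 := h x
  rw [Perm.mul_apply, Perm.mul_apply, swap_apply_of_ne_of_ne (hfree x) (Ne.symm hzσx),
    swap_apply_right, swap_apply_left, swap_apply_of_ne_of_ne hzx hzσx] at h1
  have h2 : σ x = z := by rw [h1, hσ.invol]
  exact hzσx h2.symm

/-- Finite groups: two proper overgroups generating everything. -/
theorem not_existsUnique_coatom_of_sup {G : Type*} [Group G] [Finite G] {R X₁ X₂ : Subgroup G}
    (h1 : R ≤ X₁) (h2 : R ≤ X₂) (hX₁ : X₁ ≠ ⊤) (hX₂ : X₂ ≠ ⊤) (hsup : X₁ ⊔ X₂ = ⊤) :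
    ¬ ∃! M : Subgroup G, IsCoatom M ∧ R ≤ M := by
  rintro ⟨M, -, hM⟩
  obtain ⟨M₁, hM₁, hle₁⟩ := (eq_top_or_exists_le_coatom X₁).resolve_left hX₁
  obtain ⟨M₂, hM₂, hle₂⟩ := (eq_top_or_exists_le_coatom X₂).resolve_left hX₂
  have e₁ := hM M₁ ⟨hM₁, h1.trans hle₁⟩
  have e₂ := hM M₂ ⟨hM₂, h2.trans hle₂⟩
  subst e₁
  subst e₂
  apply hM₁.1
  rw [eq_top_iff, ← hsup]
  exact sup_le hle₁ hle₂


/-- A Sylow `2`-subgroup of `Sym(2^k)` preserves a partition in two halves. -/
theorem exists_half_block (P : Sylow 2 (Perm α)) {k : ℕ} (hk : 1 ≤ k)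
    (hn : Fintype.card α = 2 ^ k) :
    ∃ B : Set α, (∀ g ∈ (P : Subgroup (Perm α)), (∀ x, g x ∈ B ↔ x ∈ B) ∨ (∀ x, g x ∈ B ↔ x ∉ B)) ∧
      2 * B.ncard = Fintype.card α := by
  have hpos : 0 < Fintype.card α := by rw [hn]; positivity
  obtain ⟨a⟩ : Nonempty α := Fintype.card_pos_iff.mp hpos
  have htrans : ∀ x : α, ∃ h : (P : Subgroup (Perm α)), h • a = x := by
    intro x
    obtain ⟨u, hu, hux⟩ := exists_mem_apply_eq_of_card_pow P hn a x
    exact ⟨⟨u, hu⟩, hux⟩
  let H := stabilizer (P : Subgroup (Perm α)) a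
  obtain ⟨m, hm⟩ := (IsPGroup.iff_card (p := 2)).mp P.isPGroup'
  obtain ⟨j, hj⟩ := (IsPGroup.iff_card (p := 2)).mp (P.isPGroup'.to_subgroup H)
  have hHindex : H.index = 2 ^ k := by
    have : IsPretransitive (P : Subgroup (Perm α)) α := ⟨fun x y => by
      obtain ⟨h₁, h₁x⟩ := htrans x
      obtain ⟨h₂, h₂y⟩ := htrans y
      exact ⟨h₂ * h₁⁻¹, by rw [mul_smul, ← h₁x, inv_smul_smul, h₂y]⟩⟩
    rw [index_stabilizer_of_transitive, Nat.card_eq_fintype_card, hn]
  have hjk : j + k = m := by
    have h1 := H.card_mul_index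
    rw [hj, hHindex, hm, ← pow_add] at h1
    exact Nat.pow_right_injective (le_refl 2) h1
  obtain ⟨m', rfl⟩ : ∃ m', m = m' + 1 := ⟨m - 1, by omega⟩
  obtain ⟨Q, hQcard, hHQ⟩ := Sylow.exists_subgroup_card_pow_prime_le 2 (n := j) (m := m')
    (by rw [hm]; exact pow_dvd_pow 2 (Nat.le_succ _)) H hj (by omega)
  have hQindex : Q.index = 2 := by
    have h1 := Q.card_mul_index
    rw [hQcard, hm, pow_succ] at h1
    exact Nat.eq_of_mul_eq_mul_left (by positivity) h1
  set B : Set α := {x | ∃ h : (P : Subgroup (Perm α)), h ∈ Q ∧ h • a = x} with hB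
  have key : ∀ h : (P : Subgroup (Perm α)), h • a ∈ B ↔ h ∈ Q := by
    intro h
    constructor
    · rintro ⟨q, hq, e⟩
      have h1 : q⁻¹ * h ∈ H := by
        rw [mem_stabilizer_iff, mul_smul, ← e, inv_smul_smul]
      have h2 := Q.mul_mem hq (hHQ h1)
      simpa using h2
    · intro hh
      exact ⟨h, hh, rfl⟩
  have key2 : ∀ (g : (P : Subgroup (Perm α))) (x : α), g • x ∈ B ↔ (g ∈ Q ↔ x ∈ B) := by
    intro g x
    obtain ⟨h, rfl⟩ := htrans x
    rw [← mul_smul, key, key, Subgroup.mul_mem_iff_of_index_two hQindex]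
  obtain ⟨g₀, hg₀⟩ : ∃ g₀ : (P : Subgroup (Perm α)), g₀ ∉ Q := by
    by_contra hcon
    simp only [not_exists, not_not] at hcon
    have : Q = ⊤ := (Subgroup.eq_top_iff' Q).mpr hcon
    rw [this, Subgroup.index_top] at hQindex
    omega
  refine ⟨B, ?_, ?_⟩
  · intro g hg
    by_cases hgQ : (⟨g, hg⟩ : (P : Subgroup (Perm α))) ∈ Q
    · left
      intro x
      have := key2 ⟨g, hg⟩ x
      exact this.trans (by simp [hgQ])
    · right
      intro x
      have := key2 ⟨g, hg⟩ x
      exact this.trans (by simp [hgQ])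
  · have himg : (g₀.1 : Perm α) '' B = Bᶜ := by
      ext y
      constructor
      · rintro ⟨x, hx, rfl⟩
        have := key2 g₀ x
        intro h
        exact hg₀ (this.mp h |>.mpr hx)
      · intro hy
        refine ⟨(g₀.1 : Perm α)⁻¹ y, ?_, by simp⟩
        by_contra hcon
        apply hy
        have := key2 g₀ ((g₀.1 : Perm α)⁻¹ y)
        have h2 : g₀ • ((g₀.1 : Perm α)⁻¹ y) = y := by
          change (g₀.1 : Perm α) ((g₀.1 : Perm α)⁻¹ y) = y
          simp
        rw [h2] at this
        exact this.mpr (iff_of_false hg₀ hcon)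
    have h1 : Bᶜ.ncard = B.ncard := by
      rw [← himg]
      exact Set.ncard_image_of_injective _ (g₀.1 : Perm α).injective
    have h2 := Set.ncard_add_ncard_compl B
    rw [Nat.card_eq_fintype_card, h1] at h2
    omega

/-- The stabilizer of an unordered partition in two parts. -/
def partitionStabilizer (B : Set α) : Subgroup (Perm α) where
  carrier := {g | (∀ x, g x ∈ B ↔ x ∈ B) ∨ (∀ x, g x ∈ B ↔ x ∉ B)}
  one_mem' := Or.inl fun x => Iff.rfl
  mul_mem' := by
    rintro a b (ha | ha) (hb | hb)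
    · exact Or.inl fun x => (ha _).trans (hb x)
    · exact Or.inr fun x => (ha _).trans (hb x)
    · exact Or.inr fun x => (ha _).trans (not_congr (hb x))
    · exact Or.inl fun x => (ha _).trans ((not_congr (hb x)).trans not_not)
  inv_mem' := by
    rintro a (ha | ha)
    · left
      intro x
      have := ha (a⁻¹ x)
      rw [show a (a⁻¹ x) = x by simp] at this
      exact this.symm
    · right
      intro x
      have := ha (a⁻¹ x)
      rw [show a (a⁻¹ x) = x by simp] at this
      constructor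
      · intro h1 h2
        exact (this.mp h2) h1
      · intro h1
        by_contra h2
        exact h1 (this.mpr h2)

theorem exists_mem_not_mem_list (S : Set α) (l : List α) (h : l.length < S.ncard) :
    ∃ w ∈ S, w ∉ l := by
  by_contra hcon
  simp only [not_exists, not_and, not_not] at hcon
  have h1 : S ⊆ (l.toFinset : Set α) := fun x hx => by
    simpa using hcon x hx
  have h2 := Set.ncard_le_ncard h1 (Finset.finite_toSet _)
  rw [Set.ncard_coe_finset] at h2
  have h3 := List.toFinset_card_le l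
  omega

theorem swap_apply_mem_iff {S : Set α} {a b : α} (ha : a ∈ S) (hb : b ∈ S) (x : α) :
    swap a b x ∈ S ↔ x ∈ S := by
  by_cases h1 : x = a
  · subst h1
    simp [ha, hb]
  by_cases h2 : x = b
  · subst h2
    simp [ha, hb]
  rw [swap_apply_of_ne_of_ne h1 h2]

theorem block_step1 {L : Subgroup (Perm α)} {D S : Set α}
    (hL : ∀ g ∈ alternatingGroup α, (∀ x, g x ∈ S ↔ x ∈ S) → g ∈ L)
    (hD : ∀ g ∈ L, ∀ y ∈ D, g y ∈ D → ∀ z ∈ D, g z ∈ D) (hS : 4 ≤ S.ncard) {u v : α}
    (hu : u ∈ D) (hv : v ∈ D) (hvS : v ∈ S) (huv : u ≠ v) : S ⊆ D := by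
  intro z hz
  by_cases hzu : z = u
  · rwa [hzu]
  by_cases hzv : z = v
  · rwa [hzv]
  obtain ⟨w, hw, hwl⟩ := exists_mem_not_mem_list S [u, v, z] (by simpa using by omega)
  simp only [List.mem_cons, List.not_mem_nil, or_false, not_or] at hwl
  obtain ⟨hwu, hwv, hwz⟩ := hwl
  have hg : swap z v * swap z w ∈ L := by
    apply hL _ (sign_swap_mul_swap hzv (Ne.symm hwz))
    intro x
    rw [Perm.mul_apply, swap_apply_mem_iff hz hvS, swap_apply_mem_iff hz hw]
  have h1 : (swap z v * swap z w) u = u := by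
    rw [Perm.mul_apply, swap_apply_of_ne_of_ne (Ne.symm hzu) (Ne.symm hwu),
      swap_apply_of_ne_of_ne (Ne.symm hzu) huv]
  have h2 : (swap z v * swap z w) v = z := by
    rw [Perm.mul_apply, swap_apply_of_ne_of_ne (Ne.symm hzv) (Ne.symm hwv), swap_apply_right]
  have := hD _ hg u hu (by rw [h1]; exact hu) v hv
  rwa [h2] at this

theorem block_step2 {L : Subgroup (Perm α)} {σ : Perm α} (hσ : IsMatching σ) (hfree : ∀ x, σ x ≠ x)
    {D S : Set α}
    (hL : ∀ g ∈ alternatingGroup α, g ∈ Subgroup.centralizer ({σ} : Set (Perm α)) → g ∈ L)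
    (hD : ∀ g ∈ L, ∀ y ∈ D, g y ∈ D → ∀ z ∈ D, g z ∈ D) (hσS : ∀ x, σ x ∈ S ↔ x ∈ S)
    (hS : 4 ≤ S.ncard) (hSD : S ⊆ D) {z : α} (hz : z ∉ S) : z ∈ D := by
  obtain ⟨y₂, hy₂, -⟩ := exists_mem_not_mem_list S [] (by simpa using by omega)
  obtain ⟨y₁, hy₁, hl⟩ := exists_mem_not_mem_list S [y₂, σ y₂] (by simpa using by omega)
  simp only [List.mem_cons, List.not_mem_nil, or_false, not_or] at hl
  obtain ⟨h12, h1σ⟩ := hl
  have hσz : σ z ∉ S := fun h => hz ((hσS z).mp h)
  have hσy₂ : σ y₂ ∈ S := (hσS y₂).mpr hy₂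
  have hne : ∀ {p q : α}, p ∈ S → q ∉ S → p ≠ q := fun hp hq e => hq (e ▸ hp)
  have hg : swap y₂ z * swap (σ y₂) (σ z) ∈ L := by
    apply hL _ (sign_swap_mul_swap (hne hy₂ hz) (hne hσy₂ hσz))
    exact swap_mul_swap_mem_centralizer hσ (hfree _) (hfree _) (Ne.symm (hne hσy₂ hz))
  have h1 : (swap y₂ z * swap (σ y₂) (σ z)) y₁ = y₁ := by
    rw [Perm.mul_apply, swap_apply_of_ne_of_ne h1σ (hne hy₁ hσz),
      swap_apply_of_ne_of_ne h12 (hne hy₁ hz)]
  have h2 : (swap y₂ z * swap (σ y₂) (σ z)) y₂ = z := by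
    rw [Perm.mul_apply, swap_apply_of_ne_of_ne (Ne.symm (hfree _)) (hne hy₂ hσz), swap_apply_left]
  have := hD _ hg y₁ (hSD hy₁) (by rw [h1]; exact hSD hy₁) y₂ (hSD hy₂)
  rwa [h2] at this

theorem block_step3 {L : Subgroup (Perm α)} {D S : Set α}
    (hL : ∀ g ∈ alternatingGroup α, (∀ x, g x ∈ S ↔ x ∈ S) → g ∈ L)
    (hD : ∀ g ∈ L, ∀ y ∈ D, g y ∈ D → ∀ z ∈ D, g z ∈ D) (hS : 3 ≤ Sᶜ.ncard) {x y : α}
    (hx : x ∈ D) (hy : y ∈ D) (hxS : x ∈ S) (hyS : y ∉ S) : ∃ y' ∈ D, y' ∉ S ∧ y' ≠ y := by
  obtain ⟨y', hy', hl⟩ := exists_mem_not_mem_list Sᶜ [y] (by simpa using by omega)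
  obtain ⟨y'', hy'', hl'⟩ := exists_mem_not_mem_list Sᶜ [y, y'] (by simpa using by omega)
  simp only [List.mem_cons, List.not_mem_nil, or_false, not_or] at hl hl'
  obtain ⟨h1, h2⟩ := hl'
  have hne : ∀ {p q : α}, p ∈ S → q ∉ S → p ≠ q := fun hp hq e => hq (e ▸ hp)
  have hg : swap y' y * swap y' y'' ∈ L := by
    apply hL _ (sign_swap_mul_swap hl (Ne.symm h2))
    intro z
    have h3 := swap_apply_mem_iff (S := Sᶜ) hy' hyS ((swap y' y'') z)
    have h4 := swap_apply_mem_iff (S := Sᶜ) hy' hy'' z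
    rw [Perm.mul_apply]
    simp only [Set.mem_compl_iff, not_iff_not] at h3 h4
    exact h3.trans h4
  have hx1 : (swap y' y * swap y' y'') x = x := by
    rw [Perm.mul_apply, swap_apply_of_ne_of_ne (hne hxS hy') (hne hxS hy''),
      swap_apply_of_ne_of_ne (hne hxS hy') (hne hxS hyS)]
  have hy1 : (swap y' y * swap y' y'') y = y' := by
    rw [Perm.mul_apply, swap_apply_of_ne_of_ne (Ne.symm hl) (Ne.symm h1), swap_apply_right]
  have := hD _ hg x hx (by rw [hx1]; exact hx) y hy
  rw [hy1] at this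
  exact ⟨y', this, hy', hl⟩

/-- The even stabilizer of `B` and the even centralizer of a `B`-stable matching generate `A_n`. -/
theorem alternatingGroup_le_of_wreath {σ : Perm α} (hσ : IsMatching σ) (hfree : ∀ x, σ x ≠ x)
    {B : Set α} (hσB : ∀ x, σ x ∈ B ↔ x ∈ B) (hB : 4 ≤ B.ncard) (hBc : 4 ≤ Bᶜ.ncard)
    (L : Subgroup (Perm α))
    (hL1 : ∀ g ∈ alternatingGroup α, (∀ x, g x ∈ B ↔ x ∈ B) → g ∈ L)
    (hL2 : ∀ g ∈ alternatingGroup α, g ∈ Subgroup.centralizer ({σ} : Set (Perm α)) → g ∈ L) :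
    alternatingGroup α ≤ L := by
  have hcard : 3 ≤ Fintype.card α := by
    have := Set.ncard_add_ncard_compl B
    rw [Nat.card_eq_fintype_card] at this
    omega
  have hL1c : ∀ g ∈ alternatingGroup α, (∀ x, g x ∈ Bᶜ ↔ x ∈ Bᶜ) → g ∈ L := by
    intro g hg h
    apply hL1 g hg
    intro x
    have := h x
    simpa only [Set.mem_compl_iff, not_iff_not] using this
  have hσBc : ∀ x, σ x ∈ Bᶜ ↔ x ∈ Bᶜ := by
    intro x
    simpa only [Set.mem_compl_iff, not_iff_not] using hσB x
  have hpre : IsPretransitive L α := ⟨fun x y => by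
    obtain ⟨w, hw, hw2, hxy⟩ := exists_even_centralizer_apply_eq hσ hfree hcard x y
    exact ⟨⟨w, hL2 w hw hw2⟩, hxy⟩⟩
  have hprim : IsPreprimitive L α := by
    refine { isTrivialBlock_of_isBlock := ?_ }
    intro D hD
    rw [IsTrivialBlock, or_iff_not_imp_left]
    intro hns
    have hD' : ∀ g ∈ L, ∀ y ∈ D, g y ∈ D → ∀ z ∈ D, g z ∈ D := by
      intro g hg y hy hgy z hz
      have h := (isBlock_iff_smul_eq_of_mem.mp hD) (g := ⟨g, hg⟩) hy hgy
      rw [← h]
      exact ⟨z, hz, rfl⟩
    rw [Set.not_subsingleton_iff] at hns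
    obtain ⟨u, hu, v, hv, huv⟩ := hns
    have finB : ∀ {u v : α}, u ∈ D → v ∈ D → u ∈ B → v ∈ B → u ≠ v → D = Set.univ := by
      intro u v hu hv huB hvB huv
      have hsub := block_step1 hL1 hD' hB hu hv hvB huv
      rw [Set.eq_univ_iff_forall]
      intro z
      by_cases hz : z ∈ B
      · exact hsub hz
      · exact block_step2 hσ hfree hL2 hD' hσB hB hsub hz
    have finBc : ∀ {u v : α}, u ∈ D → v ∈ D → u ∉ B → v ∉ B → u ≠ v → D = Set.univ := by
      intro u v hu hv huB hvB huv
      have hsub := block_step1 hL1c hD' hBc hu hv hvB huv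
      rw [Set.eq_univ_iff_forall]
      intro z
      by_cases hz : z ∈ Bᶜ
      · exact hsub hz
      · exact block_step2 hσ hfree hL2 hD' hσBc hBc hsub hz
    by_cases huB : u ∈ B <;> by_cases hvB : v ∈ B
    · exact finB hu hv huB hvB huv
    · obtain ⟨y', hy', hy'B, hne⟩ := block_step3 hL1 hD' (by omega) hu hv huB hvB
      exact finBc hy' hv hy'B hvB hne
    · obtain ⟨y', hy', hy'B, hne⟩ := block_step3 hL1 hD' (by omega) hv hu hvB huB
      exact finBc hy' hu hy'B huB hne
    · exact finBc hu hv huB hvB huv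
  -- a `3`-cycle
  obtain ⟨p, hp, -⟩ := exists_mem_not_mem_list B [] (by simpa using by omega)
  obtain ⟨q, hq, hql⟩ := exists_mem_not_mem_list B [p] (by simpa using by omega)
  obtain ⟨r, hr, hrl⟩ := exists_mem_not_mem_list B [p, q] (by simpa using by omega)
  simp only [List.mem_cons, List.not_mem_nil, or_false, not_or] at hql hrl
  obtain ⟨hrp, hrq⟩ := hrl
  have h3 := isThreeCycle_swap_mul_swap_same (a := q) (b := p) (c := r) hql (Ne.symm hrq) (Ne.symm hrp)
  have hmem : swap q p * swap q r ∈ L := by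
    apply hL1 _ h3.mem_alternatingGroup
    intro x
    rw [Perm.mul_apply, swap_apply_mem_iff hq hp, swap_apply_mem_iff hq hr]
  exact alternatingGroup_le_of_isPreprimitive_of_isThreeCycle_mem hprim h3 hmem

/-- An overgroup of `A_n` containing an odd permutation is everything. -/
theorem eq_top_of_alternatingGroup_le {L : Subgroup (Perm α)} (hA : alternatingGroup α ≤ L)
    {a b : α} (hab : a ≠ b) (hs : swap a b ∈ L) : L = ⊤ := by
  rw [eq_top_iff]
  intro g _
  by_cases hg : g ∈ alternatingGroup α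
  · exact hA hg
  · have h1 : g * swap a b ∈ alternatingGroup α := by
      rw [mem_alternatingGroup, Perm.sign_mul, sign_swap hab]
      rw [mem_alternatingGroup] at hg
      rcases Int.units_eq_one_or (sign g) with h | h
      · exact absurd h hg
      · rw [h]; rfl
    have h2 := L.mul_mem (hA h1) hs
    simpa using h2


/-- The orbit of a point under a Sylow 2-subgroup. -/
theorem orbit_data (P : Sylow 2 (Perm α)) (a : α) :
    ∃ (O : Set α) (j : ℕ), (∀ g ∈ (P : Subgroup (Perm α)), ∀ x, g x ∈ O ↔ x ∈ O) ∧ a ∈ O ∧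
      O.ncard = 2 ^ j ∧ ∀ x ∈ O, ∃ g ∈ (P : Subgroup (Perm α)), g a = x := by
  refine ⟨orbit (P : Subgroup (Perm α)) a, ?_⟩
  obtain ⟨j, hj⟩ := P.isPGroup'.card_orbit a
  refine ⟨j, ?_, mem_orbit_self a, ?_, ?_⟩
  · intro g hg x
    constructor
    · rintro ⟨h, e⟩
      refine ⟨⟨g, hg⟩⁻¹ * h, ?_⟩
      have e' : (g : Perm α) x = h • a := e.symm ▸ rfl
      change ((⟨g, hg⟩ : (P : Subgroup (Perm α)))⁻¹ * h) • a = x
      rw [mul_smul, ← e']
      change (g⁻¹ : Perm α) (g x) = x
      simp
    · rintro ⟨h, rfl⟩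
      exact ⟨⟨g, hg⟩ * h, rfl⟩
  · rw [← Nat.card_coe_set_eq]
    exact hj
  · rintro x ⟨h, rfl⟩
    exact ⟨h.1, h.2, rfl⟩

/-- In odd degree, not of the form `2 ^ k + 1`: an orbit of `P` that is not the complement of the
fixed point. -/
theorem exists_orbit_data_odd (P : Sylow 2 (Perm α)) (h5 : 5 ≤ Fintype.card α)
    (hodd : Odd (Fintype.card α)) (hne : ¬ ∃ k, 2 ≤ k ∧ Fintype.card α = 2 ^ k + 1) :
    ∃ (f a b : α) (O : Set α), (∀ g ∈ (P : Subgroup (Perm α)), g f = f) ∧
      (∀ g ∈ (P : Subgroup (Perm α)), ∀ x, g x ∈ O ↔ x ∈ O) ∧ f ∉ O ∧ a ∈ O ∧ b ∉ O ∧ b ≠ f := by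
  obtain ⟨f, hf⟩ := exists_fixed_of_odd P hodd
  obtain ⟨a, ha⟩ := exists_not_mem_list [f] (by simp; omega)
  simp only [List.mem_cons, List.not_mem_nil, or_false] at ha
  obtain ⟨O, j, hO, haO, hcard, hreach⟩ := orbit_data P a
  have hfO : f ∉ O := by
    intro h
    obtain ⟨g, hg, e⟩ := hreach f h
    apply ha
    apply g.injective
    rw [e, hf g hg]
  have : ∃ b, b ∉ O ∧ b ≠ f := by
    by_contra hcon
    simp only [not_exists, not_and, not_not] at hcon
    apply hne
    have hOc : Oᶜ = {f} := by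
      ext x
      simp only [Set.mem_compl_iff, Set.mem_singleton_iff]
      constructor
      · intro hx
        exact hcon x hx
      · rintro rfl
        exact hfO
    have h1 := Set.ncard_add_ncard_compl O
    rw [hOc, Set.ncard_singleton, hcard, Nat.card_eq_fintype_card] at h1
    refine ⟨j, ?_, h1.symm⟩
    by_contra hj
    have hj' : j = 0 ∨ j = 1 := by omega
    rcases hj' with rfl | rfl <;> omega
  obtain ⟨b, hb, hbf⟩ := this
  exact ⟨f, a, b, O, hf, hO, hfO, haO, hb, hbf⟩

/-- In even degree not a power of two: an orbit of `P` of size `≠ n / 2`. -/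
theorem exists_orbit_data_even (P : Sylow 2 (Perm α)) (h5 : 5 ≤ Fintype.card α)
    (hne : ¬ ∃ k, Fintype.card α = 2 ^ k) :
    ∃ (a b : α) (O : Set α), (∀ g ∈ (P : Subgroup (Perm α)), ∀ x, g x ∈ O ↔ x ∈ O) ∧ a ∈ O ∧ b ∉ O ∧
      Fintype.card α ≠ 2 * O.ncard := by
  obtain ⟨a, -⟩ := exists_not_mem_list ([] : List α) (by simpa using by omega)
  obtain ⟨O, j, hO, haO, hcard, hreach⟩ := orbit_data P a
  have hb : ∃ b, b ∉ O := by
    by_contra hcon
    simp only [not_exists, not_not] at hcon
    apply hne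
    have hu : O = Set.univ := Set.eq_univ_of_forall hcon
    rw [hu, Set.ncard_univ, Nat.card_eq_fintype_card] at hcard
    exact ⟨j, hcard⟩
  obtain ⟨b, hb⟩ := hb
  refine ⟨a, b, O, hO, haO, hb, ?_⟩
  intro h
  apply hne
  refine ⟨j + 1, ?_⟩
  rw [h, hcard, pow_succ, mul_comm]

/-- `3`-cycle mixing a two part partition. -/
theorem exists_threeCycle_not_mem_partitionStabilizer {B : Set α} {a c b : α} (ha : a ∈ B)
    (hc : c ∈ B) (hb : b ∉ B) (hac : a ≠ c) :
    ∃ g : Perm α, IsThreeCycle g ∧ g ∉ partitionStabilizer B := by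
  have hab : b ≠ a := fun e => hb (e ▸ ha)
  have hcb : b ≠ c := fun e => hb (e ▸ hc)
  refine ⟨swap b a * swap b c, isThreeCycle_swap_mul_swap_same hab hcb hac, ?_⟩
  have e1 : (swap b a * swap b c) a = b := by
    rw [Perm.mul_apply, swap_apply_of_ne_of_ne (Ne.symm hab) hac, swap_apply_right]
  have e2 : (swap b a * swap b c) c = a := by
    rw [Perm.mul_apply, swap_apply_right, swap_apply_left]
  rintro (h | h)
  · have := (h a).mpr ha
    rw [e1] at this
    exact hb this
  · have := (h c).mp (by rw [e2]; exact ha)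
    exact this hc

/-- Data in the `2`-power case. -/
theorem exists_wreath_data (P : Sylow 2 (Perm α)) {k : ℕ} (hk : 3 ≤ k)
    (hn : Fintype.card α = 2 ^ k) :
    ∃ (σ : Perm α) (B : Set α), IsMatching σ ∧ (∀ x, σ x ≠ x) ∧
      (∀ x, swap x (σ x) ∈ (P : Subgroup (Perm α))) ∧
      (P : Subgroup (Perm α)) ≤ Subgroup.centralizer ({σ} : Set (Perm α)) ∧
      (P : Subgroup (Perm α)) ≤ partitionStabilizer B ∧
      (∀ x, σ x ∈ B ↔ x ∈ B) ∧ 4 ≤ B.ncard ∧ 4 ≤ Bᶜ.ncard := by
  have h8 := eight_le_pow hk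
  obtain ⟨σ, hσ, hσP⟩ := exists_matching_of_sylow P
  have hev : Even (Fintype.card α) := by
    rw [hn]
    exact (Nat.even_pow' (by omega)).mpr (by decide)
  have hfree := hσ.even_free hev
  obtain ⟨B, hBP, hBcard⟩ := exists_half_block P (by omega) hn
  have hBc : Bᶜ.ncard = B.ncard := by
    have h2 := Set.ncard_add_ncard_compl B
    rw [Nat.card_eq_fintype_card] at h2
    omega
  have hB4 : 4 ≤ B.ncard := by omega
  have hσB1 : ∀ x, x ∈ B → σ x ∈ B := by
    intro x hx
    obtain ⟨c, hc, hl⟩ := exists_mem_not_mem_list B [x, σ x] (by simpa using by omega)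
    simp only [List.mem_cons, List.not_mem_nil, or_false, not_or] at hl
    obtain ⟨h1, h2⟩ := hl
    rcases hBP _ (hσP x (hfree x)) with h | h
    · have := (h x).mpr hx
      rwa [swap_apply_left] at this
    · have := (h c).mp (by rwa [swap_apply_of_ne_of_ne h1 h2])
      exact absurd hc this
  have hσB : ∀ x, σ x ∈ B ↔ x ∈ B := by
    intro x
    refine ⟨fun h => ?_, hσB1 x⟩
    have := hσB1 _ h
    rwa [hσ.invol] at this
  refine ⟨σ, B, hσ, hfree, fun x => hσP x (hfree x), ?_, hBP, hσB, hB4, by omega⟩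
  intro g hg
  rw [mem_centralizer_matching_iff]
  intro x
  apply apply_matching_of_normalizes hσ hσP
  exact Subgroup.le_normalizer hg

/-- Forward direction for the symmetric group. -/
theorem exists_pow_of_existsUnique_coatom_perm (P : Sylow 2 (Perm α)) (h5 : 5 ≤ Fintype.card α)
    (hu : ∃! M : Subgroup (Perm α), IsCoatom M ∧ (P : Subgroup (Perm α)) ≤ M) :
    ∃ k, 2 ≤ k ∧ Fintype.card α = 2 ^ k + 1 := by
  by_contra hne
  rcases Nat.even_or_odd (Fintype.card α) with hev | hodd
  · by_cases hpow : ∃ k, Fintype.card α = 2 ^ k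
    · obtain ⟨k, hk⟩ := hpow
      have hk3 : 3 ≤ k := by
        by_contra hk3
        have : k = 0 ∨ k = 1 ∨ k = 2 := by omega
        rcases this with rfl | rfl | rfl <;> omega
      obtain ⟨σ, B, hσ, hfree, hσP, hPW, hPB, hσB, hB, hBc⟩ := exists_wreath_data P hk3 hk
      obtain ⟨a, ha, -⟩ := exists_mem_not_mem_list B [] (by simpa using by omega)
      obtain ⟨c, hc, hl⟩ := exists_mem_not_mem_list B [a] (by simpa using by omega)
      obtain ⟨b, hb, -⟩ := exists_mem_not_mem_list Bᶜ [] (by simpa using by omega)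
      simp only [List.mem_cons, List.not_mem_nil, or_false] at hl
      obtain ⟨g₁, -, hg₁⟩ := exists_threeCycle_not_mem_partitionStabilizer ha hc hb (Ne.symm hl)
      obtain ⟨g₂, -, hg₂⟩ := exists_threeCycle_not_mem_centralizer hσ hfree (by omega)
      refine not_existsUnique_coatom_of_sup hPB hPW ?_ ?_ ?_ hu
      · intro h
        exact hg₁ (h ▸ Subgroup.mem_top _)
      · intro h
        exact hg₂ (h ▸ Subgroup.mem_top _)
      · have hA := alternatingGroup_le_of_wreath hσ hfree hσB hB hBc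
          (partitionStabilizer B ⊔ Subgroup.centralizer ({σ} : Set (Perm α)))
          (fun g _ hg => Subgroup.mem_sup_left (Or.inl hg))
          (fun g _ hg => Subgroup.mem_sup_right hg)
        exact eq_top_of_alternatingGroup_le hA (Ne.symm (hfree a))
          (Subgroup.mem_sup_right (swap_edge_mem_centralizer hσ a))
    · obtain ⟨σ, hσ, hσP⟩ := exists_matching_of_sylow P
      have hfree := hσ.even_free hev
      obtain ⟨a, b, O, hO, haO, hb, hne2⟩ := exists_orbit_data_even P h5 hpow
      have hPW : (P : Subgroup (Perm α)) ≤ Subgroup.centralizer ({σ} : Set (Perm α)) := by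
        intro g hg
        rw [mem_centralizer_matching_iff]
        intro x
        apply apply_matching_of_normalizes hσ hσP
        exact Subgroup.le_normalizer hg
      obtain ⟨g₂, -, hg₂⟩ := exists_threeCycle_not_mem_centralizer hσ hfree (by omega)
      obtain ⟨M₂, hM₂, hle⟩ := (eq_top_or_exists_le_coatom
        (Subgroup.centralizer ({σ} : Set (Perm α)))).resolve_left (fun h => hg₂ (h ▸ Subgroup.mem_top _))
      have hM₁ : IsCoatom (stabilizer (Perm α) O) :=
        Equiv.Perm.isCoatom_stabilizer ⟨a, haO⟩ ⟨b, hb⟩ (by rwa [Nat.card_eq_fintype_card])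
      have hPO : (P : Subgroup (Perm α)) ≤ stabilizer (Perm α) O := fun g hg =>
        mem_stabilizer_set_iff'.mpr (hO g hg)
      have hEq := hu.unique ⟨hM₁, hPO⟩ ⟨hM₂, hPW.trans hle⟩
      obtain ⟨w, -, hw, hwab⟩ := exists_even_centralizer_apply_eq hσ hfree (by omega) a b
      have : w ∈ stabilizer (Perm α) O := by
        rw [hEq]
        exact hle hw
      have h1 := (mem_stabilizer_set_iff'.mp this a).mpr haO
      change w a ∈ O at h1
      rw [hwab] at h1
      exact hb h1
  · obtain ⟨f, a, b, O, hf, hO, hfO, haO, hb, hbf⟩ := exists_orbit_data_odd P h5 hodd hne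
    have hM₁ : IsCoatom (stabilizer (Perm α) ({f} : Set α)) :=
      isCoatom_stabilizer_singleton_perm (by omega)
    have hM₂ : IsCoatom (stabilizer (Perm α) O) :=
      Equiv.Perm.isCoatom_stabilizer ⟨a, haO⟩ ⟨b, hb⟩ (by
        rw [Nat.card_eq_fintype_card]
        intro h
        rw [h] at hodd
        exact (Nat.not_even_iff_odd.mpr hodd) (even_two_mul _))
    have hPf : (P : Subgroup (Perm α)) ≤ stabilizer (Perm α) ({f} : Set α) := by
      intro g hg
      rw [stabilizer_singleton]
      exact hf g hg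
    have hPO : (P : Subgroup (Perm α)) ≤ stabilizer (Perm α) O := fun g hg =>
      mem_stabilizer_set_iff'.mpr (hO g hg)
    have hEq := hu.unique ⟨hM₁, hPf⟩ ⟨hM₂, hPO⟩
    have hab : a ≠ b := fun e => hb (e ▸ haO)
    have haf : a ≠ f := fun e => hfO (e ▸ haO)
    obtain ⟨c, hc⟩ := exists_not_mem_list [f, a, b] (by simp; omega)
    simp only [List.mem_cons, List.not_mem_nil, or_false, not_or] at hc
    obtain ⟨hcf, hca, hcb⟩ := hc
    have hg1 : swap b a * swap b c ∈ stabilizer (Perm α) ({f} : Set α) := by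
      rw [stabilizer_singleton]
      change (swap b a * swap b c) f = f
      rw [Perm.mul_apply, swap_apply_of_ne_of_ne (Ne.symm hbf) (Ne.symm hcf),
        swap_apply_of_ne_of_ne (Ne.symm hbf) (Ne.symm haf)]
    rw [hEq] at hg1
    have h2 := (mem_stabilizer_set_iff'.mp hg1 a).mpr haO
    change (swap b a * swap b c) a ∈ O at h2
    rw [Perm.mul_apply, swap_apply_of_ne_of_ne hab (Ne.symm hca), swap_apply_right] at h2
    exact hb h2


/-- Every Sylow `2`-subgroup of `A_n` is the even part of a Sylow `2`-subgroup of `S_n`. -/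
theorem exists_sylow_of_sylow_alternating (R : Sylow 2 (alternatingGroup α)) :
    ∃ P : Sylow 2 (Perm α), ∀ g : alternatingGroup α,
      g ∈ (R : Subgroup (alternatingGroup α)) ↔ (g : Perm α) ∈ (P : Subgroup (Perm α)) := by
  have h1 : IsPGroup 2 ((R : Subgroup (alternatingGroup α)).map (alternatingGroup α).subtype) :=
    R.isPGroup'.map _
  obtain ⟨P, hP⟩ := h1.exists_le_sylow
  refine ⟨P, fun g => ⟨fun hg => hP ⟨g, hg, rfl⟩, fun hg => ?_⟩⟩
  have h2 : IsPGroup 2 ((P : Subgroup (Perm α)).comap (alternatingGroup α).subtype) :=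
    P.isPGroup'.comap_of_injective _ (Subgroup.subtype_injective _)
  have h3 : (R : Subgroup (alternatingGroup α)) ≤
      (P : Subgroup (Perm α)).comap (alternatingGroup α).subtype := fun x hx => hP ⟨x, hx, rfl⟩
  have h4 := R.is_maximal' h2 h3
  have h5 : g ∈ (P : Subgroup (Perm α)).comap (alternatingGroup α).subtype := hg
  rwa [h4] at h5

theorem eq_top_of_alternatingGroup_le_map {L : Subgroup (alternatingGroup α)}
    (h : alternatingGroup α ≤ L.map (alternatingGroup α).subtype) : L = ⊤ := by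
  rw [eq_top_iff]
  intro g _
  obtain ⟨x, hx, e⟩ := h g.2
  have : x = g := Subtype.ext e
  exact this ▸ hx

/-- Forward direction for the alternating group. -/
theorem exists_pow_of_existsUnique_coatom_alternating (R : Sylow 2 (alternatingGroup α))
    (h5 : 5 ≤ Fintype.card α)
    (hu : ∃! M : Subgroup (alternatingGroup α), IsCoatom M ∧ (R : Subgroup (alternatingGroup α)) ≤ M) :
    ∃ k, 2 ≤ k ∧ Fintype.card α = 2 ^ k + 1 := by
  by_contra hne
  obtain ⟨P, hRP⟩ := exists_sylow_of_sylow_alternating R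
  rcases Nat.even_or_odd (Fintype.card α) with hev | hodd
  · by_cases hpow : ∃ k, Fintype.card α = 2 ^ k
    · obtain ⟨k, hk⟩ := hpow
      have hk3 : 3 ≤ k := by
        by_contra hk3
        have : k = 0 ∨ k = 1 ∨ k = 2 := by omega
        rcases this with rfl | rfl | rfl <;> omega
      obtain ⟨σ, B, hσ, hfree, hσP, hPW, hPB, hσB, hB, hBc⟩ := exists_wreath_data P hk3 hk
      obtain ⟨a, ha, -⟩ := exists_mem_not_mem_list B [] (by simpa using by omega)
      obtain ⟨c, hc, hl⟩ := exists_mem_not_mem_list B [a] (by simpa using by omega)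
      obtain ⟨b, hb, -⟩ := exists_mem_not_mem_list Bᶜ [] (by simpa using by omega)
      simp only [List.mem_cons, List.not_mem_nil, or_false] at hl
      obtain ⟨g₁, h3g₁, hg₁⟩ := exists_threeCycle_not_mem_partitionStabilizer ha hc hb (Ne.symm hl)
      obtain ⟨g₂, h3g₂, hg₂⟩ := exists_threeCycle_not_mem_centralizer hσ hfree (by omega)
      refine not_existsUnique_coatom_of_sup
        (X₁ := (partitionStabilizer B).subgroupOf (alternatingGroup α))
        (X₂ := (Subgroup.centralizer ({σ} : Set (Perm α))).subgroupOf (alternatingGroup α))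
        (fun g hg => Subgroup.mem_subgroupOf.mpr (hPB ((hRP g).mp hg)))
        (fun g hg => Subgroup.mem_subgroupOf.mpr (hPW ((hRP g).mp hg))) ?_ ?_ ?_ hu
      · intro h
        apply hg₁
        have : (⟨g₁, h3g₁.mem_alternatingGroup⟩ : alternatingGroup α) ∈
            (partitionStabilizer B).subgroupOf (alternatingGroup α) := h ▸ Subgroup.mem_top _
        exact Subgroup.mem_subgroupOf.mp this
      · intro h
        apply hg₂
        have : (⟨g₂, h3g₂.mem_alternatingGroup⟩ : alternatingGroup α) ∈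
            (Subgroup.centralizer ({σ} : Set (Perm α))).subgroupOf (alternatingGroup α) :=
          h ▸ Subgroup.mem_top _
        exact Subgroup.mem_subgroupOf.mp this
      · apply eq_top_of_alternatingGroup_le_map
        apply alternatingGroup_le_of_wreath hσ hfree hσB hB hBc
        · intro g hg1 hg2
          refine ⟨⟨g, hg1⟩, Subgroup.mem_sup_left ?_, rfl⟩
          exact Subgroup.mem_subgroupOf.mpr (Or.inl hg2)
        · intro g hg1 hg2
          refine ⟨⟨g, hg1⟩, Subgroup.mem_sup_right ?_, rfl⟩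
          exact Subgroup.mem_subgroupOf.mpr hg2
    · obtain ⟨σ, hσ, hσP⟩ := exists_matching_of_sylow P
      have hfree := hσ.even_free hev
      obtain ⟨a, b, O, hO, haO, hb, hne2⟩ := exists_orbit_data_even P h5 hpow
      have hPW : (P : Subgroup (Perm α)) ≤ Subgroup.centralizer ({σ} : Set (Perm α)) := by
        intro g hg
        rw [mem_centralizer_matching_iff]
        intro x
        apply apply_matching_of_normalizes hσ hσP
        exact Subgroup.le_normalizer hg
      obtain ⟨g₂, h3g₂, hg₂⟩ := exists_threeCycle_not_mem_centralizer hσ hfree (by omega)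
      set X₂ := (Subgroup.centralizer ({σ} : Set (Perm α))).subgroupOf (alternatingGroup α) with hX₂
      obtain ⟨M₂, hM₂, hle⟩ := (eq_top_or_exists_le_coatom X₂).resolve_left (fun h => hg₂ (by
        have : (⟨g₂, h3g₂.mem_alternatingGroup⟩ : alternatingGroup α) ∈ X₂ := h ▸ Subgroup.mem_top _
        exact Subgroup.mem_subgroupOf.mp this))
      have hM₁ : IsCoatom (stabilizer (alternatingGroup α) O) :=
        alternatingGroup.isCoatom_stabilizer ⟨a, haO⟩ ⟨b, hb⟩ (by rwa [Nat.card_eq_fintype_card])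
      have hRO : (R : Subgroup (alternatingGroup α)) ≤ stabilizer (alternatingGroup α) O := fun g hg =>
        mem_stabilizer_set_iff'.mpr (hO g ((hRP g).mp hg))
      have hRX : (R : Subgroup (alternatingGroup α)) ≤ M₂ :=
        le_trans (fun g hg => Subgroup.mem_subgroupOf.mpr (hPW ((hRP g).mp hg))) hle
      have hEq := hu.unique ⟨hM₁, hRO⟩ ⟨hM₂, hRX⟩
      obtain ⟨w, hwA, hw, hwab⟩ := exists_even_centralizer_apply_eq hσ hfree (by omega) a b
      have : (⟨w, hwA⟩ : alternatingGroup α) ∈ stabilizer (alternatingGroup α) O := by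
        rw [hEq]
        exact hle (Subgroup.mem_subgroupOf.mpr hw)
      have h1 := (mem_stabilizer_set_iff'.mp this a).mpr haO
      change w a ∈ O at h1
      rw [hwab] at h1
      exact hb h1
  · obtain ⟨f, a, b, O, hf, hO, hfO, haO, hb, hbf⟩ := exists_orbit_data_odd P h5 hodd hne
    have hfne : ({f} : Set α)ᶜ.Nonempty := ⟨b, hbf⟩
    have hoddne : ∀ s : Set α, Nat.card α ≠ 2 * s.ncard := by
      intro s
      rw [Nat.card_eq_fintype_card]
      intro h
      rw [h] at hodd
      exact (Nat.not_even_iff_odd.mpr hodd) (even_two_mul _)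
    have hM₁ : IsCoatom (stabilizer (alternatingGroup α) ({f} : Set α)) :=
      alternatingGroup.isCoatom_stabilizer (by simp) hfne (hoddne _)
    have hM₂ : IsCoatom (stabilizer (alternatingGroup α) O) :=
      alternatingGroup.isCoatom_stabilizer ⟨a, haO⟩ ⟨b, hb⟩ (hoddne _)
    have hRf : (R : Subgroup (alternatingGroup α)) ≤ stabilizer (alternatingGroup α) ({f} : Set α) := by
      intro g hg
      rw [stabilizer_singleton]
      exact hf g ((hRP g).mp hg)
    have hRO : (R : Subgroup (alternatingGroup α)) ≤ stabilizer (alternatingGroup α) O := fun g hg =>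
      mem_stabilizer_set_iff'.mpr (hO g ((hRP g).mp hg))
    have hEq := hu.unique ⟨hM₁, hRf⟩ ⟨hM₂, hRO⟩
    have hab : a ≠ b := fun e => hb (e ▸ haO)
    have haf : a ≠ f := fun e => hfO (e ▸ haO)
    obtain ⟨c, hc⟩ := exists_not_mem_list [f, a, b] (by simp; omega)
    simp only [List.mem_cons, List.not_mem_nil, or_false, not_or] at hc
    obtain ⟨hcf, hca, hcb⟩ := hc
    have h3 := isThreeCycle_swap_mul_swap_same (Ne.symm hab) (Ne.symm hcb) (Ne.symm hca)
    have hg1 : (⟨swap b a * swap b c, h3.mem_alternatingGroup⟩ : alternatingGroup α) ∈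
        stabilizer (alternatingGroup α) ({f} : Set α) := by
      rw [stabilizer_singleton]
      change (swap b a * swap b c) f = f
      rw [Perm.mul_apply, swap_apply_of_ne_of_ne (Ne.symm hbf) (Ne.symm hcf),
        swap_apply_of_ne_of_ne (Ne.symm hbf) (Ne.symm haf)]
    rw [hEq] at hg1
    have h2 := (mem_stabilizer_set_iff'.mp hg1 a).mpr haO
    change (swap b a * swap b c) a ∈ O at h2
    rw [Perm.mul_apply, swap_apply_of_ne_of_ne hab (Ne.symm hca), swap_apply_right] at h2
    exact hb h2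

/-- The even part of `P` is transitive on the complement of the fixed point. -/
theorem exists_even_apply_eq (P : Sylow 2 (Perm α)) {k : ℕ} (hk : 2 ≤ k)
    (hn : Fintype.card α = 2 ^ k + 1) {f : α} (hf : ∀ g ∈ (P : Subgroup (Perm α)), g f = f)
    {x y : α} (hx : x ≠ f) (hy : y ≠ f) :
    ∃ u ∈ (P : Subgroup (Perm α)), u ∈ alternatingGroup α ∧ u f = f ∧ u x = y := by
  have h4 := four_le_pow hk
  obtain ⟨σ, hσ, hσP⟩ := exists_matching_of_sylow P
  have hσf : σ f = f := by
    by_contra hne
    have := hf _ (hσP f hne)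
    rw [swap_apply_left] at this
    exact hne this
  have hσinj := σ.injective
  have hσne : ∀ x, x ≠ f → σ x ≠ x := fun x hx h => hx (hσ.fix _ _ h hσf)
  obtain ⟨u, hu, hxy⟩ := exists_mem_apply_eq_of_card_pow_add_one P hn hf hx hy
  by_cases hsign : u ∈ alternatingGroup α
  · exact ⟨u, hu, hsign, hf u hu, hxy⟩
  · obtain ⟨z, hz⟩ := exists_not_mem_list [f, x, σ x] (by simp; omega)
    simp only [List.mem_cons, List.not_mem_nil, or_false, not_or] at hz
    obtain ⟨hzf, hzx, hzσx⟩ := hz
    have hσzf : σ z ≠ f := fun h => hzf (hσinj (h.trans hσf.symm))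
    have hσzx : σ z ≠ x := fun e => hzσx (by rw [← e, hσ.invol])
    refine ⟨u * swap z (σ z), mul_mem hu (hσP z (hσne z hzf)), ?_, ?_, ?_⟩
    · rw [mem_alternatingGroup, Perm.sign_mul, sign_swap (Ne.symm (hσne z hzf))]
      rw [mem_alternatingGroup] at hsign
      rcases Int.units_eq_one_or (sign u) with h | h
      · exact absurd h hsign
      · rw [h]; rfl
    · rw [Perm.mul_apply, swap_apply_of_ne_of_ne (Ne.symm hzf) (Ne.symm hσzf), hf u hu]
    · rw [Perm.mul_apply, swap_apply_of_ne_of_ne (Ne.symm hzx) (Ne.symm hσzx), hxy]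

/-- A proper subgroup of a simple group of order `60` has index at least `4`:
order divisible by `20` is impossible. -/
theorem eq_top_of_twenty_dvd {G : Type*} [Group G] [Finite G] [IsSimpleGroup G]
    (hG : Nat.card G = 60) {K : Subgroup G} (h20 : 20 ∣ Nat.card K) : K = ⊤ := by
  obtain ⟨c, hc⟩ := h20
  have h1 := K.card_mul_index
  rw [hG, hc] at h1
  have h2 : c * K.index = 3 := by nlinarith
  have h3 : K.index ∣ 3 := ⟨c, by rw [← h2]; ring⟩
  rcases (Nat.dvd_prime Nat.prime_three).mp h3 with h | h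
  · exact Subgroup.index_eq_one.mp h
  · rcases IsSimpleGroup.eq_bot_or_eq_top_of_normal K.normalCore K.normalCore_normal with h4 | h4
    · exfalso
      have h5 : K.normalCore.index ∣ K.index.factorial := by
        rw [Subgroup.normalCore_eq_ker, Subgroup.index_ker, Subgroup.index_eq_card, ← Nat.card_perm]
        exact Subgroup.card_subgroup_dvd_card (toPermHom G (G ⧸ K)).range
      rw [h4, Subgroup.index_bot, hG, h] at h5
      revert h5
      decide
    · rw [eq_top_iff, ← h4]
      exact K.normalCore_le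

/-- Sylow `2`-subgroups of a group of order `60` have order `4`. -/
theorem card_sylow_two_of_sixty {G : Type*} [Group G] [Finite G] (hG : Nat.card G = 60)
    (R : Sylow 2 G) : Nat.card (R : Subgroup G) = 4 := by
  obtain ⟨m, hm⟩ := (IsPGroup.iff_card (p := 2)).mp R.isPGroup'
  have h1 := (R : Subgroup G).card_mul_index
  have h2 := R.not_dvd_index
  rw [hG, hm] at h1
  have hm5 : m < 6 := by
    by_contra hcon
    have : 2 ^ 6 ≤ 2 ^ m := Nat.pow_le_pow_right (by norm_num) (by omega)
    have hpos : 0 < (R : Subgroup G).index := by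
      rcases Nat.eq_zero_or_pos (R : Subgroup G).index with h | h
      · rw [h] at h1; omega
      · exact h
    nlinarith
  rw [hm]
  interval_cases m <;> first | rfl | (exfalso; apply h2; omega)

/-- Backward direction for the alternating group. -/
theorem existsUnique_coatom_alternating (R : Sylow 2 (alternatingGroup α)) {k : ℕ} (hk : 2 ≤ k)
    (hn : Fintype.card α = 2 ^ k + 1) :
    ∃! M : Subgroup (alternatingGroup α), IsCoatom M ∧ (R : Subgroup (alternatingGroup α)) ≤ M := by
  have h4 := four_le_pow hk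
  obtain ⟨P, hRP⟩ := exists_sylow_of_sylow_alternating R
  obtain ⟨f, hf⟩ := exists_fixed_of_odd P (odd_card_of_eq_pow_add_one (by omega) hn)
  obtain ⟨b, hb⟩ := exists_not_mem_list [f] (by simp; omega)
  simp only [List.mem_cons, List.not_mem_nil, or_false] at hb
  have hcoat : IsCoatom (stabilizer (alternatingGroup α) ({f} : Set α)) :=
    alternatingGroup.isCoatom_stabilizer (by simp) ⟨b, hb⟩ (by
      rw [Nat.card_eq_fintype_card, Set.ncard_singleton]
      omega)
  refine ⟨stabilizer (alternatingGroup α) ({f} : Set α), ⟨hcoat, ?_⟩, ?_⟩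
  · intro g hg
    rw [stabilizer_singleton]
    exact hf _ ((hRP g).mp hg)
  · rintro K ⟨hK, hRK⟩
    by_cases hfix : ∀ g ∈ K, (g : Perm α) f = f
    · exact coatom_eq_of_le hK hcoat.1 (fun g hg => by
        rw [stabilizer_singleton]
        exact hfix g hg)
    · exfalso
      simp only [not_forall] at hfix
      obtain ⟨g, hg, hgf⟩ := hfix
      apply hK.1
      rcases (by omega : k = 2 ∨ 3 ≤ k) with rfl | hk3
      · have hn5 : Fintype.card α = 5 := by simpa using hn
        have : Nontrivial α := Fintype.one_lt_card_iff_nontrivial.mp (by omega)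
        have hA : Nat.card (alternatingGroup α) = 60 := by
          have h1 := two_mul_nat_card_alternatingGroup (α := α)
          rw [Nat.card_perm, Nat.card_eq_fintype_card (α := α), hn5] at h1
          have h120 : (5 : ℕ).factorial = 120 := rfl
          omega
        have : IsSimpleGroup (alternatingGroup α) :=
          alternatingGroup.isSimpleGroup (by rw [Nat.card_eq_fintype_card]; omega)
        apply eq_top_of_twenty_dvd hA
        have h4' : 4 ∣ Nat.card K := by
          rw [← card_sylow_two_of_sixty hA R]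
          exact Subgroup.card_dvd_of_le hRK
        have h5' : 5 ∣ Nat.card K := by
          have horb : orbit K f = Set.univ := by
            rw [Set.eq_univ_iff_forall]
            intro x
            by_cases hx : x = f
            · subst hx
              exact mem_orbit_self _
            · obtain ⟨u, hu, hua, huf, hux⟩ := exists_even_apply_eq P (le_refl 2) hn hf hgf hx
              exact ⟨⟨⟨u, hua⟩, hRK ((hRP _).mpr hu)⟩ * ⟨g, hg⟩, hux⟩
          have hidx := index_stabilizer K f
          rw [horb, Set.ncard_univ, Nat.card_eq_fintype_card, hn5] at hidx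
          rw [← hidx]
          exact Subgroup.index_dvd_card _
        omega
      · apply eq_top_of_alternatingGroup_le_map
        apply alternatingGroup_le_of_moves P hk3 hn hf
        · intro u hu hua
          exact ⟨⟨u, hua⟩, hRK ((hRP _).mpr hu), rfl⟩
        · exact ⟨g.1, ⟨g, hg, rfl⟩, hgf⟩

end Cfsg.Agent.Lib.Perm.SylowTwoSym
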