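import Mathlib
import Cfsg.Agent.Lib.Perm.SylowSym
import Cfsg.Agent.Lib.Perm.SylowTwoSym
import Cfsg.Agent.Lib.Basic.SylowUtil

/-!
Sylow 2-subgroups of symmetric groups: matchings, restriction to invariant sets and central
indecomposability.
-/

set_option autoImplicit false

namespace Cfsg.Agent.Lib.Perm.SylowDecomp

open Equiv Equiv.Perm MulAction
open Cfsg.Agent.Lib.Perm.SylowTwoSym
open Cfsg.Agent.Lib.Perm.SylowSym (swapSet imageHom imageSylow coordEquiv)

universe u

section matched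

variable {α : Type u} [Fintype α] [DecidableEq α]

/-- `σ` is the matching of transpositions of the Sylow 2-subgroup `R`. -/
structure Matched (R : Sylow 2 (Perm α)) (σ : Perm α) : Prop where
  m : IsMatching σ
  h : ∀ x, σ x ≠ x → swap x (σ x) ∈ R

theorem exists_matched (R : Sylow 2 (Perm α)) : ∃ σ, Matched R σ := by
  obtain ⟨σ, h1, h2⟩ := exists_matching_of_sylow R
  exact ⟨σ, h1, h2⟩

variable {R : Sylow 2 (Perm α)} {σ : Perm α}

theorem Matched.comm (h : Matched R σ) {r : Perm α} (hr : r ∈ R) (x : α) : r (σ x) = σ (r x) :=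
  apply_matching_of_normalizes h.m h.h (R.le_normalizer hr) x

theorem Matched.sq (h : Matched R σ) (x : α) : σ (σ x) = x := h.m.invol x

theorem Matched.fixed (h : Matched R σ) {x : α} (hx : σ x = x) {r : Perm α} (hr : r ∈ R) : r x = x := by
  have h1 := h.comm hr x
  rw [hx] at h1
  exact h.m.fix _ _ h1.symm hx

theorem Matched.eq_of_swap_mem (h : Matched R σ) {x y : α} (hxy : x ≠ y) (hm : swap x y ∈ R) :
    y = σ x := eq_matching_of_swap_mem h.m h.h hxy hm

/-- Permutations moving points along `σ` belong to `R`. -/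
theorem Matched.mem_of_pointwise (h : Matched R σ) : ∀ (n : ℕ) (w : Perm α), w.support.card = n →
    (∀ x, w x = x ∨ w x = σ x) → w ∈ R := by
  intro n
  induction n using Nat.strong_induction_on with
  | _ n ih =>
    intro w hn hw
    by_cases h1 : w = 1
    · rw [h1]; exact R.one_mem
    obtain ⟨x, hx⟩ : ∃ x, w x ≠ x := by
      by_contra hc
      push Not at hc
      exact h1 (Equiv.ext hc)
    have hwx : w x = σ x := (hw x).resolve_left hx
    have hsx : σ x ≠ x := by rw [← hwx]; exact hx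
    have hwsx : w (σ x) = x := by
      rcases hw (σ x) with h2 | h2
      · exfalso
        rw [← hwx] at h2
        exact hx (w.injective h2)
      · rw [h2, h.sq]
    set w' := w * swap x (σ x) with hw'
    have hw'x : w' x = x := by simp [hw', Perm.mul_apply, hwsx]
    have hw'sx : w' (σ x) = σ x := by simp [hw', Perm.mul_apply, hwx]
    have hw'y : ∀ y, y ≠ x → y ≠ σ x → w' y = w y := by
      intro y h2 h3
      simp [hw', Perm.mul_apply, swap_apply_of_ne_of_ne h2 h3]
    have hsub : w'.support ⊂ w.support := by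
      rw [Finset.ssubset_iff_of_subset]
      · refine ⟨x, by simpa using hx, by simpa using hw'x⟩
      · intro y hy
        rw [Perm.mem_support] at hy ⊢
        by_cases h2 : y = x
        · subst h2; exact absurd hw'x hy
        by_cases h3 : y = σ x
        · subst h3; exact absurd hw'sx hy
        rw [← hw'y y h2 h3]
        exact hy
    have hmem : w' ∈ R := by
      refine ih _ (by rw [← hn]; exact Finset.card_lt_card hsub) w' rfl ?_
      intro y
      by_cases h2 : y = x
      · subst h2; exact Or.inl hw'x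
      by_cases h3 : y = σ x
      · subst h3; exact Or.inl hw'sx
      rw [hw'y y h2 h3]
      exact hw y
    have h4 : w = w' * swap x (σ x) := by
      rw [hw', mul_assoc, swap_mul_self, mul_one]
    rw [h4]
    exact R.mul_mem hmem (h.h x hsx)

theorem Matched.mem_of_forall (h : Matched R σ) (w : Perm α) (hw : ∀ x, w x = x ∨ w x = σ x) : w ∈ R :=
  h.mem_of_pointwise _ w rfl hw

theorem Matched.sigma_mem (h : Matched R σ) : σ ∈ R :=
  h.mem_of_forall σ fun _ => Or.inr rfl

/-- A permutation commuting with the transposition at `x` sends `x` into its block. -/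
theorem Matched.apply_mem_pair (h : Matched R σ) {c : Perm α} {x : α} (hx : σ x ≠ x)
    (hc : c * swap x (σ x) = swap x (σ x) * c) : c x = x ∨ c x = σ x := by
  by_contra hcon
  push Not at hcon
  have h1 := congrArg (fun f : Perm α => f x) hc
  simp only [Perm.mul_apply, swap_apply_left] at h1
  rw [swap_apply_of_ne_of_ne hcon.1 hcon.2] at h1
  exact hx (c.injective h1)

/-- Uniformity: an element commuting with a transitive subgroup of `R` on `Δ` and sending points to
their blocks is trivial on `Δ` or equal to `σ` on `Δ`. -/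
theorem Matched.uniform (h : Matched R σ) {c : Perm α} {Δ : Set α} {T : Subgroup (Perm α)}
    (hT : ∀ t ∈ T, t ∈ R) (htr : ∀ y ∈ Δ, ∀ z ∈ Δ, ∃ t ∈ T, t y = z)
    (hcom : ∀ t ∈ T, ∀ y ∈ Δ, c (t y) = t (c y)) (hpair : ∀ y ∈ Δ, c y = y ∨ c y = σ y) :
    (∀ y ∈ Δ, c y = y) ∨ (∀ y ∈ Δ, c y = σ y) := by
  by_cases hfix : ∃ y ∈ Δ, c y = y
  · obtain ⟨y, hy, hcy⟩ := hfix
    left
    intro z hz
    obtain ⟨t, ht, rfl⟩ := htr y hy z hz
    rw [hcom t ht y hy, hcy]
  · push Not at hfix
    right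
    intro z hz
    exact (hpair z hz).resolve_left (hfix z hz)

end matched

/-! ### Restriction to invariant sets -/

section restrict

variable {α : Type u} [Fintype α] [DecidableEq α]
variable (R : Sylow 2 (Perm α)) (I : Set α)

/-- Invariance of a set under `R`. -/
def Inv : Prop := ∀ r ∈ R, ∀ y, r y ∈ I ↔ y ∈ I

variable {R I}

/-- The restriction homomorphism to an invariant set. -/
def res (hI : Inv R I) : (R : Subgroup (Perm α)) →* Perm I where
  toFun r := (r : Perm α).subtypePerm (hI r r.2)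
  map_one' := by ext y; rfl
  map_mul' a b := by ext y; rfl

@[simp] theorem res_apply (hI : Inv R I) (r : (R : Subgroup (Perm α))) (y : I) :
    ((res hI r y : I) : α) = (r : Perm α) y := rfl

open Classical in
/-- The subgroup of permutations preserving `I`, acting on `I` through `Q`, and outside `I` as
an element of `R`. -/
def bigK (hI : Inv R I) (Q : Subgroup (Perm I)) : Subgroup (Perm α) where
  carrier := {h | ∃ hh : ∀ y, h y ∈ I ↔ y ∈ I, h.subtypePerm hh ∈ Q ∧ ∃ g ∈ R, ∀ y, y ∉ I → h y = g y}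
  one_mem' := by
    refine ⟨fun y => Iff.rfl, ?_, 1, R.one_mem, fun y _ => rfl⟩
    have h1 : (1 : Perm α).subtypePerm (fun y => Iff.rfl) = (1 : Perm I) := rfl
    exact h1 ▸ Q.one_mem
  mul_mem' := by
    rintro a b ⟨ha, ha', g, hg, hga⟩ ⟨hb, hb', g', hg', hgb⟩
    refine ⟨fun y => by simp only [Perm.mul_apply, ha, hb], ?_, g * g', R.mul_mem hg hg', ?_⟩
    · have : (a * b).subtypePerm (fun y => by simp only [Perm.mul_apply, ha, hb]) =
          a.subtypePerm ha * b.subtypePerm hb := by ext y; rfl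
      rw [this]
      exact Q.mul_mem ha' hb'
    · intro y hy
      rw [Perm.mul_apply, Perm.mul_apply, hgb y hy, hga _ (fun h => hy ((hI g' hg' y).mp h))]
  inv_mem' := by
    rintro a ⟨ha, ha', g, hg, hga⟩
    have hinv : ∀ y, a⁻¹ y ∈ I ↔ y ∈ I := by
      intro y
      have := ha (a⁻¹ y)
      simp at this
      exact this.symm
    refine ⟨hinv, ?_, g⁻¹, R.inv_mem hg, ?_⟩
    · have : a⁻¹.subtypePerm hinv = (a.subtypePerm ha)⁻¹ := by
        ext y
        rfl
      rw [this]
      exact Q.inv_mem ha'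
    · intro y hy
      have h1 : a⁻¹ y ∉ I := fun h => hy ((hinv y).mp h)
      have h2 := hga _ h1
      have h3 : a (a⁻¹ y) = y := by simp
      rw [h3] at h2
      have h4 : g⁻¹ y = a⁻¹ y := by
        rw [Perm.inv_eq_iff_eq]
        exact h2
      exact h4.symm

theorem isPGroup_bigK (hI : Inv R I) {Q : Subgroup (Perm I)} (hQ : IsPGroup 2 Q) :
    IsPGroup 2 (bigK hI Q) := by
  rintro ⟨h, hh, hh', g, hg, hgh⟩
  obtain ⟨k₁, hk₁⟩ := hQ ⟨_, hh'⟩
  obtain ⟨k₂, hk₂⟩ := R.isPGroup' ⟨g, hg⟩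
  refine ⟨k₁ + k₂, ?_⟩
  apply Subtype.ext
  have hk₁' : (h.subtypePerm hh) ^ 2 ^ k₁ = 1 := congrArg Subtype.val hk₁
  have hk₂' : g ^ 2 ^ k₂ = 1 := congrArg Subtype.val hk₂
  show h ^ 2 ^ (k₁ + k₂) = 1
  ext y
  by_cases hy : y ∈ I
  · have h1 : ∀ n : ℕ, ∀ z : I, (((h.subtypePerm hh) ^ n) z : I).1 = (h ^ n) z.1 := by
      intro n
      induction n with
      | zero => intro z; rfl
      | succ n ih =>
        intro z
        rw [pow_succ, pow_succ, Perm.mul_apply, Perm.mul_apply, ih]
        rfl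
    have h2 := h1 (2 ^ k₁) ⟨y, hy⟩
    rw [hk₁'] at h2
    have h3 : (h ^ 2 ^ k₁) y = y := h2.symm
    rw [pow_add, pow_mul]
    have h4 : ∀ n : ℕ, ((h ^ 2 ^ k₁) ^ n) y = y := by
      intro n
      induction n with
      | zero => rfl
      | succ n ih => rw [pow_succ, Perm.mul_apply, h3, ih]
    simpa using h4 (2 ^ k₂)
  · have h0 : ∀ n : ℕ, ∀ z, z ∉ I → (h ^ n) z ∉ I := by
      intro n
      induction n with
      | zero => intro z hz; exact hz
      | succ n ih =>
        intro z hz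
        rw [pow_succ', Perm.mul_apply]
        exact fun h' => ih z hz ((hh _).mp h')
    have h1 : ∀ n : ℕ, ∀ z, z ∉ I → (h ^ n) z = (g ^ n) z := by
      intro n
      induction n with
      | zero => intro z hz; rfl
      | succ n ih =>
        intro z hz
        rw [pow_succ', pow_succ', Perm.mul_apply, Perm.mul_apply, hgh _ (h0 n z hz), ih z hz]
    have h2 := h1 (2 ^ k₂ * 2 ^ k₁) y hy
    rw [pow_add, mul_comm, h2, pow_mul, hk₂', one_pow]

theorem le_bigK (hI : Inv R I) {Q : Subgroup (Perm I)} (hQ : (res hI).range ≤ Q) :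
    (R : Subgroup (Perm α)) ≤ bigK hI Q := by
  intro r hr
  refine ⟨hI r hr, hQ ⟨⟨r, hr⟩, rfl⟩, r, hr, fun y _ => rfl⟩

/-- `R` equals `bigK` for every 2-group `Q` containing the image. -/
theorem bigK_eq (hI : Inv R I) {Q : Subgroup (Perm I)} (hQ : IsPGroup 2 Q) (hle : (res hI).range ≤ Q) :
    bigK hI Q = R :=
  R.is_maximal' (isPGroup_bigK hI hQ) (le_bigK hI hle)

open Classical in
/-- Extension by the identity of a permutation of `I` in the image of `R` belongs to `R`. -/
theorem ofSubtype_mem (hI : Inv R I) {Q : Subgroup (Perm I)} (hQ : IsPGroup 2 Q)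
    (hle : (res hI).range ≤ Q) {q : Perm I} (hq : q ∈ Q) :
    (ofSubtype q : Perm α) ∈ R := by
  have h1 : (ofSubtype q : Perm α) ∈ bigK hI Q := by
    have hh : ∀ y, (ofSubtype q : Perm α) y ∈ I ↔ y ∈ I := by
      intro y
      by_cases hy : y ∈ I
      · rw [ofSubtype_apply_of_mem q hy]
        simp [hy]
      · rw [ofSubtype_apply_of_not_mem q hy]
    refine ⟨hh, ?_, 1, R.one_mem, ?_⟩
    · have : (ofSubtype q : Perm α).subtypePerm hh = q := by
        ext y
        simp [subtypePerm_apply, ofSubtype_apply_coe]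
      rw [this]
      exact hq
    · intro y hy
      rw [ofSubtype_apply_of_not_mem q hy]
      rfl
  rw [bigK_eq hI hQ hle] at h1
  exact h1

/-- Every element of `R` can be cut down to an invariant set. -/
theorem exists_cut (hI : Inv R I) {r : Perm α} (hr : r ∈ R) :
    ∃ c ∈ R, (∀ y ∈ I, c y = r y) ∧ (∀ y, y ∉ I → c y = y) := by
  classical
  have hP : IsPGroup 2 (res hI).range :=
    R.isPGroup'.of_surjective (res hI).rangeRestrict (res hI).rangeRestrict_surjective
  have h1 := ofSubtype_mem hI hP le_rfl (⟨⟨r, hr⟩, rfl⟩ : res hI ⟨r, hr⟩ ∈ (res hI).range)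
  refine ⟨_, h1, ?_, ?_⟩
  · intro y hy
    rw [ofSubtype_apply_of_mem _ hy]
    rfl
  · intro y hy
    rw [ofSubtype_apply_of_not_mem _ hy]

/-- The image of `R` on an invariant set is a Sylow 2-subgroup. -/
noncomputable def restrictSylow (hI : Inv R I) : Sylow 2 (Perm I) where
  toSubgroup := (res hI).range
  isPGroup' := R.isPGroup'.of_surjective (res hI).rangeRestrict (res hI).rangeRestrict_surjective
  is_maximal' := by
    intro Q hQ hle
    apply le_antisymm _ hle
    intro q hq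
    classical
    have h1 := ofSubtype_mem hI hQ hle hq
    refine ⟨⟨_, h1⟩, ?_⟩
    ext y
    simp [ofSubtype_apply_coe]

theorem mem_restrictSylow (hI : Inv R I) (q : Perm I) :
    q ∈ restrictSylow hI ↔ ∃ r, ∃ hr : r ∈ R, res hI ⟨r, hr⟩ = q := by
  constructor
  · rintro ⟨⟨r, hr⟩, h⟩
    exact ⟨r, hr, h⟩
  · rintro ⟨r, hr, h⟩
    exact ⟨⟨r, hr⟩, h⟩

end restrict

/-! ### Central indecomposability -/

section central

variable {Ω : Type u} [Fintype Ω] [DecidableEq Ω]

theorem swap_eq_imp {a b c d : Ω} (hcd : c ≠ d) (h : swap a b = swap c d) : c = a ∨ c = b := by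
  by_contra hcon
  push Not at hcon
  have h1 := congrArg (fun f : Perm Ω => f c) h
  simp only [swap_apply_left] at h1
  rw [swap_apply_of_ne_of_ne hcon.1 hcon.2] at h1
  exact hcd h1

theorem card_swapSet {R : Sylow 2 (Perm Ω)} {a : ℕ} (hcard : Fintype.card Ω = 2 ^ (a + 1)) :
    Nat.card (swapSet (R : Subgroup (Perm Ω))) = 2 ^ a := by
  have h1 := Nat.card_congr (coordEquiv R)
  rw [Nat.card_sum, Nat.card_prod, Nat.card_eq_fintype_card (α := Ω), hcard] at h1
  have h2 : Nat.card {ω : Ω // ∀ r ∈ (R : Subgroup (Perm Ω)), r ω = ω} = 0 := by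
    haveI : IsEmpty {ω : Ω // ∀ r ∈ (R : Subgroup (Perm Ω)), r ω = ω} := by
      constructor
      rintro ⟨ω, hω⟩
      have hc : 1 < Fintype.card Ω := by
        rw [hcard]
        exact Nat.one_lt_two_pow (by omega)
      obtain ⟨ω', hω'⟩ := Fintype.exists_ne_of_one_lt_card hc ω
      obtain ⟨u, hu, huω⟩ := exists_mem_apply_eq_of_card_pow R hcard ω ω'
      rw [hω u hu] at huω
      exact hω' huω.symm
    exact Nat.card_of_isEmpty
  rw [h2] at h1
  simp only [Nat.card_eq_fintype_card, Fintype.card_bool, add_zero] at h1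
  rw [pow_succ] at h1
  omega

/-- Central elements of the Sylow subgroup of a symmetric group of 2-power degree. -/
theorem step {R : Sylow 2 (Perm Ω)} {σ : Perm Ω} (hσ : Matched R σ) {a : ℕ}
    (hcard : Fintype.card Ω = 2 ^ (a + 1)) {X Y : Subgroup (Perm Ω)}
    (hXR : X ≤ R) (hYR : Y ≤ R)
    (hXn : ∀ r ∈ R, ∀ x ∈ X, r * x * r⁻¹ ∈ X)
    (hcomm : ∀ x ∈ X, ∀ y ∈ Y, x * y = y * x) (hcover : ∀ r ∈ R, ∃ x ∈ X, ∃ y ∈ Y, r = x * y)
    (hXne : X ≠ ⊥)
    (hX' : ∀ r ∈ R, ∃ x ∈ X, ∀ p : Ω, x * swap p (σ p) * x⁻¹ = r * swap p (σ p) * r⁻¹) :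
    (R : Subgroup (Perm Ω)) ≤ X := by
  classical
  have heven : Even (Fintype.card Ω) := ⟨2 ^ a, by rw [hcard]; ring⟩
  have hmoved : ∀ x, σ x ≠ x := hσ.m.even_free heven
  have htrans : ∀ x y : Ω, ∃ u ∈ R, u x = y := exists_mem_apply_eq_of_card_pow R hcard
  -- `σ` lies in `X`
  have hσX : σ ∈ X := by
    let N : Subgroup (R : Subgroup (Perm Ω)) := X.subgroupOf R
    haveI hN : N.Normal := by
      constructor
      intro n hn g
      exact hXn _ g.2 _ hn
    have hNne : N ≠ ⊥ := by
      intro h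
      apply hXne
      rw [eq_bot_iff]
      intro x hx
      have h1 : (⟨x, hXR hx⟩ : (R : Subgroup (Perm Ω))) ∈ N := hx
      rw [h] at h1
      have h2 := (Subgroup.mem_bot).mp h1
      exact (Subgroup.mem_bot).mpr (congrArg Subtype.val h2)
    have h1 := Cfsg.Agent.Lib.Basic.SylowUtil.inf_center_ne_bot_of_isPGroup R.isPGroup' hNne
    obtain ⟨⟨c, hc⟩, hc1⟩ := (Subgroup.ne_bot_iff_exists_ne_one).mp h1
    have hcN : c ∈ N := hc.1
    have hcZ : c ∈ Subgroup.center (R : Subgroup (Perm Ω)) := hc.2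
    have hcne : (c : Perm Ω) ≠ 1 := by
      intro h
      apply hc1
      apply Subtype.ext
      exact Subtype.ext h
    have hcR : ∀ r ∈ R, (c : Perm Ω) * r = r * c := by
      intro r hr
      have := (Subgroup.mem_center_iff.mp hcZ) ⟨r, hr⟩
      exact (congrArg Subtype.val this).symm
    have hu := hσ.uniform (c := c) (Δ := Set.univ) (T := R) (fun t ht => ht)
      (fun y _ z _ => htrans y z)
      (fun t ht y _ => by
        have := congrArg (fun f : Perm Ω => f y) (hcR t ht)
        simpa [Perm.mul_apply] using this)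
      (fun y _ => hσ.apply_mem_pair (hmoved y) (hcR _ (hσ.h y (hmoved y))))
    rcases hu with h2 | h2
    · exfalso
      apply hcne
      ext y
      simpa using h2 y (Set.mem_univ y)
    · have h3 : (c : Perm Ω) = σ := by
        ext y
        simpa using h2 y (Set.mem_univ y)
      rw [← h3]
      exact hcN
  -- `X` is transitive
  have htrX : ∀ x y : Ω, ∃ g ∈ X, g x = y := by
    intro x y
    obtain ⟨u, hu, hux⟩ := htrans x y
    obtain ⟨g, hg, hgp⟩ := hX' u hu
    have h1 := hgp x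
    rw [conj_swap, conj_swap, hσ.comm hu, hσ.comm (hXR hg), hux] at h1
    rcases swap_eq_imp (c := y) (d := σ y) (hmoved y).symm h1 with h2 | h2
    · exact ⟨g, hg, h2.symm⟩
    · refine ⟨σ * g, X.mul_mem hσX hg, ?_⟩
      rw [Perm.mul_apply, ← h2]
  -- the transpositions lie in `X`
  have hswap : ∀ p, swap p (σ p) ∈ X := by
    intro p
    obtain ⟨x₁, hx₁, y₁, hy₁, ht⟩ := hcover _ (hσ.h p (hmoved p))
    have hyt : y₁ * swap p (σ p) = swap p (σ p) * y₁ := by
      rw [ht, ← mul_assoc, ← hcomm x₁ hx₁ y₁ hy₁, mul_assoc]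
    rcases hσ.apply_mem_pair (hmoved p) hyt with h2 | h2
    · have hy1 : y₁ = 1 := by
        ext z
        obtain ⟨g, hg, rfl⟩ := htrX p z
        have h3 := congrArg (fun f : Perm Ω => f p) (hcomm g hg y₁ hy₁)
        simp only [Perm.mul_apply, h2] at h3
        simpa using h3.symm
      rw [ht, hy1, mul_one]
      exact hx₁
    · have hyσ : y₁ = σ := by
        ext z
        obtain ⟨g, hg, rfl⟩ := htrX p z
        have h3 := congrArg (fun f : Perm Ω => f p) (hcomm g hg y₁ hy₁)
        simp only [Perm.mul_apply, h2] at h3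
        rw [← h3, hσ.comm (hXR hg)]
      rw [ht, hyσ]
      exact X.mul_mem hx₁ hσX
  -- `Y` is inside `X`
  have hYX : Y ≤ X := by
    intro y hy
    have hu := hσ.uniform (c := y) (Δ := Set.univ) (T := X) (fun t ht => hXR ht)
      (fun y _ z _ => htrX y z)
      (fun t ht z _ => by
        have := congrArg (fun f : Perm Ω => f z) (hcomm t ht y hy)
        simpa [Perm.mul_apply] using this.symm)
      (fun p _ => hσ.apply_mem_pair (hmoved p) (hcomm _ (hswap p) y hy).symm)
    rcases hu with h2 | h2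
    · have h3 : y = 1 := by
        ext z
        simpa using h2 z (Set.mem_univ z)
      rw [h3]
      exact X.one_mem
    · have h3 : y = σ := by
        ext z
        simpa using h2 z (Set.mem_univ z)
      rw [h3]
      exact hσX
  intro r hr
  obtain ⟨x, hx, y, hy, rfl⟩ := hcover r hr
  exact X.mul_mem hx (hYX hy)

/-- Central indecomposability of the Sylow 2-subgroups of symmetric groups of 2-power degree. -/
theorem central_indec (a : ℕ) : ∀ (Ω : Type u) [Fintype Ω] [DecidableEq Ω],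
    Fintype.card Ω = 2 ^ a → ∀ (R : Sylow 2 (Perm Ω)) (X Y : Subgroup (Perm Ω)),
    X ≤ R → Y ≤ R → (∀ r ∈ R, ∀ x ∈ X, r * x * r⁻¹ ∈ X) → (∀ r ∈ R, ∀ y ∈ Y, r * y * r⁻¹ ∈ Y) →
    (∀ x ∈ X, ∀ y ∈ Y, x * y = y * x) → (∀ r ∈ R, ∃ x ∈ X, ∃ y ∈ Y, r = x * y) →
    (R : Subgroup (Perm Ω)) ≤ X ∨ (R : Subgroup (Perm Ω)) ≤ Y := by
  induction a with
  | zero =>
    intro Ω _ _ hcard R X Y _ _ _ _ _ _
    left
    intro r _
    have : Subsingleton Ω := by
      rw [← Fintype.card_le_one_iff_subsingleton, hcard]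
      norm_num
    have h1 : r = 1 := by
      ext y
      exact Subsingleton.elim (r y) y
    rw [h1]
    exact X.one_mem
  | succ a ih =>
    intro Ω _ _ hcard R X Y hXR hYR hXn hYn hcomm hcover
    classical
    by_cases hX0 : X = ⊥
    · right
      intro r hr
      obtain ⟨x, hx, y, hy, rfl⟩ := hcover r hr
      rw [hX0, Subgroup.mem_bot] at hx
      rw [hx, one_mul]
      exact hy
    by_cases hY0 : Y = ⊥
    · left
      intro r hr
      obtain ⟨x, hx, y, hy, rfl⟩ := hcover r hr
      rw [hY0, Subgroup.mem_bot] at hy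
      rw [hy, mul_one]
      exact hx
    obtain ⟨σ, hσ⟩ := exists_matched R
    let Ω' := swapSet (R : Subgroup (Perm Ω))
    letI : Fintype Ω' := Fintype.ofFinite _
    have hcard' : Fintype.card Ω' = 2 ^ a := by
      rw [← Nat.card_eq_fintype_card]
      exact card_swapSet hcard
    let X' : Subgroup (Perm Ω') := (X.subgroupOf R).map (imageHom (R : Subgroup (Perm Ω)))
    let Y' : Subgroup (Perm Ω') := (Y.subgroupOf R).map (imageHom (R : Subgroup (Perm Ω)))
    have hmemX' : ∀ r : (R : Subgroup (Perm Ω)), (r : Perm Ω) ∈ X → imageHom _ r ∈ X' :=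
      fun r hr => ⟨r, hr, rfl⟩
    have hmemY' : ∀ r : (R : Subgroup (Perm Ω)), (r : Perm Ω) ∈ Y → imageHom _ r ∈ Y' :=
      fun r hr => ⟨r, hr, rfl⟩
    have hIH := ih Ω' hcard' (imageSylow R) X' Y'
      (by
        rintro _ ⟨x, _, rfl⟩
        exact ⟨x, rfl⟩)
      (by
        rintro _ ⟨x, _, rfl⟩
        exact ⟨x, rfl⟩)
      (by
        rintro _ ⟨r, rfl⟩ _ ⟨x, hx, rfl⟩
        rw [← map_inv, ← map_mul, ← map_mul]
        exact hmemX' _ (hXn r r.2 x hx))
      (by
        rintro _ ⟨r, rfl⟩ _ ⟨x, hx, rfl⟩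
        rw [← map_inv, ← map_mul, ← map_mul]
        exact hmemY' _ (hYn r r.2 x hx))
      (by
        rintro _ ⟨x, hx, rfl⟩ _ ⟨y, hy, rfl⟩
        rw [← map_mul, ← map_mul]
        congr 1
        exact Subtype.ext (hcomm x hx y hy))
      (by
        rintro _ ⟨r, rfl⟩
        obtain ⟨x, hx, y, hy, hr⟩ := hcover r r.2
        refine ⟨_, hmemX' ⟨x, hXR hx⟩ hx, _, hmemY' ⟨y, hYR hy⟩ hy, ?_⟩
        rw [← map_mul]
        congr 1
        exact Subtype.ext hr)
    have hconv : ∀ {Z : Subgroup (Perm Ω)}, (∀ s ∈ imageSylow R, s ∈ (Z.subgroupOf R).map (imageHom (R : Subgroup (Perm Ω)))) →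
        ∀ r ∈ R, ∃ x ∈ Z, ∀ p : Ω, σ p ≠ p → x * swap p (σ p) * x⁻¹ = r * swap p (σ p) * r⁻¹ := by
      intro Z hZ r hr
      obtain ⟨x, hx, hxr⟩ := hZ _ (⟨⟨r, hr⟩, rfl⟩ : imageHom _ ⟨r, hr⟩ ∈ imageSylow R)
      refine ⟨x, hx, fun p hp => ?_⟩
      have hmem : swap p (σ p) ∈ swapSet (R : Subgroup (Perm Ω)) :=
        ⟨hσ.h p hp, ⟨p, σ p, hp.symm, rfl⟩⟩
      have h1 := congrArg (fun f : Perm Ω' => ((f ⟨_, hmem⟩ : Ω') : Perm Ω)) hxr
      exact h1
    have heven : Even (Fintype.card Ω) := by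
      rw [hcard]
      exact ⟨2 ^ a, by ring⟩
    have hmoved : ∀ x, σ x ≠ x := hσ.m.even_free heven
    rcases hIH with h | h
    · left
      refine step hσ hcard hXR hYR hXn hcomm hcover hX0 fun r hr => ?_
      obtain ⟨x, hx, hxr⟩ := hconv (fun s hs => h hs) r hr
      exact ⟨x, hx, fun p => hxr p (hmoved p)⟩
    · right
      refine step hσ hcard hYR hXR hYn (fun y hy x hx => (hcomm x hx y hy).symm) ?_ hY0 fun r hr => ?_
      · intro r hr
        obtain ⟨x, hx, y, hy, hr'⟩ := hcover r hr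
        exact ⟨y, hy, x, hx, by rw [hr', hcomm x hx y hy]⟩
      · obtain ⟨x, hx, hxr⟩ := hconv (fun s hs => h hs) r hr
        exact ⟨x, hx, fun p => hxr p (hmoved p)⟩

end central

end Cfsg.Agent.Lib.Perm.SylowDecomp
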