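import Mathlib
import Cfsg.Agent.Lib.Perm.SylowDecompA

/-!
Sylow 2-subgroups of alternating groups: orbits of a Sylow 2-subgroup of the symmetric group,
arithmetic of orbits, the case of a single big orbit, and the direct decomposition.
-/

set_option autoImplicit false

namespace Cfsg.Agent.Lib.Perm.SylowDecomp

open Equiv Equiv.Perm MulAction
open Cfsg.Agent.Lib.Perm.SylowTwoSym

universe u

variable {α : Type u} [Fintype α] [DecidableEq α]

/-- Orbit of a point. -/
def orb (R : Sylow 2 (Perm α)) (p : α) : Set α := {y | ∃ r ∈ R, r p = y}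

/-- `x` is small: `R` moves `x` inside its block only. -/
def Small (R : Sylow 2 (Perm α)) (σ : Perm α) (x : α) : Prop := ∀ r ∈ R, r x = x ∨ r x = σ x

/-- The points which are not small. -/
def Xi (R : Sylow 2 (Perm α)) (σ : Perm α) : Set α := {x | ¬ Small R σ x}

/-- The even part of `R`. -/
def P0 (R : Sylow 2 (Perm α)) : Subgroup (Perm α) := (R : Subgroup (Perm α)) ⊓ alternatingGroup α

variable {R : Sylow 2 (Perm α)} {σ : Perm α}

theorem mem_P0 {g : Perm α} : g ∈ P0 R ↔ g ∈ R ∧ sign g = 1 := by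
  rw [P0, Subgroup.mem_inf, mem_alternatingGroup]
  rfl

theorem mem_orb_self (p : α) : p ∈ orb R p := ⟨1, R.one_mem, rfl⟩

theorem inv_of_forward {I : Set α} (h : ∀ r ∈ R, ∀ y ∈ I, r y ∈ I) : Inv R I := by
  intro r hr y
  refine ⟨fun h1 => ?_, h r hr y⟩
  have h2 := h r⁻¹ (R.inv_mem hr) _ h1
  simpa using h2

theorem inv_orb (p : α) : Inv R (orb R p) := by
  apply inv_of_forward
  rintro r hr _ ⟨s, hs, rfl⟩
  exact ⟨r * s, R.mul_mem hr hs, rfl⟩

theorem apply_mem_orb {r : Perm α} (hr : r ∈ R) (p : α) : r p ∈ orb R p := ⟨r, hr, rfl⟩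

theorem orb_eq_of_mem {p q : α} (h : q ∈ orb R p) : orb R q = orb R p := by
  obtain ⟨s, hs, rfl⟩ := h
  ext y
  constructor
  · rintro ⟨r, hr, rfl⟩
    exact ⟨r * s, R.mul_mem hr hs, rfl⟩
  · rintro ⟨r, hr, rfl⟩
    refine ⟨r * s⁻¹, R.mul_mem hr (R.inv_mem hs), ?_⟩
    simp [Perm.mul_apply]

theorem ncard_orb (p : α) : ∃ j, (orb R p).ncard = 2 ^ j := by
  obtain ⟨O, j, hO, hpO, hj, hreach⟩ := orbit_data R p
  have h1 : O = orb R p := by
    ext y
    constructor
    · intro hy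
      obtain ⟨g, hg, e⟩ := hreach y hy
      exact ⟨g, hg, e⟩
    · rintro ⟨g, hg, rfl⟩
      exact (hO g hg p).mpr hpO
  exact ⟨j, h1 ▸ hj⟩

theorem trans_of_ncard {I : Set α} (hI : Inv R I) {k : ℕ} (hcard : I.ncard = 2 ^ k) {x y : α}
    (hx : x ∈ I) (hy : y ∈ I) : ∃ r ∈ R, r x = y := by
  classical
  have hc : Fintype.card I = 2 ^ k := by
    rw [← Nat.card_eq_fintype_card, Nat.card_coe_set_eq, hcard]
  obtain ⟨u, hu, hxy⟩ := exists_mem_apply_eq_of_card_pow (restrictSylow hI) hc ⟨x, hx⟩ ⟨y, hy⟩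
  obtain ⟨⟨r, hr⟩, rfl⟩ := hu
  exact ⟨r, hr, congrArg Subtype.val hxy⟩

/-! ### Small points -/

theorem Matched.small_of_fixed (hσ : Matched R σ) {x : α} (hx : σ x = x) : Small R σ x :=
  fun _ hr => Or.inl (hσ.fixed hx hr)

theorem Matched.small_apply (hσ : Matched R σ) {y : α} (hy : Small R σ y) {r : Perm α} (hr : r ∈ R) :
    Small R σ (r y) := by
  intro s hs
  have h1 := hy (s * r) (R.mul_mem hs hr)
  rw [Perm.mul_apply] at h1
  rcases hy r hr with h2 | h2
  · rw [h2]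
    rw [h2] at h1
    exact h1
  · rw [h2] at h1 ⊢
    rw [hσ.sq]
    rcases h1 with h1 | h1
    · exact Or.inr h1
    · exact Or.inl h1

theorem Matched.inv_Xi (hσ : Matched R σ) : Inv R (Xi R σ) := by
  apply inv_of_forward
  intro r hr y hy h1
  apply hy
  have h2 := hσ.small_apply h1 (R.inv_mem hr)
  simpa using h2

theorem Matched.mem_Xi_moved (hσ : Matched R σ) {x : α} (hx : x ∈ Xi R σ) : σ x ≠ x :=
  fun h => hx (hσ.small_of_fixed h)

theorem Matched.inv_pair (hσ : Matched R σ) {x : α} (hx : Small R σ x) {r : Perm α} (hr : r ∈ R) :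
    r (σ x) = σ x ∨ r (σ x) = x := by
  rw [hσ.comm hr]
  rcases hx r hr with h | h
  · rw [h]; exact Or.inl rfl
  · rw [h, hσ.sq]; exact Or.inr rfl

theorem Matched.two_small (hσ : Matched R σ) {x y : α} (hxm : σ x ≠ x) (hym : σ y ≠ y)
    (hx : Small R σ x) (hy : Small R σ y) : y = x ∨ y = σ x := by
  by_contra hcon
  push Not at hcon
  obtain ⟨h1, h2⟩ := hcon
  have hinj := σ.injective
  let I : Finset α := {x, σ x, y, σ y}
  have hI : Inv R (I : Set α) := by
    apply inv_of_forward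
    intro r hr z hz
    simp only [I, Finset.coe_insert, Finset.coe_singleton, Set.mem_insert_iff,
      Set.mem_singleton_iff] at hz ⊢
    have a1 := hx r hr
    have a2 := hσ.inv_pair hx hr
    have a3 := hy r hr
    have a4 := hσ.inv_pair hy hr
    rcases hz with rfl | rfl | rfl | rfl
    · tauto
    · tauto
    · tauto
    · tauto
  have hcard : (I : Set α).ncard = 2 ^ 2 := by
    rw [Set.ncard_coe_finset]
    have h3 : x ≠ σ y := fun e => h2 (by rw [e, hσ.sq])
    have h4 : σ x ≠ σ y := fun e => h1 (hinj e).symm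
    have a1 : y ∉ ({σ y} : Finset α) := by
      rw [Finset.mem_singleton]; exact hym.symm
    have a2 : σ x ∉ ({y, σ y} : Finset α) := by
      simp only [Finset.mem_insert, Finset.mem_singleton, not_or]; exact ⟨h2.symm, h4⟩
    have a3 : x ∉ ({σ x, y, σ y} : Finset α) := by
      simp only [Finset.mem_insert, Finset.mem_singleton, not_or]; exact ⟨hxm.symm, h1.symm, h3⟩
    rw [Finset.card_insert_of_notMem a3, Finset.card_insert_of_notMem a2,
      Finset.card_insert_of_notMem a1, Finset.card_singleton]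
    norm_num
  have hxI : x ∈ (I : Set α) := by simp [I]
  have hyI : y ∈ (I : Set α) := by simp [I]
  obtain ⟨r, hr, hxy⟩ := trans_of_ncard hI hcard hxI hyI
  rcases hx r hr with h | h
  · exact h1 (hxy.symm.trans h)
  · exact h2 (hxy.symm.trans h)

/-- Invariant sets of non-small points have size divisible by 4. -/
theorem Matched.four_dvd (hσ : Matched R σ) : ∀ (n : ℕ) (I : Set α), I.ncard = n → Inv R I →
    I ⊆ Xi R σ → 4 ∣ n := by
  intro n
  induction n using Nat.strong_induction_on with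
  | _ n ih =>
    intro I hn hI hsub
    by_cases hne : I.Nonempty
    · obtain ⟨p, hp⟩ := hne
      have hO : orb R p ⊆ I := by
        rintro _ ⟨r, hr, rfl⟩
        exact (hI r hr p).mpr hp
      have hpX := hsub hp
      have hpm := hσ.mem_Xi_moved hpX
      have hnot : ¬ Small R σ p := hpX
      unfold Small at hnot
      push Not at hnot
      obtain ⟨r, hr, hr1, hr2⟩ := hnot
      obtain ⟨j, hj⟩ := ncard_orb (R := R) p
      have h3 : 3 ≤ (orb R p).ncard := by
        have hsubset : (({p, σ p, r p} : Finset α) : Set α) ⊆ orb R p := by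
          intro z hz
          simp only [Finset.coe_insert, Finset.coe_singleton, Set.mem_insert_iff,
            Set.mem_singleton_iff] at hz
          rcases hz with rfl | rfl | rfl
          · exact mem_orb_self _
          · exact ⟨swap p (σ p), hσ.h p hpm, by simp⟩
          · exact apply_mem_orb hr _
        have h4 := Set.ncard_le_ncard hsubset (Set.toFinite _)
        rw [Set.ncard_coe_finset] at h4
        have h5 : ({p, σ p, r p} : Finset α).card = 3 := by
          have a1 : σ p ∉ ({r p} : Finset α) := by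
            rw [Finset.mem_singleton]; exact hr2.symm
          have a2 : p ∉ ({σ p, r p} : Finset α) := by
            simp only [Finset.mem_insert, Finset.mem_singleton, not_or]
            exact ⟨hpm.symm, hr1.symm⟩
          rw [Finset.card_insert_of_notMem a2, Finset.card_insert_of_notMem a1,
            Finset.card_singleton]
        omega
      have h4 : 4 ∣ (orb R p).ncard := by
        rw [hj] at h3 ⊢
        have h5 : 2 ≤ j := by
          by_contra hlt
          have : j = 0 ∨ j = 1 := by omega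
          rcases this with rfl | rfl <;> omega
        exact pow_dvd_pow 2 h5
      have hsplit : (I \ orb R p).ncard + (orb R p).ncard = I.ncard := Set.ncard_diff_add_ncard_of_subset hO
      have hinv' : Inv R (I \ orb R p) := by
        apply inv_of_forward
        rintro s hs z ⟨hz1, hz2⟩
        exact ⟨(hI s hs z).mpr hz1, fun h5 => hz2 ((inv_orb p s hs z).mp h5)⟩
      have h5 := ih _ (by omega) (I \ orb R p) rfl hinv' (fun z hz => hsub hz.1)
      rw [← hn, ← hsplit]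
      exact dvd_add h5 h4
    · rw [Set.not_nonempty_iff_eq_empty] at hne
      rw [hne] at hn
      simp at hn
      rw [← hn]
      exact dvd_zero 4

/-- The arithmetic of the orbits. -/
theorem Matched.arith (hσ : Matched R σ) :
    (Xi R σ).ncard = 4 * (Fintype.card α / 4) ∧
    ((Fintype.card α % 4 = 2 ∨ Fintype.card α % 4 = 3) ↔ ∃ u, σ u ≠ u ∧ Small R σ u) := by
  have h4 := hσ.four_dvd _ (Xi R σ) rfl hσ.inv_Xi subset_rfl
  have hsum : (Xi R σ).ncard + (Xi R σ)ᶜ.ncard = Nat.card α := Set.ncard_add_ncard_compl _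
  rw [Nat.card_eq_fintype_card] at hsum
  have hfix : ({x | σ x = x} : Set α).ncard ≤ 1 := by
    rw [Set.ncard_le_one_iff]
    intro a b ha hb
    exact hσ.m.fix _ _ ha hb
  by_cases hu : ∃ u, σ u ≠ u ∧ Small R σ u
  · obtain ⟨u, hum, hus⟩ := hu
    have hsplit : ((Xi R σ)ᶜ \ {u, σ u}).ncard + ({u, σ u} : Set α).ncard = (Xi R σ)ᶜ.ncard := by
      refine Set.ncard_diff_add_ncard_of_subset ?_ (Set.toFinite _)
      intro z hz
      simp only [Set.mem_insert_iff, Set.mem_singleton_iff] at hz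
      simp only [Xi, Set.mem_compl_iff, Set.mem_ofPred_eq, not_not]
      rcases hz with rfl | rfl
      · exact hus
      · intro r hr
        have := hσ.inv_pair hus hr
        rw [hσ.sq]
        exact this
    have h2 : ({u, σ u} : Set α).ncard = 2 := Set.ncard_pair hum.symm
    have h1 : ((Xi R σ)ᶜ \ {u, σ u}).ncard ≤ 1 := by
      refine le_trans (Set.ncard_le_ncard ?_ (Set.toFinite _)) hfix
      rintro z ⟨hz1, hz2⟩
      simp only [Xi, Set.mem_compl_iff, Set.mem_ofPred_eq, not_not] at hz1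
      simp only [Set.mem_insert_iff, Set.mem_singleton_iff, not_or] at hz2
      by_contra hzm
      rcases hσ.two_small hum hzm hus hz1 with h | h
      · exact hz2.1 h
      · exact hz2.2 h
    obtain ⟨c, hc⟩ := h4
    refine ⟨by omega, ?_⟩
    have : Fintype.card α % 4 = 2 ∨ Fintype.card α % 4 = 3 := by omega
    exact ⟨fun _ => ⟨u, hum, hus⟩, fun _ => this⟩
  · have h1 : (Xi R σ)ᶜ.ncard ≤ 1 := by
      refine le_trans (Set.ncard_le_ncard ?_ (Set.toFinite _)) hfix
      intro z hz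
      simp only [Xi, Set.mem_compl_iff, Set.mem_ofPred_eq, not_not] at hz
      by_contra hzm
      exact hu ⟨z, hzm, hz⟩
    obtain ⟨c, hc⟩ := h4
    refine ⟨by omega, ?_⟩
    have : ¬ (Fintype.card α % 4 = 2 ∨ Fintype.card α % 4 = 3) := by omega
    exact ⟨fun h => absurd h this, fun h => absurd h hu⟩

/-! ### Moved points and even lifts -/

theorem Matched.exists_moved_avoid (hσ : Matched R σ) (L : List α)
    (hL : L.length + 1 < Fintype.card α) : ∃ y, y ∉ L ∧ σ y ≠ y := by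
  by_cases h : ∃ f, σ f = f
  · obtain ⟨f, hf⟩ := h
    obtain ⟨y, hy⟩ := exists_not_mem_list (f :: L) (by simpa using hL)
    simp only [List.mem_cons, not_or] at hy
    exact ⟨y, hy.2, fun e => hy.1 (hσ.m.fix _ _ e hf)⟩
  · push Not at h
    obtain ⟨y, hy⟩ := exists_not_mem_list L (by omega)
    exact ⟨y, hy, h y⟩

theorem sign_swap_moved {x : α} (hx : σ x ≠ x) : sign (swap x (σ x)) = -1 := sign_swap hx.symm

theorem Matched.two_swaps_mem (hσ : Matched R σ) {p q : α} (hp : σ p ≠ p) (hq : σ q ≠ q) :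
    swap p (σ p) * swap q (σ q) ∈ P0 R := by
  rw [mem_P0]
  refine ⟨R.mul_mem (hσ.h p hp) (hσ.h q hq), ?_⟩
  rw [Perm.sign_mul, sign_swap_moved hp, sign_swap_moved hq]
  rfl

theorem neg_of_ne_one {g : Perm α} (h : sign g ≠ 1) : sign g = -1 :=
  (Int.units_eq_one_or _).resolve_left h

theorem Matched.central_pair (hσ : Matched R σ) (hn : 6 ≤ Fintype.card α) {c : Perm α}
    (hc : ∀ g ∈ P0 R, c * g = g * c) {x : α} (hx : σ x ≠ x) : c x = x ∨ c x = σ x := by
  obtain ⟨y, hy, hym⟩ := hσ.exists_moved_avoid [x, σ x] (by simp; omega)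
  obtain ⟨z, hz, hzm⟩ := hσ.exists_moved_avoid [x, σ x, y, σ y] (by simp; omega)
  simp only [List.mem_cons, List.not_mem_nil, or_false, not_or] at hy hz
  have key : ∀ q, σ q ≠ q → q ≠ x → q ≠ σ x → c x = x ∨ c x = σ x ∨ c x = q ∨ c x = σ q := by
    intro q hq h1 h2
    by_contra hcon
    push Not at hcon
    obtain ⟨c1, c2, c3, c4⟩ := hcon
    have h3 := congrArg (fun f : Perm α => f x) (hc _ (hσ.two_swaps_mem hx hq))
    simp only [Perm.mul_apply] at h3
    have h5 : x ≠ σ q := fun e => h2 (by rw [e, hσ.sq])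
    rw [swap_apply_of_ne_of_ne h1.symm h5, swap_apply_left, swap_apply_of_ne_of_ne c3 c4,
      swap_apply_of_ne_of_ne c1 c2] at h3
    exact hx (c.injective h3)
  rcases key y hym hy.1 hy.2 with h | h | h | h
  · exact Or.inl h
  · exact Or.inr h
  · rcases key z hzm hz.1 hz.2.1 with h1 | h1 | h1 | h1
    · exact Or.inl h1
    · exact Or.inr h1
    · exact absurd (h.symm.trans h1).symm hz.2.2.1
    · exfalso
      apply hz.2.2.2
      have : y = σ z := h.symm.trans h1
      rw [this, hσ.sq]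
  · rcases key z hzm hz.1 hz.2.1 with h1 | h1 | h1 | h1
    · exact Or.inl h1
    · exact Or.inr h1
    · exact absurd (h.symm.trans h1).symm hz.2.2.2
    · exact absurd (σ.injective (h.symm.trans h1)).symm hz.2.2.1

theorem Matched.exists_even_lift (hσ : Matched R σ) (hn : 3 < Fintype.card α) {r : Perm α}
    (hr : r ∈ R) (x : α) : ∃ r' ∈ P0 R, r' x = r x := by
  by_cases hs : sign r = 1
  · exact ⟨r, mem_P0.mpr ⟨hr, hs⟩, rfl⟩
  · obtain ⟨p, hp, hpm⟩ := hσ.exists_moved_avoid [x, σ x] (by simp; omega)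
    simp only [List.mem_cons, List.not_mem_nil, or_false, not_or] at hp
    refine ⟨r * swap p (σ p), mem_P0.mpr ⟨R.mul_mem hr (hσ.h p hpm), ?_⟩, ?_⟩
    · rw [Perm.sign_mul, sign_swap_moved hpm, neg_of_ne_one hs]
      rfl
    · rw [Perm.mul_apply, swap_apply_of_ne_of_ne (Ne.symm hp.1) (fun e => hp.2 (by rw [e, hσ.sq]))]

/-- A permutation fixing everything outside `{u, v}` and even is trivial. -/
theorem eq_one_of_even_off {g : Perm α} {u v : α} (huv : u ≠ v) (hs : sign g = 1)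
    (hoff : ∀ w, w ≠ u → w ≠ v → g w = w) : g = 1 := by
  by_cases h1 : g u = u
  · have h2 : g v = v := by
      by_contra hne
      by_cases h3 : g v = u
      · exact huv (g.injective (h1.trans h3.symm))
      · exact hne (g.injective (hoff _ h3 hne))
    ext w
    by_cases h3 : w = u
    · rw [h3, h1]; rfl
    by_cases h4 : w = v
    · rw [h4, h2]; rfl
    rw [hoff w h3 h4]
    rfl
  · exfalso
    have h2 : g u = v := by
      by_contra hne
      exact h1 (g.injective (hoff _ h1 hne))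
    have h3 : g v = u := by
      by_contra hne
      have h5 : g v ≠ v := fun e => huv (g.injective (h2.trans e.symm))
      exact h5 (g.injective (hoff _ hne h5))
    have h4 : g = swap u v := by
      ext w
      by_cases h5 : w = u
      · rw [h5, h2, swap_apply_left]
      by_cases h6 : w = v
      · rw [h6, h3, swap_apply_right]
      rw [hoff w h5 h6, swap_apply_of_ne_of_ne h5 h6]
    rw [h4, sign_swap huv] at hs
    exact absurd hs (by decide)

/-! ### Decompositions -/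

/-- A direct decomposition of the even part. -/
structure Decomp (R : Sylow 2 (Perm α)) (X Y : Subgroup (Perm α)) : Prop where
  leX : X ≤ P0 R
  leY : Y ≤ P0 R
  comm : ∀ x ∈ X, ∀ y ∈ Y, x * y = y * x
  inf : X ⊓ Y = ⊥
  cover : ∀ g ∈ P0 R, ∃ x ∈ X, ∃ y ∈ Y, g = x * y

variable {X Y : Subgroup (Perm α)}

theorem Decomp.symm (h : Decomp R X Y) : Decomp R Y X where
  leX := h.leY
  leY := h.leX
  comm := fun y hy x hx => (h.comm x hx y hy).symm
  inf := by rw [inf_comm]; exact h.inf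
  cover := fun g hg => by
    obtain ⟨x, hx, y, hy, e⟩ := h.cover g hg
    exact ⟨y, hy, x, hx, by rw [e, h.comm x hx y hy]⟩

theorem Decomp.normal (h : Decomp R X Y) {g : Perm α} (hg : g ∈ P0 R) {x : Perm α} (hx : x ∈ X) :
    g * x * g⁻¹ ∈ X := by
  obtain ⟨x₀, hx₀, y₀, hy₀, rfl⟩ := h.cover g hg
  have h1 : y₀ * x = x * y₀ := (h.comm x hx y₀ hy₀).symm
  have h2 : x₀ * y₀ * x * (x₀ * y₀)⁻¹ = x₀ * x * x₀⁻¹ := by
    calc x₀ * y₀ * x * (x₀ * y₀)⁻¹ = x₀ * (y₀ * x) * y₀⁻¹ * x₀⁻¹ := by group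
      _ = x₀ * (x * y₀) * y₀⁻¹ * x₀⁻¹ := by rw [h1]
      _ = x₀ * x * x₀⁻¹ := by group
  rw [h2]
  exact X.mul_mem (X.mul_mem hx₀ hx) (X.inv_mem hx₀)

theorem isPGroup_P0 : IsPGroup 2 (P0 R) := by
  refine IsPGroup.to_le R.isPGroup' ?_
  exact inf_le_left

theorem Decomp.exists_central (h : Decomp R X Y) (hne : X ≠ ⊥) :
    ∃ z ∈ X, z ≠ 1 ∧ ∀ g ∈ P0 R, z * g = g * z := by
  let N : Subgroup (P0 R) := X.subgroupOf (P0 R)
  haveI hN : N.Normal := by
    constructor
    intro n hn g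
    exact h.normal g.2 hn
  have hNne : N ≠ ⊥ := by
    intro h0
    apply hne
    rw [eq_bot_iff]
    intro x hx
    have h1 : (⟨x, h.leX hx⟩ : P0 R) ∈ N := hx
    rw [h0] at h1
    have h2 := (Subgroup.mem_bot).mp h1
    exact (Subgroup.mem_bot).mpr (congrArg Subtype.val h2)
  have h1 := Cfsg.Agent.Lib.Basic.SylowUtil.inf_center_ne_bot_of_isPGroup isPGroup_P0 hNne
  obtain ⟨⟨c, hc⟩, hc1⟩ := (Subgroup.ne_bot_iff_exists_ne_one).mp h1
  refine ⟨c, hc.1, ?_, ?_⟩
  · intro e
    apply hc1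
    apply Subtype.ext
    exact Subtype.ext e
  · intro g hg
    have := (Subgroup.mem_center_iff.mp hc.2) ⟨g, hg⟩
    exact (congrArg Subtype.val this).symm

/-! ### One big orbit: the centre of the even part -/

theorem Matched.central_off (hσ : Matched R σ) (hn : 6 ≤ Fintype.card α) {c : Perm α}
    (hcP : c ∈ P0 R) (hc : ∀ g ∈ P0 R, c * g = g * c) (hfix : ∀ y ∈ Xi R σ, c y = y) : c = 1 := by
  by_contra hne
  obtain ⟨u, hu⟩ : ∃ u, c u ≠ u := by
    by_contra hcon
    push Not at hcon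
    exact hne (Equiv.ext hcon)
  have hcR := (mem_P0.mp hcP).1
  have hum : σ u ≠ u := fun e => hu (hσ.fixed e hcR)
  have hus : Small R σ u := by
    by_contra h
    exact hu (hfix u h)
  apply hne
  refine eq_one_of_even_off hum.symm (mem_P0.mp hcP).2 ?_
  intro w h1 h2
  by_cases hw : w ∈ Xi R σ
  · exact hfix w hw
  · have hws : Small R σ w := by
      by_contra h
      exact hw h
    by_cases hwm : σ w = w
    · exact hσ.fixed hwm hcR
    · rcases hσ.two_small hum hwm hus hws with h | h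
      · exact absurd h h1
      · exact absurd h h2

theorem Matched.central_unique (hσ : Matched R σ) (hn : 6 ≤ Fintype.card α)
    (htr : ∀ x ∈ Xi R σ, ∀ y ∈ Xi R σ, ∃ r ∈ R, r x = y) {z₁ z₂ : Perm α}
    (h₁P : z₁ ∈ P0 R) (h₂P : z₂ ∈ P0 R) (hc₁ : ∀ g ∈ P0 R, z₁ * g = g * z₁)
    (hc₂ : ∀ g ∈ P0 R, z₂ * g = g * z₂) (h₁ : z₁ ≠ 1) (h₂ : z₂ ≠ 1) : z₁ = z₂ := by
  have hP0R : ∀ t ∈ P0 R, t ∈ R := fun t ht => (mem_P0.mp ht).1
  have htr' : ∀ y ∈ Xi R σ, ∀ z ∈ Xi R σ, ∃ t ∈ P0 R, t y = z := by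
    intro y hy z hz
    obtain ⟨r, hr, e⟩ := htr y hy z hz
    obtain ⟨r', hr', e'⟩ := hσ.exists_even_lift (by omega) hr y
    exact ⟨r', hr', e'.trans e⟩
  have key : ∀ c ∈ P0 R, (∀ g ∈ P0 R, c * g = g * c) → c ≠ 1 → ∀ y ∈ Xi R σ, c y = σ y := by
    intro c hcP hc hne
    have hu := hσ.uniform (c := c) (Δ := Xi R σ) (T := P0 R) hP0R htr'
      (fun t ht y _ => by
        have := congrArg (fun f : Perm α => f y) (hc t ht)
        simpa [Perm.mul_apply] using this)
      (fun y hy => hσ.central_pair hn hc (hσ.mem_Xi_moved hy))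
    rcases hu with h | h
    · exact absurd (hσ.central_off hn hcP hc h) hne
    · exact h
  have h3 := key z₁ h₁P hc₁ h₁
  have h4 := key z₂ h₂P hc₂ h₂
  have h5 : z₁⁻¹ * z₂ = 1 := by
    apply hσ.central_off hn ((P0 R).mul_mem ((P0 R).inv_mem h₁P) h₂P)
    · intro g hg
      have a1 : Commute z₁ g := hc₁ g hg
      have a2 : Commute z₂ g := hc₂ g hg
      exact (a1.inv_left.mul_left a2)
    · intro y hy
      rw [Perm.mul_apply, h4 y hy, Perm.inv_eq_iff_eq, h3 y hy]
  have h6 := (inv_mul_eq_one.mp h5)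
  exact h6

/-- With one big orbit, the even part is indecomposable. -/
theorem Matched.indec_of_trans (hσ : Matched R σ) (hn : 6 ≤ Fintype.card α)
    (htr : ∀ x ∈ Xi R σ, ∀ y ∈ Xi R σ, ∃ r ∈ R, r x = y) (h : Decomp R X Y) (hX : X ≠ ⊥)
    (hY : Y ≠ ⊥) : False := by
  obtain ⟨z₁, hz₁, hne₁, hc₁⟩ := h.exists_central hX
  obtain ⟨z₂, hz₂, hne₂, hc₂⟩ := h.symm.exists_central hY
  have h1 := hσ.central_unique hn htr (h.leX hz₁) (h.leY hz₂) hc₁ hc₂ hne₁ hne₂
  have h2 : z₁ ∈ X ⊓ Y := ⟨hz₁, h1 ▸ hz₂⟩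
  rw [h.inf] at h2
  exact hne₁ h2

/-! ### The direct decomposition -/

/-- The subgroup fixing a set pointwise. -/
def fixG (I : Set α) : Subgroup (Perm α) where
  carrier := {g | ∀ w ∈ I, g w = w}
  one_mem' := fun _ _ => rfl
  mul_mem' := by
    intro a b ha hb w hw
    rw [Perm.mul_apply, hb w hw, ha w hw]
  inv_mem' := by
    intro a ha w hw
    rw [Perm.inv_eq_iff_eq, ha w hw]

theorem mem_fixG {I : Set α} {g : Perm α} : g ∈ fixG I ↔ ∀ w ∈ I, g w = w := Iff.rfl

theorem Matched.small_comm (hσ : Matched R σ) {x y : Perm α} (hx : x ∈ R) (hy : y ∈ R) {u : α}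
    (hu : Small R σ u) : x (y u) = y (x u) := by
  rcases hu x hx with h1 | h1 <;> rcases hu y hy with h2 | h2
  · rw [h1, h2, h1]
  · rw [h1, h2, hσ.comm hx, h1]
  · rw [h2, h1, hσ.comm hy, h2]
  · rw [h2, h1, hσ.comm hx, hσ.comm hy, h1, h2]

theorem Matched.decomposable (hσ : Matched R σ) {u : α} (hum : σ u ≠ u) (hus : Small R σ u)
    {O J : Set α} (hO : Inv R O) (hJ : Inv R J) (hdisj : ∀ w, w ∈ O → w ∉ J)
    (hcov : ∀ w, w ∈ O ∨ w ∈ J ∨ w = u ∨ w = σ u ∨ σ w = w)
    (huO : u ∉ O) (hvO : σ u ∉ O) (huJ : u ∉ J) (hvJ : σ u ∉ J)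
    {p q : α} (hp : p ∈ O) (hq : q ∈ J) (hpm : σ p ≠ p) (hqm : σ q ≠ q) :
    ∃ X Y : Subgroup (Perm α), X ≠ ⊥ ∧ Y ≠ ⊥ ∧ Decomp R X Y := by
  set t₀ := swap u (σ u) with ht₀
  have ht₀R : t₀ ∈ R := hσ.h u hum
  have ht₀off : ∀ w, w ≠ u → w ≠ σ u → t₀ w = w := fun w h1 h2 => swap_apply_of_ne_of_ne h1 h2
  have hvs : Small R σ (σ u) := by
    intro r hr
    rw [hσ.sq]
    exact hσ.inv_pair hus hr
  have hneO : ∀ w ∈ O, w ≠ u ∧ w ≠ σ u := fun w hw =>
    ⟨fun e => huO (e ▸ hw), fun e => hvO (e ▸ hw)⟩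
  have hneJ : ∀ w ∈ J, w ≠ u ∧ w ≠ σ u := fun w hw =>
    ⟨fun e => huJ (e ▸ hw), fun e => hvJ (e ▸ hw)⟩
  have ht₀O : ∀ w ∈ O, t₀ w = w := fun w hw => ht₀off w (hneO w hw).1 (hneO w hw).2
  have ht₀J : ∀ w ∈ J, t₀ w = w := fun w hw => ht₀off w (hneJ w hw).1 (hneJ w hw).2
  have hsign₀ : sign t₀ = -1 := sign_swap_moved hum
  -- commuting
  have hcomm : ∀ x ∈ (P0 R ⊓ fixG J), ∀ y ∈ (P0 R ⊓ fixG O), x * y = y * x := by
    rintro x ⟨hx1, hx2⟩ y ⟨hy1, hy2⟩
    have hxR := (mem_P0.mp hx1).1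
    have hyR := (mem_P0.mp hy1).1
    ext w
    rw [Perm.mul_apply, Perm.mul_apply]
    rcases hcov w with h | h | h | h | h
    · rw [hy2 w h, hy2 _ ((hO x hxR w).mpr h)]
    · rw [hx2 w h, hx2 _ ((hJ y hyR w).mpr h)]
    · rw [h]; exact hσ.small_comm hxR hyR hus
    · rw [h]; exact hσ.small_comm hxR hyR hvs
    · rw [hσ.fixed h hyR, hσ.fixed h hxR, hσ.fixed h hyR]
  -- trivial intersection
  have hinf : (P0 R ⊓ fixG J) ⊓ (P0 R ⊓ fixG O) = ⊥ := by
    rw [eq_bot_iff]
    rintro g ⟨⟨hg1, hg2⟩, ⟨-, hg3⟩⟩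
    have hgR := (mem_P0.mp hg1).1
    refine (Subgroup.mem_bot).mpr (eq_one_of_even_off hum.symm (mem_P0.mp hg1).2 ?_)
    intro w h1 h2
    rcases hcov w with h | h | h | h | h
    · exact hg3 w h
    · exact hg2 w h
    · exact absurd h h1
    · exact absurd h h2
    · exact hσ.fixed h hgR
  -- parity adjustment
  have hadjust : ∀ c ∈ R, ∃ c' ∈ P0 R, ∀ w, w ≠ u → w ≠ σ u → c' w = c w := by
    intro c hc
    by_cases hs : sign c = 1
    · exact ⟨c, mem_P0.mpr ⟨hc, hs⟩, fun _ _ _ => rfl⟩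
    · refine ⟨c * t₀, mem_P0.mpr ⟨R.mul_mem hc ht₀R, ?_⟩, ?_⟩
      · rw [Perm.sign_mul, hsign₀, neg_of_ne_one hs]
        rfl
      · intro w h1 h2
        rw [Perm.mul_apply, ht₀off w h1 h2]
  -- covering
  have hcover : ∀ g ∈ P0 R, ∃ x ∈ (P0 R ⊓ fixG J), ∃ y ∈ (P0 R ⊓ fixG O), g = x * y := by
    intro g hg
    have hgR := (mem_P0.mp hg).1
    obtain ⟨c₁, hc₁, h1a, h1b⟩ := exists_cut hO hgR
    obtain ⟨c₂, hc₂, h2a, h2b⟩ := exists_cut hJ hgR
    obtain ⟨x, hx, hxc⟩ := hadjust c₁ hc₁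
    obtain ⟨y, hy, hyc⟩ := hadjust c₂ hc₂
    have hxJ : ∀ w ∈ J, x w = w := fun w hw => by
      rw [hxc w (hneJ w hw).1 (hneJ w hw).2]
      exact h1b w (fun h => hdisj w h hw)
    have hyO : ∀ w ∈ O, y w = w := fun w hw => by
      rw [hyc w (hneO w hw).1 (hneO w hw).2]
      exact h2b w (hdisj w hw)
    refine ⟨x, ⟨hx, hxJ⟩, y, ⟨hy, hyO⟩, ?_⟩
    have hmem : (x * y)⁻¹ * g ∈ P0 R := (P0 R).mul_mem ((P0 R).inv_mem ((P0 R).mul_mem hx hy)) hg
    have h1 : (x * y)⁻¹ * g = 1 := by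
      refine eq_one_of_even_off hum.symm (mem_P0.mp hmem).2 ?_
      intro w h3 h4
      rw [Perm.mul_apply, Perm.inv_eq_iff_eq, Perm.mul_apply]
      rcases hcov w with h | h | h | h | h
      · rw [hyO w h, hxc w h3 h4, h1a w h]
      · rw [hyc w h3 h4, h2a w h, hxJ _ ((hJ g hgR w).mpr h)]
      · exact absurd h h3
      · exact absurd h h4
      · rw [hσ.fixed h hgR, hσ.fixed h (mem_P0.mp hy).1, hσ.fixed h (mem_P0.mp hx).1]
    exact (inv_mul_eq_one.mp h1).symm
  have hpO' : ∀ {z}, z ∈ O → σ z ∈ O := by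
    intro z hz
    by_cases hzm : σ z = z
    · rwa [hzm]
    · have := (hO _ (hσ.h z hzm) z).mpr hz
      rwa [swap_apply_left] at this
  have hqJ' : ∀ {z}, z ∈ J → σ z ∈ J := by
    intro z hz
    by_cases hzm : σ z = z
    · rwa [hzm]
    · have := (hJ _ (hσ.h z hzm) z).mpr hz
      rwa [swap_apply_left] at this
  refine ⟨P0 R ⊓ fixG J, P0 R ⊓ fixG O, ?_, ?_, ⟨inf_le_left, inf_le_left, hcomm, hinf, hcover⟩⟩
  · intro h0
    have hmem : swap p (σ p) * t₀ ∈ P0 R ⊓ fixG J := by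
      refine ⟨hσ.two_swaps_mem hpm hum, ?_⟩
      intro w hw
      rw [Perm.mul_apply, ht₀J w hw]
      refine swap_apply_of_ne_of_ne ?_ ?_
      · rintro rfl; exact hdisj _ hp hw
      · rintro rfl; exact hdisj _ (hpO' hp) hw
    rw [h0, Subgroup.mem_bot] at hmem
    have h1 := congrArg (fun f : Perm α => f p) hmem
    simp only [Perm.mul_apply, Perm.one_apply] at h1
    rw [ht₀O p hp, swap_apply_left] at h1
    exact hpm h1
  · intro h0
    have hmem : swap q (σ q) * t₀ ∈ P0 R ⊓ fixG O := by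
      refine ⟨hσ.two_swaps_mem hqm hum, ?_⟩
      intro w hw
      rw [Perm.mul_apply, ht₀O w hw]
      refine swap_apply_of_ne_of_ne ?_ ?_
      · rintro rfl; exact hdisj _ hw hq
      · rintro rfl; exact hdisj _ hw (hqJ' hq)
    rw [h0, Subgroup.mem_bot] at hmem
    have h1 := congrArg (fun f : Perm α => f q) hmem
    simp only [Perm.mul_apply, Perm.one_apply] at h1
    rw [ht₀J q hq, swap_apply_left] at h1
    exact hqm h1

end Cfsg.Agent.Lib.Perm.SylowDecomp
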