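import Mathlib
import Cfsg.Agent.Lib.Perm.SylowDecompB

/-!
Sylow 2-subgroups of alternating groups: indecomposability when there are no orbits of size two and
at least two big orbits.
-/

set_option autoImplicit false

namespace Cfsg.Agent.Lib.Perm.SylowDecomp

open Equiv Equiv.Perm MulAction
open Cfsg.Agent.Lib.Perm.SylowTwoSym
open scoped commutatorElement

universe u

variable {α : Type u} [Fintype α] [DecidableEq α]
variable {R : Sylow 2 (Perm α)} {σ : Perm α} {X Y : Subgroup (Perm α)}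

/-- A commutator identity. -/
theorem commutator_mul_mul {G : Type*} [Group G] (a b c d : G) (hbc : Commute b c)
    (hbd : Commute b d) (had : Commute a d) : ⁅a * b, c * d⁆ = ⁅a, c⁆ := by
  have h1 : b * c = c * b := hbc
  have h2 : b * d * b⁻¹ = d := by rw [hbd.eq]; group
  have h3 : d * a⁻¹ = a⁻¹ * d := (had.inv_left).eq.symm
  rw [commutatorElement_def, commutatorElement_def]
  calc a * b * (c * d) * (a * b)⁻¹ * (c * d)⁻¹
      = a * (b * c) * d * b⁻¹ * a⁻¹ * d⁻¹ * c⁻¹ := by group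
    _ = a * c * (b * d * b⁻¹) * a⁻¹ * d⁻¹ * c⁻¹ := by rw [h1]; group
    _ = a * c * (d * a⁻¹) * d⁻¹ * c⁻¹ := by rw [h2]; group
    _ = a * c * a⁻¹ * c⁻¹ := by rw [h3]; group

/-- Full action on an orbit. -/
def Full (R : Sylow 2 (Perm α)) (X : Subgroup (Perm α)) (w : α) : Prop :=
  ∀ r ∈ R, ∃ x ∈ X, ∀ z ∈ orb R w, x z = r z

/-- The elements of `R` supported on the orbit of `w`. -/
def Kw (R : Sylow 2 (Perm α)) (w : α) : Subgroup (Perm α) :=
  (R : Subgroup (Perm α)) ⊓ fixG (orb R w)ᶜ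

theorem mem_Kw {w : α} {g : Perm α} : g ∈ Kw R w ↔ g ∈ R ∧ ∀ z, z ∉ orb R w → g z = z := by
  rw [Kw, Subgroup.mem_inf]
  rfl

theorem Matched.pair_mem_orb (hσ : Matched R σ) {w z : α} (hz : z ∈ orb R w) : σ z ∈ orb R w := by
  by_cases hzm : σ z = z
  · rwa [hzm]
  · have := (inv_orb w _ (hσ.h z hzm) z).mpr hz
    rwa [swap_apply_left] at this

theorem Matched.swap_off (hσ : Matched R σ) {w p z : α} (hp : p ∉ orb R w) (hz : z ∈ orb R w) :
    swap p (σ p) z = z := by
  refine swap_apply_of_ne_of_ne ?_ ?_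
  · rintro rfl; exact hp hz
  · rintro rfl
    have := hσ.pair_mem_orb hz
    rw [hσ.sq] at this
    exact hp this

/-- An element with uniform action on orbits commutes with `R`. -/
theorem Matched.commute_of_uniform (hσ : Matched R σ) {c : Perm α}
    (hc : ∀ z, (∀ z' ∈ orb R z, c z' = z') ∨ (∀ z' ∈ orb R z, c z' = σ z')) {r : Perm α}
    (hr : r ∈ R) : c * r = r * c := by
  ext z
  rw [Perm.mul_apply, Perm.mul_apply]
  rcases hc z with h | h
  · rw [h _ (apply_mem_orb hr z), h _ (mem_orb_self z)]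
  · rw [h _ (apply_mem_orb hr z), h _ (mem_orb_self z), hσ.comm hr]

/-- A central element acts uniformly on orbits. -/
theorem Matched.uniform_of_central (hσ : Matched R σ) {c : Perm α} (hcR : c ∈ R)
    (hc : ∀ r ∈ R, c * r = r * c) (w : α) :
    (∀ z ∈ orb R w, c z = z) ∨ (∀ z ∈ orb R w, c z = σ z) := by
  refine hσ.uniform (T := R) (fun t ht => ht) ?_ ?_ ?_
  · rintro _ ⟨r, hr, rfl⟩ z ⟨s, hs, rfl⟩
    exact ⟨s * r⁻¹, R.mul_mem hs (R.inv_mem hr), by simp [Perm.mul_apply]⟩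
  · intro t ht y _
    have := congrArg (fun f : Perm α => f y) (hc t ht)
    simpa [Perm.mul_apply] using this
  · intro y _
    by_cases hy : σ y = y
    · exact Or.inl (hσ.fixed hy hcR)
    · exact hσ.apply_mem_pair hy (hc _ (hσ.h y hy))

/-- The commutator subgroup of the part of `R` on an orbit contains the central involution. -/
theorem Matched.cut_mem (hσ : Matched R σ) {w : α} (hw : w ∈ Xi R σ) {H : Subgroup (Perm α)}
    (hH : ∀ u ∈ Kw R w, ∀ v ∈ Kw R w, ⁅u, v⁆ ∈ H) {c : Perm α}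
    (hc1 : ∀ z ∈ orb R w, c z = σ z) (hc2 : ∀ z, z ∉ orb R w → c z = z) : c ∈ H := by
  classical
  let K := Kw R w
  have hwm := hσ.mem_Xi_moved hw
  have hKR : ∀ t ∈ K, t ∈ R := fun t ht => (mem_Kw.mp ht).1
  have hswapK : ∀ z ∈ orb R w, σ z ≠ z → swap z (σ z) ∈ K := by
    intro z hz hzm
    refine mem_Kw.mpr ⟨hσ.h z hzm, fun y hy => swap_apply_of_ne_of_ne ?_ ?_⟩
    · rintro rfl; exact hy hz
    · rintro rfl; exact hy (hσ.pair_mem_orb hz)
  have hwnot : ¬ Small R σ w := hw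
  unfold Small at hwnot
  push Not at hwnot
  obtain ⟨r₀, hr₀, hr₁, hr₂⟩ := hwnot
  obtain ⟨v₀, hv₀, hv₁, hv₂⟩ := exists_cut (inv_orb w) hr₀
  have hv₀K : v₀ ∈ K := mem_Kw.mpr ⟨hv₀, hv₂⟩
  -- the commutator of `K` is not trivial
  have hne : commutator K ≠ ⊥ := by
    intro h0
    have h1 : ⁅(⟨swap w (σ w), hswapK w (mem_orb_self w) hwm⟩ : K), ⟨v₀, hv₀K⟩⁆ ∈ commutator K :=
      Subgroup.commutator_mem_commutator (Subgroup.mem_top _) (Subgroup.mem_top _)
    rw [h0, Subgroup.mem_bot] at h1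
    have h2 := commutatorElement_eq_one_iff_mul_comm.mp h1
    have h3 := congrArg Subtype.val h2
    have h4 := congrArg (fun f : Perm α => f w) h3
    simp only [Subgroup.coe_mul, Perm.mul_apply] at h4
    rw [swap_apply_left, hv₁ w (mem_orb_self w),
      swap_apply_of_ne_of_ne hr₁ hr₂, hv₁ _ (hσ.pair_mem_orb (mem_orb_self w)), hσ.comm hr₀] at h4
    exact hwm (r₀.injective (by rw [hσ.comm hr₀]; exact h4.symm))
  have hK : IsPGroup 2 K := R.isPGroup'.to_le inf_le_left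
  have h1 := Cfsg.Agent.Lib.Basic.SylowUtil.inf_center_ne_bot_of_isPGroup hK hne
  obtain ⟨⟨z, hz⟩, hz1⟩ := (Subgroup.ne_bot_iff_exists_ne_one).mp h1
  have hzc : z ∈ commutator K := hz.1
  have hzZ : z ∈ Subgroup.center K := hz.2
  have hzne : (z : Perm α) ≠ 1 := by
    intro e
    apply hz1
    apply Subtype.ext
    exact Subtype.ext e
  have hzcomm : ∀ g ∈ K, (z : Perm α) * g = g * z := by
    intro g hg
    have := (Subgroup.mem_center_iff.mp hzZ) ⟨g, hg⟩
    exact (congrArg Subtype.val this).symm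
  have htrK : ∀ y ∈ orb R w, ∀ y' ∈ orb R w, ∃ t ∈ K, t y = y' := by
    rintro _ ⟨r, hr, rfl⟩ _ ⟨s, hs, rfl⟩
    obtain ⟨t, ht, h2, h3⟩ := exists_cut (inv_orb w) (R.mul_mem hs (R.inv_mem hr))
    refine ⟨t, mem_Kw.mpr ⟨ht, h3⟩, ?_⟩
    rw [h2 _ (apply_mem_orb hr w)]
    simp [Perm.mul_apply]
  have hu := hσ.uniform (c := (z : Perm α)) (Δ := orb R w) (T := K) hKR htrK
    (fun t ht y _ => by
      have := congrArg (fun f : Perm α => f y) (hzcomm t ht)
      simpa [Perm.mul_apply] using this)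
    (fun y hy => by
      by_cases hym : σ y = y
      · exact Or.inl (hσ.fixed hym (hKR _ z.2))
      · exact hσ.apply_mem_pair hym (hzcomm _ (hswapK y hy hym)))
  have hzoff := (mem_Kw.mp z.2).2
  rcases hu with h2 | h2
  · exfalso
    apply hzne
    ext y
    by_cases hy : y ∈ orb R w
    · exact h2 y hy
    · exact hzoff y hy
  · have hzeq : (z : Perm α) = c := by
      ext y
      by_cases hy : y ∈ orb R w
      · rw [h2 y hy, hc1 y hy]
      · rw [hzoff y hy, hc2 y hy]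
    have hle : commutator K ≤ H.subgroupOf K := by
      rw [commutator_def, Subgroup.commutator_le]
      intro g₁ _ g₂ _
      exact hH g₁ g₁.2 g₂ g₂.2
    have h3 := hle hzc
    rw [Subgroup.mem_subgroupOf, hzeq] at h3
    exact h3

/-- Central elements of `R` lie in every subgroup containing the commutators of the orbit parts. -/
theorem Matched.central_mem (hσ : Matched R σ) (hnb : ∀ x, σ x ≠ x → x ∈ Xi R σ)
    {H : Subgroup (Perm α)} (hH : ∀ w, σ w ≠ w → ∀ u ∈ Kw R w, ∀ v ∈ Kw R w, ⁅u, v⁆ ∈ H) :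
    ∀ (n : ℕ) (c : Perm α), c.support.card = n → c ∈ R → (∀ r ∈ R, c * r = r * c) → c ∈ H := by
  intro n
  induction n using Nat.strong_induction_on with
  | _ n ih =>
    intro c hn hcR hc
    by_cases h1 : c = 1
    · rw [h1]; exact H.one_mem
    obtain ⟨w, hw⟩ : ∃ w, c w ≠ w := by
      by_contra hcon
      push Not at hcon
      exact h1 (Equiv.ext hcon)
    have hwm : σ w ≠ w := fun e => hw (hσ.fixed e hcR)
    have hcw : ∀ z ∈ orb R w, c z = σ z := by
      rcases hσ.uniform_of_central hcR hc w with h | h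
      · exact absurd (h w (mem_orb_self w)) hw
      · exact h
    obtain ⟨c₀, hc₀, h0a, h0b⟩ := exists_cut (inv_orb w) hσ.sigma_mem
    have hc₀H : c₀ ∈ H := hσ.cut_mem (hnb w hwm) (hH w hwm) h0a h0b
    have hc₀c : ∀ r ∈ R, c₀ * r = r * c₀ := by
      intro r hr
      refine hσ.commute_of_uniform (fun z => ?_) hr
      by_cases hz : z ∈ orb R w
      · right
        intro z' hz'
        rw [orb_eq_of_mem hz] at hz'
        exact h0a z' hz'
      · left
        intro z' hz'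
        refine h0b z' (fun h2 => hz ?_)
        rw [← orb_eq_of_mem h2, orb_eq_of_mem hz']
        exact mem_orb_self z
    set c' := c₀⁻¹ * c with hc'
    have hc'fix : ∀ y, c y = c₀ y → c' y = y := by
      intro y hy
      rw [hc', Perm.mul_apply, hy]
      simp
    have hsub : c'.support ⊂ c.support := by
      rw [Finset.ssubset_iff_of_subset]
      · refine ⟨w, by simpa using hw, ?_⟩
        rw [Perm.notMem_support]
        exact hc'fix w ((hcw w (mem_orb_self w)).trans (h0a w (mem_orb_self w)).symm)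
      · intro y hy
        rw [Perm.mem_support] at hy ⊢
        intro h2
        apply hy
        apply hc'fix
        by_cases h3 : y ∈ orb R w
        · rw [hcw y h3, h0a y h3]
        · rw [h2, h0b y h3]
    have hc'H : c' ∈ H := by
      refine ih _ (by rw [← hn]; exact Finset.card_lt_card hsub) c' rfl
        (R.mul_mem (R.inv_mem hc₀) hcR) ?_
      intro r hr
      have a1 : Commute c₀ r := hc₀c r hr
      have a2 : Commute c r := hc r hr
      exact a1.inv_left.mul_left a2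
    have h2 : c = c₀ * c' := by
      rw [hc', mul_inv_cancel_left]
    rw [h2]
    exact H.mul_mem hc₀H hc'H

/-- Central elements of `R` are even. -/
theorem Matched.central_even (hσ : Matched R σ) (hnb : ∀ x, σ x ≠ x → x ∈ Xi R σ) {c : Perm α}
    (hcR : c ∈ R) (hc : ∀ r ∈ R, c * r = r * c) : sign c = 1 := by
  have h1 : c ∈ alternatingGroup α := by
    refine hσ.central_mem hnb (H := alternatingGroup α) ?_ _ c rfl hcR hc
    intro w _ u _ v _
    rw [mem_alternatingGroup, map_commutatorElement, commutatorElement_eq_one_iff_mul_comm]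
    exact mul_comm _ _
  exact mem_alternatingGroup.mp h1

theorem Matched.exists_other (hσ : Matched R σ) {p q : α} (hpm : σ p ≠ p) (hqm : σ q ≠ q)
    (hpq : q ∉ orb R p) (w : α) : ∃ p', σ p' ≠ p' ∧ p' ∉ orb R w := by
  by_cases h : p ∈ orb R w
  · refine ⟨q, hqm, fun h' => hpq ?_⟩
    rw [orb_eq_of_mem h]
    exact h'
  · exact ⟨p, hpm, h⟩

theorem Matched.exists_even_correct (hσ : Matched R σ) {p' : α} (hp' : σ p' ≠ p') {r : Perm α}
    (hr : r ∈ R) : ∃ e : Perm α, (e = 1 ∨ e = swap p' (σ p')) ∧ r * e ∈ P0 R := by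
  by_cases hs : sign r = 1
  · exact ⟨1, Or.inl rfl, by rw [mul_one]; exact mem_P0.mpr ⟨hr, hs⟩⟩
  · refine ⟨_, Or.inr rfl, mem_P0.mpr ⟨R.mul_mem hr (hσ.h p' hp'), ?_⟩⟩
    rw [Perm.sign_mul, sign_swap_moved hp', neg_of_ne_one hs]
    rfl

theorem full_congr {a b : α} (h : orb R a = orb R b) : Full R X a ↔ Full R X b := by
  unfold Full
  rw [h]

theorem Matched.full_of_fixed (hσ : Matched R σ) {w : α} (hw : σ w = w) : Full R X w := by
  intro r hr
  refine ⟨1, X.one_mem, ?_⟩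
  rintro _ ⟨s, hs, rfl⟩
  rw [hσ.fixed hw hs, hσ.fixed hw hr]
  rfl

/-- The dichotomy: each orbit is fully covered by one of the factors. -/
theorem Decomp.dichotomy (h : Decomp R X Y) (hσ : Matched R σ) {w p' : α} (hp' : σ p' ≠ p')
    (hout : p' ∉ orb R w) : Full R X w ∨ Full R Y w := by
  classical
  have hI : Inv R (orb R w) := inv_orb w
  let S := restrictSylow hI
  obtain ⟨a, ha⟩ := ncard_orb (R := R) w
  have hcard : Fintype.card (orb R w) = 2 ^ a := by
    rw [← Nat.card_eq_fintype_card, Nat.card_coe_set_eq, ha]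
  have hXR : X ≤ R := h.leX.trans inf_le_left
  have hYR : Y ≤ R := h.leY.trans inf_le_left
  let X' : Subgroup (Perm (orb R w)) := (X.subgroupOf R).map (res hI)
  let Y' : Subgroup (Perm (orb R w)) := (Y.subgroupOf R).map (res hI)
  have hres : ∀ (a b : (R : Subgroup (Perm α))), (∀ z ∈ orb R w, a.1 z = b.1 z) → res hI a = res hI b := by
    intro a b hab
    ext z
    exact hab z.1 z.2
  have hlift : ∀ r ∈ R, ∃ r' ∈ P0 R, ∀ z ∈ orb R w, r' z = r z := by
    intro r hr
    obtain ⟨e, he, hmem⟩ := hσ.exists_even_correct hp' hr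
    refine ⟨_, hmem, fun z hz => ?_⟩
    rw [Perm.mul_apply]
    rcases he with rfl | rfl
    · rfl
    · rw [hσ.swap_off hout hz]
  have hnorm : ∀ {Z W : Subgroup (Perm α)}, Decomp R Z W →
      ∀ r ∈ (S : Subgroup (Perm (orb R w))), ∀ x ∈ (Z.subgroupOf R).map (res hI),
        r * x * r⁻¹ ∈ (Z.subgroupOf R).map (res hI) := by
    rintro Z W hd _ ⟨⟨r, hr⟩, rfl⟩ _ ⟨⟨x, hxR⟩, hx, rfl⟩
    obtain ⟨r', hr', e⟩ := hlift r hr
    have hr'R := (mem_P0.mp hr').1
    have hxZ : x ∈ Z := hx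
    refine ⟨⟨r' * x * r'⁻¹, R.mul_mem (R.mul_mem hr'R hxR) (R.inv_mem hr'R)⟩, hd.normal hr' hxZ, ?_⟩
    have h1 := hres ⟨r', hr'R⟩ ⟨r, hr⟩ e
    rw [← h1, ← map_inv, ← map_mul, ← map_mul]
    rfl
  have hmain := central_indec a (orb R w) hcard S X' Y'
    (by
      rintro _ ⟨x, _, rfl⟩
      exact ⟨x, rfl⟩)
    (by
      rintro _ ⟨x, _, rfl⟩
      exact ⟨x, rfl⟩)
    (hnorm h) (hnorm h.symm)
    (by
      rintro _ ⟨x, hx, rfl⟩ _ ⟨y, hy, rfl⟩
      rw [← map_mul, ← map_mul]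
      congr 1
      exact Subtype.ext (h.comm x.1 hx y.1 hy))
    (by
      rintro _ ⟨⟨r, hr⟩, rfl⟩
      obtain ⟨r', hr', e⟩ := hlift r hr
      obtain ⟨x, hx, y, hy, hxy⟩ := h.cover r' hr'
      refine ⟨_, ⟨⟨x, hXR hx⟩, hx, rfl⟩, _, ⟨⟨y, hYR hy⟩, hy, rfl⟩, ?_⟩
      rw [← map_mul]
      refine (hres _ _ fun z hz => ?_).symm
      show (x * y) z = r z
      rw [← hxy, e z hz])
  have hconv : ∀ {Z : Subgroup (Perm α)}, (S : Subgroup (Perm (orb R w))) ≤ (Z.subgroupOf R).map (res hI) →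
      Full R Z w := by
    intro Z hZ r hr
    obtain ⟨⟨x, hxR⟩, hx, e⟩ := hZ (⟨⟨r, hr⟩, rfl⟩ : res hI ⟨r, hr⟩ ∈ S)
    refine ⟨x, hx, fun z hz => ?_⟩
    have := congrArg (fun f : Perm (orb R w) => ((f ⟨z, hz⟩ : orb R w) : α)) e
    exact this
  rcases hmain with h1 | h1
  · exact Or.inl (hconv h1)
  · exact Or.inr (hconv h1)

/-- An element commuting with a factor acting fully on an orbit acts uniformly on the orbit. -/
theorem Decomp.uniform_of_full (h : Decomp R X Y) (hσ : Matched R σ) {w : α} (hF : Full R X w)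
    {y : Perm α} (hy : y ∈ Y) : (∀ z ∈ orb R w, y z = z) ∨ (∀ z ∈ orb R w, y z = σ z) := by
  have hXR : X ≤ R := h.leX.trans inf_le_left
  have hYR : Y ≤ R := h.leY.trans inf_le_left
  refine hσ.uniform (T := X) (fun t ht => hXR ht) ?_ ?_ ?_
  · rintro _ ⟨r, hr, rfl⟩ _ ⟨s, hs, rfl⟩
    obtain ⟨x, hx, e⟩ := hF _ (R.mul_mem hs (R.inv_mem hr))
    refine ⟨x, hx, ?_⟩
    rw [e _ (apply_mem_orb hr w)]
    simp [Perm.mul_apply]
  · intro t ht z _
    have := congrArg (fun f : Perm α => f z) (h.comm t ht y hy)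
    simpa [Perm.mul_apply] using this.symm
  · intro z hz
    by_cases hzm : σ z = z
    · exact Or.inl (hσ.fixed hzm (hYR hy))
    · by_contra hcon
      push Not at hcon
      obtain ⟨x, hx, e⟩ := hF _ (hσ.h z hzm)
      have h1 := congrArg (fun f : Perm α => f z) (h.comm x hx y hy)
      simp only [Perm.mul_apply] at h1
      have hyz : y z ∈ orb R w := (inv_orb w y (hYR hy) z).mpr hz
      rw [e _ hyz, e z hz, swap_apply_left, swap_apply_of_ne_of_ne hcon.1 hcon.2] at h1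
      exact hzm (y.injective h1).symm

/-- All orbits covered by the same factor is impossible. -/
theorem Decomp.all_full (h : Decomp R X Y) (hσ : Matched R σ) (hnb : ∀ x, σ x ≠ x → x ∈ Xi R σ)
    {p q : α} (hpm : σ p ≠ p) (hqm : σ q ≠ q) (hpq : q ∉ orb R p) (hall : ∀ w, Full R X w)
    (hY : Y ≠ ⊥) : False := by
  have hXR : X ≤ R := h.leX.trans inf_le_left
  have hYR : Y ≤ R := h.leY.trans inf_le_left
  have hYc : ∀ y ∈ Y, ∀ r ∈ R, y * r = r * y := fun y hy r hr =>
    hσ.commute_of_uniform (fun z => h.uniform_of_full hσ (hall z) hy) hr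
  have hH : ∀ w, σ w ≠ w → ∀ u ∈ Kw R w, ∀ v ∈ Kw R w, ⁅u, v⁆ ∈ X := by
    intro w _ u hu v hv
    obtain ⟨p', hp', hout⟩ := hσ.exists_other hpm hqm hpq w
    obtain ⟨huR, hu0⟩ := mem_Kw.mp hu
    obtain ⟨hvR, hv0⟩ := mem_Kw.mp hv
    have hd : ∀ {g : Perm α}, (∀ z, z ∉ orb R w → g z = z) → Commute (swap p' (σ p')) g := by
      intro g hg
      apply Perm.Disjoint.commute
      intro z
      by_cases hz : z ∈ orb R w
      · exact Or.inl (hσ.swap_off hout hz)
      · exact Or.inr (hg z hz)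
    obtain ⟨e₁, he₁, h1⟩ := hσ.exists_even_correct hp' huR
    obtain ⟨e₂, he₂, h2⟩ := hσ.exists_even_correct hp' hvR
    have c1 : Commute e₁ v := by
      rcases he₁ with rfl | rfl
      · exact Commute.one_left _
      · exact hd hv0
    have c2 : Commute u e₂ := by
      rcases he₂ with rfl | rfl
      · exact Commute.one_right _
      · exact (hd hu0).symm
    have c3 : Commute e₁ e₂ := by
      rcases he₁ with rfl | rfl
      · exact Commute.one_left _
      rcases he₂ with rfl | rfl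
      · exact Commute.one_right _
      · exact Commute.refl _
    obtain ⟨x₁, hx₁, y₁, hy₁, e1⟩ := h.cover _ h1
    obtain ⟨x₂, hx₂, y₂, hy₂, e2⟩ := h.cover _ h2
    have h3 : ⁅u, v⁆ = ⁅x₁, x₂⁆ := by
      rw [← commutator_mul_mul u e₁ v e₂ c1 c3 c2, e1, e2]
      exact commutator_mul_mul x₁ y₁ x₂ y₂ (h.comm x₂ hx₂ y₁ hy₁).symm (hYc y₁ hy₁ y₂ (hYR hy₂))
        (h.comm x₁ hx₁ y₂ hy₂)
    rw [h3, commutatorElement_def]
    exact X.mul_mem (X.mul_mem (X.mul_mem hx₁ hx₂) (X.inv_mem hx₁)) (X.inv_mem hx₂)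
  apply hY
  rw [eq_bot_iff]
  intro y hy
  have h1 : y ∈ X := hσ.central_mem hnb hH _ y rfl (hYR hy) (hYc y hy)
  have h2 : y ∈ X ⊓ Y := ⟨h1, hy⟩
  rwa [h.inf] at h2

/-- Orbits covered by different factors are impossible. -/
theorem Decomp.mixed (h : Decomp R X Y) (hσ : Matched R σ) (hnb : ∀ x, σ x ≠ x → x ∈ Xi R σ)
    (hdich : ∀ w, Full R X w ∨ Full R Y w) {p q : α} (hpm : σ p ≠ p) (hqm : σ q ≠ q)
    (hp : Full R X p) (hq : ¬ Full R X q) : False := by
  classical
  have hXR : X ≤ R := h.leX.trans inf_le_left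
  have hYR : Y ≤ R := h.leY.trans inf_le_left
  let I : Set α := {w | Full R X w}
  have hmemI : ∀ {a b : α}, b ∈ orb R a → (b ∈ I ↔ a ∈ I) := fun hab => full_congr (orb_eq_of_mem hab)
  have hI : Inv R I := fun r hr y => hmemI (apply_mem_orb hr y)
  have hJ : Inv R Iᶜ := fun r hr y => not_congr (hI r hr y)
  let φ : (R : Subgroup (Perm α)) →* ℤˣ := (sign : Perm I →* ℤˣ).comp (res hI)
  have hφsupp : ∀ (g : Perm α) (hg : g ∈ R), (∀ z, z ∉ I → g z = z) → φ ⟨g, hg⟩ = sign g := by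
    intro g hg h0
    refine sign_subtypePerm g (hI g hg) ?_
    intro z hz
    by_contra hz'
    exact hz (h0 z hz')
  have hφtriv : ∀ (g : Perm α) (hg : g ∈ R), (∀ z, z ∈ I → g z = z) → φ ⟨g, hg⟩ = 1 := by
    intro g hg h0
    have h1 : res hI ⟨g, hg⟩ = 1 := by
      ext z
      exact h0 z.1 z.2
    show sign (res hI ⟨g, hg⟩) = 1
    rw [h1, map_one]
  have hφcongr : ∀ (g g' : Perm α) (hg : g ∈ R) (hg' : g' ∈ R), (∀ z, z ∈ I → g z = g' z) →
      φ ⟨g, hg⟩ = φ ⟨g', hg'⟩ := by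
    intro g g' hg hg' h0
    have h1 : res hI ⟨g, hg⟩ = res hI ⟨g', hg'⟩ := by
      ext z
      exact h0 z.1 z.2
    show sign (res hI ⟨g, hg⟩) = sign (res hI ⟨g', hg'⟩)
    rw [h1]
  have hφX : ∀ (x : Perm α) (hx : x ∈ X), φ ⟨x, hXR hx⟩ = 1 := by
    intro x hx
    obtain ⟨c₂, hc₂, h1, h2⟩ := exists_cut hJ (hXR hx)
    have hcen : ∀ r ∈ R, c₂ * r = r * c₂ := by
      intro r hr
      refine hσ.commute_of_uniform (fun z => ?_) hr
      by_cases hz : z ∈ I
      · left
        intro z' hz'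
        exact h2 z' (not_not.mpr ((hmemI hz').mpr hz))
      · have hzJ : Full R Y z := (hdich z).resolve_left hz
        have hz'J : ∀ z' ∈ orb R z, z' ∈ Iᶜ := fun z' hz' h3 => hz ((hmemI hz').mp h3)
        rcases h.symm.uniform_of_full hσ hzJ hx with h3 | h3
        · left
          intro z' hz'
          rw [h1 z' (hz'J z' hz')]
          exact h3 z' hz'
        · right
          intro z' hz'
          rw [h1 z' (hz'J z' hz')]
          exact h3 z' hz'
    have hc₂s := hσ.central_even hnb hc₂ hcen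
    have hc₁R : x * c₂⁻¹ ∈ R := R.mul_mem (hXR hx) (R.inv_mem hc₂)
    have hc₁s : sign (x * c₂⁻¹) = 1 := by
      rw [Perm.sign_mul, sign_inv, hc₂s, (mem_P0.mp (h.leX hx)).2]
      rfl
    have hc₁off : ∀ z, z ∉ I → (x * c₂⁻¹) z = z := by
      intro z hz
      rw [Perm.mul_apply]
      have hzJ : z ∈ Iᶜ := hz
      have h3 : c₂⁻¹ z = x⁻¹ z := by
        rw [Perm.inv_eq_iff_eq, h1 _ ((hJ _ (R.inv_mem (hXR hx)) z).mpr hzJ)]
        simp
      rw [h3]
      simp
    have h4 : φ ⟨x, hXR hx⟩ = φ (⟨x * c₂⁻¹, hc₁R⟩ * ⟨c₂, hc₂⟩) := by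
      congr 1
      apply Subtype.ext
      simp
    rw [h4, map_mul, hφsupp _ hc₁R hc₁off, hc₁s, hφtriv _ hc₂ (fun z hz => h2 z (not_not.mpr hz))]
    rfl
  have hφY : ∀ (y : Perm α) (hy : y ∈ Y), φ ⟨y, hYR hy⟩ = 1 := by
    intro y hy
    obtain ⟨c₁, hc₁, h1, h2⟩ := exists_cut hI (hYR hy)
    have hcen : ∀ r ∈ R, c₁ * r = r * c₁ := by
      intro r hr
      refine hσ.commute_of_uniform (fun z => ?_) hr
      by_cases hz : z ∈ I
      · have hz'I : ∀ z' ∈ orb R z, z' ∈ I := fun z' hz' => (hmemI hz').mpr hz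
        rcases h.uniform_of_full hσ hz hy with h3 | h3
        · left
          intro z' hz'
          rw [h1 z' (hz'I z' hz')]
          exact h3 z' hz'
        · right
          intro z' hz'
          rw [h1 z' (hz'I z' hz')]
          exact h3 z' hz'
      · left
        intro z' hz'
        exact h2 z' (fun h3 => hz ((hmemI hz').mp h3))
    have hc₁s := hσ.central_even hnb hc₁ hcen
    rw [hφcongr y c₁ (hYR hy) hc₁ (fun z hz => (h1 z hz).symm), hφsupp _ hc₁ h2, hc₁s]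
  obtain ⟨x, hx, y, hy, e⟩ := h.cover _ (hσ.two_swaps_mem hpm hqm)
  have hpI : p ∈ I := hp
  have hqI : q ∉ I := hq
  have hspq : ∀ {a : α}, a ∈ I → a ≠ q ∧ a ≠ σ q := by
    intro a ha
    refine ⟨fun e' => hqI (e' ▸ ha), fun e' => hqI ?_⟩
    have h1 : σ q ∈ orb R q := hσ.pair_mem_orb (mem_orb_self q)
    exact (hmemI h1).mp (e' ▸ ha)
  have hsP : swap p (σ p) ∈ R := hσ.h p hpm
  have hsQ : swap q (σ q) ∈ R := hσ.h q hqm
  have h5 : φ (⟨swap p (σ p), hsP⟩ * ⟨swap q (σ q), hsQ⟩) = φ (⟨x, hXR hx⟩ * ⟨y, hYR hy⟩) := by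
    congr 1
    exact Subtype.ext e
  rw [map_mul, map_mul, hφX x hx, hφY y hy, hφtriv _ hsQ
    (fun z hz => swap_apply_of_ne_of_ne (hspq hz).1 (hspq hz).2), hφsupp _ hsP, sign_swap_moved hpm] at h5
  · exact absurd h5 (by decide)
  · intro z hz
    refine swap_apply_of_ne_of_ne ?_ ?_
    · rintro rfl; exact hz hpI
    · rintro rfl
      exact hz ((hmemI (hσ.pair_mem_orb (mem_orb_self p))).mpr hpI)

/-- No invariant block and at least two big orbits: the even part is indecomposable. -/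
theorem Matched.indec_no_block (hσ : Matched R σ) (hnb : ∀ x, σ x ≠ x → x ∈ Xi R σ) {p q : α}
    (hpm : σ p ≠ p) (hqm : σ q ≠ q) (hpq : q ∉ orb R p) (h : Decomp R X Y) (hX : X ≠ ⊥)
    (hY : Y ≠ ⊥) : False := by
  have hdich : ∀ w, Full R X w ∨ Full R Y w := fun w => by
    obtain ⟨p', hp', hout⟩ := hσ.exists_other hpm hqm hpq w
    exact h.dichotomy hσ hp' hout
  by_cases h1 : ∀ w, Full R X w
  · exact h.all_full hσ hnb hpm hqm hpq h1 hY
  by_cases h2 : ∀ w, Full R Y w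
  · exact h.symm.all_full hσ hnb hpm hqm hpq h2 hX
  push Not at h1 h2
  obtain ⟨q₁, hq₁⟩ := h1
  obtain ⟨p₂, hp₂⟩ := h2
  have hq₁m : σ q₁ ≠ q₁ := fun e => hq₁ (hσ.full_of_fixed e)
  have hp₂m : σ p₂ ≠ p₂ := fun e => hp₂ (hσ.full_of_fixed e)
  exact h.mixed hσ hnb hdich hp₂m hq₁m ((hdich p₂).resolve_right hp₂) hq₁

end Cfsg.Agent.Lib.Perm.SylowDecomp
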