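import Mathlib

/-!
# Sylow numbers: the action on Sylow subgroups

Generic tools for proving that a number `n` is not the number of Sylow `p`-subgroups of a finite
group, by studying the conjugation action on the set of Sylow subgroups.
-/

set_option autoImplicit false
set_option linter.unusedSectionVars false

namespace Cfsg.Agent.Lib.Perm.SylowNumber

open MulAction

universe u

section generic
variable {G : Type u} [Group G] [Finite G] {p : ℕ} [hp : Fact p.Prime]

theorem eq_of_fixed (P y : Sylow p G) (h : ∀ u ∈ (P : Subgroup G), u • y = y) : y = P := by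
  have hle : (P : Subgroup G) ≤ (y : Subgroup G) := by
    intro u hu
    have hn : u ∈ Subgroup.normalizer ((y : Subgroup G) : Set G) :=
      Sylow.smul_eq_iff_mem_normalizer.mp (h u hu)
    exact ((P.isPGroup'.inf_normalizer_sylow y).le ⟨hu, hn⟩).2
  exact Sylow.ext (P.is_maximal' y.isPGroup' hle)

theorem smul_self_of_mem (P : Sylow p G) {u : G} (hu : u ∈ (P : Subgroup G)) : u • P = P :=
  Sylow.smul_eq_iff_mem_normalizer.mpr (P.le_normalizer hu)

theorem card_sylow_quotient (K : Subgroup G) [K.Normal]
    (hK : ∀ g ∈ K, ∀ P : Sylow p G, g • P = P) :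
    Nat.card (Sylow p (G ⧸ K)) = Nat.card (Sylow p G) := by
  have hf : Function.Surjective (QuotientGroup.mk' K) := QuotientGroup.mk'_surjective K
  refine (Nat.card_congr (Equiv.ofBijective
    (Sylow.mapSurjective hf : Sylow p G → Sylow p (G ⧸ K))
      ⟨?_, Sylow.mapSurjective_surjective hf p⟩)).symm
  intro P Q hPQ
  have hle : (Q : Subgroup G) ≤ (P : Subgroup G) ⊔ K := by
    intro x hx
    have h1 : QuotientGroup.mk' K x ∈
        ((Q.mapSurjective hf : Sylow p (G ⧸ K)) : Subgroup (G ⧸ K)) := ⟨x, hx, rfl⟩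
    rw [← hPQ] at h1
    obtain ⟨y, hy, hyx⟩ := h1
    have h2 : y⁻¹ * x ∈ K := QuotientGroup.eq.mp hyx
    have h3 : x = y * (y⁻¹ * x) := by group
    rw [h3]
    exact mul_mem (Subgroup.mem_sup_left hy) (Subgroup.mem_sup_right h2)
  obtain ⟨h, hh⟩ := MulAction.exists_smul_eq (↥((P : Subgroup G) ⊔ K))
    (P.subtype (le_sup_left)) (Q.subtype hle)
  rw [Sylow.smul_subtype le_sup_left h] at hh
  have hu := Sylow.subtype_injective hh
  obtain ⟨y, hy, z, hz, hyz⟩ := Subgroup.mem_sup_of_normal_right.mp h.2
  have hu' : (h : G) • P = Q := hu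
  rw [← hyz, mul_smul, hK z hz, Sylow.smul_eq_iff_mem_normalizer.mpr (P.le_normalizer hy)] at hu'
  exact hu'

theorem sylow_le_of_normal (K : Subgroup G) [K.Normal] (hK : ¬ p ∣ K.index) (P : Sylow p G) :
    (P : Subgroup G) ≤ K := by
  intro x hx
  obtain ⟨k, hk⟩ := IsPGroup.iff_orderOf.mp P.isPGroup' ⟨x, hx⟩
  have hk' : orderOf x = p ^ k := by rw [← hk, Subgroup.orderOf_mk]
  have hcop : Nat.Coprime K.index (orderOf x) := by
    rw [hk']
    exact Nat.Coprime.pow_right _ ((Nat.Prime.coprime_iff_not_dvd hp.out).mpr hK).symm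
  obtain ⟨m, hm⟩ := exists_pow_eq_self_of_coprime hcop
  rw [← hm]
  exact pow_mem (Subgroup.pow_index_mem K x) m

theorem card_sylow_normal (K : Subgroup G) [K.Normal] (hK : ¬ p ∣ K.index) :
    Nat.card (Sylow p K) = Nat.card (Sylow p G) := by
  refine (Nat.card_congr (Equiv.ofBijective
    (fun P : Sylow p G => P.subtype (sylow_le_of_normal K hK P)) ⟨?_, ?_⟩)).symm
  · intro P Q h
    exact Sylow.subtype_injective h
  · intro Q
    have hpg : IsPGroup p ((Q : Subgroup K).map K.subtype) := Q.isPGroup'.map _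
    obtain ⟨P, hP⟩ := hpg.exists_le_sylow
    refine ⟨P, ?_⟩
    have hle : (Q : Subgroup K) ≤
        ((P.subtype (sylow_le_of_normal K hK P) : Sylow p K) : Subgroup K) := by
      intro x hx
      rw [Sylow.coe_subtype, Subgroup.mem_subgroupOf]
      exact hP ⟨x, hx, rfl⟩
    exact Sylow.ext (Q.is_maximal' (Sylow.isPGroup' _) hle)

/-- Reduction: a minimal counterexample acts faithfully and has no proper normal subgroup of index
prime to `p`. -/
theorem strong_reduction (n : ℕ)
    (core : ∀ (G : Type u) [Group G] [Finite G], Nat.card (Sylow p G) = n →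
      Function.Injective (toPermHom G (Sylow p G)) →
      (∀ K : Subgroup G, K.Normal → ¬ p ∣ K.index → K = ⊤) → False)
    (m : ℕ) : ∀ (G : Type u) [Group G] [Finite G], Nat.card G = m →
    Nat.card (Sylow p G) ≠ n := by
  induction m using Nat.strong_induction_on with
  | _ m ih =>
    intro G _ _ hm hX
    have hpos : 0 < Nat.card G := Nat.card_pos
    have hfaith : Function.Injective (toPermHom G (Sylow p G)) := by
      by_contra hni
      rw [← MonoidHom.ker_eq_bot_iff] at hni
      let K := (toPermHom G (Sylow p G)).ker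
      have hK : ∀ g ∈ K, ∀ P : Sylow p G, g • P = P := by
        intro g hg P
        have := MonoidHom.mem_ker.mp hg
        exact congrArg (fun e : Equiv.Perm (Sylow p G) => e P) this
      have hcard := card_sylow_quotient K hK
      have hlt : Nat.card (G ⧸ K) < m := by
        rw [← hm, ← Subgroup.index_eq_card]
        have h1 := Subgroup.card_mul_index K
        have h2 : 1 < Nat.card K := by
          have : Nontrivial K := (Subgroup.nontrivial_iff_ne_bot K).mpr hni
          exact Finite.one_lt_card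
        nlinarith
      exact ih _ hlt (G ⧸ K) rfl (hcard.trans hX)
    have hno : ∀ K : Subgroup G, K.Normal → ¬ p ∣ K.index → K = ⊤ := by
      intro K hKn h7
      by_contra hne
      have hcard := card_sylow_normal K h7
      have hlt : Nat.card K < m := by
        rw [← hm]
        have h1 := Subgroup.card_mul_index K
        have h2 : K.index ≠ 1 := fun h => hne (Subgroup.index_eq_one.mp h)
        have h3 : K.index ≠ 0 := Subgroup.index_ne_zero_of_finite
        have h4 : 0 < Nat.card K := Nat.card_pos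
        have h5 : 2 ≤ K.index := by omega
        nlinarith
      exact ih _ hlt K rfl (hcard.trans hX)
    exact core G hX hfaith hno

/-- A `p`-group acting on a finite type: an invariant set without fixed points has size divisible
by `p`. -/
theorem dvd_ncard_of_invariant {α : Type*} [Finite α] [MulAction G α] (A : Subgroup G)
    (hA : IsPGroup p A) (S : Set α) (hinv : ∀ u ∈ A, ∀ y ∈ S, u • y ∈ S)
    (hfree : ∀ y ∈ S, ∃ u ∈ A, u • y ≠ y) : p ∣ S.ncard := by
  let T : SubMulAction A α :=
    { carrier := S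
      smul_mem' := by
        intro u y hy
        exact hinv u u.2 y hy }
  have h1 := hA.card_modEq_card_fixedPoints T
  have h2 : Nat.card (fixedPoints A T) = 0 := by
    rw [Nat.card_eq_zero]
    left
    refine ⟨?_⟩
    rintro ⟨⟨y, hy⟩, hy'⟩
    obtain ⟨u, hu, huy⟩ := hfree y hy
    have := congrArg Subtype.val (hy' ⟨u, hu⟩)
    exact huy this
  rw [h2] at h1
  have h3 : Nat.card T = S.ncard := Nat.card_coe_set_eq S
  rw [← h3]
  exact (Nat.modEq_zero_iff_dvd).mp h1

/-- The set of fixed points of `g`. -/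
def fixSet {α : Type*} [MulAction G α] (g : G) : Set α := {y : α | g • y = y}

theorem mem_fixSet {α : Type*} [MulAction G α] {g : G} {y : α} : y ∈ fixSet g ↔ g • y = y := Iff.rfl

/-- Fixed points of a `q`-element. -/
theorem card_fix_modEq {α : Type*} [Finite α] [MulAction G α] (q : ℕ) [Fact q.Prime] (g : G) (k : ℕ)
    (hg : orderOf g = q ^ k) :
    Nat.card α ≡ (fixSet g : Set α).ncard [MOD q] := by
  have hpg : IsPGroup q (Subgroup.zpowers g) :=
    IsPGroup.of_card (n := k) (by rw [Nat.card_zpowers, hg])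
  have h1 := hpg.card_modEq_card_fixedPoints α
  have h2 : fixedPoints (Subgroup.zpowers g) α = fixSet g := by
    ext y
    rw [mem_fixedPoints]
    constructor
    · intro h
      exact h ⟨g, Subgroup.mem_zpowers g⟩
    · intro h m
      have hle : Subgroup.zpowers g ≤ stabilizer G y := by
        rw [Subgroup.zpowers_le]; exact h
      exact hle m.2
  rw [h2, Nat.card_coe_set_eq] at h1
  exact h1

/-- A `p`-element fixes a Sylow subgroup iff it lies in it. -/
theorem smul_eq_iff_mem (x : G) (k : ℕ) (hk : orderOf x = p ^ k) (y : Sylow p G) :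
    x • y = y ↔ x ∈ (y : Subgroup G) := by
  constructor
  · intro h
    have hpg : IsPGroup p (Subgroup.zpowers x) :=
      IsPGroup.of_card (n := k) (by rw [Nat.card_zpowers, hk])
    have hn : x ∈ Subgroup.normalizer ((y : Subgroup G) : Set G) :=
      Sylow.smul_eq_iff_mem_normalizer.mp h
    exact ((hpg.inf_normalizer_sylow y).le ⟨Subgroup.mem_zpowers x, hn⟩).2
  · intro h
    exact smul_self_of_mem y h

/-- Elements of a Sylow subgroup have `p`-power order. -/
theorem exists_orderOf_of_mem (P : Sylow p G) {x : G} (hx : x ∈ (P : Subgroup G)) :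
    ∃ k, orderOf x = p ^ k := by
  obtain ⟨k, hk⟩ := IsPGroup.iff_orderOf.mp P.isPGroup' ⟨x, hx⟩
  exact ⟨k, by rw [← hk, Subgroup.orderOf_mk]⟩

theorem not_mem_orbit (P y : Sylow p G) (hy : y ≠ P) : P ∉ orbit (P : Subgroup G) y := by
  rintro ⟨u, h⟩
  apply hy
  have h1 : (u : G) • y = P := h
  rw [← inv_smul_smul (u : G) y, h1, smul_self_of_mem P (inv_mem u.2)]

/-- Orbits of a Sylow subgroup on the other Sylow subgroups have size `p` when there are
fewer than `p^2 + 1` Sylow subgroups. -/
theorem card_orbit_eq (n : ℕ) (hX : Nat.card (Sylow p G) = n) (hn : n ≤ p ^ 2)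
    (P y : Sylow p G) (hy : y ≠ P) :
    (orbit (P : Subgroup G) y).ncard = p := by
  obtain ⟨k, hk⟩ := P.isPGroup'.card_orbit y
  rw [Nat.card_coe_set_eq] at hk
  have hk0 : k ≠ 0 := by
    rintro rfl
    apply hy
    rw [pow_zero] at hk
    obtain ⟨a, ha⟩ := Set.ncard_eq_one.mp hk
    apply eq_of_fixed P y
    intro u hu
    have h1 : y ∈ orbit (P : Subgroup G) y := mem_orbit_self y
    have h2 : (⟨u, hu⟩ : (P : Subgroup G)) • y ∈ orbit (P : Subgroup G) y := mem_orbit _ _
    rw [ha, Set.mem_singleton_iff] at h1 h2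
    exact h2.trans h1.symm
  have hle : (orbit (P : Subgroup G) y).ncard < p ^ 2 := by
    have hsub : orbit (P : Subgroup G) y ⊆ ({P} : Set (Sylow p G))ᶜ := by
      intro a ha h
      rw [Set.mem_singleton_iff] at h
      exact not_mem_orbit P y hy (h ▸ ha)
    have h1 := Set.ncard_le_ncard hsub (Set.toFinite _)
    have h2 := Set.ncard_add_ncard_compl ({P} : Set (Sylow p G))
    rw [Set.ncard_singleton, hX] at h2
    omega
  rw [hk] at hle ⊢
  have hk1 : k < 2 := (Nat.pow_lt_pow_iff_right hp.out.one_lt).mp hle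
  have : k = 1 := by omega
  rw [this, pow_one]


/-- Orbits of a normal subgroup: a nontrivial normal subgroup is transitive on the Sylow subgroups
when the arithmetic leaves no room for proper blocks. -/
theorem normal_transitive (n : ℕ) (hX : Nat.card (Sylow p G) = n)
    (hdiv : ∀ d, d ∣ n → d % p = 1 % p → d = 1 ∨ d = n)
    (hfaith : Function.Injective (toPermHom G (Sylow p G)))
    (N : Subgroup G) [hN : N.Normal] (hNb : N ≠ ⊥) (P : Sylow p G) :
    orbit N P = Set.univ := by
  have hB : IsBlock G (orbit N P) := IsBlock.orbit_of_normal P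
  have hne : (orbit N P).Nonempty := ⟨P, mem_orbit_self P⟩
  have hd : (orbit N P).ncard ∣ n := hX ▸ hB.ncard_dvd_card hne
  have hmod : (orbit N P).ncard % p = 1 % p := by
    have hPm : P ∈ orbit N P := mem_orbit_self P
    have h1 : p ∣ (orbit N P \ {P}).ncard := by
      apply dvd_ncard_of_invariant (P : Subgroup G) P.isPGroup'
      · rintro u hu y ⟨⟨⟨h, hh⟩, rfl⟩, hy2⟩
        refine ⟨?_, ?_⟩
        · refine ⟨⟨u * h * u⁻¹, hN.conj_mem h hh u⟩, ?_⟩
          change (u * h * u⁻¹) • P = u • (h • P)
          have h3 : u⁻¹ • P = P := smul_self_of_mem P (inv_mem hu)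
          rw [mul_smul, mul_smul, h3]
        · intro h3
          apply hy2
          have h3' : u • ((⟨h, hh⟩ : N) • P) = P := h3
          rw [Set.mem_singleton_iff]
          have h5 : u⁻¹ • P = P := smul_self_of_mem P (inv_mem hu)
          have h4 := congrArg (fun w => u⁻¹ • w) h3'
          simp only [inv_smul_smul, h5] at h4
          exact h4
      · rintro y ⟨hy1, hy2⟩
        by_contra hcon
        simp only [not_exists, not_and, not_not] at hcon
        exact hy2 (Set.mem_singleton_iff.mpr (eq_of_fixed P y hcon))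
    have h2 : (orbit N P \ {P}).ncard + 1 = (orbit N P).ncard := by
      have := Set.ncard_sdiff_singleton_add_one hPm (Set.toFinite _)
      exact this
    rw [← h2]
    obtain ⟨c, hc⟩ := h1
    rw [hc, Nat.mul_add_mod]
  rcases hdiv _ hd hmod with h1 | h1
  · exfalso
    apply hNb
    rw [eq_bot_iff]
    intro h hh
    rw [Subgroup.mem_bot]
    apply hfaith
    rw [map_one]
    refine Equiv.ext fun Q => ?_
    obtain ⟨g, rfl⟩ := MulAction.exists_smul_eq G P Q
    have h2 : ∀ m ∈ N, m • P = P := by
      intro m hm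
      obtain ⟨a, ha⟩ := Set.ncard_eq_one.mp h1
      have h3 : P ∈ orbit N P := mem_orbit_self P
      have h4 : (⟨m, hm⟩ : N) • P ∈ orbit N P := mem_orbit _ _
      rw [ha, Set.mem_singleton_iff] at h3 h4
      exact h4.trans h3.symm
    have h3 : g⁻¹ * h * g ∈ N := by
      have := hN.conj_mem h hh g⁻¹
      simpa using this
    have h4 := h2 _ h3
    change h • g • P = g • P
    calc h • g • P = g • ((g⁻¹ * h * g) • P) := by simp only [mul_smul, smul_inv_smul]
      _ = g • P := by rw [h4]
  · rw [Set.eq_univ_iff_ncard, h1, hX]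

/-- The Sylow subgroups are abelian if there are at most `p^2` of them and the action is faithful. -/
theorem sylow_commute (n : ℕ) (hX : Nat.card (Sylow p G) = n) (hn : n ≤ p ^ 2)
    (hfaith : Function.Injective (toPermHom G (Sylow p G)))
    (P : Sylow p G) {a b : G} (ha : a ∈ (P : Subgroup G)) (hb : b ∈ (P : Subgroup G)) :
    a * b = b * a := by
  apply hfaith
  refine Equiv.ext fun y => ?_
  change (a * b) • y = (b * a) • y
  by_cases hy : y = P
  · subst hy
    rw [mul_smul, mul_smul, smul_self_of_mem y ha, smul_self_of_mem y hb,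
      smul_self_of_mem y ha]
  · have hidx : (stabilizer (P : Subgroup G) y).index = p := by
      rw [index_stabilizer, card_orbit_eq n hX hn P y hy]
    have hmin : (stabilizer (P : Subgroup G) y).index =
        (Nat.card (P : Subgroup G)).minFac := by
      rw [hidx]
      obtain ⟨k, hk⟩ := IsPGroup.exists_card_eq P.isPGroup'
      have hk0 : k ≠ 0 := by
        rintro rfl
        have h1 : Nat.card (P : Subgroup G) = 1 := by simpa using hk
        have h2 := (Subgroup.index_dvd_card (stabilizer (P : Subgroup G) y))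
        rw [hidx, h1] at h2
        exact hp.out.one_lt.ne' (Nat.dvd_one.mp h2)
      rw [hk, Nat.Prime.pow_minFac hp.out hk0]
    haveI hnorm : (stabilizer (P : Subgroup G) y).Normal :=
      Subgroup.normal_of_index_eq_minFac_card hmin
    haveI hq : Fact (Nat.card ((P : Subgroup G) ⧸ stabilizer (P : Subgroup G) y)).Prime := by
      refine ⟨?_⟩
      rw [← Subgroup.index_eq_card, hidx]
      exact hp.out
    haveI : IsCyclic ((P : Subgroup G) ⧸ stabilizer (P : Subgroup G) y) :=
      isCyclic_of_prime_card rfl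
    have hcomm : ((⟨b, hb⟩ : (P : Subgroup G)) * ⟨a, ha⟩)⁻¹ * ((⟨a, ha⟩ : (P : Subgroup G)) * ⟨b, hb⟩) ∈
        stabilizer (P : Subgroup G) y := by
      have h1 : ((QuotientGroup.mk (⟨a, ha⟩ : (P : Subgroup G)) :
          (P : Subgroup G) ⧸ stabilizer (P : Subgroup G) y) * QuotientGroup.mk ⟨b, hb⟩) =
          QuotientGroup.mk ⟨b, hb⟩ * QuotientGroup.mk ⟨a, ha⟩ := by
        obtain ⟨g, hg⟩ := IsCyclic.exists_generator (α := (P : Subgroup G) ⧸ stabilizer (P : Subgroup G) y)
        obtain ⟨i, hi⟩ := hg (QuotientGroup.mk ⟨a, ha⟩)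
        obtain ⟨j, hj⟩ := hg (QuotientGroup.mk ⟨b, hb⟩)
        rw [← hi, ← hj]
        exact (Commute.zpow_zpow (Commute.refl g) i j)
      rw [← QuotientGroup.eq_one_iff, QuotientGroup.mk_mul, QuotientGroup.mk_inv,
        QuotientGroup.mk_mul, QuotientGroup.mk_mul, h1, inv_mul_cancel]
    have h3 : ((b * a)⁻¹ * (a * b)) • y = y := hcomm
    calc (a * b) • y = (b * a) • ((b * a)⁻¹ * (a * b)) • y := by
          rw [← mul_smul, mul_inv_cancel_left]
      _ = (b * a) • y := by rw [h3]

/-- A nontrivial `p`-element has at most half of the Sylow subgroups as fixed points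
(when there are at most `p^2` Sylow subgroups and normal subgroups are transitive). -/
theorem two_mul_fix_le (n : ℕ) (hX : Nat.card (Sylow p G) = n) (hn : n ≤ p ^ 2)
    (hdiv : ∀ d, d ∣ n → d % p = 1 % p → d = 1 ∨ d = n)
    (hfaith : Function.Injective (toPermHom G (Sylow p G)))
    (x : G) (k : ℕ) (hk : orderOf x = p ^ k) (hx : x ≠ 1) :
    2 * (fixSet x : Set (Sylow p G)).ncard ≤ n := by
  by_contra hlt
  have hlt' : n < 2 * (fixSet x : Set (Sylow p G)).ncard := by omega
  -- all conjugates of `x` commute with `x`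
  have hcomm : ∀ g : G, g * x * g⁻¹ * x = x * (g * x * g⁻¹) := by
    intro g
    have hfg : (fixSet (g * x * g⁻¹) : Set (Sylow p G)).ncard = (fixSet x : Set (Sylow p G)).ncard := by
      have : (fixSet (g * x * g⁻¹) : Set (Sylow p G)) = (fun y => g • y) '' fixSet x := by
        ext y
        constructor
        · intro hy
          refine ⟨g⁻¹ • y, ?_, by simp⟩
          have h1 : (g * x * g⁻¹) • y = y := hy
          change x • g⁻¹ • y = g⁻¹ • y
          have h2 : g • x • g⁻¹ • y = y := by simpa [mul_smul] using h1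
          exact (smul_eq_iff_eq_inv_smul g).mp h2
        · rintro ⟨z, hz, rfl⟩
          have hz' : x • z = z := hz
          change (g * x * g⁻¹) • g • z = g • z
          simp [mul_smul, hz']
      rw [this, Set.ncard_image_of_injective _ (MulAction.injective g)]
    have hint : ∃ y : Sylow p G, y ∈ (fixSet x : Set (Sylow p G)) ∧ y ∈ (fixSet (g * x * g⁻¹) : Set (Sylow p G)) := by
      by_contra hcon
      simp only [not_exists, not_and] at hcon
      have hdis : Disjoint (fixSet x : Set (Sylow p G)) (fixSet (g * x * g⁻¹)) :=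
        Set.disjoint_left.mpr hcon
      have h1 := Set.ncard_union_eq hdis (Set.toFinite _) (Set.toFinite _)
      have h2 := Set.ncard_le_ncard (Set.subset_univ ((fixSet x : Set (Sylow p G)) ∪ fixSet (g * x * g⁻¹)))
        (Set.toFinite _)
      rw [Set.ncard_univ, hX, h1, hfg] at h2
      omega
    obtain ⟨y, hy1, hy2⟩ := hint
    have hy1' : x ∈ (y : Subgroup G) := (smul_eq_iff_mem x k hk y).mp hy1
    have hord : orderOf (g * x * g⁻¹) = p ^ k := by
      have : g * x * g⁻¹ = MulAut.conj g x := rfl
      rw [this, MulEquiv.orderOf_eq, hk]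
    have hy2' : g * x * g⁻¹ ∈ (y : Subgroup G) := (smul_eq_iff_mem _ k hord y).mp hy2
    exact sylow_commute n hX hn hfaith y hy2' hy1'
  -- the normal closure centralizes `x`
  have hle : Subgroup.normalClosure ({x} : Set G) ≤ Subgroup.centralizer ({x} : Set G) := by
    apply Subgroup.closure_le _ |>.mpr
    intro a ha
    rw [Group.mem_conjugatesOfSet_iff] at ha
    obtain ⟨b, hb, hab⟩ := ha
    rw [Set.mem_singleton_iff] at hb
    subst hb
    obtain ⟨g, rfl⟩ := isConj_iff.mp hab
    rw [SetLike.mem_coe, Subgroup.mem_centralizer_singleton_iff]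
    exact hcomm g
  have hNb : Subgroup.normalClosure ({x} : Set G) ≠ ⊥ := by
    intro h
    apply hx
    have : x ∈ Subgroup.normalClosure ({x} : Set G) := Subgroup.subset_normalClosure rfl
    rw [h] at this
    exact this
  -- fixes a point
  have hpos : (fixSet x : Set (Sylow p G)).Nonempty := by
    rw [← Set.ncard_pos (Set.toFinite _)]
    omega
  obtain ⟨P, hP⟩ := hpos
  have horb := normal_transitive n hX hdiv hfaith (Subgroup.normalClosure ({x} : Set G)) hNb P
  apply hx
  apply hfaith
  rw [map_one]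
  refine Equiv.ext fun Q => ?_
  have hQ : Q ∈ orbit (Subgroup.normalClosure ({x} : Set G)) P := by rw [horb]; trivial
  obtain ⟨⟨m, hm⟩, rfl⟩ := hQ
  have hm' : m * x = x * m := by
    have := hle hm
    rw [Subgroup.mem_centralizer_singleton_iff] at this
    exact this
  change x • m • P = m • P
  have hP' : x • P = P := hP
  rw [← mul_smul, ← hm', mul_smul, hP']

/-- An involution that acts as an even permutation moves a multiple of four points. -/
theorem four_dvd_moved {α : Type*} [Finite α] [MulAction G α]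
    (hfaith : Function.Injective (toPermHom G α))
    (c : G) (hc : orderOf c = 2) [Fintype α] [DecidableEq α]
    (hs : Equiv.Perm.sign (toPermHom G α c) = 1) :
    4 ∣ ((fixSet c : Set α)ᶜ).ncard := by
  let σ := toPermHom G α c
  have hsuppset : (σ.support : Set α) = (fixSet c : Set α)ᶜ := by
    ext y
    simp only [Finset.mem_coe, Equiv.Perm.mem_support, Set.mem_compl_iff]
    exact Iff.rfl
  have hord : orderOf σ = 2 := by
    rw [orderOf_injective _ hfaith c, hc]
  rw [← hsuppset, Set.ncard_coe_finset]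
  obtain ⟨k, hk⟩ := Equiv.Perm.cycleType_prime_order (σ := σ) (by rw [hord]; norm_num)
  have hsum := Equiv.Perm.sum_cycleType σ
  rw [hk, hord, Multiset.sum_replicate, smul_eq_mul] at hsum
  have hs' : Equiv.Perm.sign σ = 1 := hs
  rw [Equiv.Perm.sign_of_cycleType, hk, hord] at hs'
  simp only [Multiset.sum_replicate, smul_eq_mul, Multiset.card_replicate] at hs'
  by_cases hev : Even (k + 1)
  · obtain ⟨m, hm⟩ := hev
    rw [← hsum, hm]
    exact ⟨m, by ring⟩
  · exfalso
    have hod : Odd ((k + 1) * 2 + (k + 1)) := by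
      have : Odd (k + 1) := Nat.not_even_iff_odd.mp hev
      obtain ⟨m, hm⟩ := this
      rw [hm]
      exact ⟨3 * m + 1, by ring⟩
    rw [hod.neg_one_pow] at hs'
    exact absurd hs' (by decide)

/-- When normal subgroups of index prime to `p` are everything (`p` odd), every involution moves a
multiple of four Sylow subgroups. -/
theorem four_dvd_moved_sylow (hp2 : p ≠ 2)
    (hno : ∀ K : Subgroup G, K.Normal → ¬ p ∣ K.index → K = ⊤)
    (hfaith : Function.Injective (toPermHom G (Sylow p G))) (c : G) (hc : orderOf c = 2) :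
    4 ∣ ((fixSet c : Set (Sylow p G))ᶜ).ncard := by
  classical
  haveI : Fintype (Sylow p G) := Fintype.ofFinite _
  let f : G →* ℤˣ := Equiv.Perm.sign.comp (toPermHom G (Sylow p G))
  have hK := hno f.ker (MonoidHom.normal_ker f) (by
    rw [Subgroup.index_ker]
    intro hd
    have h2 : Nat.card f.range ∣ Nat.card ℤˣ := Subgroup.card_subgroup_dvd_card _
    have h3 : Nat.card ℤˣ = 2 := by rw [Nat.card_eq_fintype_card, Fintype.card_units_int]
    rw [h3] at h2
    have h4 := hd.trans h2
    exact hp2 ((Nat.prime_dvd_prime_iff_eq hp.out (by norm_num)).mp h4))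
  have hg1 : c ∈ f.ker := by rw [hK]; trivial
  exact four_dvd_moved hfaith c hc hg1

/-- In a subgroup of prime order every nontrivial element generates. -/
theorem mem_zpowers_of_card_prime (P : Subgroup G) (hP : Nat.card P = p) {t : G} (ht : t ∈ P)
    (ht1 : t ≠ 1) {v : G} (hv : v ∈ P) : v ∈ Subgroup.zpowers t := by
  have hle : Subgroup.zpowers t ≤ P := by rwa [Subgroup.zpowers_le]
  have hd : Nat.card (Subgroup.zpowers t) ∣ p := hP ▸ Subgroup.card_dvd_of_le hle
  have hne : Nat.card (Subgroup.zpowers t) ≠ 1 := by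
    rw [Nat.card_zpowers]
    intro h
    exact ht1 (orderOf_eq_one_iff.mp h)
  have heq : Nat.card (Subgroup.zpowers t) = p := ((Nat.dvd_prime hp.out).mp hd).resolve_left hne
  have : Subgroup.zpowers t = P := Subgroup.eq_of_le_of_card_ge hle (by rw [heq, hP])
  rw [this]; exact hv

theorem commute_of_card_prime (P : Subgroup G) (hP : Nat.card P = p) {a b : G} (ha : a ∈ P)
    (hb : b ∈ P) : a * b = b * a := by
  by_cases h1 : a = 1
  · simp [h1]
  · obtain ⟨k, rfl⟩ := Subgroup.mem_zpowers_iff.mp (mem_zpowers_of_card_prime P hP ha h1 hb)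
    exact (Commute.zpow_right (Commute.refl a) k)

/-- An involution normalizing a subgroup of prime order and not centralizing it inverts it. -/
theorem inverts_of_not_centralizes (P : Subgroup G) (hP : Nat.card P = p) (c : G) (hc : c * c = 1)
    (hcn : c ∈ Subgroup.normalizer (P : Set G)) (hnc : ¬ ∀ u ∈ P, c * u = u * c) :
    ∀ u ∈ P, c * u * c⁻¹ = u⁻¹ := by
  intro u hu
  have hinv : c⁻¹ = c := inv_eq_of_mul_eq_one_right hc
  have hcu : c * u * c⁻¹ ∈ P := (Subgroup.mem_normalizer_iff.mp hcn u).mp hu
  set t := u * (c * u * c⁻¹) with ht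
  have htP : t ∈ P := mul_mem hu hcu
  have htc : c * t = t * c := by
    have h1 : c * t * c⁻¹ = t := by
      rw [ht]
      calc c * (u * (c * u * c⁻¹)) * c⁻¹ = (c * u * c⁻¹) * (c * (c * u * c⁻¹) * c⁻¹) := by group
        _ = (c * u * c⁻¹) * ((c * c) * u * (c * c)⁻¹) := by group
        _ = (c * u * c⁻¹) * u := by rw [hc]; group
        _ = u * (c * u * c⁻¹) := commute_of_card_prime P hP hcu hu
    calc c * t = (c * t * c⁻¹) * c := by group
      _ = t * c := by rw [h1]
  have ht1 : t = 1 := by
    by_contra hne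
    apply hnc
    intro v hv
    obtain ⟨k, rfl⟩ := Subgroup.mem_zpowers_iff.mp (mem_zpowers_of_card_prime P hP htP hne hv)
    exact (Commute.zpow_right (show Commute c t from htc) k)
  have h2 : u * (c * u * c⁻¹) = 1 := ht1
  exact eq_inv_of_mul_eq_one_right h2

/-- If `c` commutes with every element of a subgroup then the fixed point set of `c` is invariant. -/
theorem fixSet_invariant {α : Type*} [MulAction G α] (A : Subgroup G) (c : G)
    (hc : ∀ u ∈ A, c * u = u * c) : ∀ u ∈ A, ∀ y ∈ (fixSet c : Set α), u • y ∈ (fixSet c : Set α) := by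
  intro u hu y hy
  have hy' : c • y = y := hy
  change c • u • y = u • y
  rw [← mul_smul, hc u hu, mul_smul, hy']

/-- Distinct orbits of a Sylow subgroup: a set of points in distinct orbits. -/
theorem mul_ncard_add_one_le (n : ℕ) (hX : Nat.card (Sylow p G) = n) (hn : n ≤ p ^ 2) (P : Sylow p G)
    (S : Set (Sylow p G)) (hS : ∀ y ∈ S, y ≠ P)
    (hS2 : ∀ y ∈ S, ∀ z ∈ S, z ∈ orbit (P : Subgroup G) y → z = y) :
    p * S.ncard + 1 ≤ n := by
  classical
  haveI : Fintype (Sylow p G) := Fintype.ofFinite _
  let T : Finset (Sylow p G) := S.toFinset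
  let F : Sylow p G → Finset (Sylow p G) := fun y => (orbit (P : Subgroup G) y).toFinset
  have hF : ∀ y ∈ T, (F y).card = p := by
    intro y hy
    have hy' : y ∈ S := by simpa [T] using hy
    have h1 := card_orbit_eq n hX hn P y (hS y hy')
    rw [Set.ncard_eq_toFinset_card'] at h1
    exact h1
  have hdisj : (T : Set (Sylow p G)).PairwiseDisjoint F := by
    intro y hy z hz hyz
    have hy' : y ∈ S := by simpa [T] using hy
    have hz' : z ∈ S := by simpa [T] using hz
    change Disjoint (F y) (F z)
    rw [Finset.disjoint_iff_ne]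
    intro a ha b hb hab
    subst hab
    have ha1 : a ∈ orbit (P : Subgroup G) y := by simpa [F] using ha
    have ha2 : a ∈ orbit (P : Subgroup G) z := by simpa [F] using hb
    have h1 : orbit (P : Subgroup G) y = orbit (P : Subgroup G) z :=
      (orbit_eq_iff.mpr ha1).symm.trans (orbit_eq_iff.mpr ha2)
    have h2 : z ∈ orbit (P : Subgroup G) y := by rw [h1]; exact mem_orbit_self z
    exact hyz (hS2 y hy' z hz' h2).symm
  have hcard : (T.biUnion F).card = p * S.ncard := by
    rw [Finset.card_biUnion hdisj, Finset.sum_congr rfl hF, Finset.sum_const, smul_eq_mul, mul_comm]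
    congr 1
    rw [Set.ncard_eq_toFinset_card']
  have hnot : P ∉ T.biUnion F := by
    intro h
    obtain ⟨y, hy, hy2⟩ := Finset.mem_biUnion.mp h
    have hy' : y ∈ S := by simpa [T] using hy
    have : P ∈ orbit (P : Subgroup G) y := by simpa [F] using hy2
    exact not_mem_orbit P y (hS y hy') this
  have h3 := Finset.card_le_univ (insert P (T.biUnion F))
  rw [Finset.card_insert_of_notMem hnot, hcard, ← Nat.card_eq_fintype_card, hX] at h3
  exact h3

/-- Orbit-counting for a partial geometry: pairs of points lying on exactly one line. -/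
theorem design_count {Ω : Type*} [Fintype Ω] [DecidableEq Ω] (k : ℕ) (L : Ω → Ω → Finset Ω)
    (h1 : ∀ a b, a ≠ b → a ∈ L a b ∧ b ∈ L a b)
    (h2 : ∀ a b, a ≠ b → (L a b).card = k)
    (h3 : ∀ a b a' b', a ≠ b → a' ≠ b' → a' ∈ L a b → b' ∈ L a b → L a' b' = L a b) :
    (((Finset.univ : Finset Ω).offDiag).image (fun q => L q.1 q.2)).card * (k * k - k) =
      Fintype.card Ω * Fintype.card Ω - Fintype.card Ω := by
  set D := (Finset.univ : Finset Ω).offDiag with hD
  have hDc : D.card = Fintype.card Ω * Fintype.card Ω - Fintype.card Ω := by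
    rw [hD, Finset.offDiag_card, Finset.card_univ]
  rw [← hDc, Finset.card_eq_sum_card_image (fun q : Ω × Ω => L q.1 q.2) D]
  have hfib : ∀ l ∈ D.image (fun q => L q.1 q.2),
      (D.filter (fun q => L q.1 q.2 = l)).card = k * k - k := by
    intro l hl
    obtain ⟨⟨a, b⟩, hq, rfl⟩ := Finset.mem_image.mp hl
    have hab : a ≠ b := by simpa [hD] using hq
    have : D.filter (fun q => L q.1 q.2 = L a b) = (L a b).offDiag := by
      ext ⟨c, d⟩
      simp only [Finset.mem_filter, Finset.mem_offDiag, hD, Finset.mem_univ, true_and]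
      constructor
      · rintro ⟨hcd, hL⟩
        rw [← hL]
        exact ⟨(h1 c d hcd).1, (h1 c d hcd).2, hcd⟩
      · rintro ⟨hc, hd, hcd⟩
        exact ⟨hcd, h3 a b c d hab hcd hc hd⟩
    rw [this, Finset.offDiag_card, h2 a b hab]
  rw [Finset.sum_congr rfl hfib, Finset.sum_const, smul_eq_mul]

/-- A subgroup of the normalizer of `P`: the automizer bound. -/
theorem card_dvd_mul_mulAut (P T : Subgroup G) (hT : T ≤ Subgroup.normalizer (P : Set G)) :
    Nat.card T ∣ Nat.card (T ⊓ Subgroup.centralizer (P : Set G) : Subgroup G) * Nat.card (MulAut P) := by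
  let f : T →* MulAut P := (P.normalizerMonoidHom).comp (Subgroup.inclusion hT)
  have hker : Nat.card f.ker = Nat.card (T ⊓ Subgroup.centralizer (P : Set G) : Subgroup G) := by
    refine Nat.card_congr ?_
    refine Equiv.ofBijective (fun x => ⟨x.1.1, x.1.2, ?_⟩) ⟨?_, ?_⟩
    · have h1 : (P.normalizerMonoidHom) (Subgroup.inclusion hT x.1) = 1 := x.2
      have h2 : (Subgroup.inclusion hT x.1) ∈ P.normalizerMonoidHom.ker := h1
      rw [Subgroup.normalizerMonoidHom_ker] at h2
      exact h2
    · rintro ⟨⟨a, ha⟩, ha2⟩ ⟨⟨b, hb⟩, hb2⟩ h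
      have : a = b := congrArg (fun z : (T ⊓ Subgroup.centralizer (P : Set G) : Subgroup G) => (z : G)) h
      subst this
      rfl
    · rintro ⟨a, ha1, ha2⟩
      refine ⟨⟨⟨a, ha1⟩, ?_⟩, rfl⟩
      have h2 : (Subgroup.inclusion hT ⟨a, ha1⟩) ∈ P.normalizerMonoidHom.ker := by
        rw [Subgroup.normalizerMonoidHom_ker]
        exact ha2
      exact h2
  have h1 : Nat.card T = Nat.card f.ker * Nat.card f.range := by
    rw [← Subgroup.index_ker, Subgroup.card_mul_index]
  rw [h1, hker]
  exact Nat.mul_dvd_mul_left _ (Subgroup.card_subgroup_dvd_card _)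

/-- If all elements of `A` are fixed-point-free on `S` (a nonempty finite `A`-invariant set),
the order of `A` divides the size of `S`. -/
theorem card_dvd_ncard_of_free {α : Type*} [Finite α] [MulAction G α] (A : Subgroup G) (S : Set α)
    (hinv : ∀ u ∈ A, ∀ y ∈ S, u • y ∈ S) (hfree : ∀ u ∈ A, u ≠ 1 → ∀ y ∈ S, u • y ≠ y) :
    Nat.card A ∣ S.ncard := by
  let T : SubMulAction A α :=
    { carrier := S
      smul_mem' := by
        intro u y hy
        exact hinv u u.2 y hy }
  have hs : ∀ y : T, Nat.card (stabilizer A y) = 1 := by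
    intro y
    rw [Nat.card_eq_one_iff_unique]
    refine ⟨⟨?_⟩, ⟨1⟩⟩
    have key : ∀ u : stabilizer A y, u = 1 := by
      intro u
      by_contra hu
      have hu1 : ((u : A) : G) ≠ 1 := by
        intro h
        apply hu
        exact Subtype.ext (Subtype.ext h)
      apply hfree (u : A) (u : A).2 hu1 (y : α) y.2
      have := u.2
      exact congrArg Subtype.val (this : (u : A) • y = y)
    intro a b
    rw [key a, key b]
  have hT : Nat.card T = S.ncard := Nat.card_coe_set_eq S
  rw [← hT]
  classical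
  haveI : Fintype (orbitRel.Quotient A T) := Fintype.ofFinite _
  rw [Nat.card_congr (selfEquivSigmaOrbits A T), Nat.card_sigma]
  apply Finset.dvd_sum
  intro ω _
  have h := Nat.card_congr (orbitProdStabilizerEquivGroup A (Quotient.out ω))
  rw [Nat.card_prod, hs, mul_one] at h
  rw [h]

/-- `c` fixes all points only if trivial. -/
theorem eq_one_of_fix_all (n : ℕ) (hX : Nat.card (Sylow p G) = n)
    (hfaith : Function.Injective (toPermHom G (Sylow p G))) (c : G)
    (hc : (fixSet c : Set (Sylow p G)).ncard = n) : c = 1 := by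
  apply hfaith
  rw [map_one]
  refine Equiv.ext fun y => ?_
  have h1 : (fixSet c : Set (Sylow p G)) = Set.univ := by
    rw [Set.eq_univ_iff_ncard, hc, hX]
  have h2 : y ∈ (fixSet c : Set (Sylow p G)) := by rw [h1]; trivial
  exact h2

theorem fix_le (n : ℕ) (hX : Nat.card (Sylow p G) = n) (c : G) :
    (fixSet c : Set (Sylow p G)).ncard ≤ n := by
  have h1 := Set.ncard_le_ncard (Set.subset_univ (fixSet c : Set (Sylow p G))) (Set.toFinite _)
  rwa [Set.ncard_univ, hX] at h1

theorem moved_add_fix (n : ℕ) (hX : Nat.card (Sylow p G) = n) (c : G) :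
    ((fixSet c : Set (Sylow p G))ᶜ).ncard + (fixSet c : Set (Sylow p G)).ncard = n := by
  have h2 := Set.ncard_add_ncard_compl (fixSet c : Set (Sylow p G))
  rw [hX] at h2
  omega

/-- An invariant set of a Sylow subgroup `P`, minus `P`, has size divisible by `p`. -/
theorem dvd_ncard_sdiff (P : Sylow p G) (S : Set (Sylow p G))
    (hinv : ∀ u ∈ (P : Subgroup G), ∀ y ∈ S, u • y ∈ S) : p ∣ (S \ {P}).ncard := by
  apply dvd_ncard_of_invariant (P : Subgroup G) P.isPGroup'
  · rintro u hu y ⟨hy1, hy2⟩
    refine ⟨hinv u hu y hy1, ?_⟩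
    intro h3
    apply hy2
    rw [Set.mem_singleton_iff] at h3 ⊢
    have h5 : u⁻¹ • P = P := smul_self_of_mem P (inv_mem hu)
    have h4 := congrArg (fun w => u⁻¹ • w) h3
    simp only [inv_smul_smul, h5] at h4
    exact h4
  · rintro y ⟨hy1, hy2⟩
    by_contra hcon
    simp only [not_exists, not_and, not_not] at hcon
    exact hy2 (Set.mem_singleton_iff.mpr (eq_of_fixed P y hcon))

/-- If `c` fixes `P` and commutes with `P`, the number of fixed points of `c` is `1` mod `p`. -/
theorem fix_mod_of_commute (P : Sylow p G) (c : G) (hcP : c • P = P)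
    (hc : ∀ u ∈ (P : Subgroup G), c * u = u * c) :
    (fixSet c : Set (Sylow p G)).ncard % p = 1 % p := by
  have h1 := dvd_ncard_sdiff P (fixSet c) (fixSet_invariant _ c hc)
  have h2 := Set.ncard_sdiff_singleton_add_one (show P ∈ (fixSet c : Set (Sylow p G)) from hcP)
    (Set.toFinite _)
  rw [← h2]
  obtain ⟨k, hk⟩ := h1
  rw [hk, Nat.mul_add_mod]

/-- A Sylow subgroup all of whose nontrivial elements fix only one point has order `p`. -/
theorem card_eq_of_free (n : ℕ) (hX : Nat.card (Sylow p G) = n) (hn : n ≤ p ^ 2) (hn1 : 1 < n)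
    (P : Sylow p G) (hfree : ∀ x ∈ (P : Subgroup G), x ≠ 1 → ∀ y : Sylow p G, x • y = y → y = P) :
    Nat.card (P : Subgroup G) = p := by
  have hnt : 1 < Nat.card (Sylow p G) := by rw [hX]; exact hn1
  have : Nontrivial (Sylow p G) := Finite.one_lt_card_iff_nontrivial.mp hnt
  obtain ⟨y, hy⟩ := exists_ne P
  have h7 := card_orbit_eq n hX hn P y hy
  have hst : Nat.card (stabilizer (P : Subgroup G) y) = 1 := by
    rw [Nat.card_eq_one_iff_unique]
    refine ⟨⟨?_⟩, ⟨1⟩⟩
    have key : ∀ u : stabilizer (P : Subgroup G) y, u = 1 := by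
      intro u
      by_contra hu
      have hu1 : ((u : (P : Subgroup G)) : G) ≠ 1 := by
        intro h
        apply hu
        exact Subtype.ext (Subtype.ext h)
      exact hy (hfree _ (u : (P : Subgroup G)).2 hu1 y u.2)
    intro a b
    rw [key a, key b]
  have h := Nat.card_congr (orbitProdStabilizerEquivGroup (P : Subgroup G) y)
  rw [Nat.card_prod, Nat.card_coe_set_eq, h7, hst, mul_one] at h
  exact h.symm

/-- Two fixed points of an inverting involution in one orbit coincide. -/
theorem fix_orbit_unique (P : Sylow p G) (hcard : Nat.card (P : Subgroup G) = p) (hp2 : p ≠ 2)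
    (hfree : ∀ x ∈ (P : Subgroup G), x ≠ 1 → ∀ y : Sylow p G, x • y = y → y = P)
    (c : G) (hinv : ∀ u ∈ (P : Subgroup G), c * u * c⁻¹ = u⁻¹) {y z : Sylow p G}
    (hy : c • y = y) (hyP : y ≠ P) (hz : c • z = z) (hzo : z ∈ orbit (P : Subgroup G) y) : z = y := by
  obtain ⟨⟨u, hu⟩, rfl⟩ := hzo
  change c • u • y = u • y at hz
  change u • y = y
  have h1 : c • u • y = u⁻¹ • y := by
    have : c • u • y = (c * u * c⁻¹) • c • y := by
      simp only [mul_smul, inv_smul_smul]
    rw [this, hinv u hu, hy]
  rw [h1] at hz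
  have h2 : (u * u) • y = y := by
    rw [mul_smul, ← hz, smul_inv_smul]
  have h3 : u * u = 1 := by
    by_contra hne
    exact hyP (hfree _ (mul_mem hu hu) hne y h2)
  have h4 : u = 1 := by
    have hd : orderOf u ∣ 2 := orderOf_dvd_of_pow_eq_one (by rw [pow_two]; exact h3)
    have hd2 : orderOf u ∣ p := by
      have := orderOf_dvd_natCard (⟨u, hu⟩ : (P : Subgroup G))
      rw [hcard, Subgroup.orderOf_mk] at this
      exact this
    have hcop : Nat.Coprime 2 p := by
      rw [Nat.coprime_primes Nat.prime_two hp.out]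
      exact Ne.symm hp2
    have : orderOf u = 1 := Nat.eq_one_of_dvd_coprimes hcop hd hd2
    exact orderOf_eq_one_iff.mp this
  rw [h4, one_smul]

/-- A nontrivial element has a power of prime order. -/
theorem exists_pow_prime_order (d : G) (hd1 : d ≠ 1) :
    ∃ (r m : ℕ), r.Prime ∧ orderOf (d ^ m) = r ∧ r ∣ orderOf d := by
  have hord0 : orderOf d ≠ 0 := (orderOf_pos d).ne'
  have hord1 : orderOf d ≠ 1 := fun h => hd1 (orderOf_eq_one_iff.mp h)
  have hrp := Nat.minFac_prime hord1
  have hrd := Nat.minFac_dvd (orderOf d)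
  exact ⟨_, orderOf d / (orderOf d).minFac, hrp, orderOf_pow_orderOf_div hord0 hrd, hrd⟩

theorem pow_smul_fix {α : Type*} [MulAction G α] {d : G} {a : α} (h : d • a = a) (m : ℕ) :
    (d ^ m) • a = a := by
  have h1 : d ∈ stabilizer G a := mem_stabilizer_iff.mpr h
  exact mem_stabilizer_iff.mp (pow_mem h1 m)

end generic

end Cfsg.Agent.Lib.Perm.SylowNumber
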