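import Mathlib
import Cfsg.Agent.Lib.Perm.SylowDecompC

/-!
Elements of 2-power order of symmetric groups lying in a unique Sylow 2-subgroup: the condition on
cycles implies uniqueness (induction on the degree through the action on the transpositions).
-/

set_option autoImplicit false

namespace Cfsg.Agent.Lib.Perm.SylowUnique

open Equiv Equiv.Perm
open Cfsg.Agent.Lib.Perm.SylowTwoSym
open Cfsg.Agent.Lib.Perm.SylowSym (swapSet imageHom imageSylow conjHom card_swapSet_lt)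
open Cfsg.Agent.Lib.Perm.SylowDecomp (Matched exists_matched swap_eq_imp)

universe u

/-- The minimal period of a point. -/
noncomputable def mp {α : Type*} (x : Perm α) (y : α) : ℕ := Function.minimalPeriod x y

theorem pow_apply_eq_iff {α : Type*} {x : Perm α} {y : α} {n : ℕ} : (x ^ n) y = y ↔ mp x y ∣ n := by
  rw [mp, ← Function.isPeriodicPt_iff_minimalPeriod_dvd, Function.IsPeriodicPt, Function.IsFixedPt,
    Equiv.Perm.iterate_eq_pow]

theorem mp_eq_of_iff {α β : Type*} {x : Perm α} {x' : Perm β} {y : α} {y' : β}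
    (h : ∀ n : ℕ, (x ^ n) y = y ↔ (x' ^ n) y' = y') : mp x y = mp x' y' := by
  apply Nat.dvd_antisymm
  · exact pow_apply_eq_iff.mp ((h _).mpr (pow_apply_eq_iff.mpr dvd_rfl))
  · exact pow_apply_eq_iff.mp ((h _).mp (pow_apply_eq_iff.mpr dvd_rfl))

theorem mp_eq_one_iff {α : Type*} {x : Perm α} {y : α} : mp x y = 1 ↔ x y = y := by
  rw [mp, Function.minimalPeriod_eq_one_iff_isFixedPt]
  rfl

theorem exists_mp_eq {α : Type*} {x : Perm α} {k : ℕ} (hp : x ^ 2 ^ k = 1) (y : α) (hy : x y ≠ y) :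
    ∃ b, mp x y = 2 ^ (b + 1) := by
  have h1 : mp x y ∣ 2 ^ k := pow_apply_eq_iff.mp (by rw [hp]; rfl)
  obtain ⟨a, -, ha⟩ := (Nat.dvd_prime_pow Nat.prime_two).mp h1
  have h2 : a ≠ 0 := by
    rintro rfl
    exact hy (mp_eq_one_iff.mp (by simpa using ha))
  exact ⟨a - 1, by rw [ha]; congr 1; omega⟩

/-- Condition on the cycles of `x`: at most two fixed points and pairwise different cycle lengths. -/
structure Cond {α : Type*} (x : Perm α) : Prop where
  fix3 : ∀ a b c, x a = a → x b = b → x c = c → a = b ∨ a = c ∨ b = c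
  same : ∀ y z, x y ≠ y → x z ≠ z → mp x y = mp x z → ∃ j : ℕ, (x ^ j) y = z

section main

variable {α : Type u} [Fintype α] [DecidableEq α]

theorem pow_sigma {x σ : Perm α} (hcomm : ∀ w, x (σ w) = σ (x w)) (j : ℕ) (w : α) :
    (x ^ j) (σ w) = σ ((x ^ j) w) := by
  induction j with
  | zero => rfl
  | succ j ih => rw [pow_succ', Perm.mul_apply, Perm.mul_apply, ih, hcomm]

/-- A matching commuting with `x` is determined on the moved points of `x`. -/
theorem sigma_apply {x σ : Perm α} {k : ℕ} (hc : Cond x) (hp : x ^ 2 ^ k = 1) (hm : IsMatching σ)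
    (hcomm : ∀ w, x (σ w) = σ (x w)) {y : α} (hy : x y ≠ y) : σ y = (x ^ (mp x y / 2)) y := by
  have hinj := σ.injective
  have h1 : mp x (σ y) = mp x y := by
    apply mp_eq_of_iff
    intro n
    rw [pow_sigma hcomm]
    exact hinj.eq_iff
  have h2 : x (σ y) ≠ σ y := by
    rw [hcomm]
    exact fun e => hy (hinj e)
  obtain ⟨j, hj⟩ := hc.same y (σ y) hy h2 h1.symm
  have h3 : (x ^ (j + j)) y = y := by
    rw [pow_add, Perm.mul_apply, hj, pow_sigma hcomm, hj, hm.invol]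
  have h4 : ¬ mp x y ∣ j := by
    intro h
    have h5 : (x ^ j) y = y := pow_apply_eq_iff.mpr h
    rw [h5] at hj
    have h6 : σ (x y) = x y := by
      rw [← hcomm, ← hj]
    exact hy (hm.fix _ _ h6 hj.symm)
  obtain ⟨b, hb⟩ := exists_mp_eq hp y hy
  have h5 : mp x y ∣ j + j := pow_apply_eq_iff.mp h3
  rw [hb] at h4 h5
  have h6 : 2 ^ b ∣ j := by
    have : 2 ^ b * 2 ∣ j * 2 := by
      rw [← pow_succ]
      convert h5 using 1
      ring
    exact Nat.dvd_of_mul_dvd_mul_right (by norm_num) this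
  obtain ⟨u, rfl⟩ := h6
  have h7 : u % 2 = 1 := by
    by_contra hne
    apply h4
    obtain ⟨v, rfl⟩ : 2 ∣ u := by omega
    exact ⟨v, by ring⟩
  have h8 : mp x y / 2 = 2 ^ b := by
    rw [hb, pow_succ]
    simp
  rw [h8, ← hj]
  obtain ⟨v, rfl⟩ : ∃ v, u = 2 * v + 1 := ⟨u / 2, by omega⟩
  have h9 : 2 ^ b * (2 * v + 1) = 2 ^ b + 2 ^ (b + 1) * v := by ring
  rw [h9, pow_add, Perm.mul_apply]
  have h10 : (x ^ (2 ^ (b + 1) * v)) y = y := by
    apply pow_apply_eq_iff.mpr
    rw [hb]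
    exact dvd_mul_right _ _
  rw [h10]

/-- Two matchings commuting with `x` coincide. -/
theorem sigma_unique {x σ₁ σ₂ : Perm α} {k : ℕ} (hc : Cond x) (hp : x ^ 2 ^ k = 1)
    (hm₁ : IsMatching σ₁) (hm₂ : IsMatching σ₂) (h₁ : ∀ w, x (σ₁ w) = σ₁ (x w))
    (h₂ : ∀ w, x (σ₂ w) = σ₂ (x w)) : σ₁ = σ₂ := by
  have key : ∀ {σ σ' : Perm α}, IsMatching σ → IsMatching σ' → (∀ w, x (σ w) = σ (x w)) →
      (∀ w, x (σ' w) = σ' (x w)) → ∀ w, x w = w → σ w = w → σ' w = w := by
    intro σ σ' hm hm' hc1 hc2 w hw hσw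
    by_contra hne
    have a1 : x (σ' w) = σ' w := by rw [hc2, hw]
    have a2 : x (σ (σ' w)) = σ (σ' w) := by rw [hc1, a1]
    have a3 : σ (σ' w) ≠ w := fun e => hne (by
      have := congrArg σ e
      rw [hm.invol, hσw] at this
      exact this)
    rcases hc.fix3 w (σ' w) (σ (σ' w)) hw a1 a2 with h | h | h
    · exact hne h.symm
    · exact a3 h.symm
    · exact hne (hm.fix _ _ h.symm hσw)
  ext w
  by_cases hw : x w = w
  · by_cases h1 : σ₁ w = w
    · rw [h1, key hm₁ hm₂ h₁ h₂ w hw h1]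
    by_cases h2 : σ₂ w = w
    · exact absurd (key hm₂ hm₁ h₂ h₁ w hw h2) h1
    have a1 : x (σ₁ w) = σ₁ w := by rw [h₁, hw]
    have a2 : x (σ₂ w) = σ₂ w := by rw [h₂, hw]
    rcases hc.fix3 w (σ₁ w) (σ₂ w) hw a1 a2 with h | h | h
    · exact absurd h.symm h1
    · exact absurd h.symm h2
    · exact h
  · rw [sigma_apply hc hp hm₁ h₁ hw, sigma_apply hc hp hm₂ h₂ hw]

variable {R : Sylow 2 (Perm α)} {σ : Perm α}

theorem exists_rep (hσ : Matched R σ) (t : swapSet (R : Subgroup (Perm α))) :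
    ∃ p, σ p ≠ p ∧ t.1 = swap p (σ p) := by
  obtain ⟨hR, a, b, hab, e⟩ := t.2
  have h1 : b = σ a := hσ.eq_of_swap_mem hab (e ▸ hR)
  refine ⟨a, ?_, ?_⟩
  · rw [← h1]; exact hab.symm
  · rw [e, h1]

theorem swap_eq_swap_iff_of_matched (hσ : Matched R σ) {p q : α} (hq : σ q ≠ q) :
    swap p (σ p) = swap q (σ q) ↔ (q = p ∨ q = σ p) := by
  constructor
  · exact swap_eq_imp hq.symm
  · rintro (rfl | rfl)
    · rfl
    · rw [hσ.sq, swap_comm]

theorem imageHom_pow_val (r : (R : Subgroup (Perm α))) (j : ℕ)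
    (t : swapSet (R : Subgroup (Perm α))) :
    (((imageHom (R : Subgroup (Perm α)) r) ^ j) t).1 = ((r : Perm α) ^ j) * t.1 * ((r : Perm α) ^ j)⁻¹ := by
  rw [← map_pow]
  rfl

theorem imageHom_val (r : (R : Subgroup (Perm α))) (t : swapSet (R : Subgroup (Perm α))) :
    ((imageHom (R : Subgroup (Perm α)) r) t).1 = (r : Perm α) * t.1 * (r : Perm α)⁻¹ := rfl

/-- The number of points of a cycle is twice the number of blocks. -/
theorem mp_bar {x : Perm α} {k : ℕ} (hxR : x ∈ R) (hσ : Matched R σ) (hc : Cond x)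
    (hp : x ^ 2 ^ k = 1) {t : swapSet (R : Subgroup (Perm α))} {p : α} (hpm : σ p ≠ p)
    (ht : t.1 = swap p (σ p)) (hxp : x p ≠ p) :
    mp x p = 2 * mp (imageHom (R : Subgroup (Perm α)) ⟨x, hxR⟩) t := by
  have hcomm : ∀ w, x (σ w) = σ (x w) := hσ.comm hxR
  have hform : ∀ j : ℕ, ((imageHom (R : Subgroup (Perm α)) ⟨x, hxR⟩ ^ j) t).1 =
      swap ((x ^ j) p) (σ ((x ^ j) p)) := by
    intro j
    rw [imageHom_pow_val, ht, conj_swap, pow_sigma hcomm]
  obtain ⟨b, hb⟩ := exists_mp_eq hp p hxp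
  have h1 : σ p = (x ^ 2 ^ b) p := by
    have := sigma_apply hc hp hσ.m hcomm hxp
    rw [hb, pow_succ] at this
    simpa using this
  set d := mp (imageHom (R : Subgroup (Perm α)) ⟨x, hxR⟩) t with hd
  have h2 : d ∣ 2 ^ b := by
    apply pow_apply_eq_iff.mp
    apply Subtype.ext
    rw [hform, ← h1, hσ.sq, ht, swap_comm]
  have h3 : (imageHom (R : Subgroup (Perm α)) ⟨x, hxR⟩ ^ d) t = t := pow_apply_eq_iff.mpr dvd_rfl
  have h4 := congrArg Subtype.val h3
  rw [hform, ht] at h4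
  have hmv : σ ((x ^ d) p) ≠ (x ^ d) p := by
    rw [← pow_sigma hcomm]
    exact fun e => hpm ((x ^ d).injective e)
  have h5 := (swap_eq_swap_iff_of_matched hσ hmv).mp h4.symm
  have h6 : (x ^ (d + d)) p = p := by
    rw [pow_add, Perm.mul_apply]
    rcases h5 with h5 | h5
    · rw [h5, h5]
    · rw [h5, pow_sigma hcomm, h5, hσ.sq]
  have h7 : 2 ^ (b + 1) ∣ d + d := by
    rw [← hb]
    exact pow_apply_eq_iff.mp h6
  have h8 : 2 ^ b ∣ d := by
    have : 2 ^ b * 2 ∣ d * 2 := by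
      rw [← pow_succ]
      convert h7 using 1
      ring
    exact Nat.dvd_of_mul_dvd_mul_right (by norm_num) this
  have h9 : d = 2 ^ b := Nat.dvd_antisymm h2 h8
  rw [hb, h9, pow_succ]
  ring

/-- The condition passes to the action on the blocks. -/
theorem cond_bar {x : Perm α} {k : ℕ} (hxR : x ∈ R) (hσ : Matched R σ) (hc : Cond x)
    (hp : x ^ 2 ^ k = 1) : Cond (imageHom (R : Subgroup (Perm α)) ⟨x, hxR⟩) := by
  have hcomm : ∀ w, x (σ w) = σ (x w) := hσ.comm hxR
  set X := imageHom (R : Subgroup (Perm α)) ⟨x, hxR⟩ with hX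
  have hval : ∀ {t : swapSet (R : Subgroup (Perm α))} {p : α}, t.1 = swap p (σ p) →
      (X t).1 = swap (x p) (σ (x p)) := by
    intro t p ht
    rw [hX, imageHom_val]
    show x * t.1 * x⁻¹ = _
    rw [ht, conj_swap, hcomm]
  have hmv : ∀ {p : α}, σ p ≠ p → σ (x p) ≠ x p := by
    intro p hpm
    rw [← hcomm]
    exact fun e => hpm (x.injective e)
  have htype : ∀ {t : swapSet (R : Subgroup (Perm α))} {p : α}, σ p ≠ p → t.1 = swap p (σ p) →
      (X t = t ↔ (x p = p ∨ x p = σ p)) := by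
    intro t p hpm ht
    constructor
    · intro h
      have h1 := congrArg Subtype.val h
      rw [hval ht, ht] at h1
      exact (swap_eq_swap_iff_of_matched hσ (hmv hpm)).mp h1.symm
    · intro h
      apply Subtype.ext
      rw [hval ht, ht]
      exact ((swap_eq_swap_iff_of_matched hσ (hmv hpm)).mpr h).symm
  constructor
  · -- at most two fixed blocks
    have hI : ∀ {t t' : swapSet (R : Subgroup (Perm α))} {p q : α}, σ p ≠ p → σ q ≠ q →
        t.1 = swap p (σ p) → t'.1 = swap q (σ q) → x p = p → x q = q → t = t' := by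
      intro t t' p q hpm hqm ht ht' hxp hxq
      apply Subtype.ext
      rw [ht, ht', swap_eq_swap_iff_of_matched hσ hqm]
      have a1 : x (σ p) = σ p := by rw [hcomm, hxp]
      rcases hc.fix3 p (σ p) q hxp a1 hxq with h | h | h
      · exact absurd h.symm hpm
      · exact Or.inl h.symm
      · exact Or.inr h.symm
    have hII : ∀ {t t' : swapSet (R : Subgroup (Perm α))} {p q : α}, σ p ≠ p → σ q ≠ q →
        t.1 = swap p (σ p) → t'.1 = swap q (σ q) → x p = σ p → x q = σ q → t = t' := by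
      intro t t' p q hpm hqm ht ht' hxp hxq
      apply Subtype.ext
      rw [ht, ht', swap_eq_swap_iff_of_matched hσ hqm]
      have hmp2 : ∀ {r : α}, σ r ≠ r → x r = σ r → mp x r = 2 := by
        intro r hrm hxr
        have b1 : (x ^ 2) r = r := by
          rw [pow_two, Perm.mul_apply, hxr, hcomm, hxr, hσ.sq]
        have b2 : mp x r ∣ 2 := pow_apply_eq_iff.mp b1
        have b3 : mp x r ≠ 1 := fun e => hrm (by rw [← hxr]; exact mp_eq_one_iff.mp e)
        rcases (Nat.dvd_prime Nat.prime_two).mp b2 with h | h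
        · exact absurd h b3
        · exact h
      obtain ⟨j, hj⟩ := hc.same p q (by rw [hxp]; exact hpm) (by rw [hxq]; exact hqm)
        ((hmp2 hpm hxp).trans (hmp2 hqm hxq).symm)
      have hiter : ∀ j : ℕ, (x ^ j) p = p ∨ (x ^ j) p = σ p := by
        intro j
        induction j with
        | zero => exact Or.inl rfl
        | succ j ih =>
          rw [pow_succ', Perm.mul_apply]
          rcases ih with h | h
          · rw [h]; exact Or.inr hxp
          · rw [h, hcomm, hxp, hσ.sq]; exact Or.inl rfl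
      rcases hiter j with h | h
      · rw [h] at hj
        exact Or.inl hj.symm
      · rw [h] at hj
        exact Or.inr hj.symm
    intro a b c ha hb hc'
    obtain ⟨p₁, hp₁, e₁⟩ := exists_rep hσ a
    obtain ⟨p₂, hp₂, e₂⟩ := exists_rep hσ b
    obtain ⟨p₃, hp₃, e₃⟩ := exists_rep hσ c
    rcases (htype hp₁ e₁).mp ha with h₁ | h₁ <;> rcases (htype hp₂ e₂).mp hb with h₂ | h₂ <;>
      rcases (htype hp₃ e₃).mp hc' with h₃ | h₃
    · exact Or.inl (hI hp₁ hp₂ e₁ e₂ h₁ h₂)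
    · exact Or.inl (hI hp₁ hp₂ e₁ e₂ h₁ h₂)
    · exact Or.inr (Or.inl (hI hp₁ hp₃ e₁ e₃ h₁ h₃))
    · exact Or.inr (Or.inr (hII hp₂ hp₃ e₂ e₃ h₂ h₃))
    · exact Or.inr (Or.inr (hI hp₂ hp₃ e₂ e₃ h₂ h₃))
    · exact Or.inr (Or.inl (hII hp₁ hp₃ e₁ e₃ h₁ h₃))
    · exact Or.inl (hII hp₁ hp₂ e₁ e₂ h₁ h₂)
    · exact Or.inl (hII hp₁ hp₂ e₁ e₂ h₁ h₂)
  · intro t t' ht ht' hmp
    obtain ⟨p, hpm, e⟩ := exists_rep hσ t
    obtain ⟨q, hqm, e'⟩ := exists_rep hσ t'
    have hxp : x p ≠ p := fun h => ht ((htype hpm e).mpr (Or.inl h))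
    have hxq : x q ≠ q := fun h => ht' ((htype hqm e').mpr (Or.inl h))
    have h1 := mp_bar hxR hσ hc hp hpm e hxp
    have h2 := mp_bar hxR hσ hc hp hqm e' hxq
    have h3 : mp x p = mp x q := by rw [h1, h2, ← hX, hmp]
    obtain ⟨j, hj⟩ := hc.same p q hxp hxq h3
    refine ⟨j, Subtype.ext ?_⟩
    rw [imageHom_pow_val, e, e', conj_swap]
    show swap ((x ^ j) p) ((x ^ j) (σ p)) = _
    rw [pow_sigma hcomm, hj]

/-- The transpositions of two Sylow subgroups with the same matching coincide. -/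
theorem swapSet_eq {R₁ R₂ : Sylow 2 (Perm α)} (h₁ : Matched R₁ σ) (h₂ : Matched R₂ σ) :
    swapSet (R₂ : Subgroup (Perm α)) = swapSet (R₁ : Subgroup (Perm α)) := by
  have key : ∀ {R R' : Sylow 2 (Perm α)}, Matched R σ → Matched R' σ →
      swapSet (R : Subgroup (Perm α)) ⊆ swapSet (R' : Subgroup (Perm α)) := by
    rintro R R' h h' t ⟨hR, a, b, hab, rfl⟩
    have h1 : b = σ a := h.eq_of_swap_mem hab hR
    refine ⟨?_, a, b, hab, rfl⟩
    rw [h1]
    exact h'.h a (by rw [← h1]; exact hab.symm)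
  exact Set.Subset.antisymm (key h₂ h₁) (key h₁ h₂)

theorem exists_image (R : Sylow 2 (Perm α)) (T : Set (Perm α))
    (hT : swapSet (R : Subgroup (Perm α)) = T) :
    ∃ S : Sylow 2 (Perm T), ∀ s : Perm T, s ∈ S ↔ ∃ r ∈ R, ∀ t : T, (s t).1 = r * t.1 * r⁻¹ := by
  subst hT
  refine ⟨imageSylow R, fun s => ⟨?_, ?_⟩⟩
  · rintro ⟨⟨r, hr⟩, rfl⟩
    exact ⟨r, hr, fun t => rfl⟩
  · rintro ⟨r, hr, h⟩
    refine ⟨⟨r, hr⟩, ?_⟩
    ext t
    apply congrArg (fun f : Perm α => f _)
    exact (h t).symm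

end main

/-- Uniqueness of the Sylow subgroup containing an element with the condition on cycles. -/
theorem unique_of_cond (m : ℕ) : ∀ (α : Type u) [Fintype α] [DecidableEq α], Fintype.card α = m →
    ∀ (x : Perm α) (k : ℕ), x ^ 2 ^ k = 1 → Cond x → ∀ R₁ R₂ : Sylow 2 (Perm α), x ∈ R₁ → x ∈ R₂ →
    R₁ = R₂ := by
  induction m using Nat.strong_induction_on with
  | _ m ih =>
    intro α _ _ hcard x k hp hc R₁ R₂ hx₁ hx₂
    by_cases hne : Nonempty α
    · obtain ⟨σ₁, h₁⟩ := exists_matched R₁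
      obtain ⟨σ₂, h₂⟩ := exists_matched R₂
      have hσ : σ₂ = σ₁ := sigma_unique hc hp h₂.m h₁.m (h₂.comm hx₂) (h₁.comm hx₁)
      subst hσ
      classical
      letI : Fintype (swapSet (R₁ : Subgroup (Perm α))) := Fintype.ofFinite _
      obtain ⟨S₁, hS₁⟩ := exists_image R₁ _ rfl
      obtain ⟨S₂, hS₂⟩ := exists_image R₂ _ (swapSet_eq h₁ h₂)
      set X := imageHom (R₁ : Subgroup (Perm α)) ⟨x, hx₁⟩ with hX
      have hX₁ : X ∈ S₁ := (hS₁ X).mpr ⟨x, hx₁, fun t => rfl⟩
      have hX₂ : X ∈ S₂ := (hS₂ X).mpr ⟨x, hx₂, fun t => rfl⟩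
      have hXp : X ^ 2 ^ k = 1 := by
        rw [hX, ← map_pow]
        have : (⟨x, hx₁⟩ : (R₁ : Subgroup (Perm α))) ^ 2 ^ k = 1 := Subtype.ext hp
        rw [this, map_one]
      have hXc : Cond X := cond_bar hx₁ h₁ hc hp
      have hlt : Fintype.card (swapSet (R₁ : Subgroup (Perm α))) < m := by
        rw [← hcard, ← Nat.card_eq_fintype_card, ← Nat.card_eq_fintype_card]
        exact card_swapSet_lt R₁
      have hS := ih _ hlt (swapSet (R₁ : Subgroup (Perm α))) rfl X k hXp hXc S₁ S₂ hX₁ hX₂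
      -- `R₂ ≤ R₁`
      have hle : (R₂ : Subgroup (Perm α)) ≤ R₁ := by
        intro r hr
        obtain ⟨s, hs⟩ : ∃ s : Perm (swapSet (R₁ : Subgroup (Perm α))),
            ∀ t, (s t).1 = r * t.1 * r⁻¹ := by
          have hsw := swapSet_eq h₁ h₂
          have hnorm : ∀ t ∈ swapSet (R₁ : Subgroup (Perm α)), r * t * r⁻¹ ∈ swapSet (R₁ : Subgroup (Perm α)) := by
            intro t ht
            rw [← hsw] at ht ⊢
            obtain ⟨htR, a, b, hab, e⟩ := ht
            refine ⟨R₂.mul_mem (R₂.mul_mem hr htR) (R₂.inv_mem hr), r a, r b,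
              fun e' => hab (r.injective e'), ?_⟩
            rw [e, conj_swap]
          have hnorm' : ∀ t ∈ swapSet (R₁ : Subgroup (Perm α)), r⁻¹ * t * r ∈ swapSet (R₁ : Subgroup (Perm α)) := by
            intro t ht
            rw [← hsw] at ht ⊢
            obtain ⟨htR, a, b, hab, e⟩ := ht
            refine ⟨R₂.mul_mem (R₂.mul_mem (R₂.inv_mem hr) htR) hr, r⁻¹ a, r⁻¹ b,
              fun e' => hab (r⁻¹.injective e'), ?_⟩
            have := conj_swap r⁻¹ a b
            rw [inv_inv] at this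
            rw [e, this]
          refine ⟨⟨fun t => ⟨r * t.1 * r⁻¹, hnorm _ t.2⟩, fun t => ⟨r⁻¹ * t.1 * r, hnorm' _ t.2⟩, ?_, ?_⟩, fun t => rfl⟩
          · intro t
            apply Subtype.ext
            simp [mul_assoc]
          · intro t
            apply Subtype.ext
            simp [mul_assoc]
        have hs₂ : s ∈ S₂ := (hS₂ s).mpr ⟨r, hr, hs⟩
        rw [← hS] at hs₂
        obtain ⟨r₁, hr₁, hs₁⟩ := (hS₁ s).mp hs₂
        have hcomm : ∀ w, σ₂ w ≠ w → (r₁⁻¹ * r) * swap w (σ₂ w) = swap w (σ₂ w) * (r₁⁻¹ * r) := by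
          intro w hw
          have hmem : swap w (σ₂ w) ∈ swapSet (R₁ : Subgroup (Perm α)) :=
            ⟨h₁.h w hw, w, σ₂ w, hw.symm, rfl⟩
          have e1 := hs ⟨_, hmem⟩
          have e2 := hs₁ ⟨_, hmem⟩
          have e3 : r * swap w (σ₂ w) * r⁻¹ = r₁ * swap w (σ₂ w) * r₁⁻¹ := e1.symm.trans e2
          have e4 : r₁⁻¹ * (r * swap w (σ₂ w) * r⁻¹) * r₁ = swap w (σ₂ w) := by
            rw [e3]
            group
          calc (r₁⁻¹ * r) * swap w (σ₂ w) = (r₁⁻¹ * (r * swap w (σ₂ w) * r⁻¹) * r₁) * (r₁⁻¹ * r) := by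
                group
            _ = swap w (σ₂ w) * (r₁⁻¹ * r) := by rw [e4]
        have hmem : r₁⁻¹ * r ∈ R₁ := by
          apply h₁.mem_of_forall
          intro w
          by_cases hw : σ₂ w = w
          · left
            rw [Perm.mul_apply, h₂.fixed hw hr]
            exact h₁.fixed hw (R₁.inv_mem hr₁)
          · exact h₁.apply_mem_pair hw (hcomm w hw)
        have e : r = r₁ * (r₁⁻¹ * r) := by group
        rw [e]
        exact R₁.mul_mem hr₁ hmem
      exact (Sylow.ext (R₂.is_maximal' R₁.isPGroup' hle))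
    · haveI : IsEmpty α := not_nonempty_iff.mp hne
      apply Sylow.ext
      ext g
      have : g = 1 := Subsingleton.elim _ _
      rw [this]
      simp only [one_mem]

end Cfsg.Agent.Lib.Perm.SylowUnique
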