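import Mathlib
import Cfsg.Agent.Lib.Perm.SylowUniqueA

/-!
Elements of 2-power order of symmetric groups lying in a unique Sylow 2-subgroup: uniqueness implies
the condition on the cycles; the translation to the cycle type.
-/

set_option autoImplicit false

namespace Cfsg.Agent.Lib.Perm.SylowUnique

open Equiv Equiv.Perm
open Cfsg.Agent.Lib.Perm.SylowTwoSym
open Cfsg.Agent.Lib.Perm.SylowSym (normalizer_sylow_perm_le)
open Cfsg.Agent.Lib.Perm.SylowDecomp (Matched exists_matched)

universe u

variable {α : Type u} [Fintype α] [DecidableEq α]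

/-- The size of the support of a matching. -/
theorem card_support_of_matching {σ : Perm α} (hm : IsMatching σ) :
    σ.support.card = Fintype.card α - Fintype.card α % 2 ∧
    σ.cycleType = Multiset.replicate (σ.support.card / 2) 2 := by
  have h1 : σ ^ 2 = 1 := by
    ext w
    rw [pow_two, Perm.mul_apply, hm.invol]
    rfl
  have h2 : ∀ m ∈ σ.cycleType, m = 2 := by
    intro m hm'
    have a1 : m ∣ 2 := (dvd_of_mem_cycleType hm').trans (orderOf_dvd_of_pow_eq_one h1)
    have a2 := two_le_of_mem_cycleType hm'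
    have a3 := Nat.le_of_dvd (by norm_num) a1
    omega
  have h3 := Multiset.eq_replicate_card.mpr h2
  have h4 : σ.support.card = Multiset.card σ.cycleType * 2 := by
    rw [← sum_cycleType]
    conv_lhs => rw [h3]
    simp
  have h5 : σ.cycleType = Multiset.replicate (σ.support.card / 2) 2 := by
    rw [h4]
    simpa using h3
  refine ⟨?_, h5⟩
  have h6 : (Finset.univ.filter fun a => σ a = a).card ≤ 1 := by
    rw [Finset.card_le_one]
    intro a ha b hb
    simp only [Finset.mem_filter, Finset.mem_univ, true_and] at ha hb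
    exact hm.fix _ _ ha hb
  have h7 : (Finset.univ.filter fun a => σ a = a).card + σ.support.card = Fintype.card α := by
    have := Finset.card_filter_add_card_filter_not (s := (Finset.univ : Finset α)) (fun a => σ a = a)
    rw [Finset.card_univ] at this
    rw [← this]
    congr 1
  omega

theorem isConj_of_matching {σ τ : Perm α} (h₁ : IsMatching σ) (h₂ : IsMatching τ) : IsConj σ τ := by
  rw [isConj_iff_cycleType_eq, (card_support_of_matching h₁).2, (card_support_of_matching h₂).2,
    (card_support_of_matching h₁).1, (card_support_of_matching h₂).1]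

theorem mem_smul {g r : Perm α} {R : Sylow 2 (Perm α)} : r ∈ g • R ↔ g⁻¹ * r * g ∈ R := by
  change r ∈ ((g • R : Sylow 2 (Perm α)) : Subgroup (Perm α)) ↔ _
  rw [Sylow.coe_subgroup_smul, Subgroup.mem_pointwise_smul_iff_inv_smul_mem]
  change _ ↔ _
  rw [← map_inv, MulAut.smul_def, MulAut.conj_apply, inv_inv]
  rfl

theorem matched_smul {R : Sylow 2 (Perm α)} {σ : Perm α} (h : Matched R σ) (g : Perm α)
    (hm : IsMatching (g * σ * g⁻¹)) : Matched (g • R) (g * σ * g⁻¹) := by
  refine ⟨hm, fun w hw => mem_smul.mpr ?_⟩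
  have h1 := conj_swap g⁻¹ w ((g * σ * g⁻¹) w)
  rw [inv_inv] at h1
  rw [h1]
  have h2 : g⁻¹ ((g * σ * g⁻¹) w) = σ (g⁻¹ w) := by simp [Perm.mul_apply]
  rw [h2]
  apply h.h
  intro e
  apply hw
  rw [Perm.mul_apply, Perm.mul_apply, e]
  simp

/-- Every matching commuting with a 2-element belongs to a Sylow subgroup containing the element. -/
theorem exists_sylow_matching {x σ' : Perm α} {k : ℕ} (hp : x ^ 2 ^ k = 1) (hm : IsMatching σ')
    (hcomm : ∀ w, x (σ' w) = σ' (x w)) : ∃ R' : Sylow 2 (Perm α), x ∈ R' ∧ Matched R' σ' := by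
  obtain ⟨R₀⟩ : Nonempty (Sylow 2 (Perm α)) := inferInstance
  obtain ⟨σ₀, h₀⟩ := exists_matched R₀
  obtain ⟨g, hg⟩ := isConj_iff.mp (isConj_of_matching h₀.m hm)
  have h₁ : Matched (g • R₀) σ' := by
    have := matched_smul h₀ g (by rw [hg]; exact hm)
    rwa [hg] at this
  set R₁ := g • R₀ with hR₁
  let C : Subgroup (Perm α) := Subgroup.centralizer ({σ'} : Set (Perm α))
  have hmemC : ∀ r : Perm α, (∀ w, r (σ' w) = σ' (r w)) → r ∈ C := by
    intro r hr
    rw [Subgroup.mem_centralizer_iff]
    rintro _ rfl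
    ext w
    simp only [Perm.mul_apply]
    exact (hr w).symm
  have hCmem : ∀ r ∈ C, ∀ w, r (σ' w) = σ' (r w) := by
    intro r hr w
    have := (Subgroup.mem_centralizer_iff.mp hr) σ' rfl
    have h2 := congrArg (fun f : Perm α => f w) this
    simpa [Perm.mul_apply] using h2.symm
  have hle : (R₁ : Subgroup (Perm α)) ≤ C := fun r hr => hmemC r (h₁.comm hr)
  have hxC : x ∈ C := hmemC x hcomm
  let S : Sylow 2 C := R₁.subtype hle
  let E : Subgroup C := Subgroup.zpowers ⟨x, hxC⟩
  have hE : IsPGroup 2 E := by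
    rintro ⟨_, n, rfl⟩
    refine ⟨k, ?_⟩
    have hy : (⟨x, hxC⟩ : C) ^ 2 ^ k = 1 := Subtype.ext hp
    apply Subtype.ext
    show ((⟨x, hxC⟩ : C) ^ n) ^ 2 ^ k = 1
    rw [← zpow_natCast, ← zpow_mul, mul_comm, zpow_mul, zpow_natCast, hy, one_zpow]
  obtain ⟨c, hc⟩ := exists_conj_mem_sylow S hE
  have h2 := hc ⟨x, hxC⟩ (Subgroup.mem_zpowers _)
  have h3 : (c : Perm α) * x * (c : Perm α)⁻¹ ∈ R₁ := by
    have : (c * ⟨x, hxC⟩ * c⁻¹ : C) ∈ ((R₁ : Subgroup (Perm α)).subgroupOf C) := by
      have e : ((S : Sylow 2 C) : Subgroup C) = (R₁ : Subgroup (Perm α)).subgroupOf C := R₁.coe_subtype hle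
      rw [← e]
      exact h2
    exact this
  have hcC := hCmem c c.2
  have hconj : (c : Perm α)⁻¹ * σ' * ((c : Perm α)⁻¹)⁻¹ = σ' := by
    ext w
    simp only [inv_inv, Perm.mul_apply]
    rw [← hcC]
    simp
  refine ⟨(c : Perm α)⁻¹ • R₁, mem_smul.mpr ?_, ?_⟩
  · rw [inv_inv]
    exact h3
  · have := matched_smul h₁ (c : Perm α)⁻¹ (by rw [hconj]; exact hm)
    rwa [hconj] at this

/-- If the Sylow subgroup containing `x` is unique, the matching commuting with `x` is unique. -/
theorem matching_unique {R : Sylow 2 (Perm α)} {σ σ' : Perm α} (h : Matched R σ) (h' : Matched R σ') :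
    σ' = σ := by
  ext w
  by_cases h1 : σ' w = w
  · by_cases h2 : σ w = w
    · rw [h1, h2]
    · have := h'.eq_of_swap_mem (Ne.symm h2) (h.h w h2)
      rw [h1] at this
      exact absurd this h2
  · exact h.eq_of_swap_mem (Ne.symm h1) (h'.h w h1)

theorem pow_congr_of_mp {x : Perm α} {y z : α} (h : mp x y = mp x z) {a b : ℕ}
    (hab : (x ^ a) y = (x ^ b) y) : (x ^ a) z = (x ^ b) z := by
  have key : ∀ {a b : ℕ}, a ≤ b → (x ^ a) y = (x ^ b) y → (x ^ a) z = (x ^ b) z := by
    intro a b hle hab
    obtain ⟨d, rfl⟩ := Nat.exists_eq_add_of_le hle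
    rw [pow_add, Perm.mul_apply] at hab ⊢
    have h1 : (x ^ d) y = y := (x ^ a).injective hab.symm
    have h2 : mp x z ∣ d := by
      rw [← h]
      exact pow_apply_eq_iff.mp h1
    rw [pow_apply_eq_iff.mpr h2]
  rcases Nat.le_total a b with h1 | h1
  · exact key h1 hab
  · exact (key h1 hab.symm).symm

/-- Uniqueness of the Sylow subgroup implies the condition on the cycles. -/
theorem cond_of_unique {x : Perm α} {k : ℕ} (hp : x ^ 2 ^ k = 1) {R : Sylow 2 (Perm α)} (hxR : x ∈ R)
    (huniq : ∀ R' : Sylow 2 (Perm α), x ∈ R' → R' = R) : Cond x := by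
  classical
  obtain ⟨σ, hσ⟩ := exists_matched R
  have hC : ∀ g : Perm α, g * x = x * g → g ∈ R := by
    intro g hg
    have h1 : x ∈ g • R := by
      rw [mem_smul]
      have : g⁻¹ * x * g = x := by
        rw [mul_assoc, ← hg]
        group
      rwa [this]
    have h2 := huniq _ h1
    exact normalizer_sylow_perm_le R (Sylow.smul_eq_iff_mem_normalizer.mp h2)
  have hM : ∀ σ' : Perm α, IsMatching σ' → (∀ w, x (σ' w) = σ' (x w)) → σ' = σ := by
    intro σ' hm hcomm
    obtain ⟨R', hx', hm'⟩ := exists_sylow_matching hp hm hcomm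
    have h1 := huniq _ hx'
    subst h1
    exact matching_unique hσ hm'
  have hcommσ : ∀ w, x (σ w) = σ (x w) := hσ.comm hxR
  constructor
  · intro a b c ha hb hc'
    by_contra hcon
    push Not at hcon
    obtain ⟨hab, hac, hbc⟩ := hcon
    have hsw : ∀ {u v : α}, x u = u → x v = v → swap u v * x = x * swap u v := by
      intro u v hu hv
      have h1 := conj_swap x u v
      rw [hu, hv] at h1
      calc swap u v * x = (x * swap u v * x⁻¹) * x := by rw [h1]
        _ = x * swap u v := by group
    exact hbc (swap_eq_of_isPGroup R.isPGroup' hab hac (hC _ (hsw ha hb)) (hC _ (hsw ha hc')))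
  · intro y z hy hz hmpeq
    by_contra hno
    push Not at hno
    have hnot : ¬ SameCycle x y z := by
      intro h
      obtain ⟨i, -, hi⟩ := h.exists_pow_eq'
      exact hno i hi
    -- `σ` preserves the cycles
    have hmoved : ∀ w, x w ≠ w → SameCycle x w (σ w) := by
      intro w hw
      have hcw : x.cycleOf w * x = x * x.cycleOf w := by
        ext v
        simp only [Perm.mul_apply]
        by_cases hv : SameCycle x w v
        · rw [hv.cycleOf_apply, (sameCycle_apply_right.mpr hv).cycleOf_apply]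
        · rw [cycleOf_apply_of_not_sameCycle hv, cycleOf_apply_of_not_sameCycle
            (fun h => hv (sameCycle_apply_right.mp h))]
      have h1 := hσ.comm (hC _ hcw) w
      have h2 : x.cycleOf w w = x w := SameCycle.rfl.cycleOf_apply
      rw [h2] at h1
      have h3 : σ w ∈ (x.cycleOf w).support := by
        rw [Perm.mem_support, h1]
        rw [← hcommσ]
        intro e
        exact hw (by
          have := σ.injective (by rw [← hcommσ]; exact e : σ (x w) = σ w)
          exact this)
      exact (mem_support_cycleOf_iff.mp h3).1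
    have hmovedU : ∀ {u w : α}, x u ≠ u → SameCycle x u w → SameCycle x u (σ w) := by
      intro u w hu huw
      have hw : x w ≠ w := fun e => hu (huw.apply_eq_self_iff.mpr e)
      exact huw.trans (hmoved w hw)
    have hi₁ : ∀ w, SameCycle x y w → ∃ i : ℕ, (x ^ i) y = w := fun w h => by
      obtain ⟨i, -, hi⟩ := h.exists_pow_eq'
      exact ⟨i, hi⟩
    have hi₂ : ∀ w, SameCycle x z w → ∃ i : ℕ, (x ^ i) z = w := fun w h => by
      obtain ⟨i, -, hi⟩ := h.exists_pow_eq'
      exact ⟨i, hi⟩
    choose! i₁ hi₁ using hi₁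
    choose! i₂ hi₂ using hi₂
    let f : α → α := fun w => if SameCycle x y w then (x ^ i₁ w) z else
      if SameCycle x z w then (x ^ i₂ w) y else w
    have hU₁pow : ∀ j : ℕ, SameCycle x y ((x ^ j) y) := fun j => sameCycle_pow_right.mpr SameCycle.rfl
    have hU₂pow : ∀ j : ℕ, SameCycle x z ((x ^ j) z) := fun j => sameCycle_pow_right.mpr SameCycle.rfl
    have hnot₁ : ∀ j : ℕ, ¬ SameCycle x y ((x ^ j) z) := fun j h => hnot (sameCycle_pow_right.mp h)
    have hnot₂ : ∀ j : ℕ, ¬ SameCycle x z ((x ^ j) y) := fun j h => hnot (sameCycle_pow_right.mp h).symm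
    have hf₁ : ∀ j : ℕ, f ((x ^ j) y) = (x ^ j) z := by
      intro j
      show (if SameCycle x y ((x ^ j) y) then _ else _) = _
      rw [if_pos (hU₁pow j)]
      exact pow_congr_of_mp hmpeq (hi₁ _ (hU₁pow j))
    have hf₂ : ∀ j : ℕ, f ((x ^ j) z) = (x ^ j) y := by
      intro j
      show (if SameCycle x y ((x ^ j) z) then _ else if SameCycle x z ((x ^ j) z) then _ else _) = _
      rw [if_neg (hnot₁ j), if_pos (hU₂pow j)]
      exact pow_congr_of_mp hmpeq.symm (hi₂ _ (hU₂pow j))
    let g : α → α := fun w => if SameCycle x y w ∨ SameCycle x z w then f w else σ w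
    have hg₁ : ∀ j : ℕ, g ((x ^ j) y) = (x ^ j) z := by
      intro j
      show (if _ then _ else _) = _
      rw [if_pos (Or.inl (hU₁pow j))]
      exact hf₁ j
    have hg₂ : ∀ j : ℕ, g ((x ^ j) z) = (x ^ j) y := by
      intro j
      show (if _ then _ else _) = _
      rw [if_pos (Or.inr (hU₂pow j))]
      exact hf₂ j
    have hg₃ : ∀ w, ¬ (SameCycle x y w ∨ SameCycle x z w) → g w = σ w := by
      intro w hw
      show (if _ then _ else _) = _
      rw [if_neg hw]
    have hoff : ∀ w, ¬ (SameCycle x y w ∨ SameCycle x z w) →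
        ¬ (SameCycle x y (σ w) ∨ SameCycle x z (σ w)) := by
      rintro w hw (h | h)
      · apply hw
        left
        have := hmovedU hy h
        rwa [hσ.sq] at this
      · apply hw
        right
        have := hmovedU hz h
        rwa [hσ.sq] at this
    have hcase : ∀ w, (∃ j : ℕ, w = (x ^ j) y) ∨ (∃ j : ℕ, w = (x ^ j) z) ∨
        ¬ (SameCycle x y w ∨ SameCycle x z w) := by
      intro w
      by_cases h1 : SameCycle x y w
      · exact Or.inl ⟨i₁ w, (hi₁ w h1).symm⟩
      by_cases h2 : SameCycle x z w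
      · exact Or.inr (Or.inl ⟨i₂ w, (hi₂ w h2).symm⟩)
      · exact Or.inr (Or.inr (by tauto))
    have hginv : ∀ w, g (g w) = w := by
      intro w
      rcases hcase w with ⟨j, rfl⟩ | ⟨j, rfl⟩ | h
      · rw [hg₁, hg₂]
      · rw [hg₂, hg₁]
      · rw [hg₃ w h, hg₃ _ (hoff w h), hσ.sq]
    have hgfix : ∀ w, g w = w → σ w = w := by
      intro w hw
      rcases hcase w with ⟨j, rfl⟩ | ⟨j, rfl⟩ | h
      · rw [hg₁] at hw
        exact absurd (by rw [hw]; exact hU₁pow j) (hnot₁ j)
      · rw [hg₂] at hw
        exact absurd (by rw [hw]; exact hU₂pow j) (hnot₂ j)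
      · rw [← hg₃ w h]
        exact hw
    let gp : Perm α := Function.Involutive.toPerm g hginv
    have hgp : ∀ w, gp w = g w := fun w => rfl
    have hgm : IsMatching gp := by
      refine ⟨fun w => hginv w, ?_, ?_⟩
      · intro a b ha hb
        exact hσ.m.fix _ _ (hgfix a ha) (hgfix b hb)
      · intro hev w hw
        exact hσ.m.even_free hev w (hgfix w hw)
    have hgc : ∀ w, x (gp w) = gp (x w) := by
      intro w
      rw [hgp, hgp]
      rcases hcase w with ⟨j, rfl⟩ | ⟨j, rfl⟩ | h
      · have e1 : x ((x ^ j) y) = (x ^ (j + 1)) y := by rw [pow_succ', Perm.mul_apply]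
        rw [e1, hg₁, hg₁, pow_succ', Perm.mul_apply]
      · have e1 : x ((x ^ j) z) = (x ^ (j + 1)) z := by rw [pow_succ', Perm.mul_apply]
        rw [e1, hg₂, hg₂, pow_succ', Perm.mul_apply]
      · have h' : ¬ (SameCycle x y (x w) ∨ SameCycle x z (x w)) := by
          rintro (h2 | h2)
          · exact h (Or.inl (sameCycle_apply_right.mp h2))
          · exact h (Or.inr (sameCycle_apply_right.mp h2))
        rw [hg₃ w h, hg₃ _ h', hcommσ]
    have hgeq := hM gp hgm hgc
    have h1 : g y = z := by
      have := hg₁ 0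
      simpa using this
    have h2 : σ y = z := by
      rw [← hgeq, hgp, h1]
    exact hnot (h2 ▸ hmoved y hy)

/-- The minimal period of a moved point is the length of its cycle. -/
theorem mp_eq_card_support {x : Perm α} {y : α} (hy : x y ≠ y) :
    mp x y = (x.cycleOf y).support.card := by
  have hc := isCycle_cycleOf x hy
  have hcy : x.cycleOf y y ≠ y := by
    rw [SameCycle.rfl.cycleOf_apply]
    exact hy
  have key : ∀ n : ℕ, (x ^ n) y = y ↔ (x.cycleOf y).support.card ∣ n := by
    intro n
    rw [← cycleOf_pow_apply_self, ← hc.pow_eq_one_iff' hcy, ← hc.orderOf,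
      orderOf_dvd_iff_pow_eq_one]
  apply Nat.dvd_antisymm
  · exact pow_apply_eq_iff.mp ((key _).mpr dvd_rfl)
  · exact (key _).mp (pow_apply_eq_iff.mpr dvd_rfl)

/-- Translation of the condition on the cycles. -/
theorem cond_iff (x : Perm α) :
    Cond x ↔ (Fintype.card α ≤ x.support.card + 2 ∧ x.cycleType.Nodup) := by
  have hsum : (Finset.univ.filter fun a => x a = a).card + x.support.card = Fintype.card α := by
    have := Finset.card_filter_add_card_filter_not (s := (Finset.univ : Finset α)) (fun a => x a = a)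
    rw [Finset.card_univ] at this
    rw [← this]
    congr 1
  constructor
  · intro h
    refine ⟨?_, ?_⟩
    · have h2 : (Finset.univ.filter fun a => x a = a).card ≤ 2 := by
        by_contra hcon
        push Not at hcon
        obtain ⟨a, b, c, ha, hb, hc, hab, hac, hbc⟩ := Finset.two_lt_card_iff.mp hcon
        simp only [Finset.mem_filter, Finset.mem_univ, true_and] at ha hb hc
        rcases h.fix3 a b c ha hb hc with h' | h' | h'
        · exact hab h'
        · exact hac h'
        · exact hbc h'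
      omega
    · rw [cycleType_def]
      refine Multiset.Nodup.map_on ?_ (cycleFactorsFinset x).nodup
      intro c₁ h₁ c₂ h₂ hcard
      have h₁' : c₁ ∈ cycleFactorsFinset x := h₁
      have h₂' : c₂ ∈ cycleFactorsFinset x := h₂
      obtain ⟨y, hy⟩ : c₁.support.Nonempty :=
        (mem_cycleFactorsFinset_iff.mp h₁').1.nonempty_support
      obtain ⟨z, hz⟩ : c₂.support.Nonempty :=
        (mem_cycleFactorsFinset_iff.mp h₂').1.nonempty_support
      have e₁ := cycle_is_cycleOf hy h₁'
      have e₂ := cycle_is_cycleOf hz h₂'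
      have hxy : x y ≠ y := Perm.mem_support.mp (mem_cycleFactorsFinset_support_le h₁' hy)
      have hxz : x z ≠ z := Perm.mem_support.mp (mem_cycleFactorsFinset_support_le h₂' hz)
      have h3 : mp x y = mp x z := by
        rw [mp_eq_card_support hxy, mp_eq_card_support hxz, ← e₁, ← e₂]
        exact hcard
      obtain ⟨j, hj⟩ := h.same y z hxy hxz h3
      have h4 : SameCycle x y z := hj ▸ sameCycle_pow_right.mpr SameCycle.rfl
      rw [e₁, e₂]
      exact h4.cycleOf_eq
  · rintro ⟨h1, h2⟩
    constructor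
    · intro a b c ha hb hc
      by_contra hcon
      push Not at hcon
      have h3 : 2 < (Finset.univ.filter fun a => x a = a).card := by
        refine Finset.two_lt_card_iff.mpr ⟨a, b, c, ?_, ?_, ?_, hcon.1, hcon.2.1, hcon.2.2⟩ <;>
          simpa
      omega
    · intro y z hy hz hmpeq
      rw [cycleType_def] at h2
      have h3 := Multiset.inj_on_of_nodup_map h2
      have h4 : x.cycleOf y ∈ cycleFactorsFinset x :=
        cycleOf_mem_cycleFactorsFinset_iff.mpr (Perm.mem_support.mpr hy)
      have h5 : x.cycleOf z ∈ cycleFactorsFinset x :=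
        cycleOf_mem_cycleFactorsFinset_iff.mpr (Perm.mem_support.mpr hz)
      have h6 : x.cycleOf y = x.cycleOf z := by
        apply h3 _ h4 _ h5
        show (x.cycleOf y).support.card = (x.cycleOf z).support.card
        rw [← mp_eq_card_support hy, ← mp_eq_card_support hz, hmpeq]
      have h7 : z ∈ (x.cycleOf y).support := by
        rw [h6, mem_support_cycleOf_iff]
        exact ⟨SameCycle.rfl, Perm.mem_support.mpr hz⟩
      obtain ⟨i, -, hi⟩ := (mem_support_cycleOf_iff.mp h7).1.exists_pow_eq'
      exact ⟨i, hi⟩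

end Cfsg.Agent.Lib.Perm.SylowUnique
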