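import Mathlib
import Cfsg.Prelude.Def_CaseTheorems
import Cfsg.Agent.Lib.Components.Quasisimple
import Cfsg.Agent.Lib.Perm.IndexAlt
import Cfsg.Agent.Lib.Char.Burnside2

/-!
# Groups generated by 3-cycles

`three_cycle_mem_closure`: a 3-cycle supported in an orbit of a group generated by 3-cycles belongs
to the group (Jordan).
`eq_alt_of_quasisimple`: a quasisimple normal subgroup `K` of `H ≤ Perm Ω`, with `C_H(K) ≤ K` and
`H` containing a 3-cycle, is the alternating group of a subset of `Ω`.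
-/

set_option autoImplicit false
set_option linter.unusedSectionVars false
set_option linter.unusedVariables false

namespace Cfsg.Agent.Lib.Perm.ThreeCycleGen

open Equiv Equiv.Perm MulAction Subgroup Cfsg
open scoped Pointwise commutatorElement

variable {Ω : Type*} [Fintype Ω] [DecidableEq Ω]

/-- The orbit predicate. -/
def InOrb (N : Subgroup (Perm Ω)) (a x : Ω) : Prop := ∃ n ∈ N, n a = x

theorem inOrb_self (N : Subgroup (Perm Ω)) (a : Ω) : InOrb N a a := ⟨1, N.one_mem, rfl⟩

theorem inOrb_apply {N : Subgroup (Perm Ω)} {a x : Ω} (h : InOrb N a x) {n : Perm Ω} (hn : n ∈ N) :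
    InOrb N a (n x) := by
  obtain ⟨m, hm, rfl⟩ := h
  exact ⟨n * m, N.mul_mem hn hm, rfl⟩

theorem inOrb_apply_iff {N : Subgroup (Perm Ω)} {a x : Ω} {n : Perm Ω} (hn : n ∈ N) :
    InOrb N a (n x) ↔ InOrb N a x := by
  refine ⟨fun h => ?_, fun h => inOrb_apply h hn⟩
  have := inOrb_apply h (N.inv_mem hn)
  simpa using this

/-- A cycle of `N` moving a point of an orbit has its support in the orbit. -/
theorem support_sub_of_moved {N : Subgroup (Perm Ω)} {a x : Ω} (hx : InOrb N a x) {c : Perm Ω}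
    (hc : c.IsCycle) (hcN : c ∈ N) (hm : c x ≠ x) {y : Ω} (hy : c y ≠ y) : InOrb N a y := by
  obtain ⟨i, hi⟩ := hc.sameCycle hm hy
  rw [← hi]
  exact inOrb_apply hx (N.zpow_mem hcN i)

theorem three_eq_or {c : Perm Ω} (hc : c.IsThreeCycle) {u v : Ω} (hu : c u ≠ u) (hv : c v ≠ v)
    (huv : u ≠ v) : c u = v ∨ c v = u := by
  open Cfsg.Agent.Lib.Perm.IndexAlt in
  obtain ⟨a, b, d, hab, had, hbd, rfl⟩ := exists_eq_cyc hc
  have key : ∀ x, cyc a b d x ≠ x → x = a ∨ x = b ∨ x = d := by
    intro x hx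
    by_contra hcon
    push Not at hcon
    exact hx (cyc_apply_of_ne hcon.1 hcon.2.1 hcon.2.2)
  have h1 : cyc a b d a = d := cyc_apply_left hab had hbd
  have h2 : cyc a b d b = a := cyc_apply_mid hab had hbd
  have h3 : cyc a b d d = b := cyc_apply_right
  rcases key u hu with rfl | rfl | rfl <;> rcases key v hv with rfl | rfl | rfl <;>
    first
      | exact absurd rfl huv
      | (left; assumption)
      | (right; assumption)

section Generated

variable (C : Set (Perm Ω)) (hC : ∀ c ∈ C, c.IsThreeCycle) (a : Ω)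

/-- The group induced on the orbit. -/
def orbGroup (C : Set (Perm Ω)) (a : Ω) [DecidablePred (InOrb (closure C) a)] :
    Subgroup (Perm (Subtype (InOrb (closure C) a))) :=
  closure {g | ∃ c ∈ C, (∀ x, c x ≠ x → InOrb (closure C) a x) ∧ ofSubtype g = c}

variable [DecidablePred (InOrb (closure C) a)]

theorem exists_lift (c : Perm Ω) (hc : c ∈ closure C)
    (hs : ∀ x, c x ≠ x → InOrb (closure C) a x) :
    ∃ g : Perm (Subtype (InOrb (closure C) a)), ofSubtype g = c := by
  refine ⟨c.subtypePerm (fun x => inOrb_apply_iff hc), ?_⟩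
  exact ofSubtype_subtypePerm _ hs

include hC in
theorem orbGroup_mem_exists (n : Perm Ω) (hn : n ∈ closure C) (y : Subtype (InOrb (closure C) a)) :
    ∃ g ∈ orbGroup C a, (g y : Ω) = n y := by
  classical
  induction hn using closure_induction generalizing y with
  | mem c hc =>
    by_cases hm : c y.1 = y.1
    · exact ⟨1, one_mem _, by simp [hm]⟩
    · have hcN : c ∈ closure C := subset_closure hc
      have hs : ∀ x, c x ≠ x → InOrb (closure C) a x := fun x hx =>
        support_sub_of_moved y.2 (hC c hc).isCycle hcN hm hx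
      obtain ⟨g, hg⟩ := exists_lift C a c hcN hs
      refine ⟨g, subset_closure ⟨c, hc, hs, hg⟩, ?_⟩
      rw [← hg, ofSubtype_apply_coe]
  | one => exact ⟨1, one_mem _, rfl⟩
  | mul u v hu hv ihu ihv =>
    obtain ⟨g2, hg2, h2⟩ := ihv y
    obtain ⟨g1, hg1, h1⟩ := ihu (g2 y)
    exact ⟨g1 * g2, mul_mem hg1 hg2, by simp [Perm.mul_apply, h1, h2]⟩
  | inv u hu ih =>
    have hu' : u⁻¹ ∈ closure C := inv_mem hu
    have hmem : InOrb (closure C) a (u⁻¹ y.1) := inOrb_apply y.2 hu'
    obtain ⟨g, hg, h⟩ := ih ⟨_, hmem⟩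
    refine ⟨g⁻¹, inv_mem hg, ?_⟩
    have h' : g ⟨_, hmem⟩ = y := Subtype.ext (by simpa using h)
    have : g⁻¹ y = ⟨_, hmem⟩ := by rw [Equiv.Perm.inv_eq_iff_eq]; exact h'.symm
    rw [this]

include hC in
theorem orbGroup_pretransitive :
    IsPretransitive (orbGroup C a) (Subtype (InOrb (closure C) a)) := by
  classical
  have key : ∀ y : Subtype (InOrb (closure C) a), ∃ g ∈ orbGroup C a, g ⟨a, inOrb_self _ a⟩ = y := by
    intro y
    obtain ⟨n, hn, hy⟩ := y.2
    obtain ⟨g, hg, h⟩ := orbGroup_mem_exists C hC a n hn ⟨a, inOrb_self _ a⟩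
    exact ⟨g, hg, Subtype.ext (by rw [h]; exact hy)⟩
  refine ⟨fun x y => ?_⟩
  obtain ⟨g1, hg1, h1⟩ := key x
  obtain ⟨g2, hg2, h2⟩ := key y
  refine ⟨⟨g2 * g1⁻¹, mul_mem hg2 (inv_mem hg1)⟩, ?_⟩
  change (g2 * g1⁻¹) x = y
  rw [← h1, ← h2]
  simp

include hC in
theorem orbGroup_preprimitive :
    IsPreprimitive (orbGroup C a) (Subtype (InOrb (closure C) a)) := by
  classical
  haveI := orbGroup_pretransitive C hC a
  refine IsPreprimitive.of_isTrivialBlock_base ⟨a, inOrb_self _ a⟩ (fun {B} haB hB => ?_)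
  have hblock := isBlock_iff_smul_eq_or_disjoint.mp hB
  by_cases hsub : B.Subsingleton
  · exact Or.inl hsub
  right
  -- all generators preserve `B`
  have hgen : ∀ g ∈ {g : Perm (Subtype (InOrb (closure C) a)) |
      ∃ c ∈ C, (∀ x, c x ≠ x → InOrb (closure C) a x) ∧ ofSubtype g = c},
      ∀ hg : g ∈ orbGroup C a, (⟨g, hg⟩ : orbGroup C a) • B = B := by
    rintro g ⟨c, hc, hs, rfl'⟩ hg
    rcases hblock ⟨g, hg⟩ with h | h
    · exact h
    exfalso
    simp only [Set.not_subsingleton_iff, Set.Nontrivial] at hsub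
    obtain ⟨u, hu, v, hv, huv⟩ := hsub
    have hmoved : ∀ w ∈ B, g w ≠ w := by
      intro w hw heq
      have : w ∈ (⟨g, hg⟩ : orbGroup C a) • B := by
        have h2 : (⟨g, hg⟩ : orbGroup C a) • w ∈ (⟨g, hg⟩ : orbGroup C a) • B :=
          Set.smul_mem_smul_set hw
        have h3 : (⟨g, hg⟩ : orbGroup C a) • w = w := heq
        rwa [h3] at h2
      exact (Set.disjoint_left.mp h) this hw
    have hcu : ∀ w ∈ B, c w.1 ≠ w.1 := by
      intro w hw heq
      apply hmoved w hw
      apply Subtype.ext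
      rw [← ofSubtype_apply_coe, rfl', heq]
    have hne : u.1 ≠ v.1 := fun h3 => huv (Subtype.ext h3)
    have hcg : ∀ w : Subtype (InOrb (closure C) a), (g w).1 = c w.1 := by
      intro w
      rw [← ofSubtype_apply_coe, rfl']
    have hin : ∀ w ∈ B, g w ∈ (⟨g, hg⟩ : orbGroup C a) • B := by
      intro w hw
      exact Set.smul_mem_smul_set (a := (⟨g, hg⟩ : orbGroup C a)) hw
    rcases three_eq_or (hC c hc) (hcu u hu) (hcu v hv) hne with h3 | h3
    · have h4 : g u = v := Subtype.ext (by rw [hcg, h3])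
      have := hin u hu
      rw [h4] at this
      exact (Set.disjoint_left.mp h) this hv
    · have h4 : g v = u := Subtype.ext (by rw [hcg, h3])
      have := hin v hv
      rw [h4] at this
      exact (Set.disjoint_left.mp h) this hu
  -- hence every element of the group preserves `B`
  have hall : ∀ g (hg : g ∈ orbGroup C a), (⟨g, hg⟩ : orbGroup C a) • B = B := by
    intro g hg
    induction hg using closure_induction with
    | mem x hx => exact hgen x hx _
    | one => exact one_smul _ B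
    | mul x y hx hy ihx ihy =>
      have : (⟨x * y, mul_mem hx hy⟩ : orbGroup C a) = ⟨x, hx⟩ * ⟨y, hy⟩ := rfl
      rw [this, mul_smul, ihy, ihx]
    | inv x hx ih =>
      have : (⟨x⁻¹, inv_mem hx⟩ : orbGroup C a) = (⟨x, hx⟩ : orbGroup C a)⁻¹ := rfl
      rw [this, inv_smul_eq_iff, ih]
  rw [Set.eq_univ_iff_forall]
  intro y
  obtain ⟨g, hg⟩ := MulAction.exists_smul_eq (orbGroup C a) (⟨a, inOrb_self _ a⟩ : Subtype (InOrb (closure C) a)) y
  rw [← hg, ← hall g.1 g.2]
  exact Set.smul_mem_smul_set haB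

theorem map_orbGroup_le : (orbGroup C a).map ofSubtype ≤ closure C := by
  rw [orbGroup, MonoidHom.map_closure, closure_le]
  rintro _ ⟨g, ⟨c, hc, -, rfl⟩, rfl⟩
  exact subset_closure hc

include hC in
/-- Jordan: a 3-cycle supported in an orbit lies in a group generated by 3-cycles. -/
theorem three_cycle_mem_closure {t : Perm Ω} (ht : t.IsThreeCycle)
    (hs : ∀ x, t x ≠ x → InOrb (closure C) a x) (hmoved : ∃ c ∈ C, c a ≠ a) : t ∈ closure C := by
  classical
  obtain ⟨c, hc, hca⟩ := hmoved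
  have hcN : c ∈ closure C := subset_closure hc
  have hsc : ∀ x, c x ≠ x → InOrb (closure C) a x := fun x hx =>
    support_sub_of_moved (inOrb_self _ a) (hC c hc).isCycle hcN hca hx
  obtain ⟨g, hg⟩ := exists_lift C a c hcN hsc
  have hgm : g ∈ orbGroup C a := subset_closure ⟨c, hc, hsc, hg⟩
  have hg3 : g.IsThreeCycle := by
    have : (ofSubtype g).IsThreeCycle := by rw [hg]; exact hC c hc
    rw [IsThreeCycle, cycleType_ofSubtype] at this
    exact this
  have hle := alternatingGroup_le_of_isPreprimitive_of_isThreeCycle_mem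
    (orbGroup_preprimitive C hC a) hg3 hgm
  -- now lift `t`
  have htN : ∀ x, InOrb (closure C) a (t x) ↔ InOrb (closure C) a x := by
    intro x
    by_cases hx : t x = x
    · rw [hx]
    · exact ⟨fun _ => hs x hx, fun _ => hs (t x) (fun h => hx (t.injective h))⟩
  have ht' : ofSubtype (t.subtypePerm htN) = t := ofSubtype_subtypePerm _ hs
  have ht3 : (t.subtypePerm htN).IsThreeCycle := by
    have : (ofSubtype (t.subtypePerm htN)).IsThreeCycle := by rw [ht']; exact ht
    rw [IsThreeCycle, cycleType_ofSubtype] at this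
    exact this
  have hmem : t.subtypePerm htN ∈ orbGroup C a := hle ht3.mem_alternatingGroup
  have := map_orbGroup_le C a (Subgroup.mem_map_of_mem ofSubtype hmem)
  rwa [ht'] at this

end Generated

section Perfect

/-- A cycle lying in a perfect subgroup is not central in it. -/
theorem cycle_not_central {K : Subgroup (Perm Ω)} (hP : ⁅K, K⁆ = K) {c : Perm Ω} (hc : c.IsCycle)
    (hcK : c ∈ K) (hz : ∀ k ∈ K, k * c = c * k) : False := by
  obtain ⟨a, ha, -⟩ := id hc
  have hcomm : ∀ k ∈ K, ∀ (i : ℤ) (x : Ω), k ((c ^ i) x) = (c ^ i) (k x) := by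
    intro k hk i x
    have h1 : Commute k c := hz k hk
    have h2 : k * c ^ i = c ^ i * k := (h1.zpow_right i).eq
    exact congrArg (fun f : Perm Ω => f x) h2
  have hmoved : ∀ k ∈ K, ∀ x, c x ≠ x → c (k x) ≠ k x := by
    intro k hk x hx h
    have h1 : k (c x) = c (k x) := congrArg (fun f : Perm Ω => f x) (hz k hk)
    rw [← h1] at h
    exact hx (k.injective h)
  have hswap : ∀ k₁ ∈ K, ∀ k₂ ∈ K, ∀ x, c x ≠ x → k₁ (k₂ x) = k₂ (k₁ x) := by
    intro k₁ h₁ k₂ h₂ x hx
    obtain ⟨i, hi⟩ := hc.sameCycle hx (hmoved k₂ h₂ x hx)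
    obtain ⟨j, hj⟩ := hc.sameCycle hx (hmoved k₁ h₁ x hx)
    rw [← hi, ← hj, hcomm k₁ h₁, hcomm k₂ h₂, ← hj, ← hi]
    have : c ^ i * c ^ j = c ^ j * c ^ i := (Commute.refl c).zpow_zpow i j
    exact congrArg (fun f : Perm Ω => f x) this
  have hle : ⁅K, K⁆ ≤ MulAction.stabilizer (Perm Ω) a := by
    rw [commutator_le]
    intro k₁ h₁ k₂ h₂
    rw [MulAction.mem_stabilizer_iff]
    change (k₁ * k₂ * k₁⁻¹ * k₂⁻¹) a = a
    have hx : c (k₁⁻¹ (k₂⁻¹ a)) ≠ k₁⁻¹ (k₂⁻¹ a) :=
      hmoved _ (K.inv_mem h₁) _ (hmoved _ (K.inv_mem h₂) _ ha)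
    have := hswap k₁ h₁ k₂ h₂ _ hx
    simp only [Perm.mul_apply]
    rw [this]
    simp
  rw [hP] at hle
  exact ha (MulAction.mem_stabilizer_iff.mp (hle hcK))

theorem isSolvable_perm_of_card_le_four {α : Type*} [Fintype α] (h : Fintype.card α ≤ 4) :
    Group.IsSolvable (Perm α) := by
  classical
  have hc : Nat.card (Perm α) = Nat.factorial (Fintype.card α) := by
    rw [Nat.card_perm, Nat.card_eq_fintype_card]
  obtain ⟨x, y, hxy⟩ : ∃ x y : ℕ, Nat.factorial (Fintype.card α) = 2 ^ x * 3 ^ y := by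
    generalize Fintype.card α = k at h
    interval_cases k
    · exact ⟨0, 0, rfl⟩
    · exact ⟨0, 0, rfl⟩
    · exact ⟨1, 0, rfl⟩
    · exact ⟨1, 1, rfl⟩
    · exact ⟨3, 1, rfl⟩
  exact Cfsg.Agent.Lib.Char.Burnside2.isSolvable_of_card_eq Nat.prime_two Nat.prime_three _ (Perm α) x y
    rfl (hc.trans hxy)

/-- A homomorphism from a perfect group to a solvable group is trivial. -/
theorem hom_trivial_of_perfect {G A : Type*} [Group G] [Group A] [Group.IsPerfect G]
    [Group.IsSolvable A] (f : G →* A) (g : G) : f g = 1 := by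
  obtain ⟨n, hn⟩ := (Group.isSolvable_def A).mp inferInstance
  have hd : ∀ m : ℕ, derivedSeries G m = ⊤ := by
    intro m
    induction m with
    | zero => rfl
    | succ m ih =>
      rw [derivedSeries_succ, ih]
      exact Group.IsPerfect.commutator_eq_top
  have := map_derivedSeries_le_derivedSeries f n
  rw [hd, hn, le_bot_iff] at this
  have h2 : f g ∈ (⊤ : Subgroup G).map f := ⟨g, trivial, rfl⟩
  rw [this] at h2
  exact h2

end Perfect

section Main

/-- Membership in the alternating group of a subset. -/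
theorem mem_alt_iff (p : Ω → Prop) [DecidablePred p] (σ : Perm Ω) :
    σ ∈ (alternatingGroup (Subtype p)).map ofSubtype ↔ sign σ = 1 ∧ ∀ x, ¬ p x → σ x = x := by
  constructor
  · rintro ⟨t, ht, rfl⟩
    refine ⟨?_, fun x hx => ofSubtype_apply_of_not_mem t hx⟩
    rw [sign_ofSubtype]
    exact ht
  · rintro ⟨h1, h2⟩
    have hpr : ∀ x, p (σ x) ↔ p x := by
      intro x
      by_cases hx : p x
      · refine ⟨fun _ => hx, fun _ => ?_⟩
        by_contra hcon
        have h3 := h2 _ hcon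
        have := σ.injective h3
        rw [this] at hcon
        exact hcon hx
      · rw [h2 x hx]
    have hs : ∀ x, σ x ≠ x → p x := fun x hx => by
      by_contra hcon
      exact hx (h2 x hcon)
    refine ⟨σ.subtypePerm hpr, ?_, ofSubtype_subtypePerm _ hs⟩
    have := ofSubtype_subtypePerm hpr hs
    change sign (σ.subtypePerm hpr) = 1
    rw [← sign_ofSubtype, this, h1]

/-- Main structure theorem: a quasisimple self-centralizing normal subgroup of a permutation group
containing a 3-cycle is an alternating group on a subset. -/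
theorem eq_alt_of_quasisimple (H K : Subgroup (Perm Ω)) (hQ : IsQuasisimple K) (hKH : K ≤ H)
    (hnorm : ∀ h ∈ H, ∀ k ∈ K, h * k * h⁻¹ ∈ K)
    (hcent : ∀ h ∈ H, (∀ k ∈ K, h * k = k * h) → h ∈ K)
    {c : Perm Ω} (hc3 : c.IsThreeCycle) (hcH : c ∈ H) :
    ∃ (p : Ω → Prop) (_ : DecidablePred p), 5 ≤ Fintype.card (Subtype p) ∧
      K = (alternatingGroup (Subtype p)).map ofSubtype := by
  classical
  haveI hperf : Group.IsPerfect K := hQ.1
  have hP : ⁅K, K⁆ = K := Subgroup.isPerfect_iff.mp hperf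
  set C : Set (Perm Ω) := {g | g ∈ H ∧ g.IsThreeCycle} with hCdef
  have hC : ∀ g ∈ C, g.IsThreeCycle := fun g hg => hg.2
  set N := closure C with hN
  have hNH : N ≤ H := (closure_le _).mpr (fun g hg => hg.1)
  have hNnorm : ∀ h ∈ H, ∀ n ∈ N, h * n * h⁻¹ ∈ N := by
    intro h hh n hn
    induction hn using closure_induction with
    | mem x hx =>
      refine subset_closure ⟨H.mul_mem (H.mul_mem hh hx.1) (H.inv_mem hh), ?_⟩
      have h3 := hx.2
      rw [IsThreeCycle] at h3 ⊢
      rw [← h3]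
      exact cycleType_conj
    | one => simp [N.one_mem]
    | mul x y _ _ ihx ihy =>
      have : h * (x * y) * h⁻¹ = (h * x * h⁻¹) * (h * y * h⁻¹) := by group
      rw [this]
      exact N.mul_mem ihx ihy
    | inv x _ ih =>
      have : h * x⁻¹ * h⁻¹ = (h * x * h⁻¹)⁻¹ := by group
      rw [this]
      exact N.inv_mem ih
  have hcN : c ∈ N := subset_closure ⟨hcH, hc3⟩
  -- Step 1: `K ≤ N`
  have hKN : K ≤ N := by
    have hnormal : (N.subgroupOf K).Normal := by
      refine ⟨fun n hn k => ?_⟩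
      rw [mem_subgroupOf] at hn ⊢
      exact hNnorm k.1 (hKH k.2) n.1 hn
    rcases Cfsg.Agent.Lib.Components.Quasisimple.eq_top_or_le_center_of_normal hQ hnormal with ht | hz
    · exact subgroupOf_eq_top.mp ht
    exfalso
    have hcentral : ∀ n ∈ N, n ∈ K → ∀ k ∈ K, k * n = n * k := by
      intro n hn hnK k hk
      have h1 : (⟨n, hnK⟩ : K) ∈ N.subgroupOf K := by rwa [mem_subgroupOf]
      have h2 := hz h1
      rw [Subgroup.mem_center_iff] at h2
      have h3 := h2 ⟨k, hk⟩
      exact congrArg Subtype.val h3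
    have hcomm_mem : ∀ k ∈ K, ∀ n ∈ N, ⁅k, n⁆ ∈ K ∧ ⁅k, n⁆ ∈ N := by
      intro k hk n hn
      refine ⟨?_, ?_⟩
      · have : ⁅k, n⁆ = k * (n * k⁻¹ * n⁻¹) := by simp [commutatorElement_def, mul_assoc]
        rw [this]
        exact K.mul_mem hk (hnorm n (hNH hn) _ (K.inv_mem hk))
      · have : ⁅k, n⁆ = (k * n * k⁻¹) * n⁻¹ := by simp [commutatorElement_def, mul_assoc]
        rw [this]
        exact N.mul_mem (hNnorm k (hKH hk) n hn) (N.inv_mem hn)
    have h1 : ⁅⁅K, N⁆, K⁆ = ⊥ := by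
      rw [commutator_eq_bot_iff_le_centralizer, commutator_le]
      intro k hk n hn
      rw [mem_centralizer_iff]
      intro k' hk'
      obtain ⟨h2, h3⟩ := hcomm_mem k hk n hn
      exact hcentral _ h3 h2 k' hk'
    have h2 : ⁅⁅N, K⁆, K⁆ = ⊥ := by rw [commutator_comm N K]; exact h1
    have h3 : ⁅⁅K, K⁆, N⁆ = ⊥ := commutator_commutator_eq_bot_of_rotate h1 h2
    rw [hP, commutator_eq_bot_iff_le_centralizer] at h3
    have hcK : c ∈ K := by
      refine hcent c hcH (fun k hk => ?_)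
      have h4 := h3 hk
      rw [mem_centralizer_iff] at h4
      exact h4 c hcN
    exact cycle_not_central hP hc3.isCycle hcK (fun k hk => hcentral c hcN hcK k hk)
  -- Step 2: a point moved by `K`
  obtain ⟨k₀, hk₀K, a, ha⟩ : ∃ k ∈ K, ∃ a, k a ≠ a := by
    haveI := Cfsg.Agent.Lib.Components.Quasisimple.nontrivial_of_isQuasisimple hQ
    obtain ⟨k, hk⟩ := exists_ne (1 : K)
    have hk1 : k.1 ≠ 1 := fun h => hk (Subtype.ext h)
    obtain ⟨a, ha⟩ : ∃ a, k.1 a ≠ a := by
      by_contra hcon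
      push Not at hcon
      exact hk1 (Equiv.ext hcon)
    exact ⟨k.1, k.2, a, ha⟩
  set p : Ω → Prop := InOrb N a with hp
  have hmovedC : ∃ g ∈ C, g a ≠ a := by
    by_contra hcon
    push Not at hcon
    have : ∀ n ∈ N, n a = a := by
      intro n hn
      induction hn using closure_induction with
      | mem x hx => exact hcon x hx
      | one => rfl
      | mul x y _ _ ihx ihy => rw [Perm.mul_apply, ihy, ihx]
      | inv x _ ih => rw [Perm.inv_eq_iff_eq, ih]
    exact ha (this k₀ (hKN hk₀K))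
  set A : Subgroup (Perm Ω) := (alternatingGroup (Subtype p)).map ofSubtype with hA
  have hAmem : ∀ σ, σ ∈ A ↔ sign σ = 1 ∧ ∀ x, ¬ p x → σ x = x := mem_alt_iff p
  have hpN : ∀ n ∈ N, ∀ x, p (n x) ↔ p x := fun n hn x => inOrb_apply_iff hn
  -- 3-cycles in `p` lie in `N`
  have hcycN : ∀ t : Perm Ω, t.IsThreeCycle → (∀ x, t x ≠ x → p x) → t ∈ N :=
    fun t ht hs => three_cycle_mem_closure C hC a ht hs hmovedC
  have hAN : A ≤ N := by
    rw [hA, ← closure_three_cycles_eq_alternating, MonoidHom.map_closure, closure_le]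
    rintro _ ⟨x, hx, rfl⟩
    refine hcycN _ ?_ (fun y hy => ?_)
    · rw [IsThreeCycle, cycleType_ofSubtype]
      exact hx
    · by_contra hcon
      exact hy (ofSubtype_apply_of_not_mem x hcon)
  have hpK : ∀ k ∈ K, ∀ x, p (k x) ↔ p x := fun k hk => hpN k (hKN hk)
  have hapa : p a := inOrb_self _ a
  have hzp : p (k₀ a) := (hpK k₀ hk₀K a).mpr hapa
  -- Step 3: the orbit has at least 5 points
  have hcard : 5 ≤ Fintype.card (Subtype p) := by
    by_contra hcon
    haveI := isSolvable_perm_of_card_le_four (α := Subtype p) (by omega)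
    let r : K →* Perm (Subtype p) :=
      { toFun := fun k => k.1.subtypePerm (hpK k.1 k.2)
        map_one' := by ext x; rfl
        map_mul' := by intro x y; ext z; rfl }
    have h1 := hom_trivial_of_perfect r ⟨k₀, hk₀K⟩
    have h2 := congrArg (fun f : Perm (Subtype p) => (f ⟨a, hapa⟩).1) h1
    exact ha h2
  -- Step 4: a nontrivial element of `K ∩ A`
  obtain ⟨b, d, hbd, hba, hbz, hda, hdz⟩ : ∃ b d : Subtype p, b ≠ d ∧ b.1 ≠ a ∧ b.1 ≠ k₀ a ∧
      d.1 ≠ a ∧ d.1 ≠ k₀ a := by
    set S : Finset (Subtype p) := (Finset.univ.erase ⟨a, hapa⟩).erase ⟨k₀ a, hzp⟩ with hS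
    have hS1 : 1 < S.card := by
      have h1 : (Finset.univ.erase (⟨a, hapa⟩ : Subtype p)).card = Fintype.card (Subtype p) - 1 := by
        rw [Finset.card_erase_of_mem (Finset.mem_univ _), Finset.card_univ]
      have h2 := Finset.pred_card_le_card_erase (s := Finset.univ.erase (⟨a, hapa⟩ : Subtype p))
        (a := (⟨k₀ a, hzp⟩ : Subtype p))
      rw [hS]
      omega
    obtain ⟨b, hb, d, hd, hbd⟩ := Finset.one_lt_card.mp hS1
    simp only [hS, Finset.mem_erase, Finset.mem_univ, and_true] at hb hd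
    refine ⟨b, d, hbd, fun h => hb.2 (Subtype.ext h), fun h => hb.1 (Subtype.ext h),
      fun h => hd.2 (Subtype.ext h), fun h => hd.1 (Subtype.ext h)⟩
  have hbd' : b.1 ≠ d.1 := fun h => hbd (Subtype.ext h)
  open Cfsg.Agent.Lib.Perm.IndexAlt in
  set t : Perm Ω := cyc a b.1 d.1 with ht
  have ht3 : t.IsThreeCycle :=
    Cfsg.Agent.Lib.Perm.IndexAlt.cyc_isThreeCycle hba.symm hda.symm hbd'
  have hts : ∀ x, ¬ p x → t x = x := by
    intro x hx
    refine Cfsg.Agent.Lib.Perm.IndexAlt.cyc_apply_of_ne ?_ ?_ ?_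
    · rintro rfl; exact hx hapa
    · rintro rfl; exact hx b.2
    · rintro rfl; exact hx d.2
  have htA : t ∈ A := (hAmem t).mpr ⟨ht3.sign, hts⟩
  have htN : t ∈ N := hAN htA
  have hta : t a = d.1 := Cfsg.Agent.Lib.Perm.IndexAlt.cyc_apply_left hba.symm hda.symm hbd'
  have htz : t (k₀ a) = k₀ a :=
    Cfsg.Agent.Lib.Perm.IndexAlt.cyc_apply_of_ne ha hbz.symm hdz.symm
  have hnc : k₀ * t ≠ t * k₀ := by
    intro h
    have h1 : k₀ (t a) = t (k₀ a) := congrArg (fun f : Perm Ω => f a) h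
    rw [htz, hta] at h1
    exact hda (k₀.injective h1)
  have hAconj : ∀ k ∈ K, ∀ σ ∈ A, k * σ * k⁻¹ ∈ A := by
    intro k hk σ hσ
    obtain ⟨h1, h2⟩ := (hAmem σ).mp hσ
    refine (hAmem _).mpr ⟨?_, fun x hx => ?_⟩
    · simp [h1]
    · have hx' : ¬ p (k⁻¹ x) := fun h => hx ((hpK _ (K.inv_mem hk) x).mp h)
      change k (σ (k⁻¹ x)) = x
      rw [h2 _ hx']
      simp
  have hw : ⁅k₀, t⁆ ≠ 1 := by
    intro h
    rw [commutatorElement_eq_one_iff_mul_comm] at h
    exact hnc h
  have hwK : ⁅k₀, t⁆ ∈ K := by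
    have : ⁅k₀, t⁆ = k₀ * (t * k₀⁻¹ * t⁻¹) := by simp [commutatorElement_def, mul_assoc]
    rw [this]
    exact K.mul_mem hk₀K (hnorm t (hNH htN) _ (K.inv_mem hk₀K))
  have hwA : ⁅k₀, t⁆ ∈ A := by
    have : ⁅k₀, t⁆ = (k₀ * t * k₀⁻¹) * t⁻¹ := by simp [commutatorElement_def, mul_assoc]
    rw [this]
    exact A.mul_mem (hAconj k₀ hk₀K t htA) (A.inv_mem htA)
  -- Step 5: `A ≤ K`
  have hAK : A ≤ K := by
    haveI hsimple : IsSimpleGroup (alternatingGroup (Subtype p)) :=
      alternatingGroup.isSimpleGroup (by rwa [Nat.card_eq_fintype_card])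
    set L : Subgroup (alternatingGroup (Subtype p)) :=
      (K.comap (ofSubtype : Perm (Subtype p) →* Perm Ω)).subgroupOf (alternatingGroup (Subtype p))
      with hL
    have hLn : L.Normal := by
      refine ⟨fun n hn g => ?_⟩
      rw [hL, mem_subgroupOf, mem_comap] at hn ⊢
      have hgA : ofSubtype (g : Perm (Subtype p)) ∈ A := Subgroup.mem_map_of_mem _ g.2
      have := hnorm _ (hNH (hAN hgA)) _ hn
      simpa using this
    rcases hLn.eq_bot_or_eq_top with hb | ht'
    · exfalso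
      obtain ⟨g, hg, hgw⟩ := hwA
      have h1 : (⟨g, hg⟩ : alternatingGroup (Subtype p)) ∈ L := by
        rw [hL, mem_subgroupOf, mem_comap]
        change ofSubtype g ∈ K
        rw [hgw]
        exact hwK
      rw [hb, Subgroup.mem_bot] at h1
      have h2 : g = 1 := congrArg Subtype.val h1
      rw [h2, map_one] at hgw
      exact hw hgw.symm
    · rintro _ ⟨g, hg, rfl⟩
      have h1 : (⟨g, hg⟩ : alternatingGroup (Subtype p)) ∈ L := by rw [ht']; trivial
      rw [hL, mem_subgroupOf, mem_comap] at h1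
      exact h1
  -- Step 6
  refine ⟨p, inferInstance, hcard, le_antisymm ?_ hAK⟩
  have hnormal : (A.subgroupOf K).Normal := by
    refine ⟨fun n hn k => ?_⟩
    rw [mem_subgroupOf] at hn ⊢
    exact hAconj k.1 k.2 n.1 hn
  rcases Cfsg.Agent.Lib.Components.Quasisimple.eq_top_or_le_center_of_normal hQ hnormal with ht' | hz
  · exact subgroupOf_eq_top.mp ht'
  · exfalso
    have h1 : (⟨t, hAK htA⟩ : K) ∈ A.subgroupOf K := by rwa [mem_subgroupOf]
    have h2 := hz h1
    rw [Subgroup.mem_center_iff] at h2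
    exact hnc (congrArg Subtype.val (h2 ⟨k₀, hk₀K⟩))

/-- A permutation of `Ω` preserving `p` and fixing `p` pointwise is trivial if it centralizes the
alternating group only through `K`. Restriction to `p` on `H` is injective. -/
theorem card_dvd_factorial_of_alt (H K : Subgroup (Perm Ω))
    (hnorm : ∀ h ∈ H, ∀ k ∈ K, h * k * h⁻¹ ∈ K)
    (hcent : ∀ h ∈ H, (∀ k ∈ K, h * k = k * h) → h ∈ K)
    (p : Ω → Prop) [DecidablePred p] (hcard : 5 ≤ Fintype.card (Subtype p))
    (hK : K = (alternatingGroup (Subtype p)).map ofSubtype) :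
    Nat.card H ∣ Nat.factorial (Fintype.card (Subtype p)) := by
  classical
  have hAmem : ∀ σ, σ ∈ K ↔ sign σ = 1 ∧ ∀ x, ¬ p x → σ x = x := by
    intro σ
    rw [hK]
    exact mem_alt_iff p σ
  -- every point of `p` is moved by `K`
  have hmoved : ∀ x, p x → ∃ k ∈ K, k x ≠ x := by
    intro x hx
    obtain ⟨u, v, huv, hux, hvx⟩ : ∃ u v : Subtype p, u ≠ v ∧ u ≠ ⟨x, hx⟩ ∧ v ≠ ⟨x, hx⟩ := by
      have h1 : 1 < (Finset.univ.erase (⟨x, hx⟩ : Subtype p)).card := by
        rw [Finset.card_erase_of_mem (Finset.mem_univ _), Finset.card_univ]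
        omega
      obtain ⟨u, hu, v, hv, huv⟩ := Finset.one_lt_card.mp h1
      simp only [Finset.mem_erase, Finset.mem_univ, and_true] at hu hv
      exact ⟨u, v, huv, hu, hv⟩
    have hux' : x ≠ u.1 := fun h => hux (Subtype.ext h.symm)
    have hvx' : x ≠ v.1 := fun h => hvx (Subtype.ext h.symm)
    have huv' : u.1 ≠ v.1 := fun h => huv (Subtype.ext h)
    refine ⟨Cfsg.Agent.Lib.Perm.IndexAlt.cyc x u.1 v.1, (hAmem _).mpr ⟨?_, ?_⟩, ?_⟩
    · exact (Cfsg.Agent.Lib.Perm.IndexAlt.cyc_isThreeCycle hux' hvx' huv').sign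
    · intro y hy
      refine Cfsg.Agent.Lib.Perm.IndexAlt.cyc_apply_of_ne ?_ ?_ ?_
      · rintro rfl; exact hy hx
      · rintro rfl; exact hy u.2
      · rintro rfl; exact hy v.2
    · rw [Cfsg.Agent.Lib.Perm.IndexAlt.cyc_apply_left hux' hvx' huv']
      exact hvx'.symm
  have hpq : ∀ x, p x ↔ ∃ k ∈ K, k x ≠ x := by
    intro x
    refine ⟨hmoved x, ?_⟩
    rintro ⟨k, hk, hkx⟩
    by_contra hx
    exact hkx (((hAmem k).mp hk).2 x hx)
  have hpH : ∀ h ∈ H, ∀ x, p (h x) ↔ p x := by
    intro h hh x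
    rw [hpq, hpq]
    constructor
    · rintro ⟨k, hk, hkx⟩
      refine ⟨h⁻¹ * k * h, ?_, fun h2 => hkx ?_⟩
      · have := hnorm h⁻¹ (H.inv_mem hh) k hk
        simpa using this
      · have h3 : h⁻¹ (k (h x)) = x := h2
        rw [Perm.inv_eq_iff_eq] at h3
        exact h3
    · rintro ⟨k, hk, hkx⟩
      refine ⟨h * k * h⁻¹, hnorm h hh k hk, fun h2 => hkx ?_⟩
      have h3 : h (k (h⁻¹ (h x))) = h x := h2
      rw [show h⁻¹ (h x) = x by simp] at h3
      exact h.injective h3
  let r : H →* Perm (Subtype p) :=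
    { toFun := fun h => h.1.subtypePerm (hpH h.1 h.2)
      map_one' := by ext x; rfl
      map_mul' := by intro x y; ext z; rfl }
  have hinj : Function.Injective r := by
    rw [injective_iff_map_eq_one]
    intro h hr
    have hfix : ∀ x, p x → h.1 x = x := by
      intro x hx
      have := congrArg (fun f : Perm (Subtype p) => (f ⟨x, hx⟩).1) hr
      exact this
    have hcomm : ∀ k ∈ K, h.1 * k = k * h.1 := by
      intro k hk
      refine Equiv.ext (fun x => ?_)
      change h.1 (k x) = k (h.1 x)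
      by_cases hx : p x
      · have h2 : p (k x) := by
          by_contra hcon
          have h3 := ((hAmem k).mp hk).2 _ hcon
          have := k.injective h3
          rw [this] at hcon
          exact hcon hx
        rw [hfix _ h2, hfix _ hx]
      · have h2 := ((hAmem k).mp hk).2 x hx
        have hx' : ¬ p (h.1 x) := fun h3 => hx ((hpH h.1 h.2 x).mp h3)
        rw [h2, ((hAmem k).mp hk).2 _ hx']
    have hhK := hcent h.1 h.2 hcomm
    have h1 : h.1 = 1 := by
      refine Equiv.ext (fun x => ?_)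
      by_cases hx : p x
      · exact hfix x hx
      · exact ((hAmem h.1).mp hhK).2 x hx
    exact Subtype.ext h1
  have h1 := Subgroup.card_dvd_of_injective r hinj
  have h2 : Nat.card (Perm (Subtype p)) = Nat.factorial (Fintype.card (Subtype p)) := by
    rw [Nat.card_perm, Nat.card_eq_fintype_card]
  rwa [h2] at h1

end Main

end Cfsg.Agent.Lib.Perm.ThreeCycleGen
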