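import Mathlib
import Cfsg.Prelude.Def_Blocks
import Cfsg.Prelude.Def_Characters
import Cfsg.Agent.Lib.Char.GL2Irr
import Cfsg.Agent.Lib.Char.Mackey
import Cfsg.Agent.Lib.Char.GaloisC
import Cfsg.Agent.Lib.Char.Codegree
import Cfsg.Agent.Lib.Char.CompleteCor
import Cfsg.Agent.Lib.Char.IndRep
import Cfsg.Agent.Lib.Char.Burnside2
import Cfsg.Agent.Lib.Char.Values
import Cfsg.Agent.Lib.Char.Ortho

/-!
# General character-theoretic lemmas used for Zassenhaus groups

* `arith`: the numerical contradiction for the constituents of `Ind μ`;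
* `exists_stable_odd`: parity argument for an automorphism whose square is inner;
* `exists_add_of_norm_two`: a character of norm two is the sum of two distinct irreducibles;
* `degree_le`: degree of a constituent.
-/

set_option autoImplicit false
set_option linter.style.haveILetI false
set_option linter.deprecated false

namespace Cfsg.Agent.Lib.Perm.ZassChar

open Cfsg Cfsg.Agent.Lib.Char.Induced Cfsg.Agent.Lib.Char.Ortho Cfsg.Agent.Lib.Char.Complete
  Cfsg.Agent.Lib.Char.Basic
open scoped ComplexConjugate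

theorem arith_aux {d₀ e c c' : ℕ} (hd₀ : d₀ = c + c') (he : 2 * d₀ ≤ e) (hc' : 0 < c')
    (hlt : c' < c) (h : d₀ + d₀ * e * c ∣ (d₀ * e + 2) * (d₀ * e) * c') : False := by
  have hd₀pos : 0 < d₀ := by omega
  have h1 : 1 + e * c ∣ (d₀ * e + 2) * e * c' := by
    have h2 : d₀ * (1 + e * c) ∣ d₀ * ((d₀ * e + 2) * e * c') := by
      convert h using 1 <;> ring
    exact Nat.dvd_of_mul_dvd_mul_left hd₀pos h2
  have hcop1 : Nat.Coprime (1 + e * c) e := by simp
  have hcop2 : Nat.Coprime (1 + e * c) c := by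
    have : 1 + e * c = 1 + c * e := by ring
    rw [this]
    simp
  have h2 : 1 + e * c ∣ (d₀ * e + 2) * c' := by
    have h3 : (d₀ * e + 2) * e * c' = e * ((d₀ * e + 2) * c') := by ring
    rw [h3] at h1
    exact hcop1.dvd_of_dvd_mul_left h1
  have h3 : 1 + e * c ∣ c * ((d₀ * e + 2) * c') := Dvd.dvd.mul_left h2 c
  obtain ⟨k, rfl⟩ : ∃ k, c = c' + k := ⟨c - c', by omega⟩
  have hk : 0 < k := by omega
  have h4 : (c' + k) * ((d₀ * e + 2) * c') = (c' * d₀) * (1 + e * (c' + k)) + c' * k := by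
    subst hd₀
    have : ∀ a b : ℕ, a = b → a = b := fun _ _ h => h
    zify
    ring
  rw [h4] at h3
  have h5 : 1 + e * (c' + k) ∣ c' * k := (Nat.dvd_add_right (Dvd.intro_left _ rfl)).mp h3
  have h6 := Nat.le_of_dvd (Nat.mul_pos hc' hk) h5
  have h7 : c' * k ≤ e * (c' + k) := by
    have h8 : k ≤ c' + k := by omega
    have h9 : c' ≤ e := by omega
    exact Nat.mul_le_mul h9 h8
  omega

/-- The numerical contradiction. -/
theorem arith {d c c' : ℕ} (hodd : Odd (c + c')) (hdvd : c + c' ∣ d) (hbound : 2 * (c + c') ^ 2 ≤ d)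
    (hc : 0 < c) (hc' : 0 < c') (h1 : (c + c') + d * c ∣ (d + 2) * d * c')
    (h2 : (c + c') + d * c' ∣ (d + 2) * d * c) : False := by
  obtain ⟨e, rfl⟩ := hdvd
  have he : 2 * (c + c') ≤ e := by
    have h3 : (c + c') * (2 * (c + c')) ≤ (c + c') * e := by nlinarith
    exact Nat.le_of_mul_le_mul_left h3 (by omega)
  rcases lt_trichotomy c c' with hlt | heq | hgt
  · refine arith_aux (d₀ := c + c') (c := c') (c' := c) (e := e) (add_comm _ _) he hc hlt ?_
    convert h2 using 1
  · subst heq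
    exact (Nat.not_even_iff_odd.mpr hodd) ⟨c, rfl⟩
  · exact arith_aux (d₀ := c + c') (c := c) (c' := c') (e := e) rfl he hc' hgt h1

section General

variable {G : Type*} [Group G]

/-- Parity argument. -/
theorem exists_stable_odd {D : Type*} [Group D] [Finite D] (heven : Even (Nat.card D))
    (σ : D →* D) (hσsurj : Function.Surjective σ) (hσ : ∀ g, ∃ y, σ (σ g) = y * g * y⁻¹) :
    ∃ μ : D → ℂ, IsIrrCharacter D μ ∧ μ ≠ (fun _ => 1) ∧ (∀ g, μ (σ g) = μ g) ∧
      Odd (charDegree μ) := by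
  classical
  haveI : Fintype D := Fintype.ofFinite _
  haveI : Fintype (IrrCharacter D) := Fintype.ofFinite _
  let one : IrrCharacter D := ⟨fun _ => 1, Cfsg.Agent.Lib.Char.Burnside2.isIrrCharacter_one⟩
  let ι : IrrCharacter D → IrrCharacter D := fun μ =>
    ⟨fun g => μ.1 (σ g), isIrrCharacter_comp_surjective μ.2 σ hσsurj⟩
  have hιι : ∀ μ, ι (ι μ) = μ := by
    intro μ
    apply Subtype.ext
    funext g
    show μ.1 (σ (σ g)) = μ.1 g
    obtain ⟨y, hy⟩ := hσ g
    rw [hy]
    exact isClassFunction_of_isCharacter (isCharacter_of_isIrrCharacter μ.2) g y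
  have hιdeg : ∀ μ, charDegree (ι μ).1 = charDegree μ.1 := by
    intro μ
    show charDegree (fun g => μ.1 (σ g)) = _
    unfold charDegree
    simp only [map_one]
  have hι1 : ι one = one := rfl
  by_contra hno
  have hsum : ∑ μ ∈ Finset.univ.erase one, ((charDegree μ.1 : ℕ) : ZMod 2) ^ 2 = 0 := by
    refine Finset.sum_involution (fun μ _ => ι μ) ?_ ?_ ?_ ?_
    · intro μ _
      rw [hιdeg, ← two_mul]
      have : (2 : ZMod 2) = 0 := rfl
      rw [this, zero_mul]
    · intro μ hμ hne he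
      apply hno
      have hμ1 : μ ≠ one := (Finset.mem_erase.mp hμ).1
      refine ⟨μ.1, μ.2, fun h => hμ1 (Subtype.ext h), ?_, ?_⟩
      · intro g
        exact congrFun (congrArg Subtype.val he) g
      · by_contra hodd
        rw [Nat.not_odd_iff_even] at hodd
        apply hne
        rw [(ZMod.natCast_eq_zero_iff_even).mpr hodd]
        ring
    · intro μ hμ
      rw [Finset.mem_erase] at hμ ⊢
      refine ⟨fun h => hμ.1 ?_, Finset.mem_univ _⟩
      rw [← hιι μ, h, hι1]
    · intro μ _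
      exact hιι μ
  have htot := Cfsg.Agent.Lib.Char.CompleteCor.sum_sq_degrees (G := D)
  have hnat : ∑ μ : IrrCharacter D, (charDegree μ.1) ^ 2 = Nat.card D := by
    have : ((∑ μ : IrrCharacter D, (charDegree μ.1) ^ 2 : ℕ) : ℂ) = (Nat.card D : ℂ) := by
      rw [← htot]
      push_cast
      refine Finset.sum_congr rfl fun μ _ => ?_
      rw [Cfsg.Agent.Lib.Char.Values.IsCharacter.charDegree_cast
        (isCharacter_of_isIrrCharacter μ.2)]
    exact_mod_cast this
  have h2 : ((Nat.card D : ℕ) : ZMod 2) = 0 := (ZMod.natCast_eq_zero_iff_even).mpr heven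
  rw [← hnat] at h2
  push_cast at h2
  rw [← Finset.add_sum_erase _ _ (Finset.mem_univ one), hsum] at h2
  have hone : charDegree one.1 = 1 := by
    unfold charDegree
    simp [one]
  rw [hone] at h2
  simp at h2

/-- A character of norm two is the sum of two distinct irreducible characters. -/
theorem exists_add_of_norm_two [Fintype G] {φ : G → ℂ} (hφ : IsCharacter G φ)
    (h : classInner φ φ = 2) :
    ∃ ψ₁ ψ₂ : G → ℂ, IsIrrCharacter G ψ₁ ∧ IsIrrCharacter G ψ₂ ∧ ψ₁ ≠ ψ₂ ∧ φ = ψ₁ + ψ₂ := by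
  classical
  have hdec := decomp_eq_sum_classInner hφ
  have hex : ∃ ψ₁ : IrrCharacter G, classInner φ ψ₁.1 ≠ 0 := by
    by_contra hno
    push Not at hno
    have h0 : φ = 0 := by
      rw [hdec]
      simp [hno]
    rw [h0] at h
    simp [classInner] at h
  obtain ⟨ψ₁, hψ₁⟩ := hex
  have hex2 : ∃ ψ₂ : IrrCharacter G, ψ₂ ≠ ψ₁ ∧ classInner φ ψ₂.1 ≠ 0 := by
    by_contra hno
    push Not at hno
    obtain ⟨n, hn⟩ := exists_nat_classInner_of_isCharacter hφ (isCharacter_of_isIrrCharacter ψ₁.2)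
    have h0 : φ = (n : ℂ) • ψ₁.1 := by
      rw [hdec, Finset.sum_eq_single ψ₁]
      · rw [hn]
      · intro b _ hb
        simp [hno b hb]
      · simp
    have h1 : classInner φ φ = (n : ℂ) * n := by
      rw [h0]
      simp only [Cfsg.Agent.Lib.Char.Induced.classInner_def, Pi.smul_apply, smul_eq_mul]
      have h3 := Cfsg.Agent.Lib.Char.OrthoBasic.classInner_irr_irr ψ₁.2 ψ₁.2
      rw [if_pos rfl, Cfsg.Agent.Lib.Char.Induced.classInner_def] at h3
      calc _ = (n : ℂ) * n * ((Nat.card G : ℂ)⁻¹ * ∑ g : G, ψ₁.1 g * conj (ψ₁.1 g)) := by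
            rw [Finset.mul_sum, Finset.mul_sum, Finset.mul_sum]
            refine Finset.sum_congr rfl fun g _ => ?_
            simp only [map_mul, Complex.conj_natCast]
            ring
        _ = _ := by rw [h3, mul_one]
    rw [h] at h1
    have h4 : 2 = n * n := by exact_mod_cast h1
    have h5 : n < 2 := by nlinarith
    interval_cases n <;> omega
  obtain ⟨ψ₂, hne, hψ₂⟩ := hex2
  refine ⟨ψ₁.1, ψ₂.1, ψ₁.2, ψ₂.2, fun h => hne (Subtype.ext h.symm), ?_⟩
  exact Cfsg.Agent.Lib.Char.GL2Irr.eq_add_of_norm_two hφ h ψ₁.2 ψ₂.2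
    (fun h => hne (Subtype.ext h.symm)) hψ₁ hψ₂

/-- A constituent has at most the degree of the character. -/
theorem degree_le [Fintype G] {α θ : G → ℂ} (hα : IsCharacter G α) (hθ : IsIrrCharacter G θ)
    (h : classInner α θ ≠ 0) : charDegree θ ≤ charDegree α := by
  classical
  obtain ⟨m, hm⟩ := exists_nat_decomp hα
  have h1 : classInner α θ = m ⟨θ, hθ⟩ := by
    have := classInner_sum_irr (fun χ => (m χ : ℂ)) (⟨θ, hθ⟩ : IrrCharacter G)
    simp only [Nat.cast_smul_eq_nsmul] at this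
    rw [← hm] at this
    exact this
  have hne : m ⟨θ, hθ⟩ ≠ 0 := by
    intro h0
    rw [h0] at h1
    exact h (by simpa using h1)
  have h2 : ((charDegree α : ℕ) : ℂ) =
      ((∑ ψ : IrrCharacter G, m ψ * charDegree ψ.1 : ℕ) : ℂ) := by
    rw [Cfsg.Agent.Lib.Char.Values.IsCharacter.charDegree_cast hα, hm]
    push_cast
    simp only [Finset.sum_apply, Pi.smul_apply, nsmul_eq_mul]
    refine Finset.sum_congr rfl fun ψ _ => ?_
    rw [Cfsg.Agent.Lib.Char.Values.IsCharacter.charDegree_cast (isCharacter_of_isIrrCharacter ψ.2)]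
    simp only [Pi.mul_apply, Pi.natCast_apply]
  have h3 : charDegree α = ∑ ψ : IrrCharacter G, m ψ * charDegree ψ.1 := by exact_mod_cast h2
  rw [h3]
  calc charDegree θ ≤ m ⟨θ, hθ⟩ * charDegree θ := Nat.le_mul_of_pos_left _ (Nat.pos_of_ne_zero hne)
    _ ≤ _ := Finset.single_le_sum (f := fun ψ : IrrCharacter G => m ψ * charDegree ψ.1)
      (fun _ _ => Nat.zero_le _) (Finset.mem_univ (⟨θ, hθ⟩ : IrrCharacter G))

end General

end Cfsg.Agent.Lib.Perm.ZassChar
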