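import Mathlib
import Cfsg.Prelude.Def_LieExceptional
import Cfsg.Agent.Lib.Char.FrobeniusKernel
import Cfsg.Agent.Lib.Frobenius.Even

/-!
# Zassenhaus groups: root groups and the double coset map `μ`

`IsRoot F x`: the subgroup `F` of `G_x` is normal in `G_x` and regular on the other points.
Existence from Frobenius' theorem.  The map `u ↦ μ(u)`: `μ(u)` is the unique element of
`F_b u F_b` interchanging `a` and `b`.
If an element inverts both root groups, then `μ(u) = μ(v)` forces `v = u` or `v = u⁻¹`.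
-/

set_option autoImplicit false
set_option linter.style.haveILetI false

namespace Cfsg.Agent.Lib.Perm.ZassCore

open MulAction Cfsg

variable {G Ω : Type*} [Group G] [MulAction G Ω]

theorem two_trans (hZ : IsZassenhausGroup G Ω) {a b c d : Ω} (hab : a ≠ b) (hcd : c ≠ d) :
    ∃ g : G, g • a = c ∧ g • b = d := by
  have h2 := hZ.2.1
  let e1 : Fin 2 ↪ Ω := ⟨![a, b], by
    intro i j hij
    fin_cases i <;> fin_cases j <;> simp_all⟩
  let e2 : Fin 2 ↪ Ω := ⟨![c, d], by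
    intro i j hij
    fin_cases i <;> fin_cases j <;> simp_all⟩
  obtain ⟨g, hg⟩ := h2.exists_smul_eq e1 e2
  exact ⟨g, DFunLike.congr_fun hg 0, DFunLike.congr_fun hg 1⟩

/-- A non-identity element fixes at most two points. -/
theorem eq_one_of_fix3 (hZ : IsZassenhausGroup G Ω) {g : G} {a b c : Ω} (hab : a ≠ b) (hbc : b ≠ c)
    (hac : a ≠ c) (ha : g • a = a) (hb : g • b = b) (hc : g • c = c) : g = 1 :=
  hZ.2.2.1 g a b c hab hbc hac ha hb hc

/-- `F` is normal in `G_x` and regular on the points other than `x`. -/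
structure IsRoot (F : Subgroup G) (x : Ω) : Prop where
  le : ∀ u ∈ F, u • x = x
  conj_mem : ∀ h : G, h • x = x → ∀ u ∈ F, h * u * h⁻¹ ∈ F
  reg : ∀ y z : Ω, y ≠ x → z ≠ x → ∃! u : G, u ∈ F ∧ u • y = z

namespace IsRoot

variable {F : Subgroup G} {x : Ω}

theorem eq_one_of_fix (hF : IsRoot F x) {u : G} (hu : u ∈ F) {y : Ω} (hy : y ≠ x)
    (hfix : u • y = y) : u = 1 := by
  obtain ⟨v, -, huniq⟩ := hF.reg y y hy hy
  rw [huniq u ⟨hu, hfix⟩, ← huniq 1 ⟨F.one_mem, one_smul _ _⟩]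

theorem exists_smul (hF : IsRoot F x) {y z : Ω} (hy : y ≠ x) (hz : z ≠ x) :
    ∃ u ∈ F, u • y = z := by
  obtain ⟨u, hu, -⟩ := hF.reg y z hy hz
  exact ⟨u, hu.1, hu.2⟩

theorem eq_of_smul_eq (hF : IsRoot F x) {u v : G} (hu : u ∈ F) (hv : v ∈ F) {y : Ω} (hy : y ≠ x)
    (h : u • y = v • y) : u = v := by
  have hz : v • y ≠ x := by
    intro hc
    have : v⁻¹ • (v • y) = v⁻¹ • x := by rw [hc]
    rw [inv_smul_smul] at this
    apply hy
    rw [this]
    exact inv_smul_eq_iff.mpr (hF.le v hv).symm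
  obtain ⟨w, -, huniq⟩ := hF.reg y (v • y) hy hz
  rw [huniq u ⟨hu, h⟩, huniq v ⟨hv, rfl⟩]

theorem smul_ne (hF : IsRoot F x) {u : G} (hu : u ∈ F) {y : Ω} (hy : y ≠ x) : u • y ≠ x := by
  intro hc
  have h1 : u⁻¹ • (u • y) = u⁻¹ • x := by rw [hc]
  rw [inv_smul_smul] at h1
  apply hy
  rw [h1]
  exact inv_smul_eq_iff.mpr (hF.le u hu).symm

theorem smul_ne_self (hF : IsRoot F x) {u : G} (hu : u ∈ F) (hu1 : u ≠ 1) {y : Ω} (hy : y ≠ x) :
    u • y ≠ y := fun hc => hu1 (hF.eq_one_of_fix hu hy hc)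

/-- The conjugate of a root group. -/
theorem conj (hF : IsRoot F x) (g : G) : IsRoot (F.map (MulAut.conj g).toMonoidHom) (g • x) := by
  refine ⟨?_, ?_, ?_⟩
  · rintro _ ⟨u, hu, rfl⟩
    simp only [MulEquiv.coe_toMonoidHom, MulAut.conj_apply, mul_smul, inv_smul_smul]
    rw [hF.le u hu]
  · rintro h hh _ ⟨u, hu, rfl⟩
    refine ⟨g * (g⁻¹ * h * g * u * (g⁻¹ * h * g)⁻¹) * g⁻¹ |> fun _ => (g⁻¹ * h * g) * u * (g⁻¹ * h * g)⁻¹,
      hF.conj_mem _ ?_ u hu, ?_⟩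
    · have : (g⁻¹ * h * g) • x = g⁻¹ • (h • (g • x)) := by simp only [mul_smul]
      rw [this, hh, inv_smul_smul]
    · simp only [MulEquiv.coe_toMonoidHom, MulAut.conj_apply]
      group
  · intro y z hy hz
    have hy' : g⁻¹ • y ≠ x := fun hc => hy (by rw [← hc, smul_inv_smul])
    have hz' : g⁻¹ • z ≠ x := fun hc => hz (by rw [← hc, smul_inv_smul])
    obtain ⟨u, ⟨hu, huy⟩, huniq⟩ := hF.reg _ _ hy' hz'
    refine ⟨g * u * g⁻¹, ⟨⟨u, hu, by simp [MulAut.conj_apply]⟩, ?_⟩, ?_⟩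
    · simp only [mul_smul]
      rw [huy, smul_inv_smul]
    · rintro v ⟨⟨w, hw, rfl⟩, hv⟩
      simp only [MulEquiv.coe_toMonoidHom, MulAut.conj_apply, mul_smul] at hv
      have h1 : w • (g⁻¹ • y) = g⁻¹ • z := by
        rw [← hv, inv_smul_smul]
      rw [huniq w ⟨hw, h1⟩]
      simp [MulAut.conj_apply]

/-- The number of points. -/
theorem card_add_one [Finite Ω] (hF : IsRoot F x) {y : Ω} (hy : y ≠ x) :
    Nat.card F + 1 = Nat.card Ω := by
  classical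
  haveI := Fintype.ofFinite Ω
  let φ : F → {z : Ω // z ≠ x} := fun u => ⟨(u : G) • y, hF.smul_ne u.2 hy⟩
  have hφ : Function.Bijective φ := by
    constructor
    · intro u v huv
      have : (u : G) • y = (v : G) • y := congrArg Subtype.val huv
      exact Subtype.ext (hF.eq_of_smul_eq u.2 v.2 hy this)
    · rintro ⟨z, hz⟩
      obtain ⟨u, hu, huz⟩ := hF.exists_smul hy hz
      exact ⟨⟨u, hu⟩, Subtype.ext huz⟩
  rw [Nat.card_congr (Equiv.ofBijective φ hφ), Nat.card_eq_fintype_card, Nat.card_eq_fintype_card,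
    Fintype.card_subtype_compl]
  have h1 : Fintype.card {z : Ω // z = x} = 1 := Fintype.card_subtype_eq x
  have h2 : 0 < Fintype.card Ω := Fintype.card_pos_iff.mpr ⟨x⟩
  omega

end IsRoot

/-- An involution fixing the point `x` and another point inverts the root group at `x`. -/
theorem inverts_root [Finite G] (hZ : IsZassenhausGroup G Ω) {F : Subgroup G} {x y : Ω}
    (hF : IsRoot F x) (hxy : y ≠ x) {z : G} (hzx : z • x = x) (hzy : z • y = y) (hz1 : z ≠ 1)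
    (hz2 : z * z = 1) {u : G} (hu : u ∈ F) : z * u * z⁻¹ = u⁻¹ := by
  have hzinv : z⁻¹ = z := inv_eq_of_mul_eq_one_left hz2
  have hnorm : z ∈ Subgroup.normalizer (F : Set G) := by
    rw [Subgroup.mem_normalizer_iff]
    intro k
    constructor
    · exact fun hk => hF.conj_mem z hzx k hk
    · intro hk
      have := hF.conj_mem z hzx _ hk
      have e : z * (z * k * z⁻¹) * z⁻¹ = k := by
        rw [hzinv]
        calc z * (z * k * z) * z = (z * z) * k * (z * z) := by group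
          _ = k := by rw [hz2]; group
      rwa [e] at this
  refine Cfsg.Agent.Lib.Frobenius.Even.inverts_of_fpf_involution hnorm hz2 ?_ hu
  intro k hk hcomm
  by_contra hk1
  have h1 : z • (k • y) = k • y := by
    rw [← mul_smul, hcomm, mul_smul, hzy]
  exact hz1 (eq_one_of_fix3 hZ (a := x) (b := y) (c := k • y) hxy.symm
    (hF.smul_ne_self hk hk1 hxy).symm (hF.smul_ne hk hxy).symm hzx hzy h1)

section Mu

variable {F Fb : Subgroup G} {a b : Ω}

/-- Existence of `μ(u)`. -/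
theorem mu_exists (hF : IsRoot F a) (hFb : IsRoot Fb b) (hab : a ≠ b) {u : G} (hu : u ∈ F)
    (hu1 : u ≠ 1) : ∃ w : G, w • a = b ∧ w • b = a ∧ ∃ β₁ ∈ Fb, ∃ β₂ ∈ Fb, w = β₁ * u * β₂ := by
  have h1 : u • b ≠ b := hF.smul_ne_self hu hu1 hab.symm
  have h2 : u⁻¹ • b ≠ b := hF.smul_ne_self (F.inv_mem hu) (inv_ne_one.mpr hu1) hab.symm
  obtain ⟨β₁, hβ₁, hβ₁e⟩ := hFb.exists_smul h1 hab
  obtain ⟨β₂, hβ₂, hβ₂e⟩ := hFb.exists_smul hab h2
  refine ⟨β₁ * u * β₂, ?_, ?_, β₁, hβ₁, β₂, hβ₂, rfl⟩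
  · simp only [mul_smul]
    rw [hβ₂e, smul_inv_smul]
    exact hFb.le β₁ hβ₁
  · simp only [mul_smul]
    rw [hFb.le β₂ hβ₂, hβ₁e]

/-- Uniqueness of `μ(u)`. -/
theorem mu_unique (hF : IsRoot F a) (hFb : IsRoot Fb b) (hab : a ≠ b) {u : G} (hu : u ∈ F)
    (hu1 : u ≠ 1) {w w' β₁ β₂ β₁' β₂' : G}
    (hβ₁ : β₁ ∈ Fb) (hβ₂ : β₂ ∈ Fb) (hβ₁' : β₁' ∈ Fb) (hβ₂' : β₂' ∈ Fb)
    (hw : w = β₁ * u * β₂) (hw' : w' = β₁' * u * β₂')
    (hwa : w • a = b) (hwb : w • b = a) (hwa' : w' • a = b) (hwb' : w' • b = a) :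
    β₁ = β₁' ∧ β₂ = β₂' := by
  have h1 : u • b ≠ b := hF.smul_ne_self hu hu1 hab.symm
  have h2 : β₁ • (u • b) = a := by
    rw [← hwb, hw]
    simp only [mul_smul]
    rw [hFb.le β₂ hβ₂]
  have h3 : β₁' • (u • b) = a := by
    rw [← hwb', hw']
    simp only [mul_smul]
    rw [hFb.le β₂' hβ₂']
  have e1 : β₁ = β₁' := hFb.eq_of_smul_eq hβ₁ hβ₁' h1 (h2.trans h3.symm)
  refine ⟨e1, ?_⟩
  have h4 : β₂ • a = u⁻¹ • b := by
    have : β₁ • (u • (β₂ • a)) = b := by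
      rw [← hwa, hw]
      simp only [mul_smul]
    have h5 : u • (β₂ • a) = β₁⁻¹ • b := eq_inv_smul_iff.mpr this
    have h6 : β₁⁻¹ • b = b := inv_smul_eq_iff.mpr (hFb.le β₁ hβ₁).symm
    rw [h6] at h5
    exact eq_inv_smul_iff.mpr h5
  have h4' : β₂' • a = u⁻¹ • b := by
    have : β₁' • (u • (β₂' • a)) = b := by
      rw [← hwa', hw']
      simp only [mul_smul]
    have h5 : u • (β₂' • a) = β₁'⁻¹ • b := eq_inv_smul_iff.mpr this
    have h6 : β₁'⁻¹ • b = b := inv_smul_eq_iff.mpr (hFb.le β₁' hβ₁').symm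
    rw [h6] at h5
    exact eq_inv_smul_iff.mpr h5
  exact hFb.eq_of_smul_eq hβ₂ hβ₂' hab (h4.trans h4'.symm)

/-- The key relation: if `z` inverts both root groups and `β u = v β'`, then `v = u` or `v = u⁻¹`.
The second alternative comes from conjugating by `z`. -/
theorem eq_or_eq_inv_of_relation (hF : IsRoot F a) (hFb : IsRoot Fb b) (hab : a ≠ b) {z : G}
    (hzF : ∀ u ∈ F, z * u * z⁻¹ = u⁻¹) (hzFb : ∀ u ∈ Fb, z * u * z⁻¹ = u⁻¹)
    {u v β β' : G} (hu : u ∈ F) (hv : v ∈ F) (hβ : β ∈ Fb) (hβ' : β' ∈ Fb)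
    (hrel : β * u = v * β') : v = u ∨ v = u⁻¹ := by
  by_cases hβ1 : β = 1
  · left
    subst hβ1
    rw [one_mul] at hrel
    have h1 : v⁻¹ * u = β' := by rw [hrel]; group
    have h2 : (v⁻¹ * u) • b = b := by rw [h1]; exact hFb.le β' hβ'
    have h3 := hF.eq_one_of_fix (F.mul_mem (F.inv_mem hv) hu) hab.symm h2
    exact (inv_mul_eq_one.mp h3)
  · right
    have h1 : z * (β * u) * z⁻¹ = z * (v * β') * z⁻¹ := by rw [hrel]
    have h2 : z * (β * u) * z⁻¹ = (z * β * z⁻¹) * (z * u * z⁻¹) := by group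
    have h3 : z * (v * β') * z⁻¹ = (z * v * z⁻¹) * (z * β' * z⁻¹) := by group
    rw [h2, h3, hzF u hu, hzF v hv, hzFb β hβ, hzFb β' hβ'] at h1
    have h4 : u * β = β' * v := by
      have := congrArg (fun x => x⁻¹) h1
      simpa using this
    -- evaluate at `a`
    set A := β • a with hA
    set B := β' • a with hB
    have hAa : A ≠ a := by
      intro hc
      exact hβ1 (hFb.eq_one_of_fix hβ hab hc)
    have e1 : A = v • B := by
      have : (β * u) • a = (v * β') • a := by rw [hrel]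
      simp only [mul_smul] at this
      rwa [hF.le u hu] at this
    have e2 : u • A = B := by
      have : (u * β) • a = (β' * v) • a := by rw [h4]
      simp only [mul_smul] at this
      rwa [hF.le v hv] at this
    have e3 : (v * u) • A = A := by
      rw [mul_smul, e2, ← e1]
    have := hF.eq_one_of_fix (F.mul_mem hv hu) hAa e3
    exact eq_inv_of_mul_eq_one_left this

/-- `μ(u) = μ(v)` forces `v = u` or `v = u⁻¹`. -/
theorem mu_fiber (hF : IsRoot F a) (hFb : IsRoot Fb b) (hab : a ≠ b) {z : G}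
    (hzF : ∀ u ∈ F, z * u * z⁻¹ = u⁻¹) (hzFb : ∀ u ∈ Fb, z * u * z⁻¹ = u⁻¹)
    {u v β₁ β₂ β₁' β₂' : G} (hu : u ∈ F) (hv : v ∈ F)
    (hβ₁ : β₁ ∈ Fb) (hβ₂ : β₂ ∈ Fb) (hβ₁' : β₁' ∈ Fb) (hβ₂' : β₂' ∈ Fb)
    (h : β₁ * u * β₂ = β₁' * v * β₂') : v = u ∨ v = u⁻¹ := by
  refine eq_or_eq_inv_of_relation hF hFb hab hzF hzFb hu hv (β := β₁'⁻¹ * β₁) (β' := β₂' * β₂⁻¹)
    (Fb.mul_mem (Fb.inv_mem hβ₁') hβ₁) (Fb.mul_mem hβ₂' (Fb.inv_mem hβ₂)) ?_
  calc β₁'⁻¹ * β₁ * u = β₁'⁻¹ * (β₁ * u * β₂) * β₂⁻¹ := by group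
    _ = β₁'⁻¹ * (β₁' * v * β₂') * β₂⁻¹ := by rw [h]
    _ = v * (β₂' * β₂⁻¹) := by group

end Mu

/-- Existence of root groups, from Frobenius' theorem. -/
theorem exists_isRoot [Finite G] [Finite Ω] (hZ : IsZassenhausGroup G Ω) (x : Ω) :
    ∃ F : Subgroup G, IsRoot F x := by
  classical
  obtain ⟨g₀, hg₀, c, d, hcd, hg₀c, hg₀d⟩ := hZ.2.2.2.1
  haveI hfaith := hZ.1
  -- a third point
  obtain ⟨e, he⟩ : ∃ e : Ω, g₀ • e ≠ e := by
    by_contra hcon
    push Not at hcon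
    exact hg₀ (FaithfulSMul.eq_of_smul_eq_smul (α := Ω) (fun e => by rw [hcon e, one_smul]))
  have hec : e ≠ c := fun h => he (by rw [h, hg₀c])
  have hed : e ≠ d := fun h => he (by rw [h, hg₀d])
  -- a point different from `x`
  obtain ⟨y, hy⟩ : ∃ y : Ω, y ≠ x := by
    by_cases h : c = x
    · exact ⟨d, fun h' => hcd (h.trans h'.symm)⟩
    · exact ⟨c, h⟩
  -- another point
  obtain ⟨y', hy'x, hy'y⟩ : ∃ y' : Ω, y' ≠ x ∧ y' ≠ y := by
    by_contra hcon
    push Not at hcon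
    have all : ∀ t : Ω, t = x ∨ t = y := fun t => by
      by_cases h : t = x
      · exact Or.inl h
      · exact Or.inr (hcon t h)
    rcases all c with h1 | h1 <;> rcases all d with h2 | h2 <;> rcases all e with h3 | h3 <;>
      simp_all
  -- the complement
  let S := stabilizer G x
  let H : Subgroup S := (stabilizer G y).subgroupOf S
  have memH : ∀ s : S, s ∈ H ↔ (s : G) • y = y := fun s => by
    simp [H, Subgroup.mem_subgroupOf]
  have hcomp : IsFrobeniusComplement H := by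
    refine ⟨?_, ?_, ?_⟩
    · -- nontrivial
      obtain ⟨g, hgc, hgd⟩ := two_trans hZ hcd hy.symm
      have hconj : (g * g₀ * g⁻¹) ∈ stabilizer G x := by
        rw [mem_stabilizer_iff]
        simp only [mul_smul]
        rw [← hgc, inv_smul_smul, hg₀c]
      intro hbot
      have h1 : (⟨_, hconj⟩ : S) ∈ H := by
        rw [memH]
        simp only [mul_smul]
        rw [← hgd, inv_smul_smul, hg₀d]
      rw [hbot, Subgroup.mem_bot] at h1
      have h2 : g * g₀ * g⁻¹ = 1 := congrArg Subtype.val h1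
      apply hg₀
      have : g₀ = g⁻¹ * (g * g₀ * g⁻¹) * g := by group
      rw [this, h2]
      group
    · intro htop
      obtain ⟨g, hgx, hgy⟩ := two_trans hZ (a := x) (b := y) (c := x) (d := y') hy.symm hy'x.symm
      have h1 : (⟨g, hgx⟩ : S) ∈ H := by rw [htop]; exact Subgroup.mem_top _
      rw [memH] at h1
      exact hy'y (hgy.symm.trans h1)
    · intro g hg
      rw [eq_bot_iff]
      intro k hk
      rw [Subgroup.mem_inf] at hk
      obtain ⟨hk1, hk2⟩ := hk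
      rw [Cfsg.Agent.Lib.Frobenius.Basic.mem_conj_smul_iff] at hk2
      rw [memH] at hk1 hk2 hg
      rw [Subgroup.mem_bot]
      apply Subtype.ext
      have hk2' : (k : G) • ((g : G) • y) = (g : G) • y := by
        have h3 : ((g⁻¹ * k * g : S) : G) • y = y := hk2
        simp only [Subgroup.coe_mul, InvMemClass.coe_inv, mul_smul] at h3
        simpa [inv_smul_eq_iff] using h3
      have hgy : (g : G) • y ≠ x := by
        intro hc
        have hgx : (g : G) • x = x := g.2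
        apply hy
        exact (smul_left_cancel (g : G) (hc.trans hgx.symm))
      exact eq_one_of_fix3 hZ (a := x) (b := y) (c := (g : G) • y) hy.symm (Ne.symm hg) hgy.symm
        k.2 hk1 hk2'
  obtain ⟨N, hNset, hNn, hNc⟩ := Cfsg.Agent.Lib.Char.FrobeniusKernel.frobenius_theorem H hcomp
  let F : Subgroup G := N.map S.subtype
  have memF : ∀ u : G, u ∈ F ↔ ∃ h : u ∈ S, (⟨u, h⟩ : S) ∈ N := fun u => by
    constructor
    · rintro ⟨s, hs, rfl⟩
      exact ⟨s.2, hs⟩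
    · rintro ⟨h, h'⟩
      exact ⟨⟨u, h⟩, h', rfl⟩
  have hNH : ∀ n : S, n ∈ N → (n : G) • y = y → n = 1 := by
    intro n hn hfix
    have h1 : n ∈ H := (memH n).mpr hfix
    have h2 : ((⟨n, hn⟩ : N) : S) * ((1 : H) : S) = ((1 : N) : S) * ((⟨n, h1⟩ : H) : S) := by
      simp
    have h3 := hNc.1 (a₁ := (⟨n, hn⟩, 1)) (a₂ := (1, ⟨n, h1⟩)) h2
    exact congrArg (fun p : N × H => (p.1 : S)) h3
  have hNtrans : ∀ z : Ω, z ≠ x → ∃ n ∈ N, (n : S) • y = z := by
    intro z hz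
    obtain ⟨g, hgx, hgy⟩ := two_trans hZ (a := x) (b := y) (c := x) (d := z) hy.symm hz.symm
    obtain ⟨⟨⟨n, hn⟩, ⟨h, hh⟩⟩, hnh⟩ := hNc.2 ⟨g, hgx⟩
    refine ⟨n, hn, ?_⟩
    have h1 : (h : G) • y = y := (memH h).mp hh
    have h2 : ((n * h : S) : G) • y = z := by
      have h3 : (n * h : S) = ⟨g, hgx⟩ := hnh
      rw [h3]; exact hgy
    simp only [Subgroup.coe_mul, mul_smul] at h2
    rw [h1] at h2
    exact h2
  refine ⟨F, ?_, ?_, ?_⟩
  · rintro u hu
    obtain ⟨h, -⟩ := (memF u).mp hu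
    exact h
  · intro h hh u hu
    obtain ⟨hu1, hu2⟩ := (memF u).mp hu
    rw [memF]
    have hs : h * u * h⁻¹ ∈ S := by
      rw [mem_stabilizer_iff]
      simp only [mul_smul]
      rw [inv_smul_eq_iff.mpr hh.symm, mem_stabilizer_iff.mp hu1, hh]
    refine ⟨hs, ?_⟩
    have := hNn.conj_mem _ hu2 (⟨h, hh⟩ : S)
    exact this
  · intro y₁ z₁ hy₁ hz₁
    obtain ⟨n₁, hn₁, hn₁e⟩ := hNtrans y₁ hy₁
    obtain ⟨n₂, hn₂, hn₂e⟩ := hNtrans z₁ hz₁
    refine ⟨((n₂ * n₁⁻¹ : S) : G), ⟨⟨_, N.mul_mem hn₂ (N.inv_mem hn₁), rfl⟩, ?_⟩, ?_⟩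
    · have h1 : ((n₁ : S) : G) • y = y₁ := hn₁e
      have h2 : ((n₂ : S) : G) • y = z₁ := hn₂e
      simp only [Subgroup.coe_mul, InvMemClass.coe_inv, mul_smul]
      rw [inv_smul_eq_iff.mpr h1.symm, h2]
    · rintro v ⟨hv, hvy⟩
      obtain ⟨hv1, hv2⟩ := (memF v).mp hv
      have h1 : ((n₁ : S) : G) • y = y₁ := hn₁e
      have h2 : ((n₂ : S) : G) • y = z₁ := hn₂e
      -- `n₂⁻¹ v n₁` fixes `y`
      have hmem : n₂⁻¹ * (⟨v, hv1⟩ : S) * n₁ ∈ N := N.mul_mem (N.mul_mem (N.inv_mem hn₂) hv2) hn₁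
      have hfix : ((n₂⁻¹ * (⟨v, hv1⟩ : S) * n₁ : S) : G) • y = y := by
        simp only [Subgroup.coe_mul, InvMemClass.coe_inv, mul_smul]
        rw [h1, hvy, inv_smul_eq_iff.mpr h2.symm]
      have h3 := hNH _ hmem hfix
      have h4 : (⟨v, hv1⟩ : S) = n₂ * n₁⁻¹ := by
        have : n₂⁻¹ * (⟨v, hv1⟩ : S) = n₁⁻¹ := eq_inv_of_mul_eq_one_left h3
        rw [← this]
        group
      exact congrArg Subtype.val h4

end Cfsg.Agent.Lib.Perm.ZassCore
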