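import Cfsg.Agent.Lib.Perm.ZassTwoC

/-!
# Zassenhaus groups with `|F| = 2 |H| + 1`, `|H|` odd and inverted by the swaps: `PSL(2, q)`
-/

set_option autoImplicit false
set_option linter.style.haveILetI false
set_option linter.deprecated false

namespace Cfsg.Agent.Lib.Perm.ZassTwo

open MulAction Cfsg Cfsg.Agent.Lib.Perm.ZassCore Cfsg.Agent.Lib.Perm.ZassEven
  Cfsg.Agent.Lib.Perm.ZassPSL Cfsg.Agent.Lib.PSL2.Basic Matrix Matrix.SpecialLinearGroup OnePoint
open scoped MatrixGroups

variable {G Ω : Type*} [Group G] [MulAction G Ω]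

/-- A swap is an involution if it inverts the two-point stabiliser, which has odd order. -/
theorem swap_involution [Finite G] {a b : Ω}
    (hodd : Odd (Nat.card ↥(stabilizer G a ⊓ stabilizer G b)))
    {t : G} (hta : t • a = b) (htb : t • b = a)
    (hinv : ∀ h ∈ stabilizer G a ⊓ stabilizer G b, t * h * t⁻¹ = h⁻¹) : t * t = 1 := by
  have hmem : t * t ∈ stabilizer G a ⊓ stabilizer G b := by
    refine Subgroup.mem_inf.mpr ⟨?_, ?_⟩
    · rw [mem_stabilizer_iff, mul_smul, hta, htb]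
    · rw [mem_stabilizer_iff, mul_smul, htb, hta]
  have h4 := hinv (t * t) hmem
  have h5 : (t * t) * (t * t) = 1 := by
    have h6 : t * (t * t) * t⁻¹ = t * t := by group
    rw [h6] at h4
    calc (t * t) * (t * t) = (t * t)⁻¹ * (t * t) := by rw [← h4]
      _ = 1 := by group
  obtain ⟨m, hm⟩ := hodd
  have h6 : (t * t) ^ Nat.card ↥(stabilizer G a ⊓ stabilizer G b) = 1 := by
    have := pow_card_eq_one' (G := ↥(stabilizer G a ⊓ stabilizer G b)) (x := ⟨t * t, hmem⟩)
    exact congrArg Subtype.val this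
  rw [hm, pow_succ, pow_mul, pow_two, h5, one_pow, one_mul] at h6
  exact h6

/-- An involution of odd point stabilisers has no fixed point. -/
theorem no_fix_of_involution [Finite G] [Finite Ω] (hZ : IsZassenhausGroup G Ω) {a b : Ω}
    (hab : a ≠ b) (hodd : Odd ((Nat.card Ω - 1) * Nat.card ↥(stabilizer G a ⊓ stabilizer G b)))
    {t : G} (ht2 : t * t = 1) (ht1 : t ≠ 1) (c : Ω) : t • c ≠ c := by
  intro hc
  classical
  haveI : Nonempty Ω := ⟨a⟩
  haveI : IsPretransitive G Ω := ⟨fun x y => by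
    by_cases hxy : x = y
    · exact ⟨1, by rw [one_smul, hxy]⟩
    · obtain ⟨g, hg, -⟩ := two_trans hZ hxy (Ne.symm hxy)
      exact ⟨g, hg⟩⟩
  have hn := card_eq_of_two_trans hZ hab
  have hB := Subgroup.card_mul_index (stabilizer G c)
  rw [index_stabilizer_of_transitive] at hB
  have hnpos : 0 < Nat.card Ω := Nat.card_pos
  have hBd : Nat.card (stabilizer G c) = (Nat.card Ω - 1) * Nat.card ↥(stabilizer G a ⊓ stabilizer G b) := by
    have h3 : Nat.card (stabilizer G c) * Nat.card Ω =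
        Nat.card Ω * ((Nat.card Ω - 1) * Nat.card ↥(stabilizer G a ⊓ stabilizer G b)) := by
      rw [hB, hn]
      ring
    rw [mul_comm] at h3
    exact Nat.eq_of_mul_eq_mul_left hnpos h3
  rw [← hBd] at hodd
  obtain ⟨m, hm⟩ := hodd
  have h6 : t ^ Nat.card (stabilizer G c) = 1 := by
    have := pow_card_eq_one' (G := stabilizer G c) (x := ⟨t, hc⟩)
    exact congrArg Subtype.val this
  rw [hm, pow_succ, pow_mul, pow_two, ht2, one_pow, one_mul] at h6
  exact ht1 h6

/-- In coordinates: `|H|` odd, inverted by every swap, and `|F| = 2 |H| + 1` give `G ≃* PSL(2, K)`. -/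
theorem coords_odd [Finite G] [Fintype Ω] (hZ : IsZassenhausGroup G Ω) {a b : Ω} (hab : a ≠ b)
    {F : Subgroup G} (hF : IsRoot F a)
    (hodd : Odd (Nat.card ↥(stabilizer G a ⊓ stabilizer G b)))
    (hinv : ∀ t : G, t • a = b → t • b = a → ∀ h ∈ stabilizer G a ⊓ stabilizer G b,
      t * h * t⁻¹ = h⁻¹)
    {K : Type*} [Field K] [Fintype K] [DecidableEq K]
    (u : K → G) (hmem : ∀ r, u r ∈ F) (hadd : ∀ r r', u (r + r') = u r * u r')
    (hinj : Function.Injective u) (hsurj : ∀ v ∈ F, ∃ r, u r = v)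
    (hlam : ∀ h : G, h • a = a → h • b = b → ∃ y : K, ∀ r, h * u r * h⁻¹ = u (y * r))
    (hK : Fintype.card K = 2 * Nat.card ↥(stabilizer G a ⊓ stabilizer G b) + 1) :
    Nonempty (G ≃* PSL(2, K)) := by
  classical
  set d := Nat.card ↥(stabilizer G a ⊓ stabilizer G b) with hd
  have hdpos : 0 < d := Nat.card_pos
  have hu0 : u 0 = 1 := by
    have := hadd 0 0
    rw [add_zero] at this
    exact (mul_eq_left.mp this.symm)
  have huneg : ∀ r, u (-r) = (u r)⁻¹ := by
    intro r
    apply eq_inv_of_mul_eq_one_left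
    rw [← hadd, neg_add_cancel, hu0]
  have hu1 : u 1 ≠ 1 := fun h => one_ne_zero (hinj (h.trans hu0.symm))
  have hFK : Nat.card F = Fintype.card K := by
    rw [← Nat.card_eq_fintype_card]
    symm
    refine Nat.card_congr (Equiv.ofBijective (fun r : K => (⟨u r, hmem r⟩ : F)) ⟨?_, ?_⟩)
    · intro r r' h
      exact hinj (congrArg Subtype.val h)
    · rintro ⟨v, hv⟩
      obtain ⟨r, rfl⟩ := hsurj v hv
      exact ⟨r, rfl⟩
  have hchar : ringChar K ≠ 2 := by
    intro hc
    have h1 : Even (Fintype.card K) := Nat.even_iff.mpr (FiniteField.even_card_iff_char_two.mp hc)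
    rw [hK] at h1
    exact (Nat.not_even_iff_odd.mpr ⟨d, rfl⟩) h1
  have h2ne : (2 : K) ≠ 0 := Ring.two_ne_zero hchar
  obtain ⟨t, hta, htb⟩ := two_trans hZ hab hab.symm
  have ht2 : t * t = 1 := swap_involution hodd hta htb (hinv t hta htb)
  have ht1 : t ≠ 1 := by
    rintro rfl
    rw [one_smul] at hta
    exact hab hta
  have hΩcard : Nat.card Ω = Fintype.card K + 1 := by
    rw [← hFK]
    exact (hF.card_add_one hab.symm).symm
  have hnofix : ∀ c : Ω, t • c ≠ c := by
    refine no_fix_of_involution hZ hab ?_ ht2 ht1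
    rw [hΩcard, Nat.add_sub_cancel, hK]
    exact Odd.mul ⟨d, rfl⟩ hodd
  -- points
  let pt : K → Ω := fun r => u r • b
  have hpt0 : pt 0 = b := by simp [pt, hu0]
  have hptne : ∀ r, pt r ≠ a := fun r => hF.smul_ne (hmem r) hab.symm
  have hptinj : ∀ r r', pt r = pt r' → r = r' := fun r r' h =>
    hinj (hF.eq_of_smul_eq (hmem r) (hmem r') hab.symm h)
  have hptsurj : ∀ y : Ω, y ≠ a → ∃ r, pt r = y := by
    intro y hy
    obtain ⟨v, hv, hvy⟩ := hF.exists_smul hab.symm hy
    obtain ⟨r, rfl⟩ := hsurj v hv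
    exact ⟨r, hvy⟩
  -- the action of `t`
  have hex : ∀ r : K, r ≠ 0 → ∃ r' : K, r' ≠ 0 ∧ t • pt r = pt r' := by
    intro r hr
    have hne : t • pt r ≠ a := by
      intro hc
      have h1 : t • pt r = t • b := by rw [hc, htb]
      have h2 : pt r = pt 0 := by rw [hpt0]; exact smul_left_cancel t h1
      exact hr (hptinj _ _ h2)
    obtain ⟨r', ht⟩ := hptsurj _ hne
    refine ⟨r', ?_, ht.symm⟩
    rintro rfl
    rw [hpt0] at ht
    have h1 : t • pt r = t • a := by rw [← ht, hta]
    exact hptne r (smul_left_cancel t h1)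
  choose! τ hτ0 hτ using hex
  have hττ : ∀ r, r ≠ 0 → τ (τ r) = r := by
    intro r hr
    apply hptinj
    rw [← hτ _ (hτ0 r hr), ← hτ r hr, ← mul_smul, ht2, one_smul]
  have hτfix : ∀ r, r ≠ 0 → τ r ≠ r := by
    intro r hr he
    apply hnofix (pt r)
    rw [hτ r hr, he]
  -- scalars
  let Sc : K → Prop := fun y => ∃ h : G, h • a = a ∧ h • b = b ∧ ∀ r, h * u r * h⁻¹ = u (y * r)
  have hscpt : ∀ {y h}, h • b = b → (∀ r, h * u r * h⁻¹ = u (y * r)) → ∀ r, h • pt r = pt (y * r) := by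
    intro y h hb he r
    simp only [pt]
    rw [← he, mul_smul, mul_smul, inv_smul_eq_iff.mpr hb.symm]
  have hSc_ne : ∀ {y}, Sc y → y ≠ 0 := by
    rintro y ⟨h, -, -, he⟩ rfl
    have := he 1
    rw [zero_mul, hu0] at this
    apply hu1
    have e : u 1 = h⁻¹ * (h * u 1 * h⁻¹) * h := by group
    rw [e, this]
    group
  have hSc_inv : ∀ {y h}, y ≠ 0 → (∀ r, h * u r * h⁻¹ = u (y * r)) →
      ∀ r, h⁻¹ * u r * h⁻¹⁻¹ = u (y⁻¹ * r) := by
    intro y h hy he r
    have h1 := he (y⁻¹ * r)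
    rw [mul_inv_cancel_left₀ hy] at h1
    rw [← h1]
    group
  -- equivariance
  have hτsc : ∀ {y}, Sc y → ∀ r, r ≠ 0 → τ (y * r) = y⁻¹ * τ r := by
    rintro y hy r hr
    have hy0 := hSc_ne hy
    obtain ⟨h, ha, hb, he⟩ := hy
    apply hptinj
    rw [← hτ _ (mul_ne_zero hy0 hr), ← hscpt hb he r]
    have hbi : h⁻¹ • b = b := inv_smul_eq_iff.mpr hb.symm
    rw [← hscpt hbi (hSc_inv hy0 he) (τ r), ← hτ r hr]
    have e : t * h = h⁻¹ * t := by
      have := hinv t hta htb h (Subgroup.mem_inf.mpr ⟨ha, hb⟩)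
      rw [← this]
      group
    rw [← mul_smul, e, mul_smul]
  -- every scalar is a root of `X^d = 1`
  have hSc_pow : ∀ {y}, Sc y → y ^ d = 1 := by
    rintro y ⟨h, ha, hb, he⟩
    have hhH : h ∈ stabilizer G a ⊓ stabilizer G b := Subgroup.mem_inf.mpr ⟨ha, hb⟩
    have hpow : h ^ d = 1 := by
      have := pow_card_eq_one' (x := (⟨h, hhH⟩ : ↥(stabilizer G a ⊓ stabilizer G b)))
      exact congrArg Subtype.val this
    have hit : ∀ n : ℕ, ∀ r, h ^ n * u r * (h ^ n)⁻¹ = u (y ^ n * r) := by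
      intro n
      induction n with
      | zero => intro r; simp
      | succ n ih =>
        intro r
        have e : h ^ (n + 1) * u r * (h ^ (n + 1))⁻¹ = h * (h ^ n * u r * (h ^ n)⁻¹) * h⁻¹ := by
          rw [pow_succ']; group
        rw [e, ih, he, pow_succ']
        congr 1
        ring
    have h1 := hit d 1
    rw [hpow] at h1
    simp only [one_mul, inv_one, mul_one] at h1
    exact (hinj h1).symm
  -- scalars as a map on `H`
  let HH := ↥(stabilizer G a ⊓ stabilizer G b)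
  have hexy : ∀ h : HH, ∃ y : K, ∀ r, (h : G) * u r * (h : G)⁻¹ = u (y * r) := fun h =>
    hlam h (Subgroup.mem_inf.mp h.2).1 (Subgroup.mem_inf.mp h.2).2
  choose yy hyy using hexy
  have hyySc : ∀ h : HH, Sc (yy h) := fun h =>
    ⟨h, (Subgroup.mem_inf.mp h.2).1, (Subgroup.mem_inf.mp h.2).2, hyy h⟩
  have hyyinj : Function.Injective yy := by
    intro h h' he
    have hb : (h : G) • b = b := (Subgroup.mem_inf.mp h.2).2
    have hb' : (h' : G) • b = b := (Subgroup.mem_inf.mp h'.2).2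
    have ha : (h : G) • a = a := (Subgroup.mem_inf.mp h.2).1
    have ha' : (h' : G) • a = a := (Subgroup.mem_inf.mp h'.2).1
    have e1 : (h : G) • pt 1 = (h' : G) • pt 1 := by
      rw [hscpt hb (hyy h) 1, hscpt hb' (hyy h') 1, he]
    have e2 : ((h' : G)⁻¹ * h) • pt 1 = pt 1 := by
      rw [mul_smul, e1, inv_smul_smul]
    have hpt1 : pt 1 ≠ b := by
      rw [← hpt0]
      intro hc
      exact one_ne_zero (hptinj _ _ hc)
    have e3 := eq_one_of_fix3 hZ (g := (h' : G)⁻¹ * h) (a := a) (b := b) (c := pt 1) hab hpt1.symm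
      (hptne 1).symm (by rw [mul_smul, ha]; exact inv_smul_eq_iff.mpr ha'.symm)
      (by rw [mul_smul, hb]; exact inv_smul_eq_iff.mpr hb'.symm) e2
    apply Subtype.ext
    exact (inv_mul_eq_one.mp e3).symm
  -- all roots are scalars
  have hrootSc : ∀ x : K, x ^ d = 1 → Sc x := by
    have hcardle : Nat.card {x : Kˣ // x ^ d = 1} ≤ d := by
      rw [Nat.card_eq_fintype_card, Fintype.card_subtype]
      exact IsCyclic.card_pow_eq_one_le hdpos
    let f : HH → {x : Kˣ // x ^ d = 1} := fun h =>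
      ⟨Units.mk0 (yy h) (hSc_ne (hyySc h)), Units.ext (by simpa using hSc_pow (hyySc h))⟩
    have hfinj : Function.Injective f := by
      intro h h' he
      apply hyyinj
      have := congrArg (fun x : {x : Kˣ // x ^ d = 1} => ((x : Kˣ) : K)) he
      simpa [f] using this
    have hfbij : Function.Bijective f :=
      hfinj.bijective_of_nat_card_le hcardle
    intro x hx
    have hx0 : x ≠ 0 := by
      rintro rfl
      rw [zero_pow hdpos.ne'] at hx
      exact zero_ne_one hx
    obtain ⟨h, hh⟩ := hfbij.2 ⟨Units.mk0 x hx0, Units.ext (by simpa using hx)⟩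
    have : yy h = x := by
      have := congrArg (fun x : {x : Kˣ // x ^ d = 1} => ((x : Kˣ) : K)) hh
      simpa [f] using this
    rw [← this]
    exact hyySc h
  -- `y^d = ±1`
  have hsqrt : ∀ y : K, y ≠ 0 → y ^ d = 1 ∨ y ^ d = -1 := by
    intro y hy
    have h1 : (y ^ d) ^ 2 = 1 := by
      rw [← pow_mul, mul_comm d 2]
      have := FiniteField.pow_card_sub_one_eq_one y hy
      rwa [hK, Nat.add_sub_cancel] at this
    have h2 : (y ^ d - 1) * (y ^ d + 1) = 0 := by linear_combination h1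
    rcases mul_eq_zero.mp h2 with h3 | h3
    · exact Or.inl (sub_eq_zero.mp h3)
    · exact Or.inr (eq_neg_of_add_eq_zero_left h3)
  have hneg1pow : (-1 : K) ^ d = -1 := hodd.neg_one_pow
  obtain ⟨m, hm⟩ := hodd
  -- the value at `1`
  set w := τ 1 with hw
  have hw0 : w ≠ 0 := hτ0 1 one_ne_zero
  have hwd : w ^ d = -1 := by
    rcases hsqrt w hw0 with h1 | h1
    · exfalso
      let v := w ^ (m + 1)
      have hv2 : v * v = w := by
        have : v * v = w ^ (2 * m + 2) := by
          simp only [v]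
          rw [← pow_add]
          congr 1
          ring
        rw [this, show 2 * m + 2 = d + 1 by omega, pow_succ, h1, one_mul]
      have hvd : v ^ d = 1 := by
        simp only [v]
        rw [← pow_mul, mul_comm, pow_mul, h1, one_pow]
      have hv0 : v ≠ 0 := pow_ne_zero _ hw0
      have h2 := hτsc (hrootSc v hvd) 1 one_ne_zero
      rw [mul_one, ← hw, ← hv2] at h2
      apply hτfix v hv0
      rw [h2]
      field_simp
    · exact h1
  have hnegw : (-w) ^ d = 1 := by
    rw [neg_pow, hneg1pow, hwd]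
    ring
  have hScw := hrootSc (-w) hnegw
  have hτw : τ w = 1 := by
    rw [hw]
    exact hττ 1 one_ne_zero
  have hτneg1 : τ (-1) = -w := by
    have h1 := hτsc hScw (-1) (by simp)
    have h2 : -w * -1 = w := by ring
    rw [h2, hτw] at h1
    have hnw : -w ≠ 0 := neg_ne_zero.mpr hw0
    calc τ (-1) = (-w) * ((-w)⁻¹ * τ (-1)) := by field_simp
      _ = -w := by rw [← h1, mul_one]
  have hτall : ∀ r, r ≠ 0 → τ r = w * r⁻¹ := by
    intro r hr
    rcases hsqrt r hr with h1 | h1
    · have h2 := hτsc (hrootSc r h1) 1 one_ne_zero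
      rw [mul_one] at h2
      rw [h2, ← hw]
      ring
    · have h3 : (-r) ^ d = 1 := by
        rw [neg_pow, hneg1pow, h1]
        ring
      have h2 := hτsc (hrootSc (-r) h3) (-1) (by simp)
      have h4 : -r * -1 = r := by ring
      rw [h4, hτneg1] at h2
      rw [h2, inv_neg]
      ring
  -- assembly
  obtain ⟨h₀, ha₀, hb₀, he₀⟩ := hScw
  have hs : t * h₀ = t * h₀ := rfl
  refine psl_of_coords hZ hab hF u hmem hadd hinj hsurj ?_ (s := t * h₀) ?_ ?_ ?_ ?_
  · intro h ha hb
    let h' : HH := ⟨h, Subgroup.mem_inf.mpr ⟨ha, hb⟩⟩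
    have hsq : IsSquare (yy h') := by
      rw [FiniteField.isSquare_iff hchar (hSc_ne (hyySc h')), hK]
      have : (2 * d + 1) / 2 = d := by omega
      rw [this]
      exact hSc_pow (hyySc h')
    obtain ⟨ρ, hρ⟩ := hsq
    refine ⟨ρ, ?_, fun r => ?_⟩
    · rintro rfl
      rw [mul_zero] at hρ
      exact hSc_ne (hyySc h') hρ
    · rw [pow_two, ← hρ]
      exact hyy h' r
  · rw [mul_smul, ha₀, hta]
  · rw [mul_smul, hb₀, htb]
  · intro r hr
    have h1 : h₀ • pt r = pt (-w * r) := hscpt hb₀ he₀ r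
    have h2 : (t * h₀) • pt r = pt (τ (-w * r)) := by
      rw [mul_smul, h1, hτ _ (mul_ne_zero (neg_ne_zero.mpr hw0) hr)]
    rw [hτall _ (mul_ne_zero (neg_ne_zero.mpr hw0) hr)] at h2
    have h3 : w * (-w * r)⁻¹ = -r⁻¹ := by
      field_simp
    rw [h3] at h2
    exact h2
  · have h1 := card_eq_of_two_trans hZ hab
    have h4 := card_PSL2_of_two_ne_zero h2ne
    rw [hΩcard, Nat.add_sub_cancel] at h1
    rw [← hd] at h1
    set q := Fintype.card K with hq
    have hq2 : q ^ 2 - 1 = 2 * d * (q + 1) := by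
      have : q ^ 2 = 2 * d * (q + 1) + 1 := by rw [hK]; ring
      omega
    rw [hq2] at h4
    have h5 : 2 * Nat.card G = 2 * Nat.card PSL(2, K) := by
      rw [h4, h1]
      ring
    omega

/-- **`|H|` odd, inverted by all swaps, `|F| = 2 |H| + 1`, `F` abelian gives `PSL(2, q)`.** -/
theorem odd_main [Finite G] [Fintype Ω] (hZ : IsZassenhausGroup G Ω) {a b : Ω} (hab : a ≠ b)
    {F : Subgroup G} (hF : IsRoot F a) (hFcomm : ∀ x ∈ F, ∀ y ∈ F, x * y = y * x)
    (hodd : Odd (Nat.card ↥(stabilizer G a ⊓ stabilizer G b)))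
    (hinv : ∀ t : G, t • a = b → t • b = a → ∀ h ∈ stabilizer G a ⊓ stabilizer G b,
      t * h * t⁻¹ = h⁻¹)
    (hd : Fintype.card Ω = 2 * Nat.card ↥(stabilizer G a ⊓ stabilizer G b) + 2) :
    ∃ (K : Type) (_ : Field K) (_ : Fintype K), ringChar K ≠ 2 ∧
      Fintype.card Ω = Fintype.card K + 1 ∧
      Nonempty (G ≃* Matrix.ProjectiveSpecialLinearGroup (Fin 2) K) := by
  classical
  have hFcard : Nat.card F = 2 * Nat.card ↥(stabilizer G a ⊓ stabilizer G b) + 1 := by
    have := hF.card_add_one hab.symm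
    rw [Nat.card_eq_fintype_card (α := Ω), hd] at this
    omega
  obtain ⟨t, hta, htb⟩ := two_trans hZ hab hab.symm
  have hHcomm : ∀ x ∈ stabilizer G a ⊓ stabilizer G b, ∀ y ∈ stabilizer G a ⊓ stabilizer G b,
      x * y = y * x := fun x hx y hy =>
    Cfsg.Agent.Lib.Frobenius.Even.comm_of_inverted (hinv t hta htb) hx hy
  obtain ⟨p, f, K, iF, iK, u, hp, hKp, hKF, hmem, hadd, hinj, hsurj, hlam⟩ :=
    exists_coords hZ hab hF hFcomm hHcomm hFcard
  have hKd : Fintype.card K = 2 * Nat.card ↥(stabilizer G a ⊓ stabilizer G b) + 1 := by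
    rw [hKF, hFcard]
  refine ⟨K, iF, iK, ?_, ?_, coords_odd hZ hab hF hodd hinv u hmem hadd hinj hsurj hlam hKd⟩
  · intro hc
    have h1 : Even (Fintype.card K) := Nat.even_iff.mpr (FiniteField.even_card_iff_char_two.mp hc)
    rw [hKd] at h1
    exact (Nat.not_even_iff_odd.mpr ⟨_, rfl⟩) h1
  · rw [hKd, hd]

/-- Degree `d + 2`: two-point stabilisers are transitive on the remaining points. -/
theorem exists_two_point [Finite G] [Fintype Ω] (hZ : IsZassenhausGroup G Ω) {a b : Ω} (hab : a ≠ b)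
    (hd : Fintype.card Ω = Nat.card ↥(stabilizer G a ⊓ stabilizer G b) + 2)
    {a' b' c c' : Ω} (hab' : a' ≠ b') (hca : c ≠ a') (hcb : c ≠ b') (hca' : c' ≠ a') (hcb' : c' ≠ b') :
    ∃ h : G, h • a' = a' ∧ h • b' = b' ∧ h • c = c' := by
  classical
  haveI : Fintype G := Fintype.ofFinite G
  haveI : Fintype ↥(stabilizer G a' ⊓ stabilizer G b') := Fintype.ofFinite _
  let f : ↥(stabilizer G a' ⊓ stabilizer G b') → {y : Ω // y ≠ a' ∧ y ≠ b'} := fun h =>
    ⟨(h : G) • c, fun he => hca (by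
        have h1 : (h : G) • c = (h : G) • a' := by rw [he, (Subgroup.mem_inf.mp h.2).1]
        exact smul_left_cancel _ h1), fun he => hcb (by
        have h1 : (h : G) • c = (h : G) • b' := by rw [he, (Subgroup.mem_inf.mp h.2).2]
        exact smul_left_cancel _ h1)⟩
  have hfinj : Function.Injective f := by
    intro h h' he
    have he' : (h : G) • c = (h' : G) • c := congrArg Subtype.val he
    have ha : ((h' : G)⁻¹ * h) • a' = a' := by
      rw [mul_smul, (Subgroup.mem_inf.mp h.2).1]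
      exact inv_smul_eq_iff.mpr (Subgroup.mem_inf.mp h'.2).1.symm
    have hb : ((h' : G)⁻¹ * h) • b' = b' := by
      rw [mul_smul, (Subgroup.mem_inf.mp h.2).2]
      exact inv_smul_eq_iff.mpr (Subgroup.mem_inf.mp h'.2).2.symm
    have hc : ((h' : G)⁻¹ * h) • c = c := by
      rw [mul_smul, he', inv_smul_smul]
    have h3 := eq_one_of_fix3 hZ hab' hcb.symm hca.symm ha hb hc
    rw [inv_mul_eq_one] at h3
    exact (Subtype.ext h3).symm
  have hcard1 := card_eq_of_two_trans hZ hab
  have hcard2 := card_eq_of_two_trans hZ hab'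
  have hn : Nat.card Ω = Nat.card ↥(stabilizer G a ⊓ stabilizer G b) + 2 := by
    rw [Nat.card_eq_fintype_card, hd]
  have hcard : Nat.card ↥(stabilizer G a' ⊓ stabilizer G b') =
      Nat.card ↥(stabilizer G a ⊓ stabilizer G b) := by
    rw [hcard1] at hcard2
    have hpos : 0 < Nat.card Ω * (Nat.card Ω - 1) := by
      apply Nat.mul_pos <;> omega
    exact (Nat.eq_of_mul_eq_mul_left hpos hcard2).symm
  have hcard3 : Fintype.card {y : Ω // y ≠ a' ∧ y ≠ b'} =
      Fintype.card ↥(stabilizer G a' ⊓ stabilizer G b') := by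
    rw [Fintype.card_subtype, ← Nat.card_eq_fintype_card (α := ↥(stabilizer G a' ⊓ stabilizer G b')), hcard]
    have h3 : Finset.univ.filter (fun y : Ω => y ≠ a' ∧ y ≠ b') = (Finset.univ.erase a').erase b' := by
      ext y
      simp [and_comm]
    rw [h3, Finset.card_erase_of_mem (by simp [hab'.symm]), Finset.card_erase_of_mem (Finset.mem_univ _),
      Finset.card_univ, hd]
    omega
  have hbij := (Fintype.bijective_iff_injective_and_card f).mpr ⟨hfinj, hcard3.symm⟩
  obtain ⟨h, hh⟩ := hbij.2 ⟨c', hca', hcb'⟩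
  exact ⟨h, (Subgroup.mem_inf.mp h.2).1, (Subgroup.mem_inf.mp h.2).2, congrArg Subtype.val hh⟩

/-- **Degree `d + 2`: sharply triply transitive.** -/
theorem sharp_of_card [Finite G] [Fintype Ω] (hZ : IsZassenhausGroup G Ω) {a b : Ω} (hab : a ≠ b)
    (hd : Fintype.card Ω = Nat.card ↥(stabilizer G a ⊓ stabilizer G b) + 2) :
    MulAction.IsMultiplyPretransitive G Ω 3 ∧ ∀ t : Fin 3 ↪ Ω, stabilizer G t = ⊥ := by
  classical
  have hfix : ∀ (t : Fin 3 ↪ Ω), stabilizer G t = ⊥ := by
    intro t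
    rw [eq_bot_iff]
    intro g hg
    rw [Subgroup.mem_bot]
    have h0 : g • t 0 = t 0 := DFunLike.congr_fun hg 0
    have h1 : g • t 1 = t 1 := DFunLike.congr_fun hg 1
    have h2 : g • t 2 = t 2 := DFunLike.congr_fun hg 2
    exact eq_one_of_fix3 hZ (fun h => by simpa using t.injective h)
      (fun h => by simpa using t.injective h) (fun h => by simpa using t.injective h) h0 h1 h2
  refine ⟨?_, hfix⟩
  show IsPretransitive G (Fin 3 ↪ Ω)
  refine ⟨fun x y => ?_⟩
  have hne : ∀ (t : Fin 3 ↪ Ω) (i j : Fin 3), i ≠ j → t i ≠ t j := fun t i j hij h => hij (t.injective h)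
  obtain ⟨g, hg0, hg1⟩ := two_trans hZ (hne x 0 1 (by decide)) (hne y 0 1 (by decide))
  obtain ⟨h, h0, h1, h2⟩ := exists_two_point hZ hab hd (a' := y 0) (b' := y 1) (c := g • x 2) (c' := y 2)
    (hne y 0 1 (by decide))
    (fun he => hne x 2 0 (by decide) (by
      have : g • x 2 = g • x 0 := by rw [he, hg0]
      exact smul_left_cancel _ this))
    (fun he => hne x 2 1 (by decide) (by
      have : g • x 2 = g • x 1 := by rw [he, hg1]
      exact smul_left_cancel _ this))
    (hne y 2 0 (by decide)) (hne y 2 1 (by decide))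
  refine ⟨h * g, ?_⟩
  ext i
  fin_cases i
  · show (h * g) • x 0 = y 0
    rw [mul_smul, hg0, h0]
  · show (h * g) • x 1 = y 1
    rw [mul_smul, hg1, h1]
  · show (h * g) • x 2 = y 2
    rw [mul_smul, h2]

end Cfsg.Agent.Lib.Perm.ZassTwo
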