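import Mathlib
import Cfsg.Agent.Lib.PSL2.Basic

/-!
# Recognising `PSL(2, K)` from its action on the projective line

If a finite group `G` acts faithfully on a set identified with `OnePoint K`, each element acting as
a Möbius map of determinant one, and `|G| = |PSL(2, K)|`, then `G ≃* PSL(2, K)`.
-/

set_option autoImplicit false
set_option linter.style.haveILetI false

namespace Cfsg.Agent.Lib.Perm.ZassPSL

open Matrix Matrix.SpecialLinearGroup OnePoint Cfsg.Agent.Lib.PSL2.Basic
open scoped MatrixGroups

variable {K : Type*} [Field K] [DecidableEq K]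

/-- The Möbius action of `SL(2, K)` on `OnePoint K`. -/
noncomputable abbrev act (m : SL(2, K)) (x : OnePoint K) : OnePoint K := (toGL m) • x

theorem act_mul (m n : SL(2, K)) (x : OnePoint K) : act (m * n) x = act m (act n x) := by
  simp [act, mul_smul]

theorem act_one (x : OnePoint K) : act (1 : SL(2, K)) x = x := by
  simp [act]

theorem act_infty (m : SL(2, K)) :
    act m (∞ : OnePoint K) = if m.1 1 0 = 0 then ∞ else ((m.1 0 0 / m.1 1 0 : K) : OnePoint K) := by
  exact OnePoint.smul_infty_eq_ite (toGL m)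

theorem act_coe (m : SL(2, K)) (k : K) :
    act m (k : OnePoint K) = if m.1 1 0 * k + m.1 1 1 = 0 then ∞
      else (((m.1 0 0 * k + m.1 0 1) / (m.1 1 0 * k + m.1 1 1) : K) : OnePoint K) := by
  exact OnePoint.smul_some_eq_ite (g := toGL m)

theorem act_x_infty (c : K) : act (x c) (∞ : OnePoint K) = ∞ := by
  rw [act_infty]; simp

theorem act_x_coe (c k : K) : act (x c) (k : OnePoint K) = ((k + c : K) : OnePoint K) := by
  rw [act_coe]; simp

theorem act_d_infty (ρ : K) (h : ρ ≠ 0) : act (d ρ h) (∞ : OnePoint K) = ∞ := by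
  rw [act_infty]; simp

theorem act_d_coe (ρ : K) (h : ρ ≠ 0) (k : K) :
    act (d ρ h) (k : OnePoint K) = ((ρ ^ 2 * k : K) : OnePoint K) := by
  rw [act_coe]
  have h1 : ρ⁻¹ ≠ 0 := inv_ne_zero h
  simp only [d_10, zero_mul, zero_add, d_11, h1, if_false, d_00, d_01, add_zero]
  congr 1
  field_simp

theorem act_w_infty : act (w : SL(2, K)) (∞ : OnePoint K) = ((0 : K) : OnePoint K) := by
  rw [act_infty]; simp

theorem act_w_zero : act (w : SL(2, K)) ((0 : K) : OnePoint K) = ∞ := by
  rw [act_coe]; simp

theorem act_w_coe {k : K} (hk : k ≠ 0) :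
    act (w : SL(2, K)) (k : OnePoint K) = ((-k⁻¹ : K) : OnePoint K) := by
  rw [act_coe]
  simp only [w_10, w_11, w_00, w_01, add_zero, zero_mul, zero_add, mul_neg, mul_one, neg_mul, one_mul]
  rw [if_neg (neg_ne_zero.mpr hk)]
  congr 1
  field_simp

/-- An element of `SL(2, K)` acting trivially on the line is `±1`. -/
theorem mkP_eq_one_of_act (m : SL(2, K)) (h : ∀ x : OnePoint K, act m x = x) : mkP m = 1 := by
  have h10 : m.1 1 0 = 0 := by
    have := h ∞
    rw [act_infty] at this
    by_contra hc
    simp [hc] at this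
  have hdet := det_entries m
  rw [h10, mul_zero, sub_zero] at hdet
  have h11 : m.1 1 1 ≠ 0 := right_ne_zero_of_mul_eq_one hdet
  have h01 : m.1 0 1 = 0 := by
    have := h ((0 : K) : OnePoint K)
    rw [act_coe] at this
    simp only [h10, zero_mul, zero_add, h11, if_false, mul_zero] at this
    have h2 := OnePoint.coe_injective this
    rw [div_eq_zero_iff] at h2
    exact h2.resolve_right h11
  have h00 : m.1 0 0 = m.1 1 1 := by
    have := h ((1 : K) : OnePoint K)
    rw [act_coe] at this
    simp only [h10, zero_mul, zero_add, h11, if_false, mul_one, h01, add_zero] at this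
    have h2 := OnePoint.coe_injective this
    rwa [div_eq_one_iff_eq h11] at h2
  have hsq : (m.1 0 0 - 1) * (m.1 0 0 + 1) = 0 := by
    have : m.1 0 0 * m.1 0 0 = 1 := by
      conv_lhs => rw [h00]
      rw [h00] at hdet
      exact hdet
    linear_combination this
  have h1 : (mkP (1 : SL(2, K))) = mkP m := by
    rw [mkP_eq_iff]
    rcases mul_eq_zero.mp hsq with h2 | h2
    · left
      have e0 : m.1 0 0 = 1 := sub_eq_zero.mp h2
      apply ext2 <;> simp [e0, ← h00, h01, h10]
    · right
      have e0 : m.1 0 0 = -1 := eq_neg_of_add_eq_zero_left h2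
      apply ext2 <;> simp [e0, ← h00, h01, h10]
  rw [← h1, map_one]

/-- `±1` act trivially on the line. -/
theorem act_eq_of_mkP (m : SL(2, K)) (h : mkP m = 1) (x : OnePoint K) : act m x = x := by
  have h1 : mkP (1 : SL(2, K)) = mkP m := by rw [h, map_one]
  rw [mkP_eq_iff] at h1
  rcases h1 with rfl | rfl
  · exact act_one x
  · cases x with
    | infty => rw [act_infty]; simp
    | coe k =>
      rw [act_coe]
      have : (-1 : K) ≠ 0 := neg_ne_zero.mpr one_ne_zero
      simp [this]

/-- **Recognition of `PSL(2, K)`.** -/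
theorem nonempty_equiv_psl {G Ω : Type*} [Group G] [Finite G] [MulAction G Ω] [FaithfulSMul G Ω]
    [Fintype K] (π : OnePoint K ≃ Ω)
    (hg : ∀ g : G, ∃ m : SL(2, K), ∀ x, g • π x = π (act m x))
    (hcard : Nat.card G = Nat.card PSL(2, K)) : Nonempty (G ≃* PSL(2, K)) := by
  classical
  choose m hm using hg
  have hmul : ∀ g g' : G, mkP (m (g * g')) = mkP (m g) * mkP (m g') := by
    intro g g'
    have h1 : ∀ x, act (m (g * g')) x = act (m g * m g') x := by
      intro x
      apply π.injective
      rw [← hm, mul_smul, hm, hm, act_mul]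
    have h2 : mkP ((m g * m g')⁻¹ * m (g * g')) = 1 := by
      apply mkP_eq_one_of_act
      intro x
      rw [act_mul, h1, ← act_mul, inv_mul_cancel, act_one]
    rw [map_mul, map_inv, map_mul, inv_mul_eq_one] at h2
    rw [← h2]
  let φ : G →* PSL(2, K) := MonoidHom.mk' (fun g => mkP (m g)) hmul
  have hinj : Function.Injective φ := by
    rw [injective_iff_map_eq_one]
    intro g hg
    have h1 : mkP (m g) = 1 := hg
    apply FaithfulSMul.eq_of_smul_eq_smul (α := Ω)
    intro y
    obtain ⟨x, rfl⟩ := π.surjective y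
    rw [hm, act_eq_of_mkP _ h1, one_smul]
  have hbij : Function.Bijective φ := (Nat.bijective_iff_injective_and_card φ).mpr ⟨hinj, hcard⟩
  exact ⟨MulEquiv.ofBijective φ hbij⟩

end Cfsg.Agent.Lib.Perm.ZassPSL
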