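import Cfsg.Agent.Lib.Perm.ZassCore
import Cfsg.Agent.Lib.Perm.ZassEven
import Cfsg.Agent.Lib.Perm.ZassPSL
import Cfsg.Agent.Lib.Perm.ZassField

/-!
# Zassenhaus groups with `|F| = 2 |H| + 1`, `|H|` even: the group is `PSL(2, q)`

Every element interchanging `a, b` is an involution of the form `μ(u)`, hence `H` is abelian.
The subring generated by `H` in `End(F)` is a field `K`, with `F ≃ K`, and in these coordinates `H`
consists of the multiplications by squares and `s` is `x ↦ -1/x`.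
-/

set_option autoImplicit false
set_option linter.style.haveILetI false
set_option linter.deprecated false

namespace Cfsg.Agent.Lib.Perm.ZassTwo

open MulAction Cfsg Cfsg.Agent.Lib.Perm.ZassCore Cfsg.Agent.Lib.Perm.ZassEven
  Cfsg.Agent.Lib.Perm.ZassPSL Cfsg.Agent.Lib.PSL2.Basic Matrix Matrix.SpecialLinearGroup OnePoint
open scoped MatrixGroups

variable {G Ω : Type*} [Group G] [MulAction G Ω]

/-- Final assembly: if in coordinates `F`, the two-point stabiliser and `s` act by Möbius maps,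
and `|G| = |PSL(2, K)|`, then `G ≃* PSL(2, K)`. -/
theorem psl_of_coords [Finite G] (hZ : IsZassenhausGroup G Ω) {a b : Ω} (hab : a ≠ b)
    {F : Subgroup G} (hF : IsRoot F a) {K : Type*} [Field K] [Fintype K] [DecidableEq K]
    (u : K → G) (hmem : ∀ r, u r ∈ F) (hadd : ∀ r r', u (r + r') = u r * u r')
    (hinj : Function.Injective u) (hsurj : ∀ v ∈ F, ∃ r, u r = v)
    (hH : ∀ h : G, h • a = a → h • b = b → ∃ ρ : K, ρ ≠ 0 ∧ ∀ r, h * u r * h⁻¹ = u (ρ ^ 2 * r))
    {s : G} (hsa : s • a = b) (hsb : s • b = a) (hs : ∀ r, r ≠ 0 → s • (u r • b) = u (-r⁻¹) • b)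
    (hcard : Nat.card G = Nat.card PSL(2, K)) : Nonempty (G ≃* PSL(2, K)) := by
  classical
  have hu0 : u 0 = 1 := by
    have := hadd 0 0
    rw [add_zero] at this
    exact (mul_eq_left.mp this.symm)
  let πf : OnePoint K → Ω := fun x => Option.elim (x : Option K) a (fun k => u k • b)
  have hπi : πf ∞ = a := rfl
  have hπk : ∀ k : K, πf (k : OnePoint K) = u k • b := fun k => rfl
  have hbij : Function.Bijective πf := by
    constructor
    · intro x y hxy
      cases x with
      | infty =>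
        cases y with
        | infty => rfl
        | coe k =>
          exfalso
          rw [hπi, hπk] at hxy
          exact hF.smul_ne (hmem k) hab.symm hxy.symm
      | coe k =>
        cases y with
        | infty =>
          exfalso
          rw [hπi, hπk] at hxy
          exact hF.smul_ne (hmem k) hab.symm hxy
        | coe l =>
          rw [hπk, hπk] at hxy
          rw [hinj (hF.eq_of_smul_eq (hmem k) (hmem l) hab.symm hxy)]
    · intro y
      by_cases hy : y = a
      · exact ⟨∞, hy.symm⟩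
      · obtain ⟨v, hv, hvy⟩ := hF.exists_smul hab.symm hy
        obtain ⟨r, rfl⟩ := hsurj v hv
        exact ⟨(r : OnePoint K), hvy⟩
  let π : OnePoint K ≃ Ω := Equiv.ofBijective πf hbij
  have hπ : ∀ x, π x = πf x := fun x => rfl
  -- Möbius elements
  let Mob : G → Prop := fun g => ∃ m : SL(2, K), ∀ x, g • π x = π (act m x)
  have hMobmul : ∀ g g', Mob g → Mob g' → Mob (g * g') := by
    rintro g g' ⟨m, hm⟩ ⟨m', hm'⟩
    exact ⟨m * m', fun x => by rw [mul_smul, hm', hm, act_mul]⟩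
  have hMobu : ∀ c, Mob (u c) := by
    intro c
    refine ⟨x c, fun y => ?_⟩
    cases y with
    | infty =>
      rw [act_x_infty, hπ, hπi]
      exact hF.le _ (hmem c)
    | coe k =>
      rw [act_x_coe, hπ, hπ, hπk, hπk, ← mul_smul, ← hadd, add_comm]
  have hMobH : ∀ h : G, h • a = a → h • b = b → Mob h := by
    intro h ha hb
    obtain ⟨ρ, hρ, hρe⟩ := hH h ha hb
    refine ⟨d ρ hρ, fun y => ?_⟩
    cases y with
    | infty =>
      rw [act_d_infty, hπ, hπi]
      exact ha
    | coe k =>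
      rw [act_d_coe, hπ, hπ, hπk, hπk, ← hρe]
      simp only [mul_smul]
      rw [inv_smul_eq_iff.mpr hb.symm]
  have hMobs : Mob s := by
    refine ⟨w, fun y => ?_⟩
    cases y with
    | infty =>
      rw [act_w_infty, hπ, hπ, hπi, hπk, hu0, one_smul]
      exact hsa
    | coe k =>
      by_cases hk : k = 0
      · subst hk
        rw [act_w_zero, hπ, hπ, hπi, hπk, hu0, one_smul]
        exact hsb
      · rw [act_w_coe hk, hπ, hπ, hπk, hπk]
        exact hs k hk
  have hstab : ∀ g : G, g • a = a → Mob g := by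
    intro g hg
    have hgb : g • b ≠ a := by
      intro hc
      apply hab
      have : g • b = g • a := by rw [hc, hg]
      exact (smul_left_cancel g this).symm
    obtain ⟨v, hv, hvb⟩ := hF.exists_smul hab.symm hgb
    obtain ⟨c, rfl⟩ := hsurj v hv
    have h1 : g = u c * ((u c)⁻¹ * g) := by group
    rw [h1]
    apply hMobmul _ _ (hMobu c)
    apply hMobH
    · rw [mul_smul, hg]
      exact inv_smul_eq_iff.mpr (hF.le _ (hmem c)).symm
    · rw [mul_smul, ← hvb, inv_smul_smul]
  have hall : ∀ g : G, Mob g := by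
    intro g
    by_cases hg : g • a = a
    · exact hstab g hg
    · obtain ⟨v, hv, hvb⟩ := hF.exists_smul hab.symm hg
      obtain ⟨c, rfl⟩ := hsurj v hv
      have h1 : g = u c * (s * (s⁻¹ * (u c)⁻¹ * g)) := by group
      rw [h1]
      apply hMobmul _ _ (hMobu c)
      apply hMobmul _ _ hMobs
      apply hstab
      simp only [mul_smul]
      rw [← hvb, inv_smul_smul]
      exact inv_smul_eq_iff.mpr hsa.symm
  haveI := hZ.1
  exact nonempty_equiv_psl π hall hcard

/-- The order of a group acting sharply on ordered pairs modulo the two-point stabiliser. -/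
theorem card_eq_of_two_trans [Finite G] [Finite Ω] (hZ : IsZassenhausGroup G Ω) {a b : Ω}
    (hab : a ≠ b) :
    Nat.card G = Nat.card Ω * (Nat.card Ω - 1) * Nat.card ↥(stabilizer G a ⊓ stabilizer G b) := by
  classical
  haveI := Fintype.ofFinite Ω
  haveI : IsPretransitive G (Fin 2 ↪ Ω) := hZ.2.1
  let e : Fin 2 ↪ Ω := ⟨![a, b], by
    intro i j hij
    fin_cases i <;> fin_cases j <;> simp_all⟩
  have hstab : stabilizer G e = stabilizer G a ⊓ stabilizer G b := by
    ext g
    rw [Subgroup.mem_inf, mem_stabilizer_iff, mem_stabilizer_iff, mem_stabilizer_iff]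
    constructor
    · intro h
      exact ⟨DFunLike.congr_fun h 0, DFunLike.congr_fun h 1⟩
    · rintro ⟨h0, h1⟩
      ext i
      fin_cases i
      · exact h0
      · exact h1
  have h1 := Subgroup.card_mul_index (stabilizer G e)
  rw [index_stabilizer_of_transitive, hstab] at h1
  have h2 : Nat.card (Fin 2 ↪ Ω) = Nat.card Ω * (Nat.card Ω - 1) := by
    simp only [Nat.card_eq_fintype_card, Fintype.card_embedding_eq, Fintype.card_fin]
    have hpos : 0 < Fintype.card Ω := Fintype.card_pos_iff.mpr ⟨a⟩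
    rw [Nat.descFactorial_succ, Nat.descFactorial_one]
    ring
  rw [← h1, h2]
  ring

section Even

variable {F : Subgroup G} {a b : Ω} {z : G}

/-- Uniqueness of the involution of the two-point stabiliser. -/
theorem involution_unique [Finite G] (hZ : IsZassenhausGroup G Ω) (hab : a ≠ b) (hF : IsRoot F a)
    (hza : z • a = a) (hzb : z • b = b) (hz1 : z ≠ 1) (hz2 : z * z = 1) {u₁ : G} (hu₁ : u₁ ∈ F)
    (hu₁1 : u₁ ≠ 1) {z' : G} (hza' : z' • a = a) (hzb' : z' • b = b) (hz1' : z' ≠ 1)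
    (hz2' : z' * z' = 1) : z' = z := by
  have h1 := inverts_root hZ hF hab.symm hza hzb hz1 hz2 hu₁
  have h2 := inverts_root hZ hF hab.symm hza' hzb' hz1' hz2' hu₁
  have h3 : (z' * z) * u₁ = u₁ * (z' * z) := by
    have h4 : z' * z * u₁ * (z' * z)⁻¹ = u₁ := by
      calc z' * z * u₁ * (z' * z)⁻¹ = z' * (z * u₁ * z⁻¹) * z'⁻¹ := by group
        _ = z' * u₁⁻¹ * z'⁻¹ := by rw [h1]
        _ = (z' * u₁ * z'⁻¹)⁻¹ := by group
        _ = u₁ := by rw [h2]; group
    rw [mul_inv_eq_iff_eq_mul] at h4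
    exact h4
  have h5 : (z' * z) • (u₁ • b) = u₁ • b := by
    rw [← mul_smul, h3, mul_smul]
    congr 1
    rw [mul_smul, hzb, hzb']
  have h6 : z' * z = 1 := eq_one_of_fix3 hZ (a := a) (b := b) (c := u₁ • b) hab
    (hF.smul_ne_self hu₁ hu₁1 hab.symm).symm (hF.smul_ne hu₁ hab.symm).symm
    (by rw [mul_smul, hza, hza']) (by rw [mul_smul, hzb, hzb']) h5
  have h7 : z' = z⁻¹ := eq_inv_of_mul_eq_one_left h6
  rw [h7]
  exact inv_eq_of_mul_eq_one_left hz2

/-- An element `w` of `F_b u F_b` interchanging `a, b` is an involution of the form `β u β` and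
sends `u b` to `u⁻¹ b`. -/
theorem mu_involution [Finite G] (hZ : IsZassenhausGroup G Ω) (hab : a ≠ b) (hF : IsRoot F a)
    {Fb : Subgroup G} (hFb : IsRoot Fb b) (hza : z • a = a) (hzb : z • b = b) (hz1 : z ≠ 1)
    (hz2 : z * z = 1) {u w β₁ β₂ : G} (hu : u ∈ F) (hu1 : u ≠ 1) (hβ₁ : β₁ ∈ Fb) (hβ₂ : β₂ ∈ Fb)
    (hw : w = β₁ * u * β₂) (hwa : w • a = b) (hwb : w • b = a) :
    w * w = 1 ∧ w • (u • b) = u⁻¹ • b := by
  have hzF : ∀ v ∈ F, z * v * z⁻¹ = v⁻¹ := fun v hv => inverts_root hZ hF hab.symm hza hzb hz1 hz2 hv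
  have hzFb : ∀ v ∈ Fb, z * v * z⁻¹ = v⁻¹ := fun v hv => inverts_root hZ hFb hab hzb hza hz1 hz2 hv
  -- `w` commutes with `z`
  have hwz : w * z * w⁻¹ = z := by
    have hwinva : w⁻¹ • a = b := inv_smul_eq_iff.mpr hwb.symm
    have hwinvb : w⁻¹ • b = a := inv_smul_eq_iff.mpr hwa.symm
    apply involution_unique hZ hab hF hza hzb hz1 hz2 hu hu1
    · simp only [mul_smul]
      rw [hwinva, hzb, hwb]
    · simp only [mul_smul]
      rw [hwinvb, hza, hwa]
    · intro h
      have : z = 1 := by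
        have h1 : z = w⁻¹ * (w * z * w⁻¹) * w := by group
        rw [h1, h]
        group
      exact hz1 this
    · calc w * z * w⁻¹ * (w * z * w⁻¹) = w * (z * z) * w⁻¹ := by group
        _ = 1 := by rw [hz2]; group
  have hzw : z * w * z⁻¹ = w := by
    have h1 : z⁻¹ = z := inv_eq_of_mul_eq_one_left hz2
    have h2 : w * z = z * w := by
      rw [mul_inv_eq_iff_eq_mul] at hwz
      exact hwz
    rw [h1, ← h2, mul_assoc, hz2, mul_one]
  have hw1 : w = β₁⁻¹ * u⁻¹ * β₂⁻¹ := by
    have h1 : z * (β₁ * u * β₂) * z⁻¹ = (z * β₁ * z⁻¹) * (z * u * z⁻¹) * (z * β₂ * z⁻¹) := by group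
    rw [← hzw, hw, h1, hzFb β₁ hβ₁, hzF u hu, hzFb β₂ hβ₂]
  have hw2 : w⁻¹ = β₂⁻¹ * u⁻¹ * β₁⁻¹ := by
    rw [hw]; group
  have hwinva : w⁻¹ • a = b := inv_smul_eq_iff.mpr hwb.symm
  have hwinvb : w⁻¹ • b = a := inv_smul_eq_iff.mpr hwa.symm
  obtain ⟨e1, e2⟩ := mu_unique hF hFb hab (F.inv_mem hu) (inv_ne_one.mpr hu1)
    (Fb.inv_mem hβ₁) (Fb.inv_mem hβ₂) (Fb.inv_mem hβ₂) (Fb.inv_mem hβ₁) hw1 hw2 hwa hwb hwinva hwinvb
  have e3 : β₁ = β₂ := inv_injective e1
  subst e3
  have hwinv : w⁻¹ = w := by rw [hw2, hw1]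
  refine ⟨by nth_rewrite 1 [← hwinv]; exact inv_mul_cancel w, ?_⟩
  have h1 : β₁ • (u • b) = a := by
    have : w • b = (β₁ * u * β₁) • b := by rw [hw]
    rw [hwb] at this
    simp only [mul_smul] at this
    rw [hFb.le β₁ hβ₁] at this
    exact this.symm
  have h2 : u⁻¹ • b = β₁ • a := by
    have : w • a = (β₁ * u * β₁) • a := by rw [hw]
    rw [hwa] at this
    simp only [mul_smul] at this
    have h3 : u • (β₁ • a) = b := by
      have h4 : β₁⁻¹ • b = b := inv_smul_eq_iff.mpr (hFb.le β₁ hβ₁).symm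
      rw [← h4]
      exact eq_inv_smul_iff.mpr this.symm
    exact (inv_smul_eq_iff.mpr h3.symm)
  rw [hw]
  simp only [mul_smul]
  rw [h1, hF.le u hu, h2]

/-- When `|F| = 2 |H| + 1` every element interchanging `a` and `b` is some `μ(u)`. -/
theorem exists_mu [Finite G] [Fintype Ω] (hZ : IsZassenhausGroup G Ω) (hab : a ≠ b)
    (hF : IsRoot F a) {Fb : Subgroup G} (hFb : IsRoot Fb b) (hza : z • a = a) (hzb : z • b = b)
    (hz1 : z ≠ 1) (hz2 : z * z = 1)
    (hcard : Nat.card F = 2 * Nat.card ↥(stabilizer G a ⊓ stabilizer G b) + 1)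
    {w : G} (hwa : w • a = b) (hwb : w • b = a) :
    ∃ u ∈ F, u ≠ 1 ∧ ∃ β₁ ∈ Fb, ∃ β₂ ∈ Fb, w = β₁ * u * β₂ := by
  classical
  haveI := Fintype.ofFinite G
  have hzF : ∀ v ∈ F, z * v * z⁻¹ = v⁻¹ := fun v hv => inverts_root hZ hF hab.symm hza hzb hz1 hz2 hv
  have hzFb : ∀ v ∈ Fb, z * v * z⁻¹ = v⁻¹ := fun v hv => inverts_root hZ hFb hab hzb hza hz1 hz2 hv
  have hex : ∀ u : G, ∃ w : G, (u ∈ F ∧ u ≠ 1) → (w • a = b ∧ w • b = a ∧
      ∃ β₁ ∈ Fb, ∃ β₂ ∈ Fb, w = β₁ * u * β₂) := by
    intro u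
    by_cases hu : u ∈ F ∧ u ≠ 1
    · obtain ⟨w, hw⟩ := mu_exists hF hFb hab hu.1 hu.2
      exact ⟨w, fun _ => hw⟩
    · exact ⟨1, fun h => absurd h hu⟩
  choose f hf using hex
  let A : Finset G := Finset.univ.filter (fun u => u ∈ F ∧ u ≠ 1)
  let S : Finset G := Finset.univ.filter (fun w => w • a = b ∧ w • b = a)
  have hcardS : S.card = Nat.card ↥(stabilizer G a ⊓ stabilizer G b) := by
    rw [← card_swap hwa hwb, Nat.card_eq_fintype_card, Fintype.card_subtype]
  have hcardA : A.card + 1 = Nat.card F := by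
    rw [Nat.card_eq_fintype_card, Fintype.card_subtype]
    have : Finset.univ.filter (fun u => u ∈ F) = insert 1 A := by
      ext u
      simp only [Finset.mem_filter, Finset.mem_univ, true_and, Finset.mem_insert, A]
      constructor
      · intro hu
        by_cases h : u = 1
        · exact Or.inl h
        · exact Or.inr ⟨hu, h⟩
      · rintro (rfl | h)
        · exact F.one_mem
        · exact h.1
    rw [this, Finset.card_insert_of_notMem]
    simp [A]
  have hle : A.card ≤ 2 * (A.image f).card := by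
    apply Finset.card_le_mul_card_image
    intro w hw
    by_cases hne : (A.filter (fun u => f u = w)).Nonempty
    · obtain ⟨u, hu⟩ := hne
      rw [Finset.mem_filter] at hu
      have hsub : A.filter (fun u => f u = w) ⊆ {u, u⁻¹} := by
        intro v hv
        rw [Finset.mem_filter] at hv
        have huA : u ∈ F ∧ u ≠ 1 := by simpa [A] using hu.1
        have hvA : v ∈ F ∧ v ≠ 1 := by simpa [A] using hv.1
        obtain ⟨-, -, β₁, hβ₁, β₂, hβ₂, e1⟩ := hf u huA
        obtain ⟨-, -, β₁', hβ₁', β₂', hβ₂', e2⟩ := hf v hvA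
        have e3 : β₁ * u * β₂ = β₁' * v * β₂' := by
          rw [← e1, ← e2, hu.2, hv.2]
        have := mu_fiber hF hFb hab hzF hzFb huA.1 hvA.1 hβ₁ hβ₂ hβ₁' hβ₂' e3
        simpa using this
      exact (Finset.card_le_card hsub).trans Finset.card_le_two
    · rw [Finset.not_nonempty_iff_eq_empty] at hne
      rw [hne]
      simp
  have himg : A.image f ⊆ S := by
    intro w hw
    obtain ⟨u, hu, rfl⟩ := Finset.mem_image.mp hw
    have huA : u ∈ F ∧ u ≠ 1 := by simpa [A] using hu
    obtain ⟨h1, h2, -⟩ := hf u huA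
    simp only [S, Finset.mem_filter, Finset.mem_univ, true_and]
    exact ⟨h1, h2⟩
  have heq : A.image f = S := by
    apply Finset.eq_of_subset_of_card_le himg
    omega
  have hwS : w ∈ S := by
    simp only [S, Finset.mem_filter, Finset.mem_univ, true_and]
    exact ⟨hwa, hwb⟩
  rw [← heq] at hwS
  obtain ⟨u, hu, rfl⟩ := Finset.mem_image.mp hwS
  have huA : u ∈ F ∧ u ≠ 1 := by simpa [A] using hu
  obtain ⟨-, -, h⟩ := hf u huA
  exact ⟨u, huA.1, huA.2, h⟩

end Even

end Cfsg.Agent.Lib.Perm.ZassTwo
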