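import Cfsg.Agent.Lib.Perm.ZassTwo

/-!
# Zassenhaus groups with `|F| = 2 |H| + 1`, `|H|` even: computation in coordinates
-/

set_option autoImplicit false
set_option linter.style.haveILetI false
set_option linter.deprecated false

namespace Cfsg.Agent.Lib.Perm.ZassTwo

open MulAction Cfsg Cfsg.Agent.Lib.Perm.ZassCore Cfsg.Agent.Lib.Perm.ZassEven
  Cfsg.Agent.Lib.Perm.ZassPSL Cfsg.Agent.Lib.PSL2.Basic Matrix Matrix.SpecialLinearGroup OnePoint
open scoped MatrixGroups

variable {G Ω : Type*} [Group G] [MulAction G Ω]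

/-- In coordinates: `|H|` even and `|F| = 2 |H| + 1` give `G ≃* PSL(2, K)`. -/
theorem coords_even [Finite G] [Fintype Ω] (hZ : IsZassenhausGroup G Ω) {a b : Ω} (hab : a ≠ b)
    {F : Subgroup G} (hF : IsRoot F a) {z : G} (hza : z • a = a) (hzb : z • b = b) (hz1 : z ≠ 1)
    (hz2 : z * z = 1) {K : Type*} [Field K] [Fintype K] [DecidableEq K]
    (u : K → G) (hmem : ∀ r, u r ∈ F) (hadd : ∀ r r', u (r + r') = u r * u r')
    (hinj : Function.Injective u) (hsurj : ∀ v ∈ F, ∃ r, u r = v)
    (hlam : ∀ h : G, h • a = a → h • b = b → ∃ y : K, ∀ r, h * u r * h⁻¹ = u (y * r))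
    (hK : Fintype.card K = 2 * Nat.card ↥(stabilizer G a ⊓ stabilizer G b) + 1) :
    Nonempty (G ≃* PSL(2, K)) := by
  classical
  set d := Nat.card ↥(stabilizer G a ⊓ stabilizer G b) with hd
  have hdpos : 0 < d := Nat.card_pos
  have hu0 : u 0 = 1 := by
    have := hadd 0 0
    rw [add_zero] at this
    exact (mul_eq_left.mp this.symm)
  have huneg : ∀ r, u (-r) = (u r)⁻¹ := by
    intro r
    apply eq_inv_of_mul_eq_one_left
    rw [← hadd, neg_add_cancel, hu0]
  have hu1 : u 1 ≠ 1 := fun h => one_ne_zero (hinj (h.trans hu0.symm))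
  have hFK : Nat.card F = Fintype.card K := by
    rw [← Nat.card_eq_fintype_card]
    symm
    refine Nat.card_congr (Equiv.ofBijective (fun r : K => (⟨u r, hmem r⟩ : F)) ⟨?_, ?_⟩)
    · intro r r' h
      exact hinj (congrArg Subtype.val h)
    · rintro ⟨v, hv⟩
      obtain ⟨r, rfl⟩ := hsurj v hv
      exact ⟨r, rfl⟩
  have hchar : ringChar K ≠ 2 := by
    intro hc
    have h1 : Even (Fintype.card K) := Nat.even_iff.mpr (FiniteField.even_card_iff_char_two.mp hc)
    rw [hK] at h1
    exact (Nat.not_even_iff_odd.mpr ⟨d, rfl⟩) h1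
  have h2ne : (2 : K) ≠ 0 := Ring.two_ne_zero hchar
  obtain ⟨s₀, hs₀a, hs₀b⟩ := two_trans hZ hab hab.symm
  have hFb : IsRoot (F.map (MulAut.conj s₀).toMonoidHom) b := by
    have := hF.conj s₀
    rwa [hs₀a] at this
  set Fb := F.map (MulAut.conj s₀).toMonoidHom with hFbdef
  obtain ⟨s, hsa, hsb, β₁, hβ₁, β₂, hβ₂, hse⟩ := mu_exists hF hFb hab (hmem 1) hu1
  obtain ⟨hs2, hs1⟩ := mu_involution hZ hab hF hFb hza hzb hz1 hz2 (hmem 1) hu1 hβ₁ hβ₂ hse hsa hsb
  have hFcard : Nat.card F = 2 * d + 1 := by rw [hFK, hK]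
  have hinvol : ∀ w : G, w • a = b → w • b = a → w * w = 1 := by
    intro w hwa hwb
    obtain ⟨v, hv, hv1, γ₁, hγ₁, γ₂, hγ₂, hwe⟩ := exists_mu hZ hab hF hFb hza hzb hz1 hz2 hFcard hwa hwb
    exact (mu_involution hZ hab hF hFb hza hzb hz1 hz2 hv hv1 hγ₁ hγ₂ hwe hwa hwb).1
  have hsinv : s⁻¹ = s := inv_eq_of_mul_eq_one_left hs2
  have hinv : ∀ h : G, h • a = a → h • b = b → s * h * s = h⁻¹ := by
    intro h ha hb
    have h1 := hinvol (s * h) (by rw [mul_smul, ha, hsa]) (by rw [mul_smul, hb, hsb])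
    apply eq_inv_of_mul_eq_one_left
    calc s * h * s * h = s * h * (s * h) := by group
      _ = 1 := h1
  -- points
  let pt : K → Ω := fun r => u r • b
  have hpt0 : pt 0 = b := by simp [pt, hu0]
  have hptne : ∀ r, pt r ≠ a := fun r => hF.smul_ne (hmem r) hab.symm
  have hptinj : ∀ r r', pt r = pt r' → r = r' := fun r r' h =>
    hinj (hF.eq_of_smul_eq (hmem r) (hmem r') hab.symm h)
  have hptsurj : ∀ y : Ω, y ≠ a → ∃ r, pt r = y := by
    intro y hy
    obtain ⟨v, hv, hvy⟩ := hF.exists_smul hab.symm hy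
    obtain ⟨r, rfl⟩ := hsurj v hv
    exact ⟨r, hvy⟩
  have hutr : ∀ c r, u c • pt r = pt (c + r) := by
    intro c r
    simp only [pt]
    rw [← mul_smul, hadd]
  have hua : ∀ c, u c • a = a := fun c => hF.le _ (hmem c)
  -- the action of `s`
  have hex : ∀ r : K, r ≠ 0 → ∃ t : K, t ≠ 0 ∧ s • pt r = pt t := by
    intro r hr
    have hne : s • pt r ≠ a := by
      intro hc
      have h1 : s • pt r = s • b := by rw [hc, hsb]
      have h2 : pt r = pt 0 := by rw [hpt0]; exact smul_left_cancel s h1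
      exact hr (hptinj _ _ h2)
    obtain ⟨t, ht⟩ := hptsurj _ hne
    refine ⟨t, ?_, ht.symm⟩
    rintro rfl
    rw [hpt0] at ht
    have h1 : s • pt r = s • a := by rw [← ht, hsa]
    exact hptne r (smul_left_cancel s h1)
  choose! τ hτ0 hτ using hex
  have hττ : ∀ r, r ≠ 0 → τ (τ r) = r := by
    intro r hr
    apply hptinj
    rw [← hτ _ (hτ0 r hr), ← hτ r hr, ← mul_smul, hs2, one_smul]
  have hτ1 : τ 1 = -1 := by
    apply hptinj
    rw [← hτ 1 one_ne_zero]
    simp only [pt]
    rw [hs1, huneg]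
  -- scalars
  let Sc : K → Prop := fun y => ∃ h : G, h • a = a ∧ h • b = b ∧ ∀ r, h * u r * h⁻¹ = u (y * r)
  have hscpt : ∀ {y h}, h • b = b → (∀ r, h * u r * h⁻¹ = u (y * r)) → ∀ r, h • pt r = pt (y * r) := by
    intro y h hb he r
    simp only [pt]
    rw [← he, mul_smul, mul_smul, inv_smul_eq_iff.mpr hb.symm]
  have hSc_ne : ∀ {y}, Sc y → y ≠ 0 := by
    rintro y ⟨h, -, -, he⟩ rfl
    have := he 1
    rw [zero_mul, hu0] at this
    apply hu1
    have e : u 1 = h⁻¹ * (h * u 1 * h⁻¹) * h := by group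
    rw [e, this]
    group
  have hSc_inv : ∀ {y h}, y ≠ 0 → (∀ r, h * u r * h⁻¹ = u (y * r)) →
      ∀ r, h⁻¹ * u r * h⁻¹⁻¹ = u (y⁻¹ * r) := by
    intro y h hy he r
    have h1 := he (y⁻¹ * r)
    rw [mul_inv_cancel_left₀ hy] at h1
    rw [← h1]
    group
  -- equivariance
  have hτsc : ∀ {y}, Sc y → ∀ r, r ≠ 0 → τ (y * r) = y⁻¹ * τ r := by
    rintro y hy r hr
    have hy0 := hSc_ne hy
    obtain ⟨h, ha, hb, he⟩ := hy
    apply hptinj
    rw [← hτ _ (mul_ne_zero hy0 hr), ← hscpt hb he r]
    have hbi : h⁻¹ • b = b := inv_smul_eq_iff.mpr hb.symm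
    rw [← hscpt hbi (hSc_inv hy0 he) (τ r), ← hτ r hr]
    have e : s * h = h⁻¹ * s := by
      have := hinv h ha hb
      rw [← this, mul_assoc (s * h) s s, hs2, mul_one]
    rw [← mul_smul, e, mul_smul]
  -- every scalar is a root of `X^d = 1`
  have hSc_pow : ∀ {y}, Sc y → y ^ d = 1 := by
    rintro y ⟨h, ha, hb, he⟩
    have hhH : h ∈ stabilizer G a ⊓ stabilizer G b := Subgroup.mem_inf.mpr ⟨ha, hb⟩
    have hpow : h ^ d = 1 := by
      have := pow_card_eq_one' (x := (⟨h, hhH⟩ : ↥(stabilizer G a ⊓ stabilizer G b)))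
      exact congrArg Subtype.val this
    have hit : ∀ n : ℕ, ∀ r, h ^ n * u r * (h ^ n)⁻¹ = u (y ^ n * r) := by
      intro n
      induction n with
      | zero => intro r; simp
      | succ n ih =>
        intro r
        have e : h ^ (n + 1) * u r * (h ^ (n + 1))⁻¹ = h * (h ^ n * u r * (h ^ n)⁻¹) * h⁻¹ := by
          rw [pow_succ']; group
        rw [e, ih, he, pow_succ']
        congr 1
        ring
    have h1 := hit d 1
    rw [hpow] at h1
    simp only [one_mul, inv_one, mul_one] at h1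
    exact (hinj h1).symm
  -- scalars as a map on `H`
  let HH := ↥(stabilizer G a ⊓ stabilizer G b)
  have hexy : ∀ h : HH, ∃ y : K, ∀ r, (h : G) * u r * (h : G)⁻¹ = u (y * r) := fun h =>
    hlam h (Subgroup.mem_inf.mp h.2).1 (Subgroup.mem_inf.mp h.2).2
  choose yy hyy using hexy
  have hyySc : ∀ h : HH, Sc (yy h) := fun h =>
    ⟨h, (Subgroup.mem_inf.mp h.2).1, (Subgroup.mem_inf.mp h.2).2, hyy h⟩
  have hyyinj : Function.Injective yy := by
    intro h h' he
    have hb : (h : G) • b = b := (Subgroup.mem_inf.mp h.2).2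
    have hb' : (h' : G) • b = b := (Subgroup.mem_inf.mp h'.2).2
    have ha : (h : G) • a = a := (Subgroup.mem_inf.mp h.2).1
    have ha' : (h' : G) • a = a := (Subgroup.mem_inf.mp h'.2).1
    have e1 : (h : G) • pt 1 = (h' : G) • pt 1 := by
      rw [hscpt hb (hyy h) 1, hscpt hb' (hyy h') 1, he]
    have e2 : ((h' : G)⁻¹ * h) • pt 1 = pt 1 := by
      rw [mul_smul, e1, inv_smul_smul]
    have hpt1 : pt 1 ≠ b := by
      rw [← hpt0]
      intro hc
      exact one_ne_zero (hptinj _ _ hc)
    have e3 := eq_one_of_fix3 hZ (g := (h' : G)⁻¹ * h) (a := a) (b := b) (c := pt 1) hab hpt1.symm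
      (hptne 1).symm (by rw [mul_smul, ha]; exact inv_smul_eq_iff.mpr ha'.symm)
      (by rw [mul_smul, hb]; exact inv_smul_eq_iff.mpr hb'.symm) e2
    apply Subtype.ext
    exact (inv_mul_eq_one.mp e3).symm
  -- all roots are scalars
  have hrootSc : ∀ x : K, x ^ d = 1 → Sc x := by
    have hcardle : Nat.card {x : Kˣ // x ^ d = 1} ≤ d := by
      rw [Nat.card_eq_fintype_card, Fintype.card_subtype]
      exact IsCyclic.card_pow_eq_one_le hdpos
    let f : HH → {x : Kˣ // x ^ d = 1} := fun h =>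
      ⟨Units.mk0 (yy h) (hSc_ne (hyySc h)), Units.ext (by simpa using hSc_pow (hyySc h))⟩
    have hfinj : Function.Injective f := by
      intro h h' he
      apply hyyinj
      have := congrArg (fun x : {x : Kˣ // x ^ d = 1} => ((x : Kˣ) : K)) he
      simpa [f] using this
    have hfbij : Function.Bijective f :=
      hfinj.bijective_of_nat_card_le hcardle
    intro x hx
    have hx0 : x ≠ 0 := by
      rintro rfl
      rw [zero_pow hdpos.ne'] at hx
      exact zero_ne_one hx
    obtain ⟨h, hh⟩ := hfbij.2 ⟨Units.mk0 x hx0, Units.ext (by simpa using hx)⟩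
    have : yy h = x := by
      have := congrArg (fun x : {x : Kˣ // x ^ d = 1} => ((x : Kˣ) : K)) hh
      simpa [f] using this
    rw [← this]
    exact hyySc h
  -- `-1`
  have hneg1 : Sc (-1) := ⟨z, hza, hzb, fun r => by
    rw [inverts_root hZ hF hab.symm hza hzb hz1 hz2 (hmem r), ← huneg]
    simp⟩
  have hneg1pow : (-1 : K) ^ d = 1 := hSc_pow hneg1
  -- `y^d = ±1`
  have hsqrt : ∀ y : K, y ≠ 0 → y ^ d = 1 ∨ y ^ d = -1 := by
    intro y hy
    have h1 : (y ^ d) ^ 2 = 1 := by
      rw [← pow_mul, mul_comm d 2]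
      have := FiniteField.pow_card_sub_one_eq_one y hy
      rwa [hK, Nat.add_sub_cancel] at this
    have h2 : (y ^ d - 1) * (y ^ d + 1) = 0 := by linear_combination h1
    rcases mul_eq_zero.mp h2 with h3 | h3
    · exact Or.inl (sub_eq_zero.mp h3)
    · exact Or.inr (eq_neg_of_add_eq_zero_left h3)
  -- a non-square
  obtain ⟨n, hn0, hnd⟩ : ∃ n : K, n ≠ 0 ∧ n ^ d ≠ 1 := by
    by_contra hcon
    push Not at hcon
    have h1 : Fintype.card {x : Kˣ // x ^ d = 1} ≤ d := by
      rw [Fintype.card_subtype]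
      exact IsCyclic.card_pow_eq_one_le hdpos
    have h2 : Fintype.card {x : Kˣ // x ^ d = 1} = Fintype.card Kˣ := by
      apply Fintype.card_congr
      exact Equiv.subtypeUnivEquiv (fun x => Units.ext (by simpa using hcon x x.ne_zero))
    rw [h2, Fintype.card_units, hK] at h1
    omega
  have hnd' : n ^ d = -1 := (hsqrt n hn0).resolve_left hnd
  set c := n * τ n with hc
  have hτns : ∀ y : K, y ≠ 0 → y ^ d ≠ 1 → τ y = c * y⁻¹ := by
    intro y hy hyd
    have hyd' : y ^ d = -1 := (hsqrt y hy).resolve_left hyd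
    have h1 : (y * n⁻¹) ^ d = 1 := by
      rw [mul_pow, inv_pow, hyd', hnd']
      have h1' : (-1 : K) ≠ 0 := neg_ne_zero.mpr one_ne_zero
      field_simp
    have h2 := hτsc (hrootSc _ h1) n hn0
    have e : y * n⁻¹ * n = y := by field_simp
    rw [e] at h2
    rw [h2, hc]
    field_simp
  have hτs : ∀ y : K, y ^ d = 1 → τ y = -y⁻¹ := by
    intro y hy
    have h1 := hτsc (hrootSc y hy) 1 one_ne_zero
    rw [mul_one, hτ1] at h1
    rw [h1]
    ring
  -- the order `3` element
  obtain ⟨f, hfdef⟩ : ∃ f : G, f = u 1 * s := ⟨_, rfl⟩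
  have hfa : f • a = pt 1 := by
    rw [hfdef, mul_smul, hsa]
  have hfpt1 : f • pt 1 = b := by
    have : s • pt 1 = (u 1)⁻¹ • b := hs1
    rw [hfdef, mul_smul, this, smul_inv_smul]
  have hfb : f • b = a := by
    rw [hfdef, mul_smul, hsb, hua]
  have hpt1b : pt 1 ≠ b := by
    rw [← hpt0]
    intro hc
    exact one_ne_zero (hptinj _ _ hc)
  have hf3 : f * f * f = 1 := by
    apply eq_one_of_fix3 hZ (a := a) (b := b) (c := pt 1) hab hpt1b.symm (hptne 1).symm
    · simp only [mul_smul]
      rw [hfa, hfpt1, hfb]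
    · simp only [mul_smul]
      rw [hfb, hfa, hfpt1]
    · simp only [mul_smul]
      rw [hfpt1, hfb, hfa]
  have hfpt : ∀ r, r ≠ 0 → f • pt r = pt (1 + τ r) := by
    intro r hr
    rw [hfdef, mul_smul, hτ r hr, hutr]
  -- a square `x` with `x - 1` not a square
  obtain ⟨x, hxd, hx1, hx1d⟩ : ∃ x : K, x ^ d = 1 ∧ x ≠ 1 ∧ (x - 1) ^ d ≠ 1 := by
    by_contra hcon
    push Not at hcon
    let B : AddSubgroup K := AddSubgroup.ofSub {x : K | x = 0 ∨ x ^ d = 1} ⟨0, Or.inl rfl⟩ (by
      rintro p hp q hq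
      simp only [Set.mem_setOf_eq] at hp hq ⊢
      rcases hq with rfl | hq
      · simpa using hp
      · have hq0 : q ≠ 0 := by
          rintro rfl
          rw [zero_pow hdpos.ne'] at hq
          exact zero_ne_one hq
        rcases hp with rfl | hp
        · right
          rw [zero_add, neg_pow, hneg1pow, hq, one_mul]
        · by_cases hpq : p = q
          · left; rw [hpq]; ring
          · right
            have h1 : (p * q⁻¹) ^ d = 1 := by rw [mul_pow, inv_pow, hp, hq]; simp
            have h2 : p * q⁻¹ ≠ 1 := by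
              intro h3
              apply hpq
              field_simp at h3
              exact h3
            have h3 := hcon _ h1 h2
            have e : p + -q = q * (p * q⁻¹ - 1) := by field_simp; ring
            rw [e, mul_pow, hq, h3, one_mul])
    have hmemB : ∀ y : K, y ∈ B ↔ (y = 0 ∨ y ^ d = 1) := fun y => Iff.rfl
    have hBcard : d + 1 ≤ Nat.card B := by
      let g : Option HH → B := fun o => match o with
        | Option.none => ⟨0, Or.inl rfl⟩
        | Option.some h => ⟨yy h, Or.inr (hSc_pow (hyySc h))⟩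
      have hg : Function.Injective g := by
        intro o o' h
        have he := congrArg Subtype.val h
        cases o with
        | none =>
          cases o' with
          | none => rfl
          | some h' =>
            exact (hSc_ne (hyySc h') he.symm).elim
        | some h₁ =>
          cases o' with
          | none =>
            exact (hSc_ne (hyySc h₁) he).elim
          | some h' =>
            exact congrArg Option.some (hyyinj he)
      have := Nat.card_le_card_of_injective g hg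
      rwa [Finite.card_option] at this
    have hBne : B.index ≠ 1 := by
      intro h1
      rw [AddSubgroup.index_eq_one] at h1
      have : n ∈ B := by rw [h1]; exact AddSubgroup.mem_top n
      rcases (hmemB n).mp this with h3 | h3
      · exact hn0 h3
      · exact hnd h3
    have hB0 : B.index ≠ 0 := AddSubgroup.index_ne_zero_of_finite
    have h3 := AddSubgroup.card_mul_index B
    have h4 : Nat.card K = 2 * d + 1 := by rw [Nat.card_eq_fintype_card, hK]
    have h5 : 2 ≤ B.index := by omega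
    have h6 : (d + 1) * 2 ≤ Nat.card B * B.index := Nat.mul_le_mul hBcard h5
    omega
  have hx0 : x ≠ 0 := by
    rintro rfl
    rw [zero_pow hdpos.ne'] at hxd
    exact zero_ne_one hxd
  have hx10 : x - 1 ≠ 0 := sub_ne_zero.mpr hx1
  -- the computation
  have hc1 : c = -1 := by
    set y := 1 + τ x with hy
    have hyx : y = (x - 1) * x⁻¹ := by
      rw [hy, hτs x hxd]
      field_simp
      ring
    have hy0 : y ≠ 0 := by
      rw [hyx]
      exact mul_ne_zero hx10 (inv_ne_zero hx0)
    have hyd : y ^ d ≠ 1 := by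
      rw [hyx, mul_pow, inv_pow, hxd, inv_one, mul_one]
      exact hx1d
    have e1 : f • pt x = pt y := hfpt x hx0
    set y' := 1 + τ y with hy'
    have e2 : f • pt y = pt y' := hfpt y hy0
    have e3 : f • pt y' = pt x := by
      rw [← e2, ← e1, ← mul_smul, ← mul_smul, hf3, one_smul]
    have hy'0 : y' ≠ 0 := by
      intro h0
      rw [h0, hpt0, hfb] at e3
      exact hptne x e3.symm
    have e4 : 1 + τ y' = x := by
      apply hptinj
      rw [← hfpt y' hy'0, e3]
    have e5 : τ y' = x - 1 := by rw [← e4]; ring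
    have e6 : y' = τ (x - 1) := by rw [← e5, hττ y' hy'0]
    rw [hτns _ hx10 hx1d] at e6
    rw [hy', hτns y hy0 hyd, hyx] at e6
    have e7 : (1 + c) * (x - 1) = 0 := by
      field_simp at e6
      linear_combination e6
    rcases mul_eq_zero.mp e7 with h8 | h8
    · exact eq_neg_of_add_eq_zero_right h8
    · exact absurd h8 hx10
  have hτall : ∀ r, r ≠ 0 → τ r = -r⁻¹ := by
    intro r hr
    by_cases hrd : r ^ d = 1
    · exact hτs r hrd
    · rw [hτns r hr hrd, hc1]
      ring
  -- assembly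
  refine psl_of_coords hZ hab hF u hmem hadd hinj hsurj ?_ hsa hsb ?_ ?_
  · intro h ha hb
    let h' : HH := ⟨h, Subgroup.mem_inf.mpr ⟨ha, hb⟩⟩
    have hsq : IsSquare (yy h') := by
      rw [FiniteField.isSquare_iff hchar (hSc_ne (hyySc h')), hK]
      have : (2 * d + 1) / 2 = d := by omega
      rw [this]
      exact hSc_pow (hyySc h')
    obtain ⟨ρ, hρ⟩ := hsq
    refine ⟨ρ, ?_, fun r => ?_⟩
    · rintro rfl
      rw [mul_zero] at hρ
      exact hSc_ne (hyySc h') hρ
    · rw [pow_two, ← hρ]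
      exact hyy h' r
  · intro r hr
    have := hτ r hr
    rw [hτall r hr] at this
    exact this
  · have h1 := card_eq_of_two_trans hZ hab
    have h3 : Nat.card Ω = Fintype.card K + 1 := by
      rw [← hFK]
      exact (hF.card_add_one hab.symm).symm
    have h4 := card_PSL2_of_two_ne_zero h2ne
    rw [h3, Nat.add_sub_cancel] at h1
    rw [← hd] at h1
    set q := Fintype.card K with hq
    have hq2 : q ^ 2 - 1 = 2 * d * (q + 1) := by
      have : q ^ 2 = 2 * d * (q + 1) + 1 := by rw [hK]; ring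
      omega
    rw [hq2] at h4
    have h5 : 2 * Nat.card G = 2 * Nat.card PSL(2, K) := by
      rw [h4, h1]
      ring
    omega

end Cfsg.Agent.Lib.Perm.ZassTwo
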